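import Mathlib.RingTheory.ZariskisMainTheorem
import Mathlib.RingTheory.Artinian.Module
import Mathlib.LinearAlgebra.Dimension.Constructions
import Mathlib.RingTheory.TensorProduct.Finite
import Mathlib.LinearAlgebra.FiniteDimensional.Basic

/-!
# Bounds on the fibres of quasi-finite algebras
-/

universe u

open TensorProduct

namespace Groth.Agent.SpQS

/-- a finite algebra over a field has at most dimension many primes -/
theorem natCard_primeSpectrum_le (K A : Type*) [Field K] [CommRing A] [Algebra K A] [Module.Finite K A] :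
    Nat.card (PrimeSpectrum A) ≤ Module.finrank K A := by
  have : IsArtinianRing A := isArtinian_of_tower K inferInstance
  rw [Nat.card_congr IsArtinianRing.primeSpectrumEquivMaximalSpectrum]
  have : Fintype (MaximalSpectrum A) := Fintype.ofFinite _
  let f : A →ₗ[K] ∀ I : MaximalSpectrum A, A ⧸ I.asIdeal :=
    LinearMap.pi fun I => ((Ideal.Quotient.mkₐ K I.asIdeal).toLinearMap)
  have hf : Function.Surjective f := by
    intro y
    obtain ⟨z, hz⟩ := Ideal.quotientInfToPiQuotient_surj (I := fun I : MaximalSpectrum A => I.asIdeal)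
      (fun I J h => I.isCoprime_of_ne h) y
    obtain ⟨a, rfl⟩ := Ideal.Quotient.mk_surjective z
    exact ⟨a, funext fun I => congrFun hz I⟩
  refine le_trans ?_ (LinearMap.finrank_le_finrank_of_surjective hf)
  rw [Module.finrank_pi_fintype, Nat.card_eq_fintype_card, ← Finset.card_univ, Finset.card_eq_sum_ones]
  refine Finset.sum_le_sum fun I _ => ?_
  have : Nontrivial (A ⧸ I.asIdeal) := Ideal.Quotient.nontrivial_iff.2 I.isMaximal.ne_top
  exact Module.finrank_pos

/-- spanning sets modulo the maximal ideals of an artinian ring -/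
theorem exists_span_of_artinian {A B : Type*} [CommRing A] [IsArtinianRing A] [AddCommGroup B] [Module A B] (M : ℕ)
    (h : ∀ I : MaximalSpectrum A, ∃ b : Fin M → B, ⊤ ≤ Submodule.span A (Set.range b) ⊔ I.asIdeal • (⊤ : Submodule A B)) :
    ∃ b : Fin M → B, ⊤ ≤ Submodule.span A (Set.range b) := by
  classical
  have : Fintype (MaximalSpectrum A) := Fintype.ofFinite _
  choose b hb using h
  choose e he using fun I : MaximalSpectrum A =>
    Ideal.quotientInfToPiQuotient_surj (I := fun I : MaximalSpectrum A => I.asIdeal)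
      (fun I J h => I.isCoprime_of_ne h) (Pi.single I 1)
  choose ε hε using fun I => Ideal.Quotient.mk_surjective (e I)
  have hεJ : ∀ I J : MaximalSpectrum A, Ideal.Quotient.mk J.asIdeal (ε I) =
      Pi.single (M := fun J : MaximalSpectrum A => A ⧸ J.asIdeal) I 1 J := fun I J => by
    rw [← he I, ← hε I]; rfl
  let J := nilradical A
  have hmemJ : ∀ a : A, (∀ I : MaximalSpectrum A, a ∈ I.asIdeal) → a ∈ J := fun a ha => by
    show a ∈ nilradical A
    rw [IsArtinianRing.nilradical_eq_iInf]
    exact (Submodule.mem_iInf _).2 ha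
  let b' : Fin M → B := fun k => ∑ I, ε I • b I k
  refine ⟨b', ?_⟩
  obtain ⟨n, hn⟩ : IsNilpotent J := IsArtinianRing.isNilpotent_nilradical
  let N := Submodule.span A (Set.range b') ⊔ J • (⊤ : Submodule A B)
  have h₁ : ∀ I : MaximalSpectrum A, ∀ a ∈ I.asIdeal, ε I * a ∈ J := fun I a ha => hmemJ _ fun I' => by
    by_cases hII : I' = I
    · subst hII; exact Ideal.mul_mem_left _ _ ha
    · refine Ideal.mul_mem_right _ _ (Ideal.Quotient.eq_zero_iff_mem.1 ?_)
      rw [hεJ, Pi.single_eq_of_ne hII]
  have hsmul : ∀ I : MaximalSpectrum A, ∀ x : B, x ∈ I.asIdeal • (⊤ : Submodule A B) → ε I • x ∈ N := fun I x hx => by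
    refine Submodule.smul_induction_on hx (fun a ha y _ => ?_) (fun y z hy hz => ?_)
    · rw [smul_smul]
      exact Submodule.mem_sup_right (Submodule.smul_mem_smul (h₁ I a ha) Submodule.mem_top)
    · rw [smul_add]; exact N.add_mem hy hz
  have hbk : ∀ I k, ε I • b I k ∈ N := fun I k => by
    have hd : ε I • b' k - ε I • b I k ∈ J • (⊤ : Submodule A B) := by
      rw [show b' k = ∑ I', ε I' • b I' k from rfl, Finset.smul_sum,
        ← Finset.add_sum_erase _ _ (Finset.mem_univ I), smul_smul, add_sub_right_comm, ← sub_smul]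
      refine Submodule.add_mem _ (Submodule.smul_mem_smul (hmemJ _ fun I' => ?_) Submodule.mem_top)
        (Submodule.sum_mem _ fun I' hI' => ?_)
      · rw [← Ideal.Quotient.eq_zero_iff_mem, map_sub, map_mul, hεJ]
        by_cases hII : I' = I
        · subst hII; simp
        · simp [Pi.single_eq_of_ne hII]
      · rw [smul_smul]
        refine Submodule.smul_mem_smul (hmemJ _ fun I'' => ?_) Submodule.mem_top
        rw [← Ideal.Quotient.eq_zero_iff_mem, map_mul, hεJ, hεJ]
        by_cases hII : I'' = I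
        · subst hII; rw [Pi.single_eq_of_ne (Finset.ne_of_mem_erase hI').symm, mul_zero]
        · rw [Pi.single_eq_of_ne hII, zero_mul]
    have h' : ε I • b I k = ε I • b' k - (ε I • b' k - ε I • b I k) := by abel
    rw [h']
    exact N.sub_mem (Submodule.mem_sup_left (Submodule.smul_mem _ _ (Submodule.subset_span ⟨k, rfl⟩)))
      (Submodule.mem_sup_right hd)
  have hspan : ∀ I : MaximalSpectrum A, ∀ x : B, ε I • x ∈ N := fun I x => by
    obtain ⟨y, hy, z, hz, rfl⟩ := Submodule.mem_sup.1 (hb I (Submodule.mem_top : x ∈ ⊤))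
    rw [smul_add]
    refine N.add_mem ?_ (hsmul I z hz)
    induction hy using Submodule.span_induction with
    | mem _ hm => obtain ⟨k, rfl⟩ := hm; exact hbk I k
    | zero => simp
    | add _ _ _ _ h1 h2 => rw [smul_add]; exact N.add_mem h1 h2
    | smul a _ _ h1 => rw [smul_comm]; exact N.smul_mem a h1
  have htop : ⊤ ≤ N := fun x _ => by
    have h1 : x - ∑ I, ε I • x ∈ J • (⊤ : Submodule A B) := by
      rw [← Finset.sum_smul, show x - (∑ I, ε I) • x = (1 - ∑ I, ε I) • x from by rw [sub_smul, one_smul]]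
      refine Submodule.smul_mem_smul (hmemJ _ fun I' => ?_) Submodule.mem_top
      rw [← Ideal.Quotient.eq_zero_iff_mem, map_sub, map_one, map_sum]
      simp only [hεJ]
      rw [Finset.sum_eq_single I' (fun I _ hI => Pi.single_eq_of_ne hI.symm _) (by simp), Pi.single_eq_same, sub_self]
    have h' : x = (x - ∑ I, ε I • x) + ∑ I, ε I • x := by abel
    rw [h']
    exact N.add_mem (Submodule.mem_sup_right h1) (N.sum_mem fun I _ => hspan I x)
  -- nilpotent Nakayama
  have hiter : ∀ m : ℕ, ⊤ ≤ Submodule.span A (Set.range b') ⊔ (J ^ m) • (⊤ : Submodule A B) := by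
    intro m
    induction m with
    | zero => simp
    | succ m ihm =>
      refine ihm.trans (sup_le le_sup_left ?_)
      refine (Submodule.smul_mono le_rfl htop).trans ?_
      rw [Submodule.smul_sup, ← Submodule.mul_smul, ← pow_succ]
      exact sup_le (Submodule.smul_le_right.trans le_sup_left) le_sup_right
  have := hiter n
  rwa [hn, Submodule.zero_eq_bot, Submodule.bot_smul, sup_bot_eq] at this

/-- a uniform bound on the fibres of a quasi-finite algebra of finite type -/
theorem exists_fibre_bound (A B : Type u) [CommRing A] [CommRing B] [Algebra A B] [Algebra.FiniteType A B]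
    [Algebra.QuasiFinite A B] : ∃ N : ℕ, ∀ (k : Type u) [Field k] [Algebra A k],
      Module.Finite k (k ⊗[A] B) ∧ Module.finrank k (k ⊗[A] B) ≤ N := by
  classical
  choose S' hS' r hr hbij using fun p : PrimeSpectrum B =>
    Algebra.QuasiFiniteAt.exists_fg_and_exists_notMem_and_awayMap_bijective (R := A) p.asIdeal
  have hspan : Ideal.span (Set.range fun p => ((r p : S' p) : B)) = ⊤ := by
    by_contra hne
    obtain ⟨m, hm, hle⟩ := Ideal.exists_le_maximal _ hne
    exact hr ⟨m, hm.isPrime⟩ (hle (Ideal.subset_span ⟨⟨m, hm.isPrime⟩, rfl⟩))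
  obtain ⟨t, ht, ht'⟩ := (Ideal.span_eq_top_iff_finite _).1 hspan
  have hpow : ∀ p : PrimeSpectrum B, ∀ x : B, ∃ m : ℕ, (r p : B) ^ m * x ∈ S' p := by
    intro p x
    obtain ⟨y, m, hy⟩ := Localization.awayMap_surjective_iff.1 (hbij p).2 x
    exact ⟨m, by rw [show (r p : B) ^ m * x = (S' p).val.toRingHom (r p) ^ m * x from rfl, ← hy]; exact y.2⟩
  choose gens hgens using hS'
  choose pfun hpfun using fun b : t => ht b.2
  refine ⟨∑ b : t, (gens (pfun b)).card, fun k _ _ => ?_⟩
  let C := k ⊗[A] B
  let D : t → Submodule k C := fun b =>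
    Submodule.span k ((fun s => (1 : k) ⊗ₜ[A] s) '' ↑(gens (pfun b)))
  have hD1 : ∀ b, ∀ s ∈ S' (pfun b), (1 : k) ⊗ₜ[A] s ∈ D b := fun b s hs => by
    have : s ∈ Submodule.span A (↑(gens (pfun b)) : Set B) := by rw [hgens]; exact hs
    clear hs
    induction this using Submodule.span_induction with
    | mem x hx => exact Submodule.subset_span ⟨x, hx, rfl⟩
    | zero => simp
    | add x y _ _ h1 h2 => rw [tmul_add]; exact Submodule.add_mem _ h1 h2
    | smul a x _ h1 => rw [tmul_smul, ← algebraMap_smul k a]; exact Submodule.smul_mem _ _ h1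
  have hDfd : ∀ b, Module.Finite k (D b) := fun b =>
    FiniteDimensional.span_of_finite k ((gens (pfun b)).finite_toSet.image _)
  have hDcard : ∀ b, Module.finrank k (D b) ≤ (gens (pfun b)).card := fun b => by
    classical
    have e : (fun s => (1 : k) ⊗ₜ[A] s) '' (↑(gens (pfun b)) : Set B) =
        (↑((gens (pfun b)).image fun s => (1 : k) ⊗ₜ[A] s) : Set C) := (Finset.coe_image).symm
    show Module.finrank k (Submodule.span k _) ≤ _
    rw [e]
    exact (finrank_span_finset_le_card _).trans Finset.card_image_le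
  let ρ : t → C := fun b => (1 : k) ⊗ₜ[A] (r (pfun b) : B)
  have hmul : ∀ b, ∀ x y, x ∈ D b → y ∈ D b → x * y ∈ D b := by
    intro b x y hx hy
    refine Submodule.span_induction₂ (p := fun x y _ _ => x * y ∈ D b) ?_ (by simp) (by simp)
      (fun _ _ _ _ _ _ h1 h2 => by rw [add_mul]; exact Submodule.add_mem _ h1 h2)
      (fun _ _ _ _ _ _ h1 h2 => by rw [mul_add]; exact Submodule.add_mem _ h1 h2)
      (fun c _ _ _ _ h1 => by rw [smul_mul_assoc]; exact Submodule.smul_mem _ _ h1)
      (fun c _ _ _ _ h1 => by rw [mul_smul_comm]; exact Submodule.smul_mem _ _ h1) hx hy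
    rintro _ _ ⟨s, hs, rfl⟩ ⟨s', hs', rfl⟩
    rw [Algebra.TensorProduct.tmul_mul_tmul, one_mul]
    refine hD1 b _ (mul_mem ?_ ?_)
    · exact (hgens (pfun b)).le (Submodule.subset_span hs)
    · exact (hgens (pfun b)).le (Submodule.subset_span hs')
  have hone : ∀ b, (1 : C) ∈ D b := fun b => hD1 b 1 (one_mem _)
  have hρ : ∀ b, ρ b ∈ D b := fun b => hD1 b _ (r (pfun b)).2
  have hL : ∀ b, ∃ L : ℕ, ∀ m : ℕ, ∃ d ∈ D b, ρ b ^ L = ρ b ^ (L + m) * d := by
    intro b
    let f : D b →ₗ[k] D b := LinearMap.restrict (LinearMap.mulLeft k (ρ b)) (fun x hx => hmul b _ _ (hρ b) hx)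
    obtain ⟨L, hL⟩ := IsArtinian.monotone_stabilizes
      ⟨fun n => OrderDual.toDual (LinearMap.range (f ^ n)), fun i j hij => by
        obtain ⟨d, rfl⟩ := Nat.exists_eq_add_of_le hij
        rw [OrderDual.toDual_le_toDual, pow_add]
        exact LinearMap.range_comp_le_range _ _⟩
    refine ⟨L, fun m => ?_⟩
    have hfp : ∀ n (x : D b), ((f ^ n) x : C) = ρ b ^ n * x := by
      intro n
      induction n with
      | zero => intro x; simp
      | succ n ihn =>
        intro x
        rw [pow_succ', Module.End.mul_apply]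
        show ρ b * ((f ^ n) x : C) = _
        rw [ihn, ← mul_assoc, ← pow_succ']
    have hr : LinearMap.range (f ^ L) = LinearMap.range (f ^ (L + m)) := hL (L + m) (Nat.le_add_right _ _)
    obtain ⟨d, hd⟩ : (f ^ L) ⟨1, hone b⟩ ∈ LinearMap.range (f ^ (L + m)) := hr ▸ ⟨_, rfl⟩
    refine ⟨d, d.2, ?_⟩
    have := congrArg (fun x : D b => (x : C)) hd
    simp only [hfp, mul_one] at this
    exact this.symm
  choose L hL using hL
  have hin : ∀ b, ∀ x : C, ρ b ^ L b * x ∈ D b := fun b x => by
    induction x using TensorProduct.induction_on with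
    | zero => simp
    | add x y h1 h2 => rw [mul_add]; exact Submodule.add_mem _ h1 h2
    | tmul c s =>
      obtain ⟨m, hm⟩ := hpow (pfun b) s
      obtain ⟨d, hd, he⟩ := hL b m
      have e1 : c ⊗ₜ[A] s = c • ((1 : k) ⊗ₜ[A] s) := by rw [TensorProduct.smul_tmul', smul_eq_mul, mul_one]
      rw [e1, mul_smul_comm]
      refine Submodule.smul_mem _ _ ?_
      rw [he, pow_add, mul_assoc, mul_assoc, mul_left_comm (ρ b ^ m) d]
      rw [show ρ b ^ m * ((1 : k) ⊗ₜ[A] s) = (1 : k) ⊗ₜ[A] ((r (pfun b) : B) ^ m * s) by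
        rw [show ρ b ^ m = (1 : k) ⊗ₜ[A] ((r (pfun b) : B) ^ m) from by
          rw [show ρ b = (1 : k) ⊗ₜ[A] (r (pfun b) : B) from rfl, Algebra.TensorProduct.tmul_pow, one_pow],
          Algebra.TensorProduct.tmul_mul_tmul, one_mul]]
      refine hmul b _ _ ?_ (hmul b _ _ hd (hD1 b _ hm))
      have hpow' : ∀ n, ρ b ^ n ∈ D b := fun n => by
        induction n with
        | zero => simpa using hone b
        | succ n ih => rw [pow_succ]; exact hmul b _ _ ih (hρ b)
      exact hpow' _
  let Φ : C →ₗ[k] ∀ b, D b :=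
    LinearMap.pi fun b => LinearMap.codRestrict (D b) (LinearMap.mulLeft k (ρ b ^ L b)) (hin b)
  have hΦ : Function.Injective Φ := by
    refine (injective_iff_map_eq_zero Φ).2 fun x hx => ?_
    have h0 : ∀ b, ρ b ^ L b * x = 0 := fun b => congrArg (fun y : ∀ b, D b => (y b : C)) hx
    have htop : Ideal.span (Set.range fun b : t => ρ b ^ L b) = ⊤ := by
      by_contra hne
      obtain ⟨I, hI, hle⟩ := Ideal.exists_le_maximal _ hne
      suffices Ideal.span (Set.range ρ) = ⊤ by
        refine hI.ne_top (top_le_iff.1 ?_)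
        rw [← this, Ideal.span_le]
        rintro _ ⟨b, rfl⟩
        exact hI.isPrime.mem_of_pow_mem _ (hle (Ideal.subset_span ⟨b, rfl⟩))
      have hmap := congrArg (Ideal.map (Algebra.TensorProduct.includeRight : B →ₐ[A] C).toRingHom) ht'
      rw [Ideal.map_span, Ideal.map_top] at hmap
      rw [← hmap]
      refine congrArg Ideal.span ?_
      ext z
      simp only [Set.mem_range, Set.mem_image, Finset.mem_coe, Subtype.exists]
      constructor
      · rintro ⟨b, hb, rfl⟩
        exact ⟨b, hb, by simp [ρ, hpfun]⟩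
      · rintro ⟨b, hb, rfl⟩
        exact ⟨b, hb, by simp [ρ, hpfun]⟩
    have : ∀ z ∈ Ideal.span (Set.range fun b : t => ρ b ^ L b), z * x = 0 := fun z hz => by
      induction hz using Submodule.span_induction with
      | mem _ h => obtain ⟨b, rfl⟩ := h; exact h0 b
      | zero => simp
      | add _ _ _ _ h1 h2 => rw [add_mul, h1, h2, add_zero]
      | smul a _ _ h1 => rw [smul_eq_mul, mul_assoc, h1, mul_zero]
    simpa using this 1 (htop ▸ Submodule.mem_top)
  refine ⟨Module.Finite.of_injective Φ hΦ, (LinearMap.finrank_le_finrank_of_injective hΦ).trans ?_⟩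
  rw [Module.finrank_pi_fintype]
  exact Finset.sum_le_sum fun b _ => hDcard b

end Groth.Agent.SpQS
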