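import Groth.Agent.SpQS.UnivBdd
import Groth.Agent.SpQS.BddAlg
import Mathlib.AlgebraicGeometry.Morphisms.QuasiFinite

/-!
# Fibre bounds for schemes
-/

universe u

open CategoryTheory CategoryTheory.Limits AlgebraicGeometry IsLocalRing TensorProduct

set_option backward.isDefEq.respectTransparency false

namespace Groth.Agent.SpQS

theorem finrank_eq_of_field {K : Type u} [Field K] {P : Scheme.{u}} [IsAffine P]
    (q : P ⟶ Spec (CommRingCat.of K)) [IsFinite q]
    (φ : CommRingCat.of K ⟶ Γ(P, ⊤)) (hφ : Spec.map φ = P.isoSpec.inv ≫ q) :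
    letI := φ.hom.toAlgebra
    Module.Finite K Γ(P, ⊤) ∧ q.finrank (closedPoint K) = Module.finrank K Γ(P, ⊤) := by
  have : IsFinite (Spec.map φ) := hφ ▸ inferInstance
  have h1 : φ.hom.Finite := (IsFinite.SpecMap_iff _).1 ‹_›
  have h2 : φ.hom.Flat := Flat.SpecMap_iff.1 inferInstance
  algebraize [φ.hom]
  refine ⟨‹_›, ?_⟩
  rw [← Scheme.Hom.finrank_comp_left_of_isIso P.isoSpec.inv q, ← hφ,
    Scheme.Hom.finrank_SpecMap_eq_finrank h1 h2, ← RingHom.algebraMap_toAlgebra φ.hom,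
    RingHom.finrank_algebraMap, Module.rankAtStalk_eq_finrank_of_free]
  rfl

/-- a finite scheme over a field has at most degree many points -/
theorem natCard_le_finrank {K : Type u} [Field K] {P : Scheme.{u}} (q : P ⟶ Spec (CommRingCat.of K)) [IsFinite q] :
    Finite P ∧ Nat.card P ≤ q.finrank (closedPoint K) := by
  have : IsAffine P := isAffine_of_isAffineHom q
  obtain ⟨φ, hφ⟩ := Spec.map_surjective (P.isoSpec.inv ≫ q)
  obtain ⟨h, e⟩ := finrank_eq_of_field q φ hφ
  let := φ.hom.toAlgebra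
  have hA : IsArtinianRing Γ(P, ⊤) := isArtinian_of_tower K inferInstance
  let E : P ≃ PrimeSpectrum Γ(P, ⊤) := P.isoSpec.hom.homeomorph.toEquiv
  exact ⟨Finite.of_equiv _ E.symm, by rw [e, Nat.card_congr E]; exact natCard_primeSpectrum_le K Γ(P, ⊤)⟩

theorem discrete_of_isFinite {K : Type u} [Field K] {P : Scheme.{u}} (q : P ⟶ Spec (CommRingCat.of K)) [IsFinite q] :
    DiscreteTopology P := by
  have : IsAffine P := isAffine_of_isAffineHom q
  obtain ⟨φ, hφ⟩ := Spec.map_surjective (P.isoSpec.inv ≫ q)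
  obtain ⟨h, -⟩ := finrank_eq_of_field q φ hφ
  let := φ.hom.toAlgebra
  have hA : IsArtinianRing Γ(P, ⊤) := isArtinian_of_tower K inferInstance
  exact P.isoSpec.hom.homeomorph.isEmbedding.discreteTopology

/-- quasi-finite morphisms of finite type between affine schemes have bounded fibres -/
theorem exists_bddAt_of_affine {X Y : Scheme.{u}} [IsAffine X] [IsAffine Y] (f : X ⟶ Y) [LocallyOfFiniteType f]
    [LocallyQuasiFinite f] : ∃ N, ∀ y, BddAt N f y := by
  obtain ⟨φ, hφ⟩ := Spec.map_surjective (X.isoSpec.inv ≫ f ≫ Y.isoSpec.hom)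
  have : LocallyOfFiniteType (Spec.map φ) := hφ ▸ inferInstance
  have hqfX : LocallyQuasiFinite (f ≫ Y.isoSpec.hom) :=
    (MorphismProperty.cancel_right_of_respectsIso @LocallyQuasiFinite f Y.isoSpec.hom).2 ‹_›
  have : LocallyQuasiFinite (Spec.map φ) := by
    rw [hφ]
    exact (MorphismProperty.cancel_left_of_respectsIso @LocallyQuasiFinite X.isoSpec.inv _).2 hqfX
  have hft : φ.hom.FiniteType := (HasRingHomProperty.Spec_iff (P := @LocallyOfFiniteType)).1 ‹_›
  have hqf : φ.hom.QuasiFinite := (HasRingHomProperty.Spec_iff (P := @LocallyQuasiFinite)).1 ‹_›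
  algebraize [φ.hom]
  obtain ⟨N, hN⟩ := exists_fibre_bound Γ(Y, ⊤) Γ(X, ⊤)
  suffices key : ∀ (k : Type u) [Field k] (h : Spec (CommRingCat.of k) ⟶ Y), BddAt N f (h (closedPoint k)) by
    refine ⟨N, fun y => ?_⟩
    have := key (Y.residueField y) (Y.fromSpecResidueField y)
    exact (Y.fromSpecResidueField_apply y (closedPoint (Y.residueField y))) ▸ this
  intro k _ h
  obtain ⟨ψ, hψ⟩ := Spec.map_surjective (h ≫ Y.isoSpec.hom)
  let := ψ.hom.toAlgebra
  obtain ⟨h₁, h₂⟩ := hN k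
  let snd : Spec (CommRingCat.of (k ⊗[Γ(Y, ⊤)] Γ(X, ⊤))) ⟶ Spec (CommRingCat.of k) :=
    Spec.map (CommRingCat.ofHom (algebraMap k (k ⊗[Γ(Y, ⊤)] Γ(X, ⊤))))
  have sq₀ := (isPullback_SpecMap_of_isPushout _ _ _ _ (CommRingCat.isPushout_tensorProduct Γ(Y, ⊤) k Γ(X, ⊤))).flip
  have sq₁ : IsPullback (Spec.map (CommRingCat.ofHom Algebra.TensorProduct.includeRight.toRingHom) ≫ X.isoSpec.inv)
      snd f h := by
    refine sq₀.of_iso (Iso.refl _) X.isoSpec.symm (Iso.refl _) Y.isoSpec.symm ?_ ?_ ?_ ?_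
    · simp
    · simp [snd]
      rfl
    · show Spec.map φ ≫ Y.isoSpec.inv = X.isoSpec.inv ≫ f
      rw [hφ]; simp
    · show Spec.map ψ ≫ Y.isoSpec.inv = 𝟙 _ ≫ h
      rw [hψ]; simp
  have hfin : (algebraMap k (k ⊗[Γ(Y, ⊤)] Γ(X, ⊤))).Finite := RingHom.finite_algebraMap.2 h₁
  have hdeg : snd.finrank (closedPoint k) = Module.finrank k (k ⊗[Γ(Y, ⊤)] Γ(X, ⊤)) := by
    show (Spec.map _).finrank _ = _
    rw [Scheme.Hom.finrank_SpecMap_algebraMap, Module.rankAtStalk_eq_finrank_of_free]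
    rfl
  exact (bddAt_iff N f h _ snd sq₁).2 ⟨(IsFinite.SpecMap_iff _).2 hfin, hdeg.le.trans h₂⟩

/-- the fibre of a morphism of affine schemes as a tensor product -/
theorem bddAt_Spec_iff {A B : Type u} [CommRing A] [CommRing B] [Algebra A B] (m : ℕ) (k : Type u) [Field k] [Algebra A k] :
    BddAt m (Spec.map (CommRingCat.ofHom (algebraMap A B)))
        (Spec.map (CommRingCat.ofHom (algebraMap A k)) (closedPoint k)) ↔
      Module.Finite k (k ⊗[A] B) ∧ Module.finrank k (k ⊗[A] B) ≤ m := by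
  have sq := (isPullback_SpecMap_of_isPushout _ _ _ _ (CommRingCat.isPushout_tensorProduct A k B)).flip
  rw [bddAt_iff m _ _ _ _ sq, IsFinite.SpecMap_iff, CommRingCat.hom_ofHom]
  have hfree : Module.Free k (k ⊗[A] B) := Module.Free.of_divisionRing k _
  constructor
  · rintro ⟨h₁, h₂⟩
    have h₁' : Module.Finite k (k ⊗[A] B) := RingHom.finite_algebraMap.1 h₁
    refine ⟨h₁', le_of_eq_of_le ?_ h₂⟩
    show _ = (Spec.map (CommRingCat.ofHom (algebraMap k (k ⊗[A] B)))).finrank _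
    rw [Scheme.Hom.finrank_SpecMap_algebraMap, Module.rankAtStalk_eq_finrank_of_free]
    rfl
  · rintro ⟨h₁, h₂⟩
    refine ⟨RingHom.finite_algebraMap.2 h₁, le_of_eq_of_le ?_ h₂⟩
    show (Spec.map (CommRingCat.ofHom (algebraMap k (k ⊗[A] B)))).finrank _ = _
    rw [Scheme.Hom.finrank_SpecMap_algebraMap, Module.rankAtStalk_eq_finrank_of_free]
    rfl

/-- a finite discrete scheme is affine -/
theorem isAffine_of_finite_of_discrete (X : Scheme.{u}) [Finite X] [DiscreteTopology X] : IsAffine X := by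
  let U : X → X.Opens := fun x => ⟨{x}, isOpen_discrete _⟩
  have hU : ∀ x, IsAffine (U x).toScheme := fun x => by
    obtain ⟨V, hV, hxV, hVU⟩ := exists_isAffineOpen_mem_and_subset (U := U x) (x := x) rfl
    have : V = U x := TopologicalSpace.Opens.ext (Set.Subset.antisymm hVU (Set.singleton_subset_iff.2 hxV))
    exact this ▸ hV
  obtain ⟨hc⟩ := nonempty_isColimit_cofanMk_of (fun x => (U x).ι)
    (top_le_iff.1 fun x _ => TopologicalSpace.Opens.mem_iSup.2 ⟨x, by rw [Scheme.Opens.opensRange_ι]; exact rfl⟩)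
    (fun i j hij => by
      rw [Function.onFun, Scheme.Opens.opensRange_ι, Scheme.Opens.opensRange_ι,
        ← TopologicalSpace.Opens.coe_disjoint]
      exact Set.disjoint_singleton.2 hij)
  have e : (∐ fun x => (U x).toScheme) ≅ X := (coproductIsCoproduct _).coconePointUniqueUpToIso hc
  exact IsAffine.of_isIso e.inv

/-- bounded fibres over a finite scheme over a field -/
theorem bdd_comp {K : Type u} [Field K] {T T' : Scheme.{u}} (q : T ⟶ Spec (CommRingCat.of K)) [IsFinite q]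
    (g : T' ⟶ T) {m : ℕ} (hg : ∀ t, BddAt m g t) :
    IsFinite (g ≫ q) ∧ (g ≫ q).finrank (closedPoint K) ≤ m * q.finrank (closedPoint K) := by
  have : IsAffine T := isAffine_of_isAffineHom q
  obtain ⟨hTf, -⟩ := natCard_le_finrank q
  obtain ⟨φ, hφ⟩ := Spec.map_surjective (T.isoSpec.inv ≫ q)
  obtain ⟨hfinT, heT⟩ := finrank_eq_of_field q φ hφ
  let := φ.hom.toAlgebra
  have hA : IsArtinianRing Γ(T, ⊤) := isArtinian_of_tower K inferInstance
  have : DiscreteTopology T := T.isoSpec.hom.homeomorph.isEmbedding.discreteTopology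
  -- the source is finite and discrete
  have hfib : ∀ t, (g ⁻¹' {t}).Finite ∧ ∀ x ∈ g ⁻¹' {t}, IsOpen ({x} : Set T') := fun t => by
    have := (hg t).1
    obtain ⟨hFf, -⟩ := natCard_le_finrank (pullback.snd g (T.fromSpecResidueField t))
    have hFd : DiscreteTopology ↥(pullback g (T.fromSpecResidueField t)) := by
      exact discrete_of_isFinite (pullback.snd g (T.fromSpecResidueField t))
    let e := pullback.fst g (T.fromSpecResidueField t)
    have hr : Set.range e = g ⁻¹' {t} := by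
      rw [Scheme.Pullback.range_fst, Scheme.range_fromSpecResidueField]
    refine ⟨hr ▸ Set.finite_range e, fun x hx => ?_⟩
    obtain ⟨z, rfl⟩ := hr.symm.subset hx
    have hemb : Topology.IsEmbedding e := by
      have : IsPreimmersion e := MorphismProperty.pullback_fst _ _ inferInstance
      exact e.isEmbedding
    obtain ⟨O, hO, hO'⟩ := hemb.isInducing.isOpen_iff.1 (isOpen_discrete ({z} : Set _))
    have : ({e z} : Set T') = O ∩ g ⁻¹' {t} := by
      refine Set.Subset.antisymm (Set.singleton_subset_iff.2 ⟨(hO'.symm ▸ rfl : z ∈ e ⁻¹' O), hx⟩) ?_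
      rintro w ⟨hwO, hwt⟩
      obtain ⟨z', rfl⟩ := hr.symm.subset hwt
      have : z' ∈ e ⁻¹' O := hwO
      rw [hO'] at this
      rw [this]; rfl
    rw [this]
    exact hO.inter ((isOpen_discrete ({t} : Set T)).preimage g.continuous)
  have : Finite T' := Set.finite_univ_iff.1 (by
    rw [show (Set.univ : Set T') = ⋃ t, g ⁻¹' {t} from (Set.eq_univ_of_forall fun x => Set.mem_iUnion.2 ⟨g x, rfl⟩).symm]
    exact Set.finite_iUnion fun t => (hfib t).1)
  have : DiscreteTopology T' := discreteTopology_iff_isOpen_singleton.2 fun x => (hfib (g x)).2 x rfl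
  have : IsAffine T' := isAffine_of_finite_of_discrete T'
  obtain ⟨ψ, hψ⟩ := Spec.map_surjective (T'.isoSpec.inv ≫ g ≫ T.isoSpec.hom)
  let := ψ.hom.toAlgebra
  have hmg : ∀ p, BddAt m (Spec.map ψ) p := fun p => by
    have sq : IsPullback T'.isoSpec.inv (Spec.map ψ) g T.isoSpec.inv := IsPullback.of_horiz_isIso ⟨by rw [hψ]; simp⟩
    exact (bddAt_baseChange m g sq p).2 (hg _)
  have hgen : ∀ I : MaximalSpectrum Γ(T, ⊤), ∃ b : Fin m → Γ(T', ⊤),
      ⊤ ≤ Submodule.span Γ(T, ⊤) (Set.range b) ⊔ I.asIdeal • (⊤ : Submodule Γ(T, ⊤) Γ(T', ⊤)) := by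
    intro I
    let k := Γ(T, ⊤) ⧸ I.asIdeal
    let : Field k := Ideal.Quotient.field I.asIdeal
    obtain ⟨h₁, h₂⟩ := (bddAt_Spec_iff (B := Γ(T', ⊤)) m k).1 (hmg _)
    let bas := Module.finBasis k (k ⊗[Γ(T, ⊤)] Γ(T', ⊤))
    have hsur : Function.Surjective (TensorProduct.mk Γ(T, ⊤) k Γ(T', ⊤) 1) :=
      TensorProduct.mk_surjective _ _ _ Ideal.Quotient.mk_surjective
    choose pre hpre using hsur
    let b : Fin m → Γ(T', ⊤) := fun i =>
      if h : i.1 < Module.finrank k (k ⊗[Γ(T, ⊤)] Γ(T', ⊤)) then pre (bas ⟨i.1, h⟩) else 0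
    refine ⟨b, fun x _ => ?_⟩
    choose a ha using fun i => Ideal.Quotient.mk_surjective (bas.repr ((1 : k) ⊗ₜ x) i)
    have hx : (1 : k) ⊗ₜ[Γ(T, ⊤)] x = (1 : k) ⊗ₜ[Γ(T, ⊤)] (∑ i, a i • pre (bas i)) := by
      rw [tmul_sum]
      conv_lhs => rw [← bas.sum_repr ((1 : k) ⊗ₜ[Γ(T, ⊤)] x)]
      refine Finset.sum_congr rfl fun i _ => ?_
      rw [tmul_smul, ← algebraMap_smul k (a i), ← ha i]
      exact congrArg _ (hpre (bas i)).symm
    have hmem : x - ∑ i, a i • pre (bas i) ∈ I.asIdeal • (⊤ : Submodule Γ(T, ⊤) Γ(T', ⊤)) := by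
      have := congrArg (TensorProduct.quotTensorEquivQuotSMul Γ(T', ⊤) I.asIdeal) hx
      exact (Submodule.Quotient.eq _).1 ((TensorProduct.quotTensorEquivQuotSMul_mk_one_tmul I.asIdeal x).symm.trans
        (this.trans (TensorProduct.quotTensorEquivQuotSMul_mk_one_tmul I.asIdeal _)))
    rw [show x = (∑ i, a i • pre (bas i)) + (x - ∑ i, a i • pre (bas i)) by abel]
    refine Submodule.add_mem_sup (Submodule.sum_mem _ fun i _ => Submodule.smul_mem _ _ ?_) hmem
    refine Submodule.subset_span ⟨⟨i.1, i.2.trans_le h₂⟩, ?_⟩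
    simp only [b, dif_pos i.2, Fin.eta]
  obtain ⟨b, hb⟩ := exists_span_of_artinian m hgen
  let L : (Fin m → Γ(T, ⊤)) →ₗ[Γ(T, ⊤)] Γ(T', ⊤) := Fintype.linearCombination Γ(T, ⊤) b
  have hL : Function.Surjective L := by
    rw [← LinearMap.range_eq_top, Fintype.range_linearCombination]
    exact top_le_iff.1 hb
  let : Algebra K Γ(T', ⊤) := (φ ≫ ψ).hom.toAlgebra
  have : IsScalarTower K Γ(T, ⊤) Γ(T', ⊤) := .of_algebraMap_eq fun _ => rfl
  have hL' : Function.Surjective (L.restrictScalars K) := hL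
  have hfin : Module.Finite K Γ(T', ⊤) := Module.Finite.of_surjective _ hL'
  have hΦ : Spec.map (φ ≫ ψ) = T'.isoSpec.inv ≫ g ≫ q := by rw [Spec.map_comp, hψ, hφ]; simp
  have : IsFinite (g ≫ q) := by
    rw [← MorphismProperty.cancel_left_of_respectsIso @IsFinite T'.isoSpec.inv, ← hΦ]
    exact (IsFinite.SpecMap_iff _).2 hfin
  refine ⟨this, ?_⟩
  rw [(finrank_eq_of_field (g ≫ q) (φ ≫ ψ) hΦ).2, heT]
  refine (LinearMap.finrank_le_finrank_of_surjective hL').trans (le_of_eq ?_)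
  rw [Module.finrank_pi_fintype, Finset.sum_const, Finset.card_univ, Fintype.card_fin, smul_eq_mul]

end Groth.Agent.SpQS
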