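import Groth.Agent.SpQS.DiagGood

/-!
# Fibres, specialisations and permanence for good points
-/

universe u

open CategoryTheory CategoryTheory.Limits AlgebraicGeometry Opposite IsLocalRing

set_option backward.isDefEq.respectTransparency false

namespace Groth.Agent.SpQS

open _root_.AlgSp Groth.Agent.AlgSpLib

variable {S : Scheme.{u}}

/-- every point is the point of a morphism from the spectrum of a field -/
theorem exists_fieldMap {X : Sp S} (x : Points X) : ∃ (K : Type u) (_ : Field K)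
    (str : Spec (CommRingCat.of K) ⟶ S) (y : (yon S).obj (Over.mk str) ⟶ X), Points.ofPt y (closedPoint K) = x := by
  obtain ⟨T, b, t, rfl⟩ := exists_ofPt x
  refine ⟨T.left.residueField t, inferInstance, T.left.fromSpecResidueField t ≫ T.hom,
    (yon S).map (Over.homMk (T.left.fromSpecResidueField t) rfl : Over.mk _ ⟶ T) ≫ b, ?_⟩
  rw [ofPt_comp]
  exact congrArg (Points.ofPt b) (Scheme.fromSpecResidueField_apply t _)

/-- a good point has finite fibres in affine charts -/
theorem GoodAt.finite {X : Sp S} (hX : IsAlgSpace X) {x : Points X} (h : GoodAt x) {U : Over S}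
    [hU : IsAffine U.left] {a : (yon S).obj U ⟶ X} (ha : RepWith @Etale a) :
    (Points.ofPt a ⁻¹' {x}).Finite := by
  obtain ⟨K, _, str, y, hy⟩ := exists_fieldMap x
  exact (ValLib.finite_fibre hX ha y fun V p q sq => h U a hU ha K str y hy V p q sq).subset
    fun v hv => hv.trans hy.symm

/-- etale morphisms have discrete fibres -/
theorem eq_of_specializes_of_etale {R U : Scheme.{u}} (f : R ⟶ U) [Etale f] {r r' : R} (h : r' ⤳ r)
    (e : f r' = f r) : r' = r := by
  have : LocallyQuasiFinite f := UnivInjMor.lqf_of_unramified f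
  have : DiscreteTopology ↥(f ⁻¹' {f r}) :=
    isDiscrete_iff_discreteTopology.1 (f.isDiscrete_preimage_singleton (f r))
  have h' : (⟨r', e⟩ : ↥(f ⁻¹' {f r})) ⤳ ⟨r, rfl⟩ := (subtype_specializes_iff _ _).2 h
  exact congrArg Subtype.val (specializes_iff_eq.1 h')

/-- no specialisations inside a finite fibre of a chart -/
theorem eq_of_specializes_of_finite {X : Sp S} (hX : IsAlgSpace X) {U : Over S} {a : (yon S).obj U ⟶ X}
    (ha : RepWith @Etale a) {u u' : U.left} (hfin : (Points.ofPt a ⁻¹' {Points.ofPt a u}).Finite)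
    (e : Points.ofPt a u' = Points.ofPt a u) (hs : u' ⤳ u) : u = u' := by
  have : T0Space ↥U.left := inferInstance
  obtain ⟨g, hg, hmax⟩ := exists_maximal_generisation hfin ⟨u, rfl⟩
  obtain ⟨R, p, q, sq⟩ := exists_pullback hX.diag a a
  have : Etale q.left := (repWith_yon_iff q).1 (repWith_baseChange sq ha)
  have : Etale p.left := (repWith_yon_iff p).1 (repWith_baseChange sq.flip ha)
  obtain ⟨r, hr₁, hr₂⟩ := (ofPt_eq_iff sq g u).1 hg
  obtain ⟨r', hr', hqr'⟩ := Flat.generalizingMap q.left (show u' ⤳ q.left r by rw [hr₂]; exact hs)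
  have hp' : p.left r' = g := hmax _ (by
    show Points.ofPt a (p.left r') = Points.ofPt a u
    rw [(ofPt_eq_iff sq (p.left r') (q.left r')).2 ⟨r', rfl, rfl⟩, hqr']
    exact e) (by
    have := hr'.map p.left.continuous
    rwa [hr₁] at this)
  have := eq_of_specializes_of_etale p.left hr' (hp'.trans hr₁.symm)
  rw [← hr₂, ← hqr', this]

/-- affine neighbourhood as a chart -/
theorem exists_affine_sub_chart {X : Sp S} {U : Over S} {a : (yon S).obj U ⟶ X} (ha : RepWith @Etale a)
    (u : U.left) : ∃ (O : Over S) (i : O ⟶ U) (o : O.left), IsAffine O.left ∧ IsOpenImmersion i.left ∧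
      i.left o = u ∧ RepWith @Etale ((yon S).map i ≫ a) := by
  obtain ⟨A, hA, hu, -⟩ := exists_isAffineOpen_mem_and_subset (U := (⊤ : U.left.Opens)) (x := u) trivial
  exact ⟨Over.mk (A.ι ≫ U.hom), Over.homMk A.ι rfl, (⟨u, hu⟩ : ↥A), (hA : IsAffine A.toScheme),
    (inferInstance : IsOpenImmersion A.ι), rfl,
    repWith_comp ((repWith_yon_iff _).2 (show Etale A.ι from inferInstance)) ha⟩

theorem eq_of_specializes_of_good {X : Sp S} (hX : IsAlgSpace X) {U : Over S} {a : (yon S).obj U ⟶ X}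
    (ha : RepWith @Etale a) {u u' : U.left}
    (hfin : ∀ (V : Over S) (b : (yon S).obj V ⟶ X), IsAffine V.left → RepWith @Etale b →
      (Points.ofPt b ⁻¹' {Points.ofPt a u}).Finite)
    (e : Points.ofPt a u' = Points.ofPt a u) (hs : u' ⤳ u) : u = u' := by
  obtain ⟨O, i, o, hO, hi, rfl, hia⟩ := exists_affine_sub_chart ha u
  obtain ⟨o', rfl⟩ : u' ∈ Set.range i.left :=
    hs.mem_open i.left.isOpenEmbedding.isOpen_range ⟨o, rfl⟩
  have h := eq_of_specializes_of_finite hX hia (u := o) (u' := o')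
    (by rw [ofPt_comp]; exact hfin O _ hO hia) (by rw [ofPt_comp, ofPt_comp]; exact e)
    (i.left.isOpenEmbedding.isInducing.specializes_iff.1 hs)
  rw [h]

/-- specialisations from good points lift to charts -/
theorem exists_specializes_lift {X : Sp S} (hX : IsAlgSpace X) {x x' : Points X} (hx' : GoodAt x') (h : x' ⤳ x)
    {U : Over S} {a : (yon S).obj U ⟶ X} (ha : RepWith @Etale a) (u : U.left) (hu : Points.ofPt a u = x) :
    ∃ u', u' ⤳ u ∧ Points.ofPt a u' = x' := by
  obtain ⟨O, i, o, hO, hi, rfl, hia⟩ := exists_affine_sub_chart ha u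
  have h1 := (isOpenMap_ofPt (repWith_universallyOpen_of_etale hia)).preimage_closure_subset_closure_preimage
    (show o ∈ Points.ofPt ((yon S).map i ≫ a) ⁻¹' closure {x'} by
      show Points.ofPt ((yon S).map i ≫ a) o ∈ closure {x'}
      rw [ofPt_comp, hu]
      exact specializes_iff_mem_closure.1 h)
  rw [← Set.biUnion_of_singleton (Points.ofPt ((yon S).map i ≫ a) ⁻¹' {x'}),
    (hx'.finite hX hia).closure_biUnion] at h1
  obtain ⟨v, hv, hvo⟩ := Set.mem_iUnion₂.1 h1
  refine ⟨i.left v, (specializes_iff_mem_closure.2 hvo).map i.left.continuous, ?_⟩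
  rw [← ofPt_comp]
  exact hv

/-- good points are local on the chart -/
theorem goodAt_of_local {X : Sp S} (hX : IsAlgSpace X) {K : Type u} [Field K]
    {str : Spec (CommRingCat.of K) ⟶ S} (y : (yon S).obj (Over.mk str) ⟶ X)
    (h : ∀ (U : Over S) (a : (yon S).obj U ⟶ X), RepWith @Etale a → ∀ u : U.left,
      ∃ O : U.left.Opens, u ∈ O ∧ ∀ (U' : Over S) (inc : U' ⟶ U), IsAffine U'.left → IsOpenImmersion inc.left →
        Set.range inc.left ⊆ (O : Set U.left) → ∀ (V : Over S) (p : V ⟶ U') (q : V ⟶ Over.mk str),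
          IsPullback ((yon S).map p) ((yon S).map q) ((yon S).map inc ≫ a) y → CompactSpace V.left) :
    GoodAt (Points.ofPt y (closedPoint K)) := by
  refine goodAt_of_one hX y fun U a hU ha _ V p q sq => ?_
  let ι := {A : U.left.Opens // IsAffineOpen A ∧ ∀ (U' : Over S) (inc : U' ⟶ U), IsAffine U'.left →
    IsOpenImmersion inc.left → Set.range inc.left ⊆ (A : Set U.left) → ∀ (V : Over S) (p : V ⟶ U')
      (q : V ⟶ Over.mk str), IsPullback ((yon S).map p) ((yon S).map q) ((yon S).map inc ≫ a) y →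
        CompactSpace V.left}
  obtain ⟨t, ht⟩ := (isCompact_univ (X := U.left)).elim_finite_subcover (fun A : ι => (A.1 : Set U.left))
    (fun A => A.1.2) (fun u _ => by
      obtain ⟨O, huO, hO⟩ := h U a ha u
      obtain ⟨A, hA, huA, hle⟩ := exists_isAffineOpen_mem_and_subset (U := O) (x := u) huO
      exact Set.mem_iUnion.2 ⟨⟨A, hA, fun U' inc h1 h2 h3 => hO U' inc h1 h2 (h3.trans hle)⟩, huA⟩)
  refine ⟨?_⟩
  have huniv : (Set.univ : Set V.left) = ⋃ A ∈ t, ((p.left ⁻¹ᵁ A.1 : V.left.Opens) : Set V.left) := by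
    refine (Set.eq_univ_of_forall fun v => ?_).symm
    obtain ⟨A, hA, hv⟩ := Set.mem_iUnion₂.1 (ht (Set.mem_univ (p.left v)))
    exact Set.mem_iUnion₂.2 ⟨A, hA, hv⟩
  rw [huniv]
  refine t.isCompact_biUnion fun A _ => isCompact_iff_compactSpace.2 ?_
  let U' : Over S := Over.mk (A.1.ι ≫ U.hom)
  let inc : U' ⟶ U := Over.homMk A.1.ι rfl
  let V' : Over S := Over.mk ((p.left ⁻¹ᵁ A.1).ι ≫ V.hom)
  let iV : V' ⟶ V := Over.homMk (p.left ⁻¹ᵁ A.1).ι rfl
  let p' : V' ⟶ U' := Over.homMk (p.left ∣_ A.1) (by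
    show (p.left ∣_ A.1) ≫ A.1.ι ≫ U.hom = (p.left ⁻¹ᵁ A.1).ι ≫ V.hom
    rw [morphismRestrict_ι_assoc, Over.w p])
  have sq' : IsPullback ((yon S).map p') ((yon S).map (iV ≫ q)) ((yon S).map inc ≫ a) y := by
    rw [Functor.map_comp]
    exact (isPullback_yon_iff.2 (isPullback_morphismRestrict p.left A.1)).paste_vert sq
  exact A.2.2 U' inc (A.2.1 : IsAffine A.1.toScheme) (inferInstance : IsOpenImmersion A.1.ι)
    (by rintro _ ⟨z, rfl⟩; exact z.2) V' p' _ sq'

/-- field valued points at good points are quasi-compact -/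
theorem repWith_qc_of_good {X : Sp S} (hX : IsAlgSpace X) {K : Type u} [Field K]
    {str : Spec (CommRingCat.of K) ⟶ S} (y : (yon S).obj (Over.mk str) ⟶ X)
    (h : GoodAt (Points.ofPt y (closedPoint K))) : RepWith @QuasiCompact y := by
  obtain ⟨U₀, π, ι, O, hπ, hπs, hO, -, hcov⟩ := exists_affine_chart_family hX
  obtain ⟨P, pP, qP, sqP⟩ := exists_pullback hX.diag y π
  have := isLocallySurjective_of_atlas hπ hπs
  have hrep : Representable y := fun {T} ξ => by
    obtain ⟨V, v₁, v₂, sqV⟩ := exists_pullback hX.diag y ξ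
    exact ⟨V, v₂, (yon S).map v₁, sqV⟩
  refine repWith_of_isLocallySurjective (P := @QuasiCompact) hrep sqP ((repWith_yon_iff qP).2 ?_)
  refine IsZariskiLocalAtTarget.of_iSup_eq_top O
    (eq_top_iff.2 fun z _ => TopologicalSpace.Opens.mem_iSup.2 (hcov z)) fun i => ?_
  let Z : Over S := Over.mk ((O i).ι ≫ U₀.hom)
  let inc : Z ⟶ U₀ := Over.homMk (O i).ι rfl
  have : IsAffine Z.left := (hO i : IsAffine (O i).toScheme)
  have : IsAffine (O i).toScheme := hO i
  refine HasAffineProperty.iff_of_isAffine.mpr ?_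
  let Pi : Over S := Over.mk ((qP.left ⁻¹ᵁ O i).ι ≫ P.hom)
  let iP : Pi ⟶ P := Over.homMk (qP.left ⁻¹ᵁ O i).ι rfl
  let qi : Pi ⟶ Z := Over.homMk (qP.left ∣_ O i) (by
    show (qP.left ∣_ O i) ≫ (O i).ι ≫ U₀.hom = (qP.left ⁻¹ᵁ O i).ι ≫ P.hom
    rw [morphismRestrict_ι_assoc, Over.w qP])
  have sqI : IsPullback ((yon S).map qi) ((yon S).map (iP ≫ pP)) ((yon S).map inc ≫ π) y := by
    rw [Functor.map_comp]
    exact (isPullback_yon_iff.2 (isPullback_morphismRestrict qP.left (O i))).paste_vert sqP.flip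
  exact h Z _ ‹_› (repWith_comp ((repWith_yon_iff inc).2 (show Etale (O i).ι from inferInstance)) hπ) K str y rfl
    Pi qi _ sqI

/-- a point of a scheme is given by a quasi-compact monomorphism -/
theorem isDecent_yon (T : Over S) : IsDecent ((yon S).obj T) := by
  intro x
  obtain ⟨t, rfl⟩ := (Points.schemeEquiv T).surjective x
  refine ⟨FieldPt.ofPt (𝟙 _) t, rfl, ?_, ?_⟩
  · rw [FieldPt.toHom_ofPt, Category.comp_id]
    let it : Over.mk (T.left.fromSpecResidueField t ≫ T.hom) ⟶ T := Over.homMk (T.left.fromSpecResidueField t) rfl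
    have : Mono it.left := inferInstanceAs (Mono (T.left.fromSpecResidueField t))
    have : Mono it := mono_of_left it
    show Mono ((yon S).map it)
    infer_instance
  · rw [FieldPt.toHom_ofPt, Category.comp_id]
    refine (repWith_yon_iff _).2 ?_
    have : Subsingleton (Spec (T.left.residueField t)) :=
      inferInstanceAs (Subsingleton (PrimeSpectrum (T.left.residueField t)))
    exact (⟨fun V hV hVc => (Set.subsingleton_of_subsingleton (s := _)).isCompact⟩ :
      QuasiCompact (T.left.fromSpecResidueField t))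

/-- the image of a quasi-compact monomorphic point -/
theorem decentPt_map {X Y : Sp S} (f : X ⟶ Y) [Mono f] (hf : RepWith @QuasiCompact f) {x : Points X}
    (h : ∃ p : FieldPt X, Points.mk p = x ∧ Mono p.toHom ∧ RepWith @QuasiCompact p.toHom) :
    ∃ p : FieldPt Y, Points.mk p = Points.map f x ∧ Mono p.toHom ∧ RepWith @QuasiCompact p.toHom := by
  obtain ⟨p, rfl, hm, hq⟩ := h
  refine ⟨p.map f, (Points.map_mk _ _).symm, ?_, ?_⟩
  · rw [FieldPt.toHom_map]; exact mono_comp _ _
  · rw [FieldPt.toHom_map]; exact repWith_comp hq hf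

/-- fibre products of decent spaces are decent -/
theorem isDecent_of_isPullback {X Y Z P : Sp S} (hY : IsAlgSpace Y) (hX : IsAlgSpace X) (hZ : IsAlgSpace Z)
    {f : X ⟶ Y} {g : Z ⟶ Y} {fst : P ⟶ X} {snd : P ⟶ Z} (sq : IsPullback fst snd f g)
    (hdX : IsDecent X) (hdZ : IsDecent Z) : IsDecent P := by
  intro w
  obtain ⟨px, hpx, hxm, hxq⟩ := hdX (Points.map fst w)
  obtain ⟨pz, hpz, hzm, hzq⟩ := hdZ (Points.map snd w)
  have sq₁ := IsPullback.of_hasPullback px.toHom fst
  let P₁ := pullback px.toHom fst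
  let j₁ : P₁ ⟶ P := pullback.snd px.toHom fst
  have sq₂ := IsPullback.of_hasPullback pz.toHom (j₁ ≫ snd)
  let j₂ : pullback pz.toHom (j₁ ≫ snd) ⟶ P₁ := pullback.snd pz.toHom (j₁ ≫ snd)
  have : Mono j₁ := inferInstanceAs (Mono (pullback.snd _ _))
  have : Mono j₂ := inferInstanceAs (Mono (pullback.snd _ _))
  have hj : RepWith @QuasiCompact (j₂ ≫ j₁) :=
    repWith_comp (repWith_baseChange sq₂ hzq) (repWith_baseChange sq₁ hxq)
  -- the intersection is the scheme product of the two field points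
  obtain ⟨Q, q₁, q₂, sqQ⟩ := exists_pullback hY.diag (px.toHom ≫ f) (pz.toHom ≫ g)
  have sqA : IsPullback (pullback.fst px.toHom fst) (j₁ ≫ snd) (px.toHom ≫ f) g := sq₁.paste_vert sq
  have sqB : IsPullback (j₂ ≫ pullback.fst px.toHom fst) (pullback.fst pz.toHom (j₁ ≫ snd))
      (px.toHom ≫ f) (pz.toHom ≫ g) := sq₂.flip.paste_horiz sqA
  let e := sqQ.isoIsPullback _ _ sqB
  obtain ⟨v₁, hv₁, hv₁'⟩ := exists_point_of_isPullback sq₁ (Points.ofScheme px.pt (closedPoint px.K)) w (by
    show Points.map px.toHom (Points.ofPt (𝟙 _) _) = _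
    rw [Points.map_ofPt, Category.id_comp, Points.ofPt_toHom]
    exact hpx)
  obtain ⟨v₂, -, hv₂'⟩ := exists_point_of_isPullback sq₂ (Points.ofScheme pz.pt (closedPoint pz.K)) v₁ (by
    show Points.map pz.toHom (Points.ofPt (𝟙 _) _) = _
    rw [Points.map_ofPt, Category.id_comp, Points.ofPt_toHom, Points.map_comp, hv₁']
    exact hpz)
  have h := decentPt_map (j₂ ≫ j₁) hj ((isDecent_yon Q).of_iso e v₂)
  rwa [Points.map_comp, hv₂', hv₁'] at h

end Groth.Agent.SpQS
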