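import Groth.Agent.AlgSpLib.FpqcList
import Groth.Agent.UnivInjMor.MonoUnram
import Mathlib.AlgebraicGeometry.Morphisms.FlatMono

/-!
# Monomorphisms into the spectrum of a field
-/

universe u

open CategoryTheory CategoryTheory.Limits AlgebraicGeometry Opposite IsLocalRing

set_option backward.isDefEq.respectTransparency false

namespace Groth.Agent.SpQS

open _root_.AlgSp Groth.Agent.AlgSpLib

variable {S : Scheme.{u}}

theorem isIso_of_mono_to_field {k : Type u} [Field k] (str : Spec (CommRingCat.of k) ⟶ S) {Z : Sp S}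
    (hZ : IsAlgSpace Z) (f : Z ⟶ (yon S).obj (Over.mk str)) [Mono f] (z : Points Z) : IsIso f := by
  have hK : IsAlgSpace ((yon S).obj (Over.mk str)) := IsAlgSpace.yon_obj _
  obtain ⟨U, π, hπ, hπs⟩ := hZ.atlas
  obtain ⟨u, -⟩ := ofPt_surjective hπs z
  obtain ⟨q, hq⟩ := exists_map_eq (π ≫ f)
  let g : Spec (U.left.residueField u) ⟶ Spec (CommRingCat.of k) := U.left.fromSpecResidueField u ≫ q.left
  let m : Over.mk (U.left.fromSpecResidueField u ≫ U.hom) ⟶ U := Over.homMk (U.left.fromSpecResidueField u) rfl
  let L : Over S := Over.mk (U.left.fromSpecResidueField u ≫ U.hom)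
  obtain ⟨x, hx⟩ : ∃ x : (yon S).obj L ⟶ Z, x = (yon S).map m ≫ π := ⟨_, rfl⟩
  have hxf : x ≫ f = (yon S).map (m ≫ q) := by rw [hx, Category.assoc, ← hq, Functor.map_comp]
  have : Flat (m ≫ q).left := by
    show Flat g
    obtain ⟨φ, hφ⟩ := Spec.map_surjective g
    rw [← hφ]
    refine HasRingHomProperty.Spec_iff.2 ?_
    algebraize [φ.hom]
    exact RingHom.flat_algebraMap_iff.2 (inferInstance : Module.Flat k (U.left.residueField u))
  have : IsAffine L.left := inferInstanceAs (IsAffine (Spec (U.left.residueField u)))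
  have : CompactSpace L.left := inferInstance
  have : IsAffine (Over.mk str).left := inferInstanceAs (IsAffine (Spec (CommRingCat.of k)))
  have hfl : RepWith @Flat (x ≫ f) := by rw [hxf]; exact (repWith_yon_iff _).2 ‹_›
  have hqc : IsQuasiCompactMor (x ≫ f) := by
    refine (isQuasiCompactMor_iff_repWith (IsAlgSpace.yon_obj L) hK hfl.1).2 ?_
    rw [hxf]
    exact (repWith_yon_iff _).2 inferInstance
  have hcov := isFpqcCover_of_flat_qc_surjective (IsAlgSpace.yon_obj L) hK (x ≫ f)
    ((locP_iff_repWith etST_flat hK hfl.1).2 hfl) hqc fun y => by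
      obtain ⟨y', rfl⟩ := (Points.schemeEquiv (Over.mk str)).surjective y
      refine ⟨Points.ofScheme L (closedPoint (U.left.residueField u)), ?_⟩
      rw [hxf, Points.map_ofPt, Category.id_comp, ofScheme_map]
      exact congrArg (Points.ofScheme _) (Subsingleton.elim (α := PrimeSpectrum k) _ _)
  -- the base change to the field point is an isomorphism
  have sqL := IsPullback.of_hasPullback f (x ≫ f)
  have : Mono (pullback.snd f (x ≫ f)) := inferInstance
  have hiso : IsIso (pullback.snd f (x ≫ f)) := by
    have : IsSplitEpi (pullback.snd f (x ≫ f)) :=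
      IsSplitEpi.mk' ⟨pullback.lift x (𝟙 _) (by rw [Category.id_comp]), pullback.lift_snd _ _ _⟩
    exact isIso_of_mono_of_isSplitEpi _
  have het : IsEtaleMor f :=
    (isLocalOnBase_isEtaleMor (S := S) _ _ hK (fun _ => IsAlgSpace.yon_obj L) hcov f hZ _ _ _
      (fun _ => isAlgSpace_of_isPullback_space hK hZ (IsAlgSpace.yon_obj L) sqL) fun _ => sqL).2
      fun _ => isEtaleMor_of_repWith' (repWith_of_isIso _)
  have hl := (isEtaleMor_iff_locP hK).1 het
  have hrep : Representable f := UnivInjMor.representable_of_mono hZ hK f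
    (fun U V a b h ha hb comm => by have : Etale h.left := hl a b h ha hb comm; infer_instance)
  obtain ⟨W, fst, w, sqW⟩ := exists_isPullback_of_representable hrep (𝟙 ((yon S).obj (Over.mk str)))
  have hfst : IsIso fst := sqW.isIso_fst_of_isIso
  have hwf : (yon S).map w = fst ≫ f := by simpa using sqW.w.symm
  have : Etale w.left := ((locP_iff_repWith etST_etale hK hrep).1 hl).2 (𝟙 _) fst w sqW
  have : Mono ((yon S).map w) := by rw [hwf]; infer_instance
  have : Mono w := (yon S).mono_of_mono_map this
  have : Mono w.left := Over.mono_left_of_mono w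
  have : IsOpenImmersion w.left := IsOpenImmersion.of_flat_of_mono w.left
  have : Surjective w.left := ⟨fun p => by
    obtain ⟨x₀, hx₀⟩ := (isHomeomorph_map_of_isIso fst).surjective z
    obtain ⟨w', -⟩ := (Points.schemeEquiv W).surjective x₀
    exact ⟨w', Subsingleton.elim (α := PrimeSpectrum k) _ _⟩⟩
  have : IsIso w.left := isIso_of_isOpenImmersion_of_opensRange_eq_top w.left
    (TopologicalSpace.Opens.ext (Set.range_eq_univ.2 w.left.surjective))
  have : IsIso w := (isIso_iff_of_reflects_iso w (Over.forget S)).1 this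
  have : IsIso (fst ≫ f) := hwf ▸ inferInstance
  exact IsIso.of_isIso_comp_left fst f

end Groth.Agent.SpQS
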