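import Groth.Agent.SpQS.MonoPt
import Groth.Agent.SpQS.DecentProps
import Groth.Agent.SpQS.MonoField
import Groth.Agent.SmoothRed.Scheme

/-!
# Monomorphic quasi-compact field points are preimmersions on charts
-/

universe u

open CategoryTheory CategoryTheory.Limits AlgebraicGeometry Opposite IsLocalRing Topology

set_option backward.isDefEq.respectTransparency false

namespace Groth.Agent.SpQS

open _root_.AlgSp Groth.Agent.AlgSpLib

variable {S : Scheme.{u}}

theorem isReduced_of_etale_reduced {X Y : Scheme.{u}} (f : X ⟶ Y) [Etale f] [IsReduced Y] : IsReduced X := by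
  apply +allowSynthFailures @IsReduced.of_openCover (𝒰 := Y.affineCover.pullback₁ f)
  intro i
  have : IsReduced (Y.affineCover.X i) := isReduced_of_isOpenImmersion (Y.affineCover.f i)
  obtain ⟨R, hR⟩ : ∃ R, Y.affineCover.X i = Spec R := ⟨_, rfl⟩
  have h := this
  rw [hR] at h
  have : _root_.IsReduced R := (affine_isReduced_iff R).1 h
  have : Smooth (pullback.snd f (Y.affineCover.f i)) := inferInstance
  exact SmoothRed.isReduced_of_smooth_scheme
    (X := pullback f (Y.affineCover.f i)) (pullback.snd f (Y.affineCover.f i) ≫ eqToHom hR)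

/-- a quasi-compact monomorphic field point is a preimmersion in etale charts -/
theorem isPreimmersion_of_mono_point {X : Sp S} (hX : IsAlgSpace X) (p : FieldPt X) [Mono p.toHom]
    (hq : RepWith @QuasiCompact p.toHom) {U T : Over S} {a : (yon S).obj U ⟶ X} (ha : RepWith @Etale a)
    {d : T ⟶ U} {c : T ⟶ p.pt} (sq : IsPullback ((yon S).map c) ((yon S).map d) p.toHom a) :
    IsPreimmersion d.left ∧ Set.range d.left = Points.ofPt a ⁻¹' {Points.mk p} := by
  let c' : T.left ⟶ Spec (CommRingCat.of p.K) := c.left
  have : Etale c' := (repWith_yon_iff c).1 (repWith_baseChange sq.flip ha)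
  have : DiscreteTopology T.left := (finite_of_etale_over_field c').1
  have : IsReduced T.left := SmoothRed.isReduced_of_smooth_scheme c'
  have : Mono ((yon S).map d) := sq.mono_snd_of_mono
  have hinj : Function.Injective d.left := fun z z' e => by
    refine (Points.schemeEquiv T).injective (injective_points_of_mono ((yon S).map d) ?_)
    show Points.map ((yon S).map d) (Points.ofScheme T z) = Points.map ((yon S).map d) (Points.ofScheme T z')
    rw [← Points.ofPt_eq_map_ofScheme, ← Points.ofPt_eq_map_ofScheme, ofScheme_map, ofScheme_map, e]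
  have hrange : Set.range d.left = Points.ofPt a ⁻¹' {Points.mk p} := by
    ext v
    constructor
    · rintro ⟨z, rfl⟩
      show Points.ofPt a (d.left z) = Points.mk p
      rw [← Points.ofPt_toHom p (c.left z)]
      exact ((ofPt_eq_iff sq (c.left z) (d.left z)).2 ⟨z, rfl, rfl⟩).symm
    · intro hv
      obtain ⟨z, -, hz⟩ := (ofPt_eq_iff sq (closedPoint p.K : ↥p.pt.left) v).1
        ((Points.ofPt_toHom p _).trans hv.symm)
      exact ⟨z, hz⟩
  have hg : GoodAt (Points.mk p) := goodAt_of_qc hX p hq
  have hemb : IsEmbedding d.left := by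
    refine ⟨⟨?_⟩, hinj⟩
    rw [TopologicalSpace.ext_iff]
    intro O
    refine ⟨fun _ => isOpen_induced_iff.2 ?_, fun _ => isOpen_discrete O⟩
    have hopen : ∀ z : T.left, ∃ W : Set U.left, IsOpen W ∧ d.left ⁻¹' W = {z} := by
      intro z
      obtain ⟨A, hA, hzA, -⟩ := exists_isAffineOpen_mem_and_subset (U := (⊤ : U.left.Opens)) (x := d.left z) trivial
      let Ao : Over S := Over.mk (A.ι ≫ U.hom)
      let i : Ao ⟶ U := Over.homMk A.ι rfl
      have : IsAffine Ao.left := (hA : IsAffine A.toScheme)
      have hae : RepWith @Etale ((yon S).map i ≫ a) :=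
        repWith_comp ((repWith_yon_iff _).2 (inferInstanceAs (Etale A.ι))) ha
      let F : Set U.left := ((A : Set U.left) ∩ Set.range d.left) \ {d.left z}
      have hF : F.Finite := by
        refine ((((hg.finite hX hae)).image A.ι).subset ?_).sdiff
        rintro v ⟨hvA, hv⟩
        refine ⟨(⟨v, hvA⟩ : ↥A), ?_, rfl⟩
        show Points.ofPt ((yon S).map i ≫ a) _ = _
        rw [ofPt_comp]
        rw [hrange] at hv
        exact hv
      refine ⟨(A : Set U.left) \ closure F, A.2.sdiff isClosed_closure, ?_⟩
      ext z'
      constructor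
      · rintro ⟨hz'A, hz'⟩
        by_contra hne
        exact hz' (subset_closure ⟨⟨hz'A, z', rfl⟩, fun h => hne (hinj h)⟩)
      · rintro rfl
        refine ⟨hzA, fun hc => ?_⟩
        rw [← Set.biUnion_of_singleton F, hF.closure_biUnion] at hc
        obtain ⟨v, ⟨⟨hvA, hv⟩, hne⟩, hvz⟩ := Set.mem_iUnion₂.1 hc
        rw [hrange] at hv
        have hz : Points.ofPt a (d.left z') = Points.mk p := by
          have : d.left z' ∈ Set.range d.left := ⟨z', rfl⟩
          rwa [hrange] at this
        exact hne (eq_of_specializes_of_good hX ha (fun W b hW hb => by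
          rw [hz]; exact hg.finite hX (hU := hW) hb) (hv.trans hz.symm) (specializes_iff_mem_closure.2 hvz)).symm
    choose W hW hWz using hopen
    refine ⟨⋃ z ∈ O, W z, isOpen_biUnion fun z _ => hW z, ?_⟩
    simp only [Set.preimage_iUnion, hWz, Set.biUnion_of_singleton]
  have : SurjectiveOnStalks d.left := ⟨fun z => by
    let v := d.left z
    let i := resInc U v
    obtain ⟨l, hl⟩ : ∃ l : resPt U v ⟶ T, l.left ≫ d.left = i.left := by
      have sqP := IsPullback.of_hasPullback ((yon S).map d) ((yon S).map i)
      have hP : IsAlgSpace (pullback ((yon S).map d) ((yon S).map i)) :=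
        isAlgSpace_of_isPullback_space (IsAlgSpace.yon_obj _) (IsAlgSpace.yon_obj _) (IsAlgSpace.yon_obj _) sqP
      obtain ⟨z₀, -, -⟩ := exists_point_of_isPullback sqP (Points.ofScheme T z)
        (Points.ofScheme (resPt U v) (closedPoint (U.left.residueField v))) (by
          rw [← Points.ofPt_eq_map_ofScheme, ← Points.ofPt_eq_map_ofScheme, ofScheme_map, ofScheme_map]
          exact congrArg _ (Scheme.fromSpecResidueField_apply v _).symm)
      have : IsIso (pullback.snd ((yon S).map d) ((yon S).map i)) :=
        isIso_of_mono_to_field (U.left.fromSpecResidueField v ≫ U.hom) hP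
          (pullback.snd ((yon S).map d) ((yon S).map i)) z₀
      obtain ⟨l, hl⟩ := exists_map_eq (inv (pullback.snd ((yon S).map d) ((yon S).map i)) ≫
        pullback.fst ((yon S).map d) ((yon S).map i))
      refine ⟨l, congrArg (fun g => g.left) ((yon S).map_injective (X := resPt U v) (Y := U) (a₁ := l ≫ d) (a₂ := i) ?_)⟩
      rw [Functor.map_comp, hl, Category.assoc, pullback.condition, IsIso.inv_hom_id_assoc]
    let L : Spec (U.left.residueField v) ⟶ T.left := l.left
    have hL : L (closedPoint (U.left.residueField v)) = z := hinj (by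
      show d.left (l.left _) = v
      rw [← Scheme.Hom.comp_apply, hl]
      exact Scheme.fromSpecResidueField_apply v _)
    rw [← hL]
    have h1 : Function.Surjective
        ((L ≫ d.left).stalkMap (closedPoint (U.left.residueField v))) := by
      rw [show L ≫ d.left = U.left.fromSpecResidueField v from hl]
      exact Scheme.Hom.stalkMap_surjective _ _
    rw [Scheme.Hom.stalkMap_comp] at h1
    intro t
    obtain ⟨s, hs⟩ := h1 (L.stalkMap _ t)
    have hfld : IsField (T.left.presheaf.stalk (L (closedPoint (U.left.residueField v)))) := by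
      have : IsLocallyArtinian T.left := by
        have : LocallyQuasiFinite c' := UnivInjMor.lqf_of_unramified c'
        exact IsLocallyArtinian.of_locallyQuasiFinite c'
      have : Ring.KrullDimLE 0 (T.left.presheaf.stalk (L (closedPoint (U.left.residueField v)))) :=
        krullDimLE_of_coheight_le (le_of_eq (Order.coheight_eq_zero.2 (fun y hy => by
          rw [(show y ⤳ L (closedPoint (U.left.residueField v)) from hy).eq])))
      exact Ring.KrullDimLE.isField_of_isReduced
    let := hfld.toField
    exact ⟨s, (L.stalkMap _).hom.injective hs⟩⟩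
  exact ⟨{ isEmbedding := hemb }, hrange⟩

end Groth.Agent.SpQS
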