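import Groth.Agent.SpQS.DecentPoint
import Mathlib.AlgebraicGeometry.Properties
import Mathlib.RingTheory.Ideal.KrullsHeightTheorem

/-!
# Generic points of decent spaces
-/

universe u

open CategoryTheory CategoryTheory.Limits AlgebraicGeometry Opposite IsLocalRing

set_option backward.isDefEq.respectTransparency false

namespace Groth.Agent.SpQS

open _root_.AlgSp Groth.Agent.AlgSpLib

variable {S : Scheme.{u}}

/-- no other point specialises to the given one -/
def IsMaxPt {α : Type*} [TopologicalSpace α] (x : α) : Prop := ∀ y, y ⤳ x → y = x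

theorem exists_isMaxPt_specializes {α : Type*} [TopologicalSpace α] [T0Space α] [QuasiSober α] (x : α) :
    ∃ g, g ⤳ x ∧ IsMaxPt g := by
  have hT := irreducibleComponent_mem_irreducibleComponents x
  have hgen : IsGenericPoint hT.1.genericPoint (irreducibleComponent x) :=
    hT.1.isGenericPoint_genericPoint isClosed_irreducibleComponent
  refine ⟨hT.1.genericPoint, hgen.specializes mem_irreducibleComponent, fun y hy => ?_⟩
  have h1 : irreducibleComponent x ⊆ closure {y} := by
    rw [← hgen.def]
    exact closure_minimal (Set.singleton_subset_iff.2 (specializes_iff_mem_closure.1 hy)) isClosed_closure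
  have h2 : closure {y} ⊆ irreducibleComponent x := hT.2 isIrreducible_singleton.closure h1
  exact ((hgen.specializes (h2 (subset_closure rfl))).antisymm hy).eq.symm

theorem component_generic_iff {α : Type*} [TopologicalSpace α] [T0Space α] [QuasiSober α] (x : α) :
    (∃ T ∈ irreducibleComponents α, IsGenericPoint x T) ↔ IsMaxPt x := by
  constructor
  · rintro ⟨T, hT, hx⟩ y hy
    have h1 : T ⊆ closure {y} := by
      rw [← hx.def]
      exact closure_minimal (Set.singleton_subset_iff.2 (specializes_iff_mem_closure.1 hy)) isClosed_closure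
    have h2 : closure {y} ⊆ T := hT.2 isIrreducible_singleton.closure h1
    exact ((hx.specializes (h2 (subset_closure rfl))).antisymm hy).eq.symm
  · intro h
    have hT := irreducibleComponent_mem_irreducibleComponents x
    have hgen : IsGenericPoint hT.1.genericPoint (irreducibleComponent x) :=
      hT.1.isGenericPoint_genericPoint isClosed_irreducibleComponent
    exact ⟨_, hT, by rwa [h _ (hgen.specializes mem_irreducibleComponent)] at hgen⟩

theorem stalk_dim_zero_iff {U : Scheme.{u}} (u : U) : ringKrullDim (U.presheaf.stalk u) = 0 ↔ IsMaxPt u := by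
  rw [ringKrullDim_stalk_eq_coheight, show (0 : WithBot ℕ∞) = ((0 : ℕ∞) : WithBot ℕ∞) from rfl, WithBot.coe_inj,
    Order.coheight_eq_zero]
  exact ⟨fun h y hy => ((show u ⤳ y from h (show u ≤ y from hy)).antisymm hy).eq.symm,
    fun h y hy => by rw [h y hy]⟩

/-- maximal points correspond along charts of spaces with good points -/
theorem isMaxPt_ofPt_iff {X : Sp S} (hX : IsAlgSpace X) (hg : ∀ x : Points X, GoodAt x) {U : Over S}
    {a : (yon S).obj U ⟶ X} (ha : RepWith @Etale a) (u : U.left) : IsMaxPt (Points.ofPt a u) ↔ IsMaxPt u := by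
  constructor
  · intro h u' hu'
    exact (eq_of_specializes_of_good hX ha (fun V b hV hb => (hg _).finite hX (hU := hV) hb)
      (h _ (hu'.map (Points.continuous_ofPt a))) hu').symm
  · intro h y hy
    obtain ⟨u', hu', rfl⟩ := exists_specializes_lift hX (hg y) hy ha u rfl
    rw [h u' hu']

/-- generic points of components are the points of codimension zero -/
theorem component_generic_iff_dim {X : Sp S} (hX : IsAlgSpace X) (hd : IsDecent X) [T0Space (Points X)]
    [QuasiSober (Points X)] (x : Points X) : (∃ T ∈ irreducibleComponents (Points X), IsGenericPoint x T) ↔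
      HasAt (fun U u => ringKrullDim ↥(U.presheaf.stalk u) = 0) X x := by
  rw [component_generic_iff]
  have hg := goodAt_of_isDecent hX hd
  constructor
  · intro h
    obtain ⟨U, a, u, -, ha, rfl, -⟩ := exists_affine_chart_at hX x
    exact ⟨U, a, u, ha, rfl, (stalk_dim_zero_iff u).2 ((isMaxPt_ofPt_iff hX hg ha u).1 h)⟩
  · rintro ⟨U, a, u, ha, rfl, h⟩
    exact (isMaxPt_ofPt_iff hX hg ha u).2 ((stalk_dim_zero_iff u).1 h)

theorem t0_sober_of_decent {X : Sp S} (hX : IsAlgSpace X) (hd : IsDecent X) :
    T0Space (Points X) ∧ QuasiSober (Points X) := by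
  have h : ∀ x : Points X, ∃ (U : Over S) (a : (yon S).obj U ⟶ X), IsAffine U.left ∧ RepWith @Etale a ∧
      CompactFibres a ∧ x ∈ Set.range (Points.ofPt a) := fun x => by
    obtain ⟨U, a, u, hU, ha, hu, -⟩ := exists_affine_chart_at hX x
    exact ⟨U, a, hU, ha, compactFibres_of_good (goodAt_of_isDecent hX hd) ha, u, hu⟩
  exact ⟨t0Space_points hX h, quasiSober_points hX h⟩

/-- etale morphisms to decent spaces preserve and reflect maximal points -/
theorem isMaxPt_map_iff {X Y : Sp S} (hX : IsAlgSpace X) (hY : IsAlgSpace Y) (hd : IsDecent X) (f : Y ⟶ X)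
    (hf : IsEtaleMor f) (y : Points Y) : IsMaxPt y ↔ IsMaxPt (Points.map f y) := by
  have hg := goodAt_of_isDecent hX hd
  obtain ⟨U, a, u, -, ha, rfl, -⟩ := exists_affine_chart_at hY y
  rw [isMaxPt_ofPt_iff hY (fun z => goodAt_of_etale hY hX f hf (hg _)) ha, Points.map_ofPt,
    isMaxPt_ofPt_iff hX hg (hf a ha)]

/-- no specialisations inside fibres of charts of locally noetherian spaces -/
theorem eq_of_specializes_of_locNoeth {X : Sp S} (hX : IsAlgSpace X) {U : Over S} {a : (yon S).obj U ⟶ X}
    (ha : RepWith @Etale a) [IsLocallyNoetherian U.left] {u u' : U.left}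
    (e : Points.ofPt a u = Points.ofPt a u') (hs : u' ⤳ u) : u = u' := by
  by_contra hne
  obtain ⟨R, p, q, sq⟩ := exists_pullback hX.diag a a
  have : Etale q.left := (repWith_yon_iff q).1 (repWith_baseChange sq ha)
  have : Etale p.left := (repWith_yon_iff p).1 (repWith_baseChange sq.flip ha)
  have hstep : ∀ g : {g : U.left // Points.ofPt a g = Points.ofPt a u}, ∃ g' : {g : U.left //
      Points.ofPt a g = Points.ofPt a u}, g'.1 ⤳ g.1 ∧ g'.1 ≠ g.1 := by
    rintro ⟨g, hg⟩
    obtain ⟨r, hr₁, hr₂⟩ := (ofPt_eq_iff sq g u).1 hg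
    obtain ⟨r', hr', hqr'⟩ := Flat.generalizingMap q.left (show u' ⤳ q.left r by rw [hr₂]; exact hs)
    refine ⟨⟨p.left r', ?_⟩, ?_, fun h => hne ?_⟩
    · rw [(ofPt_eq_iff sq (p.left r') (q.left r')).2 ⟨r', rfl, rfl⟩, hqr']
      exact e.symm
    · have := hr'.map p.left.continuous
      rwa [hr₁] at this
    · rw [← hr₂, ← hqr', eq_of_specializes_of_etale p.left hr' (h.trans hr₁.symm)]
  choose next h1 h2 using hstep
  let c : ℕ → {g : U.left // Points.ofPt a g = Points.ofPt a u} := fun n => Nat.rec ⟨u, rfl⟩ (fun _ g => next g) n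
  have hmono : StrictMono (fun n => (c n).1) := strictMono_nat_of_lt_succ fun n =>
    lt_iff_le_not_ge.2 ⟨h1 (c n), fun h => h2 (c n) ((h1 (c n)).antisymm (show (c n).1 ⤳ (next (c n)).1 from h)).eq⟩
  have hfin : Order.coheight u < ⊤ := by
    have h := ringKrullDim_lt_top (R := U.left.presheaf.stalk u)
    rw [ringKrullDim_stalk_eq_coheight] at h
    exact WithBot.coe_lt_coe.1 h
  refine hfin.ne (ENat.eq_top_iff_forall_ge.2 fun n => ?_)
  let s : LTSeries U.left := ⟨n, fun i => (c i).1, fun i => hmono (Nat.lt_succ_self i.1)⟩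
  exact Order.length_le_coheight (p := s) (le_refl u)

end Groth.Agent.SpQS
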