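import Mathlib.AlgebraicGeometry.ZariskisMainTheorem
import Mathlib.AlgebraicGeometry.Morphisms.FlatRank
import Mathlib.AlgebraicGeometry.Morphisms.FlatDescent
import Groth.Agent.FpqcDescent.Props
import Groth.Prelude.Def_Mor2

/-!
# Stratifying a quasi-finite flat morphism by the degree of its fibres
-/

universe u

open CategoryTheory CategoryTheory.Limits AlgebraicGeometry IsLocalRing

set_option backward.isDefEq.respectTransparency false

namespace Groth.Agent.SpQS

/-- a closed subscheme of a finite scheme over a field has smaller degree -/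
theorem finrank_closed_le {K : Type u} [Field K] {P Q : Scheme.{u}} (i : Q ⟶ P) [IsClosedImmersion i]
    (q : P ⟶ Spec (CommRingCat.of K)) [IsFinite q] :
    (i ≫ q).finrank (closedPoint K) ≤ q.finrank (closedPoint K) ∧
      ((i ≫ q).finrank (closedPoint K) = q.finrank (closedPoint K) → IsIso i) := by
  have : IsAffine P := isAffine_of_isAffineHom q
  have : IsAffine Q := isAffine_of_isAffineHom i
  obtain ⟨ψ, hψ⟩ := Spec.map_surjective (Q.isoSpec.inv ≫ i ≫ P.isoSpec.hom)
  obtain ⟨φ, hφ⟩ := Spec.map_surjective (P.isoSpec.inv ≫ q)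
  have : IsFinite (Spec.map φ) := hφ ▸ inferInstance
  have : IsClosedImmersion (Spec.map ψ) := hψ ▸ inferInstance
  have hsurj : Function.Surjective ψ := by
    have h := (IsClosedImmersion.isAffine_surjective_of_isAffine (Spec.map ψ)).2
    have e : ψ = (Scheme.ΓSpecIso _).inv ≫ (Spec.map ψ).appTop ≫ (Scheme.ΓSpecIso _).hom := by simp
    rw [e]
    exact ((ConcreteCategory.bijective_of_isIso (Scheme.ΓSpecIso _).hom).2.comp h).comp
      (ConcreteCategory.bijective_of_isIso (Scheme.ΓSpecIso _).inv).2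
  have hcomp : Spec.map (φ ≫ ψ) = Q.isoSpec.inv ≫ i ≫ q := by
    rw [Spec.map_comp, hψ, hφ]; simp
  have h1 : φ.hom.Finite := (IsFinite.SpecMap_iff _).1 ‹_›
  have h2 : φ.hom.Flat := Flat.SpecMap_iff.1 inferInstance
  have h1' : (φ ≫ ψ).hom.Finite := by
    rw [CommRingCat.hom_comp]
    exact (RingHom.Finite.of_surjective _ hsurj).comp h1
  have : IsFinite (Spec.map (φ ≫ ψ)) := (IsFinite.SpecMap_iff _).2 h1'
  have h2' : (φ ≫ ψ).hom.Flat := Flat.SpecMap_iff.1 inferInstance
  rw [← Scheme.Hom.finrank_comp_left_of_isIso Q.isoSpec.inv (i ≫ q), ← hcomp,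
    ← Scheme.Hom.finrank_comp_left_of_isIso P.isoSpec.inv q, ← hφ,
    Scheme.Hom.finrank_SpecMap_eq_finrank h1' h2', Scheme.Hom.finrank_SpecMap_eq_finrank h1 h2]
  let A := Γ(P, ⊤)
  algebraize [φ.hom, (φ ≫ ψ).hom]
  let l : Γ(P, ⊤) →ₐ[K] Γ(Q, ⊤) := { ψ.hom with commutes' := fun _ => rfl }
  have hl : Function.Surjective l.toLinearMap := hsurj
  rw [← RingHom.algebraMap_toAlgebra φ.hom, ← RingHom.algebraMap_toAlgebra (φ ≫ ψ).hom,
    RingHom.finrank_algebraMap, RingHom.finrank_algebraMap, Module.rankAtStalk_eq_finrank_of_free,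
    Module.rankAtStalk_eq_finrank_of_free]
  refine ⟨LinearMap.finrank_le_finrank_of_surjective hl, fun heq => ?_⟩
  have hinj : Function.Injective l.toLinearMap :=
    (LinearMap.injective_iff_surjective_of_finrank_eq_finrank (by simpa using heq.symm)).2 hl
  have : IsIso ψ := (ConcreteCategory.isIso_iff_bijective _).2 ⟨hinj, hsurj⟩
  have : i = Q.isoSpec.hom ≫ Spec.map ψ ≫ P.isoSpec.inv := by rw [hψ]; simp
  rw [this]
  infer_instance

variable {X Y : Scheme.{u}}

/-- all fibres over points are finite -/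
def FinFib (f : X ⟶ Y) : Prop := ∀ y : Y, IsFinite (pullback.snd f (Y.fromSpecResidueField y))

/-- the degree of the fibre -/
noncomputable def fdeg (f : X ⟶ Y) (y : Y) : ℕ :=
  (pullback.snd f (Y.fromSpecResidueField y)).finrank (closedPoint (Y.residueField y))

/-- a base change to a field computes the degree -/
theorem fdeg_eq (f : X ⟶ Y) (hf : FinFib f) {K : Type u} [Field K]
    (h : Spec (CommRingCat.of K) ⟶ Y) {P : Scheme.{u}} (fst : P ⟶ X) (snd : P ⟶ Spec (CommRingCat.of K))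
    (sq : IsPullback fst snd f h) :
    IsFinite snd ∧ snd.finrank (closedPoint K) = fdeg f (h (closedPoint K)) := by
  have e := Scheme.descResidueField_stalkClosedPointTo_fromSpecResidueField K Y h
  have := hf (h (closedPoint K))
  have sq' := IsPullback.of_hasPullback f (Y.fromSpecResidueField (h (closedPoint K)))
  have sq₂ : IsPullback (sq'.lift fst (snd ≫ Spec.map (Scheme.descResidueField (Scheme.stalkClosedPointTo h)))
      (by rw [Category.assoc, e, sq.w])) snd (pullback.snd f (Y.fromSpecResidueField (h (closedPoint K))))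
      (Spec.map (Scheme.descResidueField (Scheme.stalkClosedPointTo h))) :=
    IsPullback.of_right (by simpa [e] using sq) (sq'.lift_snd _ _ _) sq'
  refine ⟨MorphismProperty.of_isPullback sq₂ this, ?_⟩
  rw [Scheme.Hom.finrank_of_isPullback _ _ _ _ sq₂]
  exact congrArg _ (Subsingleton.elim (α := PrimeSpectrum (Y.residueField _)) _ _)

theorem FinFib.baseChange {f : X ⟶ Y} (hf : FinFib f) {P T : Scheme.{u}} {fst : P ⟶ X}
    {snd : P ⟶ T} {g : T ⟶ Y} (sq : IsPullback fst snd f g) : FinFib snd := fun t =>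
  (fdeg_eq f hf (T.fromSpecResidueField t ≫ g) _ _
    ((IsPullback.of_hasPullback snd (T.fromSpecResidueField t)).paste_horiz sq)).1

theorem fdeg_baseChange {f : X ⟶ Y} (hf : FinFib f) {P T : Scheme.{u}} {fst : P ⟶ X}
    {snd : P ⟶ T} {g : T ⟶ Y} (sq : IsPullback fst snd f g) (t : T) : fdeg snd t = fdeg f (g t) := by
  refine (fdeg_eq f hf (T.fromSpecResidueField t ≫ g) _ _
    ((IsPullback.of_hasPullback snd (T.fromSpecResidueField t)).paste_horiz sq)).2.trans ?_
  rw [Scheme.Hom.comp_apply]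
  exact congrArg (fun z => fdeg f (g z)) (T.fromSpecResidueField_apply t (closedPoint (T.residueField t)))

theorem finFib_of_isFinite (f : X ⟶ Y) [IsFinite f] : FinFib f := fun _ =>
  MorphismProperty.pullback_snd (P := @IsFinite) _ _ ‹_›

theorem fdeg_of_isFinite (f : X ⟶ Y) [IsFinite f] [Flat f] (y : Y) : fdeg f y = f.finrank y := by
  rw [fdeg, Scheme.Hom.finrank_pullback_snd, Scheme.fromSpecResidueField_apply]

theorem FinFib.comp_closed {Z : Scheme.{u}} {f : X ⟶ Y} (hf : FinFib f) (i : Z ⟶ X) [IsClosedImmersion i] :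
    FinFib (i ≫ f) := fun y => by
  have := hf y
  rw [← pullbackRightPullbackFstIso_inv_snd_snd f (Y.fromSpecResidueField y) i]
  infer_instance

/-- a closed flat part has smaller degree, equality only if it contains the fibre -/
theorem fdeg_comp_le {Z : Scheme.{u}} {f : X ⟶ Y} (hf : FinFib f) (i : Z ⟶ X) [IsClosedImmersion i] (y : Y) :
    fdeg (i ≫ f) y ≤ fdeg f y ∧
      (fdeg (i ≫ f) y = fdeg f y → ∀ x : X, f x = y → x ∈ Set.range i) := by
  have := hf y
  let j := pullback.snd i (pullback.fst f (Y.fromSpecResidueField y))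
  have e : fdeg (i ≫ f) y = (j ≫ pullback.snd f (Y.fromSpecResidueField y)).finrank
      (closedPoint (Y.residueField y)) := by
    rw [fdeg, ← pullbackRightPullbackFstIso_inv_snd_snd f (Y.fromSpecResidueField y) i,
      Scheme.Hom.finrank_comp_left_of_isIso]
  obtain ⟨h₁, h₂⟩ := finrank_closed_le j (pullback.snd f (Y.fromSpecResidueField y))
  refine ⟨e ▸ h₁, fun heq x hx => ?_⟩
  have : IsIso j := h₂ (e.symm.trans heq)
  obtain ⟨p, hp, -⟩ := Scheme.Pullback.exists_preimage_pullback (f := f) (g := Y.fromSpecResidueField y) x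
    (closedPoint (Y.residueField y)) (by rw [hx, Scheme.fromSpecResidueField_apply])
  obtain ⟨q, hq⟩ := j.surjective p
  refine ⟨pullback.fst i _ q, ?_⟩
  rw [← Scheme.Hom.comp_apply, pullback.condition, Scheme.Hom.comp_apply, hq, hp]

/-- a closed part containing the fibre has the same degree -/
theorem fdeg_comp_eq {Z : Scheme.{u}} {f : X ⟶ Y} (hf : FinFib f) (i : Z ⟶ X) [IsClosedImmersion i]
    [IsOpenImmersion i] (y : Y) (h : ∀ x : X, f x = y → x ∈ Set.range i) :
    fdeg (i ≫ f) y = fdeg f y := by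
  have := hf y
  let j := pullback.snd i (pullback.fst f (Y.fromSpecResidueField y))
  have : Surjective j := ⟨fun p => by
    obtain ⟨z, hz⟩ := h (pullback.fst f (Y.fromSpecResidueField y) p) (by
      rw [← Scheme.Hom.comp_apply, pullback.condition, Scheme.Hom.comp_apply]
      exact (congrArg _ (Subsingleton.elim (α := PrimeSpectrum (Y.residueField y)) _ _)).trans
        (Y.fromSpecResidueField_apply y (closedPoint (Y.residueField y))))
    obtain ⟨q, -, hq⟩ := Scheme.Pullback.exists_preimage_pullback (f := i) z p hz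
    exact ⟨q, hq⟩⟩
  have : IsIso j := isIso_of_isOpenImmersion_of_opensRange_eq_top j
    (TopologicalSpace.Opens.ext (Set.range_eq_univ.2 j.surjective))
  rw [fdeg, ← pullbackRightPullbackFstIso_inv_snd_snd f (Y.fromSpecResidueField y) i,
    Scheme.Hom.finrank_comp_left_of_isIso, Scheme.Hom.finrank_comp_left_of_isIso]
  rfl

theorem isClosedImmersion_ι_of_isClosed {P : Scheme.{u}} (V : P.Opens) (hV : IsClosed (V : Set P)) :
    IsClosedImmersion V.ι := .of_isPreimmersion _ (by simpa using hV)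

theorem isFinite_sup {P U : Scheme.{u}} (f : P ⟶ U) (V₁ V₂ : P.Opens) (hd : Disjoint V₁ V₂)
    (h₁ : IsFinite (V₁.ι ≫ f)) (h₂ : IsFinite (V₂.ι ≫ f)) : IsFinite ((V₁ ⊔ V₂).ι ≫ f) := by
  let a := P.homOfLE (le_sup_left : V₁ ≤ V₁ ⊔ V₂)
  let b := P.homOfLE (le_sup_right : V₂ ≤ V₁ ⊔ V₂)
  have hab : IsCompl a.opensRange b.opensRange := by
    have ha : a.opensRange = (V₁ ⊔ V₂).ι ⁻¹ᵁ V₁ := Scheme.opensRange_homOfLE _
    have hb : b.opensRange = (V₁ ⊔ V₂).ι ⁻¹ᵁ V₂ := Scheme.opensRange_homOfLE _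
    rw [ha, hb]
    refine ⟨disjoint_iff_inf_le.2 fun z hz => (hd.le_bot ⟨hz.1, hz.2⟩ : False).elim,
      codisjoint_iff_le_sup.2 fun z _ => ?_⟩
    rcases z.2 with h | h
    · exact Or.inl h
    · exact Or.inr h
  obtain ⟨H⟩ := nonempty_isColimit_binaryCofanMk_of_isCompl a b hab
  let e := (coprodIsCoprod V₁.toScheme V₂.toScheme).coconePointUniqueUpToIso H
  have : e.hom ≫ (V₁ ⊔ V₂).ι ≫ f = coprod.desc (V₁.ι ≫ f) (V₂.ι ≫ f) := by
    apply coprod.hom_ext
    · have : coprod.inl ≫ e.hom = a :=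
        (coprodIsCoprod V₁.toScheme V₂.toScheme).comp_coconePointUniqueUpToIso_hom H ⟨.left⟩
      rw [reassoc_of% this, coprod.inl_desc, Scheme.homOfLE_ι_assoc]
    · have : coprod.inr ≫ e.hom = b :=
        (coprodIsCoprod V₁.toScheme V₂.toScheme).comp_coconePointUniqueUpToIso_hom H ⟨.right⟩
      rw [reassoc_of% this, coprod.inr_desc, Scheme.homOfLE_ι_assoc]
  rw [← MorphismProperty.cancel_left_of_respectsIso @IsFinite e.hom, this]
  infer_instance

/-- etale locally on the base the whole fibre spreads out to a finite clopen part -/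
theorem exists_etale_clopen (n : ℕ) : ∀ {X Y : Scheme.{u}} (f : X ⟶ Y) [LocallyOfFiniteType f]
    [IsSeparated f] [LocallyQuasiFinite f], FinFib f → ∀ y : Y, fdeg f y ≤ n →
    ∃ (U : Scheme.{u}) (g : U ⟶ Y) (u : U), Etale g ∧ g u = y ∧
      ∃ V : (pullback f g).Opens, IsClosed (V : Set ↑(pullback f g)) ∧
        IsFinite (V.ι ≫ pullback.snd f g) ∧ ∀ x, pullback.snd f g x = u → x ∈ V := by
  induction n using Nat.strong_induction_on with
  | _ n ih =>
  intro X Y f _ _ _ hf y hn
  by_cases hy : ∃ x, f x = y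
  swap
  · refine ⟨Y, 𝟙 Y, y, inferInstance, rfl, ⊥, by simp, ?_, fun x hx => absurd ⟨pullback.fst f (𝟙 Y) x, ?_⟩ hy⟩
    · have : IsEmpty ↥((⊥ : (pullback f (𝟙 Y)).Opens).toScheme) := ⟨fun x => x.2⟩
      infer_instance
    · rw [← Scheme.Hom.comp_apply, pullback.condition, Category.comp_id]
      exact hx
  obtain ⟨x, hx⟩ := hy
  obtain ⟨U, g, hg, -, V, W, v, hVW, hV, hv⟩ := exists_etale_isCompl_of_quasiFiniteAt f hx (f.quasiFiniteAt x)
  let u := pullback.snd f g v.1
  have hu : g u = y := by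
    show g (pullback.snd f g v.1) = y
    rw [← Scheme.Hom.comp_apply, ← pullback.condition, Scheme.Hom.comp_apply, hv, hx]
  have hVW' : (W : Set ↑(pullback f g)) = (↑V)ᶜ :=
    eq_compl_iff_isCompl.mpr (hVW.map TopologicalSpace.Opens.frameHom).symm
  have hVc : IsClosed (V : Set ↑(pullback f g)) := by
    rw [← isOpen_compl_iff, ← hVW']; exact W.isOpen
  have : IsClosedImmersion W.ι := isClosedImmersion_ι_of_isClosed W (by rw [hVW']; exact V.isOpen.isClosed_compl)
  have hsnd : FinFib (pullback.snd f g) := hf.baseChange (IsPullback.of_hasPullback f g)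
  have hW : FinFib (W.ι ≫ pullback.snd f g) := hsnd.comp_closed W.ι
  have hlt : fdeg (W.ι ≫ pullback.snd f g) u < n := by
    obtain ⟨h₁, h₂⟩ := fdeg_comp_le hsnd W.ι u
    rw [fdeg_baseChange hf (IsPullback.of_hasPullback f g), hu] at h₁ h₂
    refine lt_of_lt_of_le (lt_of_le_of_ne h₁ fun heq => ?_) hn
    have h' := h₂ heq v.1 rfl
    rw [Scheme.Opens.range_ι, hVW'] at h'
    exact h' v.2
  obtain ⟨U', g', u', hg', hu', V', hV'c, hV', hV'u⟩ := ih _ hlt (W.ι ≫ pullback.snd f g) hW u le_rfl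
  refine ⟨U', g' ≫ g, u', inferInstance, by rw [Scheme.Hom.comp_apply, hu', hu], ?_⟩
  -- identify the pullback along the composite
  let p : pullback f (g' ≫ g) ⟶ pullback f g :=
    pullback.map _ _ _ _ (𝟙 _) g' (𝟙 _) (by simp) (by simp)
  have sqp : IsPullback p (pullback.snd f (g' ≫ g)) (pullback.snd f g) g' :=
    IsPullback.of_right (by simpa [p] using IsPullback.of_hasPullback f (g' ≫ g)) (by simp [p])
      (IsPullback.of_hasPullback f g)
  have hk : (pullback.fst (W.ι ≫ pullback.snd f g) g' ≫ W.ι) ≫ pullback.snd f g =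
      pullback.snd (W.ι ≫ pullback.snd f g) g' ≫ g' := by
    rw [Category.assoc, pullback.condition]
  let k : pullback (W.ι ≫ pullback.snd f g) g' ⟶ pullback f (g' ≫ g) := sqp.lift _ _ hk
  have sqk : IsPullback (pullback.fst (W.ι ≫ pullback.snd f g) g') k W.ι p :=
    IsPullback.of_bot (by simpa [k] using IsPullback.of_hasPullback (W.ι ≫ pullback.snd f g) g')
      (sqp.lift_fst _ _ hk).symm sqp
  have : IsOpenImmersion k := MorphismProperty.of_isPullback sqk (inferInstanceAs (IsOpenImmersion W.ι))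
  have : IsClosedImmersion k := MorphismProperty.of_isPullback sqk (inferInstanceAs (IsClosedImmersion W.ι))
  let V₁ := p ⁻¹ᵁ V
  let V₂ := k ''ᵁ V'
  refine ⟨V₁ ⊔ V₂, ?_, ?_, ?_⟩
  · exact (hVc.preimage p.continuous).union (k.isClosedEmbedding.isClosedMap _ hV'c)
  · refine isFinite_sup _ V₁ V₂ (disjoint_iff_inf_le.2 ?_) ?_ ?_
    · rintro z ⟨hz₁, q, -, rfl⟩
      have hq : pullback.fst (W.ι ≫ pullback.snd f g) g' q ∈ (⊤ : W.toScheme.Opens) := trivial
      have : p (k q) ∈ (W : Set ↑(pullback f g)) := by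
        rw [← Scheme.Hom.comp_apply, sqp.lift_fst _ _ hk, Scheme.Hom.comp_apply]
        exact (pullback.fst (W.ι ≫ pullback.snd f g) g' q).2
      rw [hVW'] at this
      exact this hz₁
    · refine MorphismProperty.of_isPullback ((isPullback_morphismRestrict p V).paste_vert sqp) hV
    · rw [show V₂.ι = (k.isoImage V').inv ≫ V'.ι ≫ k by simp [V₂], Category.assoc, Category.assoc,
        MorphismProperty.cancel_left_of_respectsIso @IsFinite, sqp.lift_snd _ _ hk]
      exact hV'
  · intro z hz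
    by_cases hzV : p z ∈ V
    · exact Or.inl hzV
    · have hzW : p z ∈ W := by
        show p z ∈ (W : Set ↑(pullback f g))
        rw [hVW']; exact hzV
      obtain ⟨q, -, hq⟩ := Scheme.exists_preimage_of_isPullback sqk ⟨p z, hzW⟩ z rfl
      refine Or.inr ⟨q, hV'u q ?_, hq⟩
      rw [← sqp.lift_snd _ _ hk, Scheme.Hom.comp_apply, hq, hz]

/-- the fibre degree is lower semicontinuous -/
theorem isOpen_le_fdeg (f : X ⟶ Y) [Flat f] [LocallyOfFinitePresentation f] [IsSeparated f]
    [LocallyQuasiFinite f] (hf : FinFib f) (r : ℕ) : IsOpen {y | r ≤ fdeg f y} := by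
  refine isOpen_iff_forall_mem_open.2 fun y hy => ?_
  obtain ⟨U, g, u, hg, hgu, V, hVc, hV, hVu⟩ := exists_etale_clopen _ f hf y le_rfl
  have : IsClosedImmersion V.ι := isClosedImmersion_ι_of_isClosed V hVc
  have hsnd : FinFib (pullback.snd f g) := hf.baseChange (IsPullback.of_hasPullback f g)
  let v := V.ι ≫ pullback.snd f g
  have : IsFinite v := hV
  have key (u' : U) : v.finrank u' ≤ fdeg f (g u') := by
    rw [← fdeg_of_isFinite v, ← fdeg_baseChange hf (IsPullback.of_hasPullback f g)]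
    exact (fdeg_comp_le hsnd V.ι u').1
  refine ⟨g '' {u' | r ≤ v.finrank u'}, ?_, g.isOpenMap _ ?_, u, ?_, hgu⟩
  · rintro _ ⟨u', hu', rfl⟩
    exact le_trans hu' (key u')
  · exact v.isLocallyConstant_finrank {d | r ≤ d}
  · show r ≤ v.finrank u
    rw [← fdeg_of_isFinite v, fdeg_comp_eq hsnd V.ι u (fun x hx => by
      rw [Scheme.Opens.range_ι]; exact hVu x hx), fdeg_baseChange hf (IsPullback.of_hasPullback f g), hgu]
    exact hy

/-- constant fibre degree means finite locally free -/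
theorem isFinite_of_fdeg_eq (f : X ⟶ Y) [Flat f] [LocallyOfFinitePresentation f] [IsSeparated f]
    [LocallyQuasiFinite f] (hf : FinFib f) (r : ℕ) (hr : ∀ y, fdeg f y = r) : IsFinite f := by
  choose U g u hg hgu V hVc hV hVu using fun y => exists_etale_clopen _ f hf y le_rfl
  have hsnd (y : Y) : FinFib (pullback.snd f (g y)) := hf.baseChange (IsPullback.of_hasPullback f (g y))
  have hdeg (y : Y) (u' : U y) : fdeg (pullback.snd f (g y)) u' = r := by
    rw [fdeg_baseChange hf (IsPullback.of_hasPullback f (g y)), hr]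
  have hci (y : Y) : IsClosedImmersion (V y).ι := isClosedImmersion_ι_of_isClosed _ (hVc y)
  let U₀ (y : Y) : (U y).Opens :=
    ⟨{u' | ((V y).ι ≫ pullback.snd f (g y)).finrank u' = r}, by
      have := hV y
      exact ((V y).ι ≫ pullback.snd f (g y)).isLocallyConstant_finrank {r}⟩
  have hu₀ (y : Y) : u y ∈ U₀ y := by
    have := hV y
    show ((V y).ι ≫ pullback.snd f (g y)).finrank (u y) = r
    rw [← fdeg_of_isFinite, fdeg_comp_eq (hsnd y) (V y).ι _ (fun x hx => by
      rw [Scheme.Opens.range_ι]; exact hVu y x hx), hdeg]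
  have hwhole (y : Y) : IsFinite (pullback.snd f (g y) ∣_ U₀ y) := by
    have := hV y
    let q := pullback.snd f (g y)
    have hle : q ⁻¹ᵁ U₀ y ≤ V y := fun x hx => by
      have h2 := (fdeg_comp_le (hsnd y) (V y).ι (q x)).2 (by
        rw [fdeg_of_isFinite, hdeg]
        exact hx) x rfl
      rwa [Scheme.Opens.range_ι] at h2
    have e1 : (V y).ι ''ᵁ (((V y).ι ≫ q) ⁻¹ᵁ U₀ y) = q ⁻¹ᵁ U₀ y := by
      rw [Scheme.Hom.comp_preimage, Scheme.Hom.image_preimage_eq_opensRange_inf, Scheme.Opens.opensRange_ι]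
      exact inf_eq_right.2 hle
    have hfin : IsFinite (((V y).ι ≫ q) ∣_ U₀ y) := inferInstance
    have e2 : ((V y).ι ∣_ (q ⁻¹ᵁ U₀ y)) ≫ q ∣_ U₀ y = ((V y).ι ≫ q) ∣_ U₀ y :=
      (morphismRestrict_comp _ _ _).symm
    have : IsIso ((V y).ι ∣_ (q ⁻¹ᵁ U₀ y)) := isIso_of_isOpenImmersion_of_opensRange_eq_top _
      (TopologicalSpace.Opens.ext (Set.range_eq_univ.2 fun x => by
        obtain ⟨p, hp, -⟩ := Scheme.exists_preimage_of_isPullback (isPullback_morphismRestrict (V y).ι
          (q ⁻¹ᵁ U₀ y)) x ⟨x.1, hle x.2⟩ rfl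
        exact ⟨p, hp⟩))
    rw [← MorphismProperty.cancel_left_of_respectsIso @IsFinite ((V y).ι ∣_ (q ⁻¹ᵁ U₀ y)), e2]
    exact hfin
  let O (y : Y) : Y.Opens := ⟨g y '' (U₀ y : Set (U y)), (g y).isOpenMap _ (U₀ y).isOpen⟩
  have hO : iSup O = ⊤ := top_le_iff.1 fun y _ => TopologicalSpace.Opens.mem_iSup.2 ⟨y, u y, hu₀ y, hgu y⟩
  refine (IsZariskiLocalAtTarget.iff_of_iSup_eq_top (P := @IsFinite) O hO).2 fun y => ?_
  let π : (U₀ y).toScheme ⟶ (O y).toScheme := IsOpenImmersion.lift (O y).ι ((U₀ y).ι ≫ g y) (by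
    rw [Scheme.Opens.range_ι]
    rintro _ ⟨z, rfl⟩
    exact ⟨_, z.2, rfl⟩)
  have hπ : π ≫ (O y).ι = (U₀ y).ι ≫ g y := IsOpenImmersion.lift_fac _ _ _
  have : Etale π := by
    have : Etale (π ≫ (O y).ι) := hπ ▸ inferInstance
    exact .of_comp π (O y).ι
  have : Surjective π := ⟨by
    rintro ⟨_, z, hz, rfl⟩
    refine ⟨⟨z, hz⟩, (O y).ι.isOpenEmbedding.injective ?_⟩
    rw [← Scheme.Hom.comp_apply, hπ]
    rfl⟩
  have big : IsPullback ((pullback.snd f (g y) ⁻¹ᵁ U₀ y).ι ≫ pullback.fst f (g y))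
      (pullback.snd f (g y) ∣_ U₀ y) f (π ≫ (O y).ι) := by
    rw [hπ]
    exact (isPullback_morphismRestrict (pullback.snd f (g y)) (U₀ y)).flip.paste_horiz
      (IsPullback.of_hasPullback f (g y))
  have sqO := (isPullback_morphismRestrict f (O y)).flip
  refine MorphismProperty.of_isPullback_of_descendsAlong
    (Q := @Surjective ⊓ @Flat ⊓ @LocallyOfFinitePresentation)
    (IsPullback.of_right (h₁₁ := sqO.lift ((pullback.snd f (g y) ⁻¹ᵁ U₀ y).ι ≫ pullback.fst f (g y))
      ((pullback.snd f (g y) ∣_ U₀ y) ≫ π) (by rw [Category.assoc _ π, big.w]))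
      (by simpa using big) (sqO.lift_snd _ _ _) sqO).flip
    ⟨⟨inferInstance, inferInstance⟩, inferInstance⟩ (hwhole y)

theorem finLocFreeOfDeg_iff (f : X ⟶ Y) [Flat f] [LocallyOfFinitePresentation f] [IsSeparated f]
    [LocallyQuasiFinite f] (hf : FinFib f) (r : ℕ) :
    Mor2.IsFinLocFreeOfDeg r f ↔ ∀ y, fdeg f y = r := by
  refine ⟨fun h y => ?_, fun h => ?_⟩
  · have := h.1.1
    rw [fdeg_of_isFinite, h.2]
  · have := isFinite_of_fdeg_eq f hf r h
    exact ⟨⟨this, ‹_›, ‹_›⟩, fun y => by rw [← fdeg_of_isFinite, h]⟩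

end Groth.Agent.SpQS
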