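import Groth.Agent.AlgSpLib.Criteria
import Groth.Agent.AlgSpLib.DiagCrit
import Groth.Agent.AlgSpLib.Graph
import Mathlib.AlgebraicGeometry.Morphisms.QuasiSeparated
import Mathlib.CategoryTheory.Comma.Over.Pullback

/-!
# Quasi-compact and quasi-separated spaces as morphisms to the base
-/

universe u

open CategoryTheory CategoryTheory.Limits AlgebraicGeometry Opposite

set_option backward.isDefEq.respectTransparency false

namespace Groth.Agent.SpQS

open _root_.AlgSp Groth.Agent.AlgSpLib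

variable {S : Scheme.{u}}

/-- the base as a sheaf is terminal -/
noncomputable def isTerminalBase : IsTerminal ((yon S).obj (Over.mk (𝟙 S))) :=
  Over.mkIdTerminal.isTerminalObj (yon S) _

/-- the structure morphism of a space -/
noncomputable def baseStr (F : Sp S) : F ⟶ (yon S).obj (Over.mk (𝟙 S)) := isTerminalBase.from F

theorem isQuasiSeparatedSp_iff_mor {F : Sp S} (f : F ⟶ (yon S).obj (Over.mk (𝟙 S))) :
    IsQuasiSeparatedSp F ↔ IsQuasiSeparatedMor f := by
  let e : pullback f f ≅ F ⨯ F :=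
    { hom := prod.lift (pullback.fst f f) (pullback.snd f f)
      inv := pullback.lift prod.fst prod.snd (isTerminalBase.hom_ext _ _)
      hom_inv_id := pullback.hom_ext (by simp) (by simp)
      inv_hom_id := prod.hom_ext (by simp) (by simp) }
  have he : pullback.diagonal f ≫ e.hom = Limits.diag F := prod.hom_ext (by simp [e]) (by simp [e])
  show RepWith @QuasiCompact (Limits.diag F) ↔ RepWith @QuasiCompact (pullback.diagonal f)
  have : IsIso e.hom := e.isIso_hom
  rw [← he]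
  exact repWith_comp_iso_iff _ e.hom

/-- a quasi-compact space is quasi-compact over a quasi-separated base -/
theorem isQuasiCompactMor_base [QuasiSeparatedSpace ↥S] {X : Sp S} (hX : IsAlgSpace X)
    (hq : IsQuasiCompactSp X) (f : X ⟶ (yon S).obj (Over.mk (𝟙 S))) : IsQuasiCompactMor f := by
  refine isQuasiCompactMor_of_affine hX (IsAlgSpace.yon_obj _) f fun Z hZ g W fst snd sqW => ?_
  have := compactSpace_of_isQuasiCompactSp hq
  obtain ⟨U, π, hU, hπe, hπs⟩ := exists_affine_chart_of_compact hX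
  obtain ⟨V, p, q, sqV⟩ := exists_pullback (IsAlgSpace.yon_obj (Over.mk (𝟙 S))).diag (π ≫ f) g
  obtain ⟨a, ha⟩ := exists_map_eq (π ≫ f)
  obtain ⟨b, hb⟩ := exists_map_eq g
  rw [← ha, ← hb] at sqV
  have hab := (isPullback_yon_iff.1 sqV)
  have : CompactSpace V.left := by
    have : CompactSpace U.left := inferInstance
    have : QuasiCompact a.left := by
      have : QuasiSeparatedSpace ↥(Over.mk (𝟙 S)).left := ‹QuasiSeparatedSpace ↥S›
      infer_instance
    have : QuasiCompact q.left := MorphismProperty.of_isPullback (P := @QuasiCompact) hab ‹_›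
    have : CompactSpace Z.left := inferInstance
    exact QuasiCompact.compactSpace_of_compactSpace q.left
  rw [ha, hb] at sqV
  let l : (yon S).obj V ⟶ W := sqW.lift ((yon S).map p ≫ π) ((yon S).map q)
    (by rw [Category.assoc]; exact sqV.w)
  have sql : IsPullback ((yon S).map p) l π fst :=
    IsPullback.of_bot (by rw [sqW.lift_snd]; exact sqV) (sqW.lift_fst _ _ _).symm sqW
  exact isQuasiCompactSp_of_isSurjectiveMor
    (isAlgSpace_of_isPullback_space (IsAlgSpace.yon_obj _) hX (IsAlgSpace.yon_obj Z) sqW) l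
    (isSurjectiveMor_baseChange sql (isSurjectiveMor_of_repWith hπs)) (isQuasiCompactSp_yon V)

theorem isQuasiCompactMor_cancel {X Y Z : Sp S} (hX : IsAlgSpace X) (hY : IsAlgSpace Y) (hZ : IsAlgSpace Z)
    (f : X ⟶ Y) (g : Y ⟶ Z) (h : IsQuasiCompactMor (f ≫ g)) (hg : IsQuasiSeparatedMor g) :
    IsQuasiCompactMor f := by
  obtain ⟨Γ, m, hΓ, sq⟩ := exists_graph f (f ≫ g) g rfl
  have sqP := IsPullback.of_hasPullback (f ≫ g) g
  have hP := isAlgSpace_of_isPullback_space hZ hX hY sqP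
  have h₁ := repWith_baseChange sq hg
  rw [← hΓ]
  exact isQuasiCompactMor_comp hP hY ((isQuasiCompactMor_iff_repWith hX hP h₁.1).2 h₁)
    (fun W W' hW hWq a s t sq' => h hW hWq _ _ _ (sq'.paste_horiz sqP))

theorem isQuasiCompactMor_of_qc_qs [QuasiSeparatedSpace ↥S] {X Y : Sp S} (hX : IsAlgSpace X) (hY : IsAlgSpace Y)
    (f : X ⟶ Y) (hq : IsQuasiCompactSp X) (hs : IsQuasiSeparatedSp Y) : IsQuasiCompactMor f :=
  isQuasiCompactMor_cancel hX hY (IsAlgSpace.yon_obj _) f (baseStr Y) (isQuasiCompactMor_base hX hq _)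
    ((isQuasiSeparatedSp_iff_mor _).1 hs)

theorem isQuasiSeparatedMor_of_sp {X Y : Sp S} (f : X ⟶ Y) (h : IsQuasiSeparatedSp X) :
    IsQuasiSeparatedMor f := by
  let m := prod.lift (pullback.fst f f) (pullback.snd f f)
  have : Mono m := ⟨fun a b e => pullback.hom_ext (by simpa [m] using congrArg (· ≫ prod.fst) e)
    (by simpa [m] using congrArg (· ≫ prod.snd) e)⟩
  have he : pullback.diagonal f ≫ m = Limits.diag X := prod.hom_ext (by simp [m]) (by simp [m])
  refine repWith_of_comp_mono (m := m) ?_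
  rw [he]
  exact h

theorem qcqs_of_isPullback [QuasiSeparatedSpace ↥S] {X Y Z P : Sp S} (hX : IsAlgSpace X) (hY : IsAlgSpace Y)
    (hZ : IsAlgSpace Z) {f : X ⟶ Y} {g : Z ⟶ Y} {fst : P ⟶ X} {snd : P ⟶ Z} (sq : IsPullback fst snd f g)
    (hXq : IsQuasiCompactSp X) (hXs : IsQuasiSeparatedSp X) (hYs : IsQuasiSeparatedSp Y)
    (hZq : IsQuasiCompactSp Z) (hZs : IsQuasiSeparatedSp Z) : IsQuasiCompactSp P ∧ IsQuasiSeparatedSp P :=
  ⟨isQuasiCompactMor_of_qc_qs hX hY f hXq hYs hZ hZq g fst snd sq,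
    (isQuasiSeparatedSp_iff_mor (snd ≫ baseStr Z)).2 (isQuasiSeparatedMor_comp
      (isQuasiSeparatedMor_baseChange sq (isQuasiSeparatedMor_of_sp f hXs))
      ((isQuasiSeparatedSp_iff_mor _).1 hZs))⟩

/-- quasi-compactness descends along universally open surjections -/
theorem isQuasiCompactMor_of_univOpen {X Y Y' X' : Sp S} (hX : IsAlgSpace X) (hY : IsAlgSpace Y)
    (hY' : IsAlgSpace Y') {f : X ⟶ Y} {g : Y' ⟶ Y} {fst : X' ⟶ X} {f' : X' ⟶ Y'}
    (sq : IsPullback fst f' f g) (hg : IsUnivOpenMor g) (hgs : IsSurjectiveMor g)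
    (hf' : IsQuasiCompactMor f') : IsQuasiCompactMor f := by
  refine isQuasiCompactMor_of_affine hX hY f fun W hW g₀ P fst₀ snd₀ sqP => ?_
  have hP : IsAlgSpace P := isAlgSpace_of_isPullback_space hY hX (IsAlgSpace.yon_obj W) sqP
  have sqV := IsPullback.of_hasPullback g g₀
  have hV : IsAlgSpace (pullback g g₀) := isAlgSpace_of_isPullback_space hY hY' (IsAlgSpace.yon_obj W) sqV
  obtain ⟨U, π, ι, O, hπ, hπs, hO, -, hcov⟩ := exists_affine_chart_family hV
  have hopen : IsOpenMap (Points.map (pullback.snd g g₀)) := hg (IsAlgSpace.yon_obj W) g₀ _ _ sqV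
  let Oi : ι → Set (Points ((yon S).obj W)) := fun i =>
    Points.map (pullback.snd g g₀) '' (Points.ofPt π '' (O i : Set U.left))
  have hOi : ∀ i, IsOpen (Oi i) := fun i =>
    hopen _ (isOpenMap_ofPt (repWith_universallyOpen_of_etale hπ) _ (O i).2)
  have : CompactSpace (Points ((yon S).obj W)) := compactSpace_of_isQuasiCompactSp (isQuasiCompactSp_yon W)
  obtain ⟨t, ht⟩ := isCompact_univ.elim_finite_subcover Oi hOi (fun w _ => by
    obtain ⟨v, rfl⟩ := isSurjectiveMor_baseChange sqV hgs w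
    obtain ⟨u, rfl⟩ := ofPt_surjective hπs v
    obtain ⟨i, hi⟩ := hcov u
    exact Set.mem_iUnion.2 ⟨i, _, ⟨u, hi, rfl⟩, rfl⟩)
  let Z : t → Over S := fun i => Over.mk ((O i.1).ι ≫ U.hom)
  let a : ∀ i, (yon S).obj (Z i) ⟶ pullback g g₀ := fun i =>
    (yon S).map (Over.homMk (O i.1).ι rfl : Z i ⟶ U) ≫ π
  let b : ∀ i, (yon S).obj (Z i) ⟶ (yon S).obj W := fun i => a i ≫ pullback.snd g g₀
  have hT : ∀ i, IsQuasiCompactSp (pullback snd₀ (b i)) := by
    intro i
    have : IsAffine (Z i).left := (hO i.1 : IsAffine (O i.1).toScheme)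
    have h1 : IsPullback (pullback.fst snd₀ (b i) ≫ fst₀) (pullback.snd snd₀ (b i)) f
        ((a i ≫ pullback.fst g g₀) ≫ g) := by
      rw [Category.assoc, pullback.condition, ← Category.assoc]
      exact (IsPullback.of_hasPullback snd₀ (b i)).paste_horiz sqP
    let l := sq.lift (pullback.fst snd₀ (b i) ≫ fst₀) (pullback.snd snd₀ (b i) ≫ a i ≫ pullback.fst g g₀)
      (h1.w.trans (Category.assoc _ _ _).symm)
    have h2 : IsPullback l (pullback.snd snd₀ (b i)) f' (a i ≫ pullback.fst g g₀) :=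
      IsPullback.of_right (by rw [sq.lift_fst]; exact h1) (sq.lift_snd _ _ _) sq
    exact hf' (IsAlgSpace.yon_obj _) (isQuasiCompactSp_yon _) _ l _ h2
  refine isQuasiCompactSp_of_cofan hP (fun i => pullback.fst snd₀ (b i)) (fun x => ?_) hT
  obtain ⟨i, hi, v, ⟨u, hu, rfl⟩, hvw⟩ := Set.mem_iUnion₂.1 (ht (Set.mem_univ (Points.map snd₀ x)))
  obtain ⟨p, hp, -⟩ := exists_point_of_isPullback (IsPullback.of_hasPullback snd₀ (b ⟨i, hi⟩)) x
    (Points.ofScheme (Z ⟨i, hi⟩) (⟨u, hu⟩ : ↥(O i))) (by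
      rw [← hvw, Points.map_ofPt]
      show _ = Points.map _ (Points.ofPt (𝟙 _) _)
      rw [Points.map_ofPt, Category.id_comp]
      show Points.ofPt (π ≫ pullback.snd g g₀) u = Points.ofPt (((yon S).map _ ≫ π) ≫ pullback.snd g g₀) _
      rw [Category.assoc, ofPt_comp]
      rfl)
  exact ⟨⟨i, hi⟩, p, hp⟩

/-- quasi-compact morphisms pull compact opens back to compact sets -/
theorem isCompact_preimage {X Y : Sp S} (hY : IsAlgSpace Y) {f : X ⟶ Y} (hf : IsQuasiCompactMor f)
    (V : Set (Points Y)) (hV : IsOpen V) (hVc : IsCompact V) : IsCompact (Points.map f ⁻¹' V) := by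
  obtain ⟨U, π, hπ, hπs⟩ := hY.atlas
  let ι := {O : U.left.Opens // IsAffineOpen O ∧ (O : Set U.left) ⊆ Points.ofPt π ⁻¹' V}
  obtain ⟨t, ht⟩ := hVc.elim_finite_subcover (fun O : ι => Points.ofPt π '' (O.1 : Set U.left))
    (fun O => isOpenMap_ofPt (repWith_universallyOpen_of_etale hπ) _ O.1.2) (fun y hy => by
      obtain ⟨u, rfl⟩ := ofPt_surjective hπs y
      obtain ⟨O, hO, huO, hOV⟩ := exists_isAffineOpen_mem_and_subset
        (U := ⟨Points.ofPt π ⁻¹' V, hV.preimage (Points.continuous_ofPt π)⟩) hy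
      exact Set.mem_iUnion.2 ⟨⟨O, hO, hOV⟩, u, huO, rfl⟩)
  let Z : t → Over S := fun O => Over.mk (O.1.1.ι ≫ U.hom)
  let a : ∀ O, (yon S).obj (Z O) ⟶ Y := fun O => (yon S).map (Over.homMk O.1.1.ι rfl : Z O ⟶ U) ≫ π
  have hset : Points.map f ⁻¹' V = ⋃ O : t, Set.range (Points.map (pullback.fst f (a O))) := by
    ext x
    constructor
    · intro hx
      obtain ⟨O, hO, u, hu, hux⟩ := Set.mem_iUnion₂.1 (ht hx)
      obtain ⟨p, hp, -⟩ := exists_point_of_isPullback (IsPullback.of_hasPullback f (a ⟨O, hO⟩)) x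
        (Points.ofScheme (Z ⟨O, hO⟩) (⟨u, hu⟩ : ↥O.1)) (by
          rw [← hux, Points.map_ofPt, Category.id_comp, ofPt_comp]
          rfl)
      exact Set.mem_iUnion.2 ⟨⟨O, hO⟩, p, hp⟩
    · intro hx
      obtain ⟨O, p, rfl⟩ := Set.mem_iUnion.1 hx
      obtain ⟨w, hw⟩ := (Points.schemeEquiv (Z O)).surjective (Points.map (pullback.snd f (a O)) p)
      show Points.map f (Points.map (pullback.fst f (a O)) p) ∈ V
      rw [← Points.map_comp, pullback.condition, Points.map_comp, ← hw]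
      show Points.map (a O) (Points.ofPt (𝟙 _) w) ∈ V
      rw [Points.map_ofPt, Category.id_comp, ofPt_comp]
      exact O.1.2.2 (Subtype.prop (p := fun u => u ∈ O.1.1) w)
  rw [hset]
  refine isCompact_iUnion fun O => ?_
  have : IsAffine (Z O).left := (O.1.2.1 : IsAffine O.1.1.toScheme)
  have := compactSpace_of_isQuasiCompactSp
    (hf (IsAlgSpace.yon_obj _) (isQuasiCompactSp_yon (Z O)) (a O) _ _ (IsPullback.of_hasPullback f (a O)))
  exact isCompact_range (Points.continuous_map _)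

end Groth.Agent.SpQS
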