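import Groth.Agent.AlgSpLib.Presentation
import Groth.Agent.Grpd.SheafQuot
import Groth.Agent.AlgSpLib.Subspace

/-!
# The groupoid of a kernel pair and its quotient as a subspace
-/

universe u

open CategoryTheory CategoryTheory.Limits AlgebraicGeometry Opposite

set_option backward.isDefEq.respectTransparency false

namespace Groth.Agent.SpQS

open _root_.AlgSp Groth.Agent.AlgSpLib

variable {S : Scheme.{u}}

/-- a factor through a monomorphism in a cartesian square -/
theorem isPullback_factor_mono {C : Type*} [Category C] {P X X' Y Z : C} {fst : P ⟶ X'} {snd : P ⟶ Y}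
    {i : X' ⟶ X} [Mono i] {f : X ⟶ Z} {g : Y ⟶ Z} (h : IsPullback (fst ≫ i) snd f g) :
    IsPullback fst snd (i ≫ f) g := by
  have hw : fst ≫ i ≫ f = snd ≫ g := by rw [← Category.assoc]; exact h.w
  refine ⟨⟨hw⟩, ⟨PullbackCone.IsLimit.mk hw (fun c => h.lift (c.fst ≫ i) c.snd (by
    rw [Category.assoc]; exact c.condition)) ?_ ?_ ?_⟩⟩
  · intro c
    apply (cancel_mono i).1
    rw [Category.assoc, h.lift_fst]
  · intro c; exact h.lift_snd _ _ _
  · intro c m h1 h2
    exact h.hom_ext (by rw [h.lift_fst, reassoc_of% h1]) (h2.trans (h.lift_snd _ _ _).symm)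

/-- a finite flat kernel pair whose orbits lie in affines has a scheme quotient -/
theorem exists_kernel_quotient {X : Sp S} {U R : Over S} {c : (yon S).obj U ⟶ X}
    {t s : R ⟶ U} (sq : IsPullback ((yon S).map t) ((yon S).map s) c c)
    [IsFinite s.left] [Flat s.left] [LocallyOfFinitePresentation s.left]
    (horb : ∀ v : U.left, ∃ W : U.left.Opens, IsAffineOpen W ∧ ∀ r : R.left, s.left r = v → t.left r ∈ W) :
    ∃ (M : Over S) (m : U ⟶ M), IsFinite m.left ∧ Flat m.left ∧ LocallyOfFinitePresentation m.left ∧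
      Surjective m.left ∧ IsPullback ((yon S).map t) ((yon S).map s) ((yon S).map m) ((yon S).map m) := by
  have hext : ∀ {T : Scheme.{u}} (x y : T ⟶ R.left), x ≫ t.left = y ≫ t.left → x ≫ s.left = y ≫ s.left →
      x = y := by
    intro T x y e₁ e₂
    let x' : Over.mk (x ≫ R.hom) ⟶ R := Over.homMk x rfl
    let y' : Over.mk (x ≫ R.hom) ⟶ R := Over.homMk y (by
      show y ≫ R.hom = x ≫ R.hom
      rw [← Over.w t, reassoc_of% e₁])
    have h : (yon S).map x' = (yon S).map y' := sq.hom_ext
      (by rw [← Functor.map_comp, ← Functor.map_comp]; exact congrArg _ (Over.OverMorphism.ext e₁))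
      (by rw [← Functor.map_comp, ← Functor.map_comp]; exact congrArg _ (Over.OverMorphism.ext e₂))
    exact congrArg (fun k => k.left) ((yon S).map_injective h)
  have hlift : ∀ {T : Over S} (a b : T ⟶ U), (yon S).map a ≫ c = (yon S).map b ≫ c →
      ∃ l : T ⟶ R, l.left ≫ t.left = a.left ∧ l.left ≫ s.left = b.left := by
    intro T a b e
    obtain ⟨l, hl⟩ := exists_map_eq (sq.lift _ _ e)
    have h₁ : l ≫ t = a := (yon S).map_injective (by rw [Functor.map_comp, hl, sq.lift_fst])
    have h₂ : l ≫ s = b := (yon S).map_injective (by rw [Functor.map_comp, hl, sq.lift_snd])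
    exact ⟨l, congrArg (fun k => k.left) h₁, congrArg (fun k => k.left) h₂⟩
  obtain ⟨e, het, hes⟩ := hlift (𝟙 U) (𝟙 U) rfl
  obtain ⟨i, hit, his⟩ := hlift s t sq.w.symm
  let P : Over S := Over.mk (pullback.fst s.left t.left ≫ R.hom)
  let π₁ : P ⟶ R := Over.homMk (pullback.fst s.left t.left) rfl
  let π₂ : P ⟶ R := Over.homMk (pullback.snd s.left t.left) (by
    show pullback.snd s.left t.left ≫ R.hom = pullback.fst s.left t.left ≫ R.hom
    rw [← Over.w t, ← pullback.condition_assoc, Over.w t, Over.w s])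
  have hπ : π₁ ≫ s = π₂ ≫ t := Over.OverMorphism.ext pullback.condition
  obtain ⟨cm, hct, hcs⟩ := hlift (π₁ ≫ t) (π₂ ≫ s) (by
    rw [Functor.map_comp_assoc, Functor.map_comp_assoc, sq.w, ← Functor.map_comp_assoc, hπ,
      Functor.map_comp_assoc, sq.w])
  have hcs' : ∀ {T : Scheme.{u}} (α β : T ⟶ R.left) (h : α ≫ s.left = β ≫ t.left),
      (pullback.lift α β h ≫ cm.left) ≫ s.left = β ≫ s.left := fun α β h => by
    rw [Category.assoc, hcs]
    exact (Category.assoc _ _ _).symm.trans (congrArg (· ≫ s.left) (pullback.lift_snd α β h))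
  have hct' : ∀ {T : Scheme.{u}} (α β : T ⟶ R.left) (h : α ≫ s.left = β ≫ t.left),
      (pullback.lift α β h ≫ cm.left) ≫ t.left = α ≫ t.left := fun α β h => by
    rw [Category.assoc, hct]
    exact (Category.assoc _ _ _).symm.trans (congrArg (· ≫ t.left) (pullback.lift_fst α β h))
  have he_s : e.left ≫ s.left = 𝟙 _ := hes
  have he_t : e.left ≫ t.left = 𝟙 _ := het
  let G : Grpd.GroupoidScheme S :=
    { U := U.left
      R := R.left
      pU := U.hom
      pR := R.hom
      s := s.left
      t := t.left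
      e := e.left
      i := i.left
      c := cm.left
      s_over := Over.w s
      t_over := Over.w t
      comp_s := hcs'
      comp_t := hct'
      assoc := fun α β γ h₁ h₂ => hext _ _ (by simp only [hct']) (by simp only [hcs'])
      e_s := he_s
      e_t := he_t
      comp_e := fun α => hext _ _ (hct' _ _ _) ((hcs' _ _ _).trans (by
        rw [Category.assoc, Category.assoc, he_s, Category.comp_id]))
      e_comp := fun α => hext _ _ ((hct' _ _ _).trans (by
        rw [Category.assoc, Category.assoc, he_t, Category.comp_id])) (hcs' _ _ _)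
      i_s := his
      i_t := hit
      comp_i := fun α => hext _ _ ((hct' _ _ _).trans (by
        rw [Category.assoc, Category.assoc, he_t, Category.comp_id])) ((hcs' _ _ _).trans (by
        rw [Category.assoc, his, Category.assoc, Category.assoc, he_s, Category.comp_id]))
      i_comp := fun α => hext _ _ ((hct' _ _ _).trans (by
        rw [Category.assoc, hit, Category.assoc, Category.assoc, he_t, Category.comp_id]))
        ((hcs' _ _ _).trans (by rw [Category.assoc, Category.assoc, he_s, Category.comp_id])) }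
  have : IsFinite G.s := ‹IsFinite s.left›
  have : Flat G.s := ‹Flat s.left›
  have : LocallyOfFinitePresentation G.s := ‹LocallyOfFinitePresentation s.left›
  have : Mono G.j := ⟨fun {T} x y h => by
    have e₁ : G.j ≫ pullback.fst _ _ = G.t := pullback.lift_fst _ _ _
    have e₂ : G.j ≫ pullback.snd _ _ = G.s := pullback.lift_snd _ _ _
    refine hext x y ?_ ?_
    · show x ≫ G.t = y ≫ G.t
      rw [← e₁]
      exact (Category.assoc _ _ _).symm.trans ((congrArg (· ≫ _) h).trans (Category.assoc _ _ _))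
    · show x ≫ G.s = y ≫ G.s
      rw [← e₂]
      exact (Category.assoc _ _ _).symm.trans ((congrArg (· ≫ _) h).trans (Category.assoc _ _ _))⟩
  have hG : GrpdLib.OrbitsAffine G := fun v => by
    obtain ⟨W, hW, hWv⟩ := horb v
    refine ⟨W, hW, ?_⟩
    rintro _ ⟨r, hr, rfl⟩
    exact hWv r hr
  obtain ⟨M, m, ⟨hmfin, hmf, hmp⟩, hpb, hq⟩ := GrpdLib.exists_quotient_fppf hG
  let m' : U ⟶ M := Over.homMk m.left (Over.w m)
  have : Flat m'.left := hmf
  have : LocallyOfFinitePresentation m'.left := hmp
  have : Surjective m'.left := QuotShLib.fppf_of_isQuotient_surjective hq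
  exact ⟨M, m', hmfin, hmf, hmp, ‹_›, isPullback_yon_iff.2 hpb⟩

/-- the morphism from a quotient by a kernel pair is a monomorphism -/
theorem exists_mono_desc {X : Sp S} {U R M : Over S} {c : (yon S).obj U ⟶ X} {t s : R ⟶ U}
    (sq : IsPullback ((yon S).map t) ((yon S).map s) c c) (m : U ⟶ M) [Flat m.left] [Surjective m.left]
    [LocallyOfFinitePresentation m.left]
    (sqM : IsPullback ((yon S).map t) ((yon S).map s) ((yon S).map m) ((yon S).map m)) :
    ∃ f : (yon S).obj M ⟶ X, (yon S).map m ≫ f = c ∧ Mono f := by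
  have := isLocallySurjective_yon_map m
  obtain ⟨hcol⟩ := isColimit_of_isPullback sqM
  let f := Cofork.IsColimit.desc hcol c sq.w
  have hf : (yon S).map m ≫ f = c := Cofork.IsColimit.π_desc' hcol _ _
  refine ⟨f, hf, mono_of_points f fun T a b e => ?_⟩
  obtain ⟨R₁, hR₁, hl₁⟩ := exists_lift_cover ((yon S).map m) a
  refine hom_ext_cover hR₁ fun Z g hg => ?_
  obtain ⟨l₁, hl₁'⟩ := hl₁ g hg
  obtain ⟨R₂, hR₂, hl₂⟩ := exists_lift_cover ((yon S).map m)
    ((yon S).map (Over.homMk g rfl : Over.mk (g ≫ T.hom) ⟶ T) ≫ b)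
  refine hom_ext_cover hR₂ fun Z' g' hg' => ?_
  obtain ⟨l₂, hl₂'⟩ := hl₂ g' hg'
  have hp : ((yon S).map (Over.homMk g' rfl : Over.mk (g' ≫ _) ⟶ Over.mk (g ≫ T.hom)) ≫ l₁) ≫ c =
      l₂ ≫ c := by
    rw [← hf, ← Category.assoc l₂, hl₂', Category.assoc, reassoc_of% hl₁']
    simp only [Category.assoc, e]
  rw [← hl₁', ← hl₂', ← Category.assoc, ← sq.lift_fst _ _ hp, Category.assoc, sqM.w, ← Category.assoc,
    sq.lift_snd]

/-- the quotient of a chart with finite kernel pair whose orbits lie in affines is a scheme -/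
theorem exists_scheme_quotient {X : Sp S} (hX : IsAlgSpace X) {U R : Over S} {c : (yon S).obj U ⟶ X}
    (hce : RepWith @Etale c) {t s : R ⟶ U} (sq : IsPullback ((yon S).map t) ((yon S).map s) c c)
    [IsFinite s.left]
    (horb : ∀ v : U.left, ∃ W : U.left.Opens, IsAffineOpen W ∧ ∀ r : R.left, s.left r = v → t.left r ∈ W) :
    ∃ (M : Over S) (f : (yon S).obj M ⟶ X), RepWith @IsOpenImmersion f ∧
      Set.range (Points.map f) = Set.range (Points.ofPt c) := by
  have hse : Etale s.left := (repWith_yon_iff s).1 (repWith_baseChange sq hce)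
  obtain ⟨M, m', _, _, _, _, sqM⟩ := exists_kernel_quotient sq horb
  have := isLocallySurjective_yon_map m'
  obtain ⟨hcolM⟩ := isColimit_of_isPullback sqM
  let Wset : Set (Points X) := Set.range (Points.ofPt c)
  have hWo : IsOpen Wset := by
    rw [show Wset = Points.ofPt c '' Set.univ from Set.image_univ.symm]
    exact isOpenMap_ofPt (repWith_universallyOpen_of_etale hce) _ isOpen_univ
  obtain ⟨c₁, hc₁⟩ := exists_factor_subInc (W := Wset) c (fun x => by
    obtain ⟨v, rfl⟩ := (Points.schemeEquiv U).surjective x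
    show Points.map c (Points.ofPt (𝟙 _) v) ∈ Wset
    rw [Points.map_ofPt, Category.id_comp]
    exact ⟨v, rfl⟩)
  have sqc : IsPullback ((yon S).map t) ((yon S).map s) c₁ c₁ := by
    have h : IsPullback ((yon S).map t) ((yon S).map s) (c₁ ≫ subInc Wset) (c₁ ≫ subInc Wset) := by
      rw [hc₁]; exact sq
    refine IsPullback.of_isLimit' ⟨(cancel_mono (subInc Wset)).1 (by simpa only [Category.assoc] using h.w)⟩
      (PullbackCone.IsLimit.mk _ (fun d => h.lift d.fst d.snd (by
        rw [← Category.assoc, ← Category.assoc, d.condition])) ?_ ?_ ?_)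
    · intro d; exact h.lift_fst _ _ _
    · intro d; exact h.lift_snd _ _ _
    · intro d n h1 h2; exact h.hom_ext (h1.trans (h.lift_fst _ _ _).symm) (h2.trans (h.lift_snd _ _ _).symm)
  have sqb : IsPullback (𝟙 _) c₁ c (subInc Wset) := by
    refine IsPullback.of_isLimit' ⟨by rw [Category.id_comp, hc₁]⟩
      (PullbackCone.IsLimit.mk _ (fun d => d.fst) (fun d => Category.comp_id _) (fun d => ?_) ?_)
    · apply (cancel_mono (subInc Wset)).1
      rw [Category.assoc, hc₁, d.condition]
    · intro d n h1 _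
      simpa using h1
  have he₁ : RepWith @Etale c₁ := repWith_baseChange sqb hce
  have hsurj : RepWith @Surjective c₁ := repWith_surjective_of_isSurjectiveMor he₁.1 fun x => by
    obtain ⟨v, hv⟩ := map_subInc_mem x
    obtain ⟨y, -, hy⟩ := exists_point_of_isPullback sqb (Points.ofScheme U v) x (by
      show Points.map c (Points.ofPt (𝟙 _) v) = _
      rw [Points.map_ofPt, Category.id_comp]
      exact hv)
    exact ⟨y, hy⟩
  have := isLocallySurjective_of_atlas he₁ hsurj
  obtain ⟨hcolW⟩ := isColimit_of_isPullback sqc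
  let ε := hcolM.coconePointUniqueUpToIso hcolW
  refine ⟨M, ε.hom ≫ subInc Wset, (repWith_iso_comp_iff _ _).2 (repWith_subInc hWo), ?_⟩
  refine Set.Subset.antisymm ?_ ?_
  · rintro _ ⟨x, rfl⟩
    rw [Points.map_comp]
    exact map_subInc_mem _
  · rintro _ ⟨v, rfl⟩
    refine ⟨Points.ofPt ((yon S).map m') v, ?_⟩
    have hε : (yon S).map m' ≫ ε.hom = c₁ :=
      hcolM.comp_coconePointUniqueUpToIso_hom hcolW WalkingParallelPair.one
    rw [Points.map_ofPt, reassoc_of% hε, hc₁]

end Groth.Agent.SpQS
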