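import Groth.Agent.SpQS.FinDeg
import Groth.Agent.SpQS.KerGrpd
import Groth.Agent.ValLib.DecentX
import Groth.Agent.AlgSpLib.Glue

/-!
# Decent spaces contain dense open schemes
-/

universe u

open CategoryTheory CategoryTheory.Limits AlgebraicGeometry Opposite IsLocalRing

set_option backward.isDefEq.respectTransparency false

namespace Groth.Agent.SpQS

open _root_.AlgSp Groth.Agent.AlgSpLib

variable {S : Scheme.{u}}

/-- the relation of a chart by an affine scheme is separated over the chart -/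
theorem isSeparated_snd_of_chart {X : Sp S} {U R : Over S} [IsAffine U.left] {a : (yon S).obj U ⟶ X}
    {p q : R ⟶ U} (sqR : IsPullback ((yon S).map p) ((yon S).map q) a a) : IsSeparated q.left := by
  have hw : p.left ≫ U.hom = q.left ≫ U.hom := (Over.w p).trans (Over.w q).symm
  let j : R.left ⟶ pullback U.hom U.hom := pullback.lift p.left q.left hw
  have : Mono j := ⟨fun {T} g g' e => by
    have e₁ : g ≫ p.left = g' ≫ p.left := by simpa [j] using congrArg (· ≫ pullback.fst U.hom U.hom) e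
    have e₂ : g ≫ q.left = g' ≫ q.left := by simpa [j] using congrArg (· ≫ pullback.snd U.hom U.hom) e
    let G : Over.mk (g ≫ R.hom) ⟶ R := Over.homMk g rfl
    let G' : Over.mk (g ≫ R.hom) ⟶ R := Over.homMk g' (by
      show g' ≫ R.hom = g ≫ R.hom
      rw [← Over.w p, reassoc_of% e₁])
    have h : (yon S).map G = (yon S).map G' := sqR.hom_ext
      (by rw [← Functor.map_comp, ← Functor.map_comp]; exact congrArg _ (Over.OverMorphism.ext e₁))
      (by rw [← Functor.map_comp, ← Functor.map_comp]; exact congrArg _ (Over.OverMorphism.ext e₂))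
    exact congrArg (fun t => t.left) ((yon S).map_injective h)⟩
  have : IsSeparated U.hom := by
    have : IsSeparated (U.hom ≫ terminal.from S) := inferInstance
    exact IsSeparated.of_comp U.hom (terminal.from S)
  rw [show q.left = j ≫ pullback.snd U.hom U.hom from (pullback.lift_snd _ _ hw).symm]
  infer_instance

/-- base change along two equivalent maps into a chart gives isomorphic schemes -/
theorem isFinite_pullback_snd_of_equiv {X : Sp S} {U R Z : Over S} {a : (yon S).obj U ⟶ X} {p q : R ⟶ U}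
    (sqR : IsPullback ((yon S).map p) ((yon S).map q) a a) (h₁ h₂ : Z ⟶ U)
    (e : (yon S).map h₁ ≫ a = (yon S).map h₂ ≫ a) (hf : IsFinite (pullback.snd q.left h₂.left)) :
    IsFinite (pullback.snd q.left h₁.left) := by
  have key : ∀ h : Z ⟶ U, ∃ (V : Over S) (w : V ⟶ U) (v : V ⟶ Z),
      IsPullback ((yon S).map w) ((yon S).map v) a ((yon S).map h ≫ a) ∧
        (IsFinite v.left ↔ IsFinite (pullback.snd q.left h.left)) := by
    intro h
    let vR : Over.mk (pullback.fst q.left h.left ≫ R.hom) ⟶ R := Over.homMk (pullback.fst q.left h.left) rfl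
    let v : Over.mk (pullback.fst q.left h.left ≫ R.hom) ⟶ Z := Over.homMk (pullback.snd q.left h.left) (by
      show pullback.snd q.left h.left ≫ Z.hom = pullback.fst q.left h.left ≫ R.hom
      rw [← Over.w q, ← Over.w h]
      exact (pullback.condition_assoc _).symm)
    refine ⟨_, vR ≫ p, v, ?_, Iff.rfl⟩
    rw [Functor.map_comp]
    exact (isPullback_yon_iff.2 (IsPullback.of_hasPullback q.left h.left)).paste_horiz sqR
  obtain ⟨V₁, w₁, v₁, sq₁, i₁⟩ := key h₁
  obtain ⟨V₂, w₂, v₂, sq₂, i₂⟩ := key h₂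
  rw [← e] at sq₂
  let ε := (yon S).preimageIso (sq₁.isoIsPullback _ _ sq₂)
  have hε : ε.hom ≫ v₂ = v₁ := (yon S).map_injective (by
    rw [Functor.map_comp, show (yon S).map ε.hom = (sq₁.isoIsPullback _ _ sq₂).hom from
      (yon S).map_preimage _]
    exact sq₁.isoIsPullback_hom_snd _ _ sq₂)
  have : IsIso ε.hom.left := inferInstanceAs (IsIso ((Over.forget S).map ε.hom))
  refine i₁.1 ?_
  rw [← hε, Over.comp_left, MorphismProperty.cancel_left_of_respectsIso (P := @IsFinite)]
  exact i₂.2 hf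

/-- an open scheme around a point of constant degree of the relation -/
theorem exists_schematic_of_stratum {X : Sp S} (hX : IsAlgSpace X) {U : Over S} [IsAffine U.left]
    {a : (yon S).obj U ⟶ X} (hae : RepWith @Etale a) {R : Over S} {p q : R ⟶ U}
    (sqR : IsPullback ((yon S).map p) ((yon S).map q) a a) (m : ℕ) (W₁ : U.left.Opens)
    (hW₁ : ∀ v ∈ W₁, DegLE m q.left v) (hmin : ∀ v ∈ W₁, ∀ k, m = k + 1 → ¬ DegLE k q.left v) {u : U.left}
    (hu : u ∈ W₁) : ∃ (M : Over S) (f : (yon S).obj M ⟶ X), RepWith @IsOpenImmersion f ∧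
      Set.range (Points.map f) ⊆ Set.range (Points.ofPt a) ∧ Points.ofPt a u ∈ Set.range (Points.map f) := by
  have : Etale q.left := (repWith_yon_iff q).1 (repWith_baseChange sqR hae)
  have : Etale p.left := (repWith_yon_iff p).1 (repWith_baseChange sqR.flip hae)
  have : IsSeparated q.left := isSeparated_snd_of_chart sqR
  have hPo : IsOpenMap (Points.ofPt a) := isOpenMap_ofPt (repWith_universallyOpen_of_etale hae)
  obtain ⟨V₀, huV₀, hV₀⟩ := exists_compact_preimage _ q.left isClosed_univ W₁ (fun v hv _ => hW₁ v hv) u hu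
    trivial (hmin u hu)
  obtain ⟨V, hV, huV, hVW⟩ := exists_isAffineOpen_mem_and_subset (U := V₀ ⊓ W₁) (x := u) ⟨huV₀, hu⟩
  let T : R.left.Opens := q.left ⁻¹ᵁ V
  have hK : IsCompact (T : Set R.left) := by
    have := hV₀ V hV.isCompact (fun v hv => (hVW hv).1)
    rwa [Set.inter_univ] at this
  have : CompactSpace T.toScheme := isCompact_iff_compactSpace.1 hK
  have : IsAffine V.toScheme := hV
  have : QuasiCompact (q.left ∣_ V) := HasAffineProperty.iff_of_isAffine.mpr ‹CompactSpace T.toScheme›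
  have : IsSeparated (q.left ∣_ V) := IsZariskiLocalAtTarget.restrict ‹IsSeparated q.left› _
  have : Etale (q.left ∣_ V) := IsZariskiLocalAtTarget.restrict ‹Etale q.left› _
  have sqV : IsPullback T.ι (q.left ∣_ V) q.left V.ι := (isPullback_morphismRestrict q.left V).flip
  have hfinV : IsFinite (q.left ∣_ V) := isFinite_of_degree m (q.left ∣_ V)
    (fun v => (degLE_iff_of_isPullback sqV _ v).2 (hW₁ _ (hVW v.2).2))
    (fun v k hk hd' => hmin _ (hVW v.2).2 k hk ((degLE_iff_of_isPullback sqV _ v).1 hd'))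
  let sat : U.left.Opens := ⟨Set.range (T.ι ≫ p.left), (T.ι ≫ p.left).isOpenMap.isOpen_range⟩
  have hsat : ∀ v : U.left, v ∈ sat ↔ ∃ w ∈ V, Points.ofPt a v = Points.ofPt a w := by
    intro v
    constructor
    · rintro ⟨r, rfl⟩
      exact ⟨q.left (T.ι r), r.2, (ofPt_eq_iff sqR _ _).2 ⟨T.ι r, (Scheme.Hom.comp_apply _ _ _).symm, rfl⟩⟩
    · rintro ⟨w, hw, e⟩
      obtain ⟨r, hr₁, hr₂⟩ := (ofPt_eq_iff sqR v w).1 e
      exact ⟨(⟨r, show q.left r ∈ V by rw [hr₂]; exact hw⟩ : ↥T), (Scheme.Hom.comp_apply _ _ _).trans hr₁⟩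
  let To : Over S := Over.mk (T.ι ≫ R.hom)
  let ιT : To ⟶ R := Over.homMk T.ι rfl
  have hfinT : IsFinite (pullback.snd q.left (T.ι ≫ p.left)) := by
    refine isFinite_pullback_snd_of_equiv sqR (ιT ≫ p) (ιT ≫ q)
      (by rw [Functor.map_comp, Functor.map_comp, Category.assoc, Category.assoc, sqR.w]) ?_
    show IsFinite (pullback.snd q.left (T.ι ≫ q.left))
    rw [← morphismRestrict_ι]
    let l := sqV.lift (pullback.fst q.left ((q.left ∣_ V) ≫ V.ι))
      (pullback.snd q.left ((q.left ∣_ V) ≫ V.ι) ≫ (q.left ∣_ V)) (by rw [Category.assoc, pullback.condition])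
    have sql : IsPullback l (pullback.snd q.left ((q.left ∣_ V) ≫ V.ι)) (q.left ∣_ V) (q.left ∣_ V) :=
      IsPullback.of_right (by rw [sqV.lift_fst]; exact IsPullback.of_hasPullback _ _) (sqV.lift_snd _ _ _) sqV
    exact MorphismProperty.of_isPullback (P := @IsFinite) sql hfinV
  -- descend finiteness to the saturation
  have : Etale (T.ι ≫ p.left) := inferInstance
  have hsatc : IsCompact (sat : Set U.left) := isCompact_range (T.ι ≫ p.left).continuous
  have : CompactSpace sat.toScheme := isCompact_iff_compactSpace.1 hsatc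
  have : QuasiSeparatedSpace sat.toScheme := quasiSeparatedSpace_of_quasiSeparated sat.ι
  have hr : Set.range (T.ι ≫ p.left) ⊆ Set.range sat.ι := by rw [Scheme.Opens.range_ι]; exact subset_rfl
  let k := IsOpenImmersion.lift sat.ι (T.ι ≫ p.left) hr
  have hk : k ≫ sat.ι = T.ι ≫ p.left := IsOpenImmersion.lift_fac _ _ _
  have : Etale k := by
    have : Etale (k ≫ sat.ι) := by rw [hk]; infer_instance
    exact MorphismProperty.of_postcomp (W := @Etale) (W' := @Etale) k sat.ι inferInstance ‹_›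
  have : Surjective k := ⟨fun v => by
    obtain ⟨r, hr'⟩ := v.2
    refine ⟨r, Subtype.ext ?_⟩
    show sat.ι (k r) = _
    rw [← Scheme.Hom.comp_apply, hk]
    exact hr'⟩
  have : QuasiCompact k := inferInstance
  have sqSat : IsPullback (q.left ⁻¹ᵁ sat).ι (q.left ∣_ sat) q.left sat.ι :=
    (isPullback_morphismRestrict q.left sat).flip
  have hfinsat : IsFinite (q.left ∣_ sat) := by
    let l := sqSat.lift (pullback.fst q.left (T.ι ≫ p.left)) (pullback.snd q.left (T.ι ≫ p.left) ≫ k) (by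
      rw [Category.assoc, hk, pullback.condition])
    have sql : IsPullback l (pullback.snd q.left (T.ι ≫ p.left)) (q.left ∣_ sat) k :=
      IsPullback.of_right (by rw [sqSat.lift_fst, hk]; exact IsPullback.of_hasPullback _ _)
        (sqSat.lift_snd _ _ _) sqSat
    exact MorphismProperty.of_isPullback_of_descendsAlong (Q := @Surjective ⊓ @Flat ⊓ @QuasiCompact)
      sql.flip ⟨⟨‹_›, inferInstance⟩, ‹_›⟩ hfinT
  -- the kernel pair of the saturation
  let Us : Over S := Over.mk (sat.ι ≫ U.hom)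
  let iU : Us ⟶ U := Over.homMk sat.ι rfl
  let Rs : Over S := Over.mk ((q.left ⁻¹ᵁ sat).ι ≫ R.hom)
  let iR : Rs ⟶ R := Over.homMk (q.left ⁻¹ᵁ sat).ι rfl
  let s' : Rs ⟶ Us := Over.homMk (q.left ∣_ sat) (by
    show (q.left ∣_ sat) ≫ sat.ι ≫ U.hom = (q.left ⁻¹ᵁ sat).ι ≫ R.hom
    rw [morphismRestrict_ι_assoc, Over.w q])
  have hp_mem : Set.range ((q.left ⁻¹ᵁ sat).ι ≫ p.left) ⊆ Set.range sat.ι := by
    rw [Scheme.Opens.range_ι]
    rintro _ ⟨r, rfl⟩
    obtain ⟨w, hw, e⟩ := (hsat _).1 r.2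
    exact (hsat _).2 ⟨w, hw, ((ofPt_eq_iff sqR _ _).2 ⟨r.1, rfl, rfl⟩).trans e⟩
  let t' : Rs ⟶ Us := Over.homMk (IsOpenImmersion.lift sat.ι _ hp_mem) (by
    show _ ≫ sat.ι ≫ U.hom = (q.left ⁻¹ᵁ sat).ι ≫ R.hom
    rw [IsOpenImmersion.lift_fac_assoc, Category.assoc, Over.w p])
  have hti : t' ≫ iU = iR ≫ p := Over.OverMorphism.ext (IsOpenImmersion.lift_fac _ _ _)
  have : Mono iU.left := inferInstanceAs (Mono sat.ι)
  have : Mono iU := mono_of_left iU
  have : Mono ((yon S).map iU) := inferInstance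
  have sq' : IsPullback ((yon S).map t') ((yon S).map s') ((yon S).map iU ≫ a) ((yon S).map iU ≫ a) := by
    refine isPullback_factor_mono ?_
    rw [← Functor.map_comp, hti, Functor.map_comp]
    exact (isPullback_yon_iff.2 sqSat).paste_horiz sqR
  have : IsFinite s'.left := hfinsat
  have hce : RepWith @Etale ((yon S).map iU ≫ a) :=
    repWith_comp ((repWith_yon_iff _).2 (show Etale sat.ι from inferInstance)) hae
  obtain ⟨M, f, hf, hrange⟩ := exists_scheme_quotient hX hce sq' (fun v => by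
    obtain ⟨g, hgle, hgE⟩ := GrpdLib.exists_basicOpen_of_finite sat
      (((s'.left.finite_preimage_singleton v).image t'.left).image sat.ι) (by
        rintro _ ⟨w, -, rfl⟩
        exact w.2)
    refine ⟨sat.ι ⁻¹ᵁ U.left.basicOpen g,
      ((isAffineOpen_top U.left).basicOpen g).preimage_of_isOpenImmersion sat.ι (by
        rw [Scheme.Opens.opensRange_ι]; exact hgle), fun r hr => ?_⟩
    exact hgE ⟨_, ⟨r, hr, rfl⟩, rfl⟩)
  refine ⟨M, f, hf, ?_, ?_⟩
  · rw [hrange]
    rintro _ ⟨v, rfl⟩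
    rw [ofPt_comp]
    exact ⟨_, rfl⟩
  · rw [hrange]
    refine ⟨(⟨u, (hsat u).2 ⟨u, huV, rfl⟩⟩ : ↥sat), ?_⟩
    rw [ofPt_comp]
    rfl

/-- every nonempty open set of points of a decent space contains a nonempty open scheme -/
theorem exists_schematic_open {X : Sp S} (hX : IsAlgSpace X) (hd : IsDecent X) {O : Set (Points X)}
    (hO : IsOpen O) (hne : O.Nonempty) : ∃ (M : Over S) (f : (yon S).obj M ⟶ X),
      RepWith @IsOpenImmersion f ∧ Set.range (Points.map f) ⊆ O ∧ (Set.range (Points.map f)).Nonempty := by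
  classical
  obtain ⟨x, hx⟩ := hne
  obtain ⟨U₀, π, ι, Oi, hπ, hπs, -, -, -⟩ := exists_affine_chart_family hX
  obtain ⟨u₀, rfl⟩ := ofPt_surjective hπs x
  obtain ⟨A, hA, huA, hAO⟩ := exists_isAffineOpen_mem_and_subset
    (U := (⟨Points.ofPt π ⁻¹' O, hO.preimage (Points.continuous_ofPt π)⟩ : U₀.left.Opens)) (x := u₀) hx
  let U : Over S := Over.mk (A.ι ≫ U₀.hom)
  let inc : U ⟶ U₀ := Over.homMk A.ι rfl
  have : IsAffine U.left := (hA : IsAffine A.toScheme)
  obtain ⟨a, ha⟩ : ∃ a, a = (yon S).map inc ≫ π := ⟨_, rfl⟩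
  have hae : RepWith @Etale a := ha ▸
    repWith_comp ((repWith_yon_iff _).2 (show Etale A.ι from inferInstance)) hπ
  have hPO : ∀ v, Points.ofPt a v ∈ O := fun v => by
    rw [ha, ofPt_comp]
    exact hAO v.2
  have hfib : CompactFibres a := fun str y V p q sq => ValLib.compactSpace_fibre hX hd y sq
  have hPo : IsOpenMap (Points.ofPt a) := isOpenMap_ofPt (repWith_universallyOpen_of_etale hae)
  obtain ⟨R, p, q, sqR⟩ := exists_pullback hX.diag a a
  have : Etale q.left := (repWith_yon_iff q).1 (repWith_baseChange sqR hae)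
  have : Etale p.left := (repWith_yon_iff p).1 (repWith_baseChange sqR.flip hae)
  have : IsSeparated q.left := isSeparated_snd_of_chart sqR
  have hdeg : ∀ v : U.left, ∃ m, DegLE m q.left v := hfib.exists_degLE sqR
  have hex : ∃ m, ∃ W : U.left.Opens, (W : Set U.left).Nonempty ∧ ∀ v ∈ W, DegLE m q.left v := by
    obtain ⟨m, W, h1, h2⟩ := exists_open_inter_subset isClosed_univ (⟨(⟨u₀, huA⟩ : ↥A), trivial⟩ :
      (Set.univ : Set U.left).Nonempty) (fun m => {v | DegLE m q.left v})
      (fun m => by simpa [← isOpen_compl_iff, Set.compl_ofPred] using isOpen_not_degLE m q.left)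
      (fun v _ => hdeg v)
    exact ⟨m, W, by simpa using h1, fun v hv => h2 ⟨hv, trivial⟩⟩
  obtain ⟨W, hWne, hW⟩ := Nat.find_spec hex
  obtain ⟨W₁, hW₁ne, hW₁, hW₁min⟩ : ∃ W₁ : U.left.Opens, (W₁ : Set U.left).Nonempty ∧
      (∀ v ∈ W₁, DegLE (Nat.find hex) q.left v) ∧
      ∀ v ∈ W₁, ∀ k, Nat.find hex = k + 1 → ¬ DegLE k q.left v := by
    by_cases h0 : Nat.find hex = 0
    · exact ⟨W, hWne, hW, fun v _ k hk => by omega⟩
    · obtain ⟨k, hk⟩ := Nat.exists_eq_succ_of_ne_zero h0
      have := Nat.find_min hex (show k < Nat.find hex by omega)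
      push Not at this
      obtain ⟨v, h1, h2⟩ := this W hWne
      refine ⟨W ⊓ ⟨_, isOpen_not_degLE k q.left⟩, ⟨v, h1, h2⟩, fun w hw => hW w hw.1, fun w hw k' hk' => ?_⟩
      have : k' = k := by omega
      exact this ▸ hw.2
  obtain ⟨u, hu⟩ := hW₁ne
  obtain ⟨M, f, hf, hsub, hmem⟩ := exists_schematic_of_stratum hX hae sqR _ W₁ hW₁ hW₁min hu
  refine ⟨M, f, hf, fun y hy => ?_, ⟨_, hmem⟩⟩
  obtain ⟨v, rfl⟩ := hsub hy
  exact hPO v

/-- a decent space has a dense open subscheme -/
theorem exists_dense_scheme_max {X : Sp S} (hX : IsAlgSpace X) (hd : IsDecent X) :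
    ∃ (X' : Sp S) (j : X' ⟶ X), IsAlgSpace X' ∧ RepWith @IsOpenImmersion j ∧
      (∃ W : Over S, Nonempty (X' ≅ (yon S).obj W)) ∧ Dense (Set.range (Points.map j)) ∧
        ∀ (M : Over S) (f : (yon S).obj M ⟶ X), RepWith @IsOpenImmersion f →
          Set.range (Points.map f) ⊆ Set.range (Points.map j) := by
  let B : Set (Points X) :=
    ⋃₀ {A | ∃ (M : Over S) (f : (yon S).obj M ⟶ X), RepWith @IsOpenImmersion f ∧ A = Set.range (Points.map f)}
  have hopen : ∀ {Z : Sp S} (hZ : IsAlgSpace Z) (f : Z ⟶ X), RepWith @IsOpenImmersion f →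
      IsOpen (Set.range (Points.map f)) := fun {Z} hZ f hf => by
    have : Mono f := mono_of_repWith_immersion (repWith_mono (P := @IsOpenImmersion) (Q := @IsImmersion)
      (fun _ _ g hg => have : IsOpenImmersion g := hg; inferInstance) hf)
    exact (exists_iso_subSheaf_of_mono hZ hX f (isEtaleMor_of_repWith' (repWith_mono (P := @IsOpenImmersion)
      (Q := @Etale) (fun _ _ g hg => have : IsOpenImmersion g := hg; inferInstance) hf))).1
  have hB : IsOpen B := isOpen_sUnion fun A hA => by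
    obtain ⟨M, f, hf, rfl⟩ := hA
    exact hopen (IsAlgSpace.yon_obj M) f hf
  have hrange : Set.range (Points.map (subInc B)) = B := by
    refine Set.Subset.antisymm (fun y ⟨z, hz⟩ => hz ▸ map_subInc_mem z) ?_
    rintro y ⟨A, ⟨M, f, hf, rfl⟩, z, rfl⟩
    obtain ⟨l, hl⟩ := exists_factor_subInc (W := B) f fun w => ⟨_, ⟨M, f, hf, rfl⟩, w, rfl⟩
    exact ⟨Points.map l z, by rw [← Points.map_comp, hl]⟩
  have hB' := isAlgSpace_subSheaf hX hB
  refine ⟨subSheaf B, subInc B, hB', repWith_subInc hB, ?_, ?_, fun M f hf y hy => by rw [hrange]; exact ⟨_, ⟨M, f, hf, rfl⟩, hy⟩⟩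
  · obtain ⟨U, π, hπ, hπs⟩ := hX.atlas
    -- index the open subschemes by their sets of points pulled back to the atlas
    let ι := {A : Set U.left // ∃ (M : Over S) (f : (yon S).obj M ⟶ X), RepWith @IsOpenImmersion f ∧
      A = Points.ofPt π ⁻¹' Set.range (Points.map f)}
    choose M f hf hA using fun i : ι => i.2
    choose l hl using fun i => exists_factor_subInc (W := B) (f i) fun w => ⟨_, ⟨M i, f i, hf i, rfl⟩, w, rfl⟩
    refine exists_iso_yon_of_open_cover hB' M l (fun i => ?_) fun z => ?_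
    · exact repWith_of_comp_mono (m := subInc B) (by rw [hl]; exact hf i)
    · obtain ⟨A, ⟨M', f', hf', rfl⟩, hz⟩ := (show Points.map (subInc B) z ∈ B from map_subInc_mem z)
      let i : ι := ⟨_, M', f', hf', rfl⟩
      refine ⟨i, ?_⟩
      obtain ⟨u, hu⟩ := ofPt_surjective hπs (Points.map (subInc B) z)
      have hu' : u ∈ i.1 := by
        show Points.ofPt π u ∈ Set.range (Points.map f')
        rw [hu]; exact hz
      rw [hA i] at hu'
      obtain ⟨w, hw⟩ := hu'
      obtain ⟨y, hy₁, hy₂⟩ := exists_point_of_isPullback (IsKernelPair.id_of_mono (subInc B)) z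
        (Points.map (l i) w) (by rw [← Points.map_comp, hl, hw, hu])
      rw [Points.map_id] at hy₁ hy₂
      exact ⟨w, hy₂.symm.trans hy₁⟩
  · rw [hrange, dense_iff_inter_open]
    intro O hO hne
    obtain ⟨M, f, hf, hfO, z, hz⟩ := exists_schematic_open hX hd hO hne
    exact ⟨z, hfO hz, _, ⟨M, f, hf, rfl⟩, hz⟩

theorem exists_dense_scheme {X : Sp S} (hX : IsAlgSpace X) (hd : IsDecent X) :
    ∃ (X' : Sp S) (j : X' ⟶ X), IsAlgSpace X' ∧ RepWith @IsOpenImmersion j ∧
      (∃ W : Over S, Nonempty (X' ≅ (yon S).obj W)) ∧ Dense (Set.range (Points.map j)) :=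
  let ⟨X', j, h₁, h₂, h₃, h₄, _⟩ := exists_dense_scheme_max hX hd
  ⟨X', j, h₁, h₂, h₃, h₄⟩

end Groth.Agent.SpQS
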