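import Groth.Agent.SpQS.GenPts
import Groth.Agent.SpQS.SchOpen

/-!
# Scheme neighbourhoods of points of codimension zero
-/

universe u

open CategoryTheory CategoryTheory.Limits AlgebraicGeometry Opposite IsLocalRing

set_option backward.isDefEq.respectTransparency false

namespace Groth.Agent.SpQS

open _root_.AlgSp Groth.Agent.AlgSpLib

variable {S : Scheme.{u}}

theorem isCompact_not_degLE : ∀ (m : ℕ) {R U : Scheme.{u}} (s : R ⟶ U) [Etale s] [IsSeparated s]
    [QuasiCompact s] [CompactSpace U], IsCompact {u | ¬ DegLE m s u}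
  | 0, R, U, s, _, _, _, _ => by
    have : {u | ¬ DegLE 0 s u} = Set.range s := by
      ext u
      simp [DegLE]
    rw [this]
    have : CompactSpace R := QuasiCompact.compactSpace_of_compactSpace s
    exact isCompact_range s.continuous
  | m + 1, R, U, s, _, _, _, _ => by
    have : CompactSpace R := QuasiCompact.compactSpace_of_compactSpace s
    have hcl : IsClosed (Set.range (pullback.diagonal s)) :=
      (pullback.diagonal s).isClosedEmbedding.isClosed_range
    have : IsClosedImmersion (offDiag s).ι := IsClosedImmersion.of_isPreimmersion _ (by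
      rw [Scheme.Opens.range_ι]
      show IsClosed (closure (Set.range (pullback.diagonal s)))ᶜ
      rw [hcl.closure_eq]
      exact (pullback.diagonal s).isOpenEmbedding.isOpen_range.isClosed_compl)
    have : {u | ¬ DegLE (m + 1) s u} = s '' {r | ¬ DegLE m (offDiagFst s) r} := by
      ext u
      show (¬ ∀ r, s r = u → DegLE m (offDiagFst s) r) ↔ _
      simp only [not_forall, exists_prop, Set.mem_image, Set.mem_setOf_eq, and_comm]
    rw [this]
    exact (isCompact_not_degLE m (offDiagFst s)).image s.continuous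

/-- affine schemes over one affine open of the base have quasi-compact product -/
theorem compactSpace_prod_small {U U' : Scheme.{u}} [IsAffine U] [IsAffine U'] (f : U ⟶ S) (g : U' ⟶ S)
    {W : S.Opens} (hW : IsAffineOpen W) (hf : ∀ u, f u ∈ W) (hg : ∀ u, g u ∈ W) : CompactSpace ↥(pullback f g) := by
  have hUr : Set.range f ⊆ Set.range W.ι := by
    rw [Scheme.Opens.range_ι]; rintro _ ⟨u, rfl⟩; exact hf u
  have hKr : Set.range g ⊆ Set.range W.ι := by
    rw [Scheme.Opens.range_ι]; rintro _ ⟨u, rfl⟩; exact hg u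
  rw [← IsOpenImmersion.lift_fac W.ι f hUr, ← IsOpenImmersion.lift_fac W.ι g hKr]
  have : IsAffine W.toScheme := hW
  exact (Scheme.homeoOfIso (isPullback_comp_mono (IsPullback.of_hasPullback
    (IsOpenImmersion.lift W.ι f hUr) (IsOpenImmersion.lift W.ι g hKr)) W.ι).isoPullback).compactSpace

/-- maximal points of charts with quasi-compact relation lie in open schemes -/
theorem exists_scheme_at_max {X : Sp S} (hX : IsAlgSpace X) (hg : ∀ x : Points X, GoodAt x) {U : Over S}
    [hU : IsAffine U.left] {a : (yon S).obj U ⟶ X} (ha : RepWith @Etale a) {R : Over S} {p q : R ⟶ U}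
    (sqR : IsPullback ((yon S).map p) ((yon S).map q) a a) [CompactSpace R.left] {η : U.left} (hη : IsMaxPt η) :
    ∃ (M : Over S) (f : (yon S).obj M ⟶ X), RepWith @IsOpenImmersion f ∧
      Points.ofPt a η ∈ Set.range (Points.map f) := by
  classical
  have : Etale q.left := (repWith_yon_iff q).1 (repWith_baseChange sqR ha)
  have : IsSeparated q.left := isSeparated_snd_of_chart sqR
  have : QuasiCompact q.left := HasAffineProperty.iff_of_isAffine.mpr ‹CompactSpace R.left›
  have hex : ∃ m, DegLE m q.left η := CompactFibres.exists_degLE (a := a) (compactFibres_of_good hg (hU := hU) ha) sqR η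
  let O : U.left.Opens := ⟨_, isOpen_not_degLE (Nat.find hex) q.left⟩
  have hO : η ∉ closure (O : Set U.left) := fun hcl => by
    have : CompactSpace O.toScheme :=
      isCompact_iff_compactSpace.1 (isCompact_not_degLE (Nat.find hex) q.left)
    obtain ⟨z, -, hz⟩ := SubDescent.exists_specializes_of_mem_closure_image O.ι isClosed_univ
      (y := η) (by rwa [Set.image_univ, Scheme.Opens.range_ι])
    have h : η ∈ O := hη _ hz ▸ z.2
    exact h (Nat.find_spec hex)
  let W : U.left.Opens := ⟨(closure (O : Set U.left))ᶜ, isClosed_closure.isOpen_compl⟩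
  have hW : ∀ v ∈ W, DegLE (Nat.find hex) q.left v := fun v hv => by
    by_contra hno
    exact hv (subset_closure hno)
  by_cases h0 : Nat.find hex = 0
  · obtain ⟨M, f, hf, -, hm⟩ := exists_schematic_of_stratum hX ha sqR _ W hW (fun v _ k hk => by omega)
      (u := η) hO
    exact ⟨M, f, hf, hm⟩
  · obtain ⟨k, hk⟩ := Nat.exists_eq_succ_of_ne_zero h0
    obtain ⟨M, f, hf, -, hm⟩ := exists_schematic_of_stratum hX ha sqR _ (W ⊓ ⟨_, isOpen_not_degLE k q.left⟩)
      (fun v hv => hW v hv.1) (fun v hv k' hk' => by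
        have : k' = k := by omega
        exact this ▸ hv.2) (u := η) ⟨hO, Nat.find_min hex (show k < Nat.find hex by omega)⟩
    exact ⟨M, f, hf, hm⟩

/-- quasi-separated charts over affine opens have compact relation -/
theorem compactSpace_relation_of_qs {X : Sp S} (hq : IsQuasiSeparatedSp X) {U : Over S} [IsAffine U.left]
    {a : (yon S).obj U ⟶ X} {W : S.Opens} (hW : IsAffineOpen W) (hU : ∀ u, U.hom u ∈ W) {R : Over S}
    {p q : R ⟶ U} (sqR : IsPullback ((yon S).map p) ((yon S).map q) a a) : CompactSpace R.left := by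
  have h := graph_of_repWith_diag @QuasiCompact hq sqR
  have := compactSpace_prod_small U.hom U.hom hW hU hU
  exact @QuasiCompact.compactSpace_of_compactSpace _ _ _ h this

/-- a finite etale surjective chart by a quasi-separated scheme gives compact relations of affine charts -/
theorem compactSpace_relation_of_finite_cover {X : Sp S} (hX : IsAlgSpace X) {U : Over S}
    [QuasiSeparatedSpace U.left] {a : (yon S).obj U ⟶ X} (hf : RepWith @IsFinite a) (hs : RepWith @Surjective a)
    {V : Over S} [IsAffine V.left] {b : (yon S).obj V ⟶ X} {R : Over S} {p q : R ⟶ V}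
    (sqR : IsPullback ((yon S).map p) ((yon S).map q) b b) : CompactSpace R.left := by
  obtain ⟨V', c, d, sq'⟩ := exists_pullback hX.diag b a
  have : IsFinite c.left := (repWith_yon_iff c).1 (repWith_baseChange sq'.flip hf)
  have : Surjective c.left := (repWith_yon_iff c).1 (repWith_baseChange sq'.flip hs)
  have : IsAffine V'.left := isAffine_of_isAffineHom c.left
  let T : Over S := Over.mk (pullback.fst d.left d.left ≫ V'.hom)
  let t₁ : T ⟶ V' := Over.homMk (pullback.fst d.left d.left) rfl
  let t₂ : T ⟶ V' := Over.homMk (pullback.snd d.left d.left) (by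
    show pullback.snd d.left d.left ≫ V'.hom = pullback.fst d.left d.left ≫ V'.hom
    rw [← Over.w d]
    exact (pullback.condition_assoc _).symm)
  have : QuasiCompact d.left := inferInstance
  have : CompactSpace T.left := QuasiCompact.compactSpace_of_compactSpace (pullback.fst d.left d.left)
  obtain ⟨l, hl⟩ := exists_map_eq (sqR.lift ((yon S).map (t₁ ≫ c)) ((yon S).map (t₂ ≫ c)) (by
    rw [Functor.map_comp, Functor.map_comp, Category.assoc, Category.assoc, sq'.w, ← Functor.map_comp_assoc,
      ← Functor.map_comp_assoc, show t₁ ≫ d = t₂ ≫ d from Over.OverMorphism.ext pullback.condition]))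
  have hl₁ : l ≫ p = t₁ ≫ c := (yon S).map_injective (by rw [Functor.map_comp, hl, sqR.lift_fst])
  have hl₂ : l ≫ q = t₂ ≫ c := (yon S).map_injective (by rw [Functor.map_comp, hl, sqR.lift_snd])
  suffices Function.Surjective l.left from ⟨this.range_eq ▸ isCompact_range l.left.continuous⟩
  intro r
  -- lift a field valued point of the relation
  let K := R.left.residueField r
  let rs : Spec K ⟶ R.left := R.left.fromSpecResidueField r
  obtain ⟨z₁, hz₁, -⟩ := Scheme.Pullback.exists_preimage_pullback (f := c.left) (g := rs ≫ p.left)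
    (c.left.surjective (p.left r)).choose (closedPoint K) (by
      rw [(c.left.surjective (p.left r)).choose_spec, Scheme.Hom.comp_apply]
      exact congrArg p.left (Scheme.fromSpecResidueField_apply r _).symm)
  let Z := pullback c.left (rs ≫ p.left)
  let L := Z.residueField z₁
  let m : Spec L ⟶ Z := Z.fromSpecResidueField z₁
  let Lo : Over S := Over.mk (m ≫ pullback.snd c.left (rs ≫ p.left) ≫ rs ≫ R.hom)
  let iR : Lo ⟶ R := Over.homMk (m ≫ pullback.snd c.left (rs ≫ p.left) ≫ rs)
    (by simp only [Category.assoc]; rfl)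
  let e₁ : Lo ⟶ V' := Over.homMk (m ≫ pullback.fst c.left (rs ≫ p.left)) (by
    show (m ≫ pullback.fst c.left (rs ≫ p.left)) ≫ V'.hom = m ≫ pullback.snd c.left (rs ≫ p.left) ≫ rs ≫ R.hom
    rw [Category.assoc, ← Over.w c, ← Over.w p, pullback.condition_assoc]
    simp only [Category.assoc])
  have he₁ : e₁ ≫ c = iR ≫ p := Over.OverMorphism.ext (by
    show (m ≫ pullback.fst c.left (rs ≫ p.left)) ≫ c.left = (m ≫ pullback.snd c.left (rs ≫ p.left) ≫ rs) ≫ p.left
    simp only [Category.assoc, pullback.condition])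
  obtain ⟨e₂, he₂⟩ := exists_map_eq (sq'.lift ((yon S).map (iR ≫ q)) ((yon S).map (e₁ ≫ d)) (by
    rw [Functor.map_comp, Functor.map_comp, Category.assoc, Category.assoc, ← sqR.w, ← sq'.w,
      ← Functor.map_comp_assoc, ← Functor.map_comp_assoc, he₁]))
  have h₂c : e₂ ≫ c = iR ≫ q := (yon S).map_injective (by rw [Functor.map_comp, he₂, sq'.lift_fst])
  have h₂d : e₂ ≫ d = e₁ ≫ d := (yon S).map_injective (by rw [Functor.map_comp, he₂, sq'.lift_snd])
  let τ : Lo ⟶ T := Over.homMk (pullback.lift e₁.left e₂.left (congrArg (fun k => k.left) h₂d.symm)) (by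
    show pullback.lift _ _ _ ≫ pullback.fst d.left d.left ≫ V'.hom = _
    rw [pullback.lift_fst_assoc]
    exact Over.w e₁)
  have hτ₁ : τ ≫ t₁ = e₁ := Over.OverMorphism.ext (pullback.lift_fst _ _ _)
  have hτ₂ : τ ≫ t₂ = e₂ := Over.OverMorphism.ext (pullback.lift_snd _ _ _)
  have hτ : τ ≫ l = iR := (yon S).map_injective (sqR.hom_ext
    (by rw [← Functor.map_comp, ← Functor.map_comp, Category.assoc, hl₁, reassoc_of% hτ₁, he₁])
    (by rw [← Functor.map_comp, ← Functor.map_comp, Category.assoc, hl₂, reassoc_of% hτ₂, h₂c]))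
  refine ⟨τ.left (closedPoint L), ?_⟩
  rw [← Scheme.Hom.comp_apply]
  refine (congrArg (fun g : Lo.left ⟶ R.left => g (closedPoint L)) (congrArg (fun k => k.left) hτ)).trans ?_
  show (m ≫ pullback.snd c.left (rs ≫ p.left) ≫ rs) (closedPoint L) = r
  rw [Scheme.Hom.comp_apply, Scheme.Hom.comp_apply]
  exact Scheme.fromSpecResidueField_apply r _

/-- the union of all open schemes when it contains the maximal points -/
theorem exists_dense_scheme_of_max {X : Sp S} (hX : IsAlgSpace X) (hd : IsDecent X)
    (h : ∀ x : Points X, IsMaxPt x → ∃ (M : Over S) (f : (yon S).obj M ⟶ X),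
      RepWith @IsOpenImmersion f ∧ x ∈ Set.range (Points.map f)) :
    ∃ (X' : Sp S) (j : X' ⟶ X), IsAlgSpace X' ∧ RepWith @IsOpenImmersion j ∧
      (∃ W : Over S, Nonempty (X' ≅ (yon S).obj W)) ∧ Dense (Set.range (Points.map j)) ∧
        ∀ x : Points X, HasAt (fun U u => ringKrullDim ↥(U.presheaf.stalk u) = 0) X x →
          x ∈ Set.range (Points.map j) := by
  obtain ⟨X', j, hX', hj, hW, hdense, hmax⟩ := exists_dense_scheme_max hX hd
  refine ⟨X', j, hX', hj, hW, hdense, fun x hx => ?_⟩
  obtain ⟨U, a, u, ha, rfl, hu⟩ := hx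
  obtain ⟨M, f, hf, hm⟩ := h _ ((isMaxPt_ofPt_iff hX (goodAt_of_isDecent hX hd) ha u).2 ((stalk_dim_zero_iff u).1 hu))
  exact hmax M f hf hm

end Groth.Agent.SpQS
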