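import Groth.Agent.SpQS.DecentMor

/-!
# One point decent spaces, and further criteria
-/

universe u

open CategoryTheory CategoryTheory.Limits AlgebraicGeometry Opposite IsLocalRing

set_option backward.isDefEq.respectTransparency false

namespace Groth.Agent.SpQS

open _root_.AlgSp Groth.Agent.AlgSpLib

variable {S : Scheme.{u}}

/-- a decent space with one point is a scheme -/
theorem exists_iso_yon_of_subsingleton {X : Sp S} (hX : IsAlgSpace X) (hd : IsDecent X) [Nonempty (Points X)]
    [Subsingleton (Points X)] : ∃ W : Over S, Nonempty (X ≅ (yon S).obj W) := by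
  obtain ⟨M, f, hf, -, z, hz⟩ := exists_schematic_open hX hd isOpen_univ Set.univ_nonempty
  refine exists_iso_yon_of_open_cover hX (fun _ : PUnit.{u + 1} => M) (fun _ => f) (fun _ => hf) fun x => ?_
  exact ⟨⟨⟩, by rw [Subsingleton.elim x z]; exact hz⟩

/-- a reduced one point decent space is the spectrum of a field -/
theorem exists_field_iso {X : Sp S} (hX : IsAlgSpace X) (hd : IsDecent X) [Nonempty (Points X)]
    [Subsingleton (Points X)] {U : Over S} {π : (yon S).obj U ⟶ X} (hπ : RepWith @Etale π)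
    (hπs : RepWith @Surjective π) [IsReduced U.left] : ∃ (k : Type u) (_ : Field k)
      (str : Spec (CommRingCat.of k) ⟶ S) (e : (yon S).obj (Over.mk str) ≅ X) (c : U ⟶ Over.mk str),
        (yon S).map c ≫ e.hom = π ∧ Etale c.left := by
  obtain ⟨W, ⟨e⟩⟩ := exists_iso_yon_of_subsingleton hX hd
  obtain ⟨c, hc⟩ := exists_map_eq (π ≫ e.hom)
  have hce : Etale c.left := (repWith_yon_iff c).1 (by
    rw [hc]; exact (repWith_comp_iso_iff π e.hom).2 hπ)
  have : Surjective c.left := (repWith_yon_iff c).1 (by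
    rw [hc]; exact (repWith_comp_iso_iff π e.hom).2 hπs)
  have : IsReduced W.left := FlatMor.isReduced_of_flat_surjective c.left
  have : Subsingleton W.left := ⟨fun a b => by
    have := congrArg (Points.map e.hom) (Subsingleton.elim (Points.map e.inv (Points.ofScheme W a))
      (Points.map e.inv (Points.ofScheme W b)))
    rw [← Points.map_comp, ← Points.map_comp, e.inv_hom_id, Points.map_id, Points.map_id] at this
    exact (Points.schemeEquiv W).injective this⟩
  have : Nonempty W.left := by
    obtain ⟨u, -⟩ := ofPt_surjective hπs (Classical.arbitrary _)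
    exact ⟨c.left u⟩
  have : IsIntegral W.left := (isIntegral_iff_irreducibleSpace_and_isReduced _).mpr ⟨⟨inferInstance⟩, inferInstance⟩
  have : IsAffine W.left := inferInstance
  let hfld := (isField_of_isIntegral_of_subsingleton W.left).toField
  let i : W ≅ Over.mk (W.left.isoSpec.inv ≫ W.hom) := Over.isoMk W.left.isoSpec (by
    show W.left.isoSpec.hom ≫ W.left.isoSpec.inv ≫ W.hom = W.hom
    rw [Iso.hom_inv_id_assoc])
  refine ⟨Γ(W.left, ⊤), hfld, W.left.isoSpec.inv ≫ W.hom, ((yon S).mapIso i).symm ≪≫ e.symm, c ≫ i.hom, ?_, ?_⟩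
  · show (yon S).map (c ≫ i.hom) ≫ (yon S).map i.inv ≫ e.inv = π
    rw [← Functor.map_comp_assoc, Category.assoc, i.hom_inv_id, Category.comp_id, hc, Category.assoc,
      e.hom_inv_id, Category.comp_id]
  · show Etale (c.left ≫ W.left.isoSpec.hom)
    infer_instance

/-- the spectrum of a field etale surjective over a decent space -/
theorem exists_field_iso_of_etale_surjective {X : Sp S} (hX : IsAlgSpace X) (hd : IsDecent X) {k : Type u} [Field k]
    {str : Spec (CommRingCat.of k) ⟶ S} (p : (yon S).obj (Over.mk str) ⟶ X) (hp : RepWith @Etale p)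
    (hs : RepWith @Surjective p) : ∃ (k' : Type u) (_ : Field k') (str' : Spec (CommRingCat.of k') ⟶ S)
      (e : (yon S).obj (Over.mk str') ≅ X) (c : Over.mk str ⟶ Over.mk str'),
        (yon S).map c ≫ e.hom = p ∧ IsFinite c.left ∧ Etale c.left := by
  have : Nonempty (Points X) := ⟨Points.ofPt p (closedPoint k)⟩
  have : Subsingleton (Points X) := ⟨fun a b => by
    obtain ⟨u, rfl⟩ := ofPt_surjective hs a
    obtain ⟨v, rfl⟩ := ofPt_surjective hs b
    rw [Subsingleton.elim (α := PrimeSpectrum k) u v]⟩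
  have : IsReduced (Over.mk str).left := inferInstanceAs (IsReduced (Spec (CommRingCat.of k)))
  obtain ⟨k', hk', str', e, c, hc, hce⟩ := exists_field_iso hX hd hp hs
  refine ⟨k', hk', str', e, c, hc, ?_, hce⟩
  have : LocallyQuasiFinite c.left := UnivInjMor.lqf_of_unramified _
  have : IsAffine (Over.mk str).left := inferInstanceAs (IsAffine (Spec (CommRingCat.of k)))
  have : IsAffine (Over.mk str').left := inferInstanceAs (IsAffine (Spec (CommRingCat.of k')))
  have : IsLocallyArtinian (Over.mk str').left := by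
    have : IsReduced (Over.mk str').left := inferInstanceAs (IsReduced (Spec (CommRingCat.of k')))
    have : Subsingleton (Over.mk str').left := inferInstanceAs (Subsingleton (PrimeSpectrum k'))
    infer_instance
  exact IsFinite.of_locallyQuasiFinite _

/-- finitely many points of the relation of an affine chart give a good point -/
theorem goodAt_of_finite {X : Sp S} (hX : IsAlgSpace X) (x : Points X)
    (h : ∀ (U : Over S) (φ : (yon S).obj U ⟶ X), IsAffine U.left → RepWith @Etale φ →
      ∀ (R : Over S) (s t : R ⟶ U), IsPullback ((yon S).map t) ((yon S).map s) φ φ →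
        (Points.ofPt ((yon S).map t ≫ φ) ⁻¹' {x}).Finite) : GoodAt x := by
  intro U a hU ha K _ str y hy V p q sq
  by_cases hV : Nonempty V.left
  swap
  · have := not_nonempty_iff.1 hV
    infer_instance
  obtain ⟨v⟩ := hV
  let u := p.left v
  let W : Over S := Over.mk (U.left.fromSpecResidueField u ≫ U.hom)
  let iu : W ⟶ U := Over.homMk (U.left.fromSpecResidueField u) rfl
  have hux : Points.ofPt a u = x := by
    rw [← hy, (ofPt_eq_iff sq u (q.left v)).2 ⟨v, rfl, rfl⟩, Subsingleton.elim (α := PrimeSpectrum K) (q.left v)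
      (closedPoint K)]
  obtain ⟨R, t, s, sqR⟩ := exists_pullback hX.diag a a
  let F : Over S := Over.mk (pullback.fst s.left iu.left ≫ R.hom)
  let f₁ : F ⟶ R := Over.homMk (pullback.fst s.left iu.left) rfl
  let f₂ : F ⟶ W := Over.homMk (pullback.snd s.left iu.left) (by
    show pullback.snd s.left iu.left ≫ W.hom = pullback.fst s.left iu.left ≫ R.hom
    rw [← Over.w s, ← Over.w iu]
    exact (pullback.condition_assoc _).symm)
  have sqF : IsPullback ((yon S).map (f₁ ≫ t)) ((yon S).map f₂) a ((yon S).map iu ≫ a) := by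
    rw [Functor.map_comp]
    exact (isPullback_yon_iff.2 (IsPullback.of_hasPullback s.left iu.left)).paste_horiz sqR
  have : IsPreimmersion iu.left := inferInstanceAs (IsPreimmersion (U.left.fromSpecResidueField u))
  have hinj : Function.Injective f₁.left :=
    (pullback.fst s.left iu.left).isEmbedding.injective
  have : Finite F.left := Set.finite_univ_iff.1 (((h U a hU ha R s t sqR).preimage hinj.injOn).subset fun z _ => by
    show Points.ofPt ((yon S).map t ≫ a) (f₁.left z) = x
    rw [sqR.w, ofPt_comp, ← hux, ← Scheme.Hom.comp_apply]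
    congr 1
    exact (congr($(pullback.condition (f := s.left) (g := iu.left)) z)).trans
      ((Scheme.Hom.comp_apply _ _ _).trans (Scheme.fromSpecResidueField_apply u _)))
  have : CompactSpace F.left := Finite.compactSpace
  refine compactSpace_of_same_point hX a (K₁ := U.left.residueField u) ?_ sqF sq
  rw [hy, ofPt_comp]
  exact (congrArg (Points.ofPt a) (Scheme.fromSpecResidueField_apply u _)).trans hux

/-- finite fibres of a covering family give finite fibres of affine charts -/
theorem finite_of_cover {X : Sp S} (hX : IsAlgSpace X) (x : Points X) {ι : Type*} (U : ι → Over S)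
    (φ : ∀ i, (yon S).obj (U i) ⟶ X) (hφ : ∀ i, RepWith @Etale (φ i))
    (hsurj : ∀ y : Points X, ∃ i v, Points.ofPt (φ i) v = y) (hfin : ∀ i, (Points.ofPt (φ i) ⁻¹' {x}).Finite)
    {V : Over S} [IsAffine V.left] (ψ : (yon S).obj V ⟶ X) (hψ : RepWith @Etale ψ) :
    (Points.ofPt ψ ⁻¹' {x}).Finite := by
  let T := {O : V.left.Opens // (Points.ofPt ψ ⁻¹' {x} ∩ (O : Set V.left)).Finite}
  obtain ⟨t, ht⟩ := (isCompact_univ (X := V.left)).elim_finite_subcover (fun O : T => (O.1 : Set V.left))
    (fun O => O.1.2) (fun v _ => by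
      obtain ⟨i, w, hw⟩ := hsurj (Points.ofPt ψ v)
      obtain ⟨W, w₁, w₂, sqW⟩ := exists_pullback hX.diag ψ (φ i)
      have : Etale w₁.left := (repWith_yon_iff w₁).1 (repWith_baseChange sqW.flip (hφ i))
      have : Etale w₂.left := (repWith_yon_iff w₂).1 (repWith_baseChange sqW hψ)
      obtain ⟨z, hz₁, hz₂⟩ := (ofPt_eq_iff sqW v w).1 hw.symm
      obtain ⟨A, hA, hwA, -⟩ := exists_isAffineOpen_mem_and_subset (U := (⊤ : (U i).left.Opens)) (x := w) trivial
      obtain ⟨B, hB, hzB, hBA⟩ := exists_isAffineOpen_mem_and_subset (U := w₂.left ⁻¹ᵁ A) (x := z)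
        (show w₂.left z ∈ A by rw [hz₂]; exact hwA)
      let g : B.toScheme ⟶ A.toScheme := w₂.left.resLE A B hBA
      have : IsAffine A.toScheme := hA
      have : IsAffine B.toScheme := hB
      have : Etale g := inferInstance
      have : LocallyQuasiFinite g := UnivInjMor.lqf_of_unramified g
      have : QuasiCompact g := inferInstance
      have hfinB : (g ⁻¹' (A.ι ⁻¹' (Points.ofPt (φ i) ⁻¹' {x}))).Finite := by
        rw [← Set.biUnion_of_singleton (A.ι ⁻¹' (Points.ofPt (φ i) ⁻¹' {x})), Set.preimage_iUnion₂]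
        exact ((hfin i).preimage A.ι.isOpenEmbedding.injective.injOn).biUnion fun a _ =>
          g.finite_preimage_singleton a
      refine Set.mem_iUnion.2 ⟨⟨⟨w₁.left '' (B : Set W.left), w₁.left.isOpenMap _ B.2⟩,
        (hfinB.image (fun b => w₁.left (B.ι b))).subset ?_⟩, z, hzB, hz₁⟩
      rintro _ ⟨hv', b, hb, rfl⟩
      refine ⟨(⟨b, hb⟩ : ↥B), ?_, rfl⟩
      show Points.ofPt (φ i) (A.ι (g ⟨b, hb⟩)) = x
      rw [← Scheme.Hom.comp_apply, Scheme.Hom.resLE_comp_ι, Scheme.Hom.comp_apply,
        show B.ι (⟨b, hb⟩ : ↥B) = b from rfl, ← (ofPt_eq_iff sqW (w₁.left b) (w₂.left b)).2 ⟨b, rfl, rfl⟩]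
      exact hv')
  refine (t.finite_toSet.biUnion fun O _ => O.2).subset fun v hv => ?_
  obtain ⟨O, hO, hvO⟩ := Set.mem_iUnion₂.1 (ht (Set.mem_univ v))
  exact Set.mem_iUnion₂.2 ⟨O, hO, hv, hvO⟩

/-- decent morphisms are etale local on the target -/
theorem isDecentMor_of_chart {X Y : Sp S} (hX : IsAlgSpace X) (hY : IsAlgSpace Y) (f : X ⟶ Y) {V : Over S}
    (p : (yon S).obj V ⟶ Y) (hp : RepWith @Etale p) (hps : RepWith @Surjective p) {X' : Sp S} {fst : X' ⟶ X}
    {snd : X' ⟶ (yon S).obj V} (hsq : IsPullback fst snd f p) (h : IsDecentMor snd) : IsDecentMor f := by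
  refine isDecentMor_of_affine hX hY f fun A g P fst₀ snd₀ hA sqP => ?_
  have hP : IsAlgSpace P := isAlgSpace_of_isPullback_space hY hX (IsAlgSpace.yon_obj A) sqP
  obtain ⟨T, t₁, t₂, sqT⟩ := exists_pullback hY.diag g p
  have : Etale t₁.left := (repWith_yon_iff t₁).1 (repWith_baseChange sqT.flip hp)
  have : Surjective t₁.left := (repWith_yon_iff t₁).1 (repWith_baseChange sqT.flip hps)
  obtain ⟨t, ht⟩ := (isCompact_univ (X := A.left)).elim_finite_subcover
    (fun O : T.left.affineOpens => t₁.left '' (O.1 : Set T.left)) (fun O => t₁.left.isOpenMap _ O.1.2) (fun a _ => by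
      obtain ⟨z, rfl⟩ := t₁.left.surjective a
      obtain ⟨O, hO, hzO, -⟩ := exists_isAffineOpen_mem_and_subset (U := (⊤ : T.left.Opens)) (x := z) trivial
      exact Set.mem_iUnion.2 ⟨⟨O, hO⟩, z, hzO, rfl⟩)
  let Z : Over S := Over.mk (Sigma.desc (fun j : t => j.1.1.ι) ≫ T.hom)
  let c : Z ⟶ T := Over.homMk (Sigma.desc (fun j : t => j.1.1.ι)) rfl
  have : ∀ j : t, IsAffine j.1.1.toScheme := fun j => j.1.2
  have : IsAffine Z.left := show IsAffine (∐ fun j : t => j.1.1.toScheme) from inferInstance
  let m : (yon S).obj Z ⟶ (yon S).obj A := (yon S).map (c ≫ t₁)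
  have hms : RepWith @Surjective m := (repWith_yon_iff _).2 ⟨fun a => by
    obtain ⟨O, hO, z, hz, rfl⟩ := Set.mem_iUnion₂.1 (ht (Set.mem_univ a))
    refine ⟨Sigma.ι (fun j : t => j.1.1.toScheme) ⟨O, hO⟩ ⟨z, hz⟩, ?_⟩
    show (Sigma.desc (fun j : t => j.1.1.ι) ≫ t₁.left) _ = _
    rw [← Scheme.Hom.comp_apply, Sigma.ι_desc_assoc]
    rfl⟩
  have hmq : RepWith @QuasiCompact m := (repWith_yon_iff _).2 inferInstance
  have sqm := IsPullback.of_hasPullback snd₀ m
  have hP' : IsAlgSpace (pullback snd₀ m) :=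
    isAlgSpace_of_isPullback_space (IsAlgSpace.yon_obj A) hP (IsAlgSpace.yon_obj Z) sqm
  have hbc := repWith_baseChange sqm.flip hmq
  refine isDecent_of_qc_etale_surjective hP' hP (pullback.fst snd₀ m)
    ((isQuasiCompactMor_iff_repWith hP' hP hbc.1).2 hbc)
    (isSurjectiveMor_baseChange sqm.flip (isSurjectiveMor_of_repWith hms)) ?_
  have sq2 : IsPullback (pullback.fst snd₀ m ≫ fst₀) (pullback.snd snd₀ m) f ((yon S).map (c ≫ t₂) ≫ p) := by
    have : (yon S).map (c ≫ t₂) ≫ p = m ≫ g := by
      show _ = (yon S).map (c ≫ t₁) ≫ g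
      rw [Functor.map_comp, Functor.map_comp, Category.assoc, Category.assoc, sqT.w]
    rw [this]
    exact sqm.paste_horiz sqP
  let l : pullback snd₀ m ⟶ X' := hsq.lift (pullback.fst snd₀ m ≫ fst₀)
    (pullback.snd snd₀ m ≫ (yon S).map (c ≫ t₂)) (by rw [Category.assoc]; simpa using sq2.w)
  exact h ((yon S).map (c ≫ t₂)) l (pullback.snd snd₀ m)
    (IsPullback.of_right (by rw [hsq.lift_fst]; exact sq2) (hsq.lift_snd _ _ _) hsq)

end Groth.Agent.SpQS
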