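import Groth.Agent.SpQS.SchOpen
import Groth.Agent.FlatMor.ReducedDescent
import Mathlib.AlgebraicGeometry.Artinian

/-!
# Points with quasi-compact fibres in all affine etale charts
-/

universe u

open CategoryTheory CategoryTheory.Limits AlgebraicGeometry Opposite IsLocalRing

set_option backward.isDefEq.respectTransparency false

namespace Groth.Agent.SpQS

open _root_.AlgSp Groth.Agent.AlgSpLib

variable {S : Scheme.{u}}

/-- all fibres over the point of affine etale charts are quasi-compact -/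
def GoodAt {X : Sp S} (x : Points X) : Prop :=
  ∀ (U : Over S) (a : (yon S).obj U ⟶ X), IsAffine U.left → RepWith @Etale a →
    ∀ (K : Type u) [Field K] (str : Spec (CommRingCat.of K) ⟶ S) (y : (yon S).obj (Over.mk str) ⟶ X),
      Points.ofPt y (closedPoint K) = x → ∀ (V : Over S) (p : V ⟶ U) (q : V ⟶ Over.mk str),
        IsPullback ((yon S).map p) ((yon S).map q) a y → CompactSpace V.left

/-- quasi-compactness of the fibre does not depend on the field valued point -/
theorem compactSpace_of_same_point {X : Sp S} (hX : IsAlgSpace X) {U : Over S} (a : (yon S).obj U ⟶ X)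
    {K₁ K₂ : Type u} [Field K₁] [Field K₂] {str₁ : Spec (CommRingCat.of K₁) ⟶ S}
    {str₂ : Spec (CommRingCat.of K₂) ⟶ S} {y₁ : (yon S).obj (Over.mk str₁) ⟶ X}
    {y₂ : (yon S).obj (Over.mk str₂) ⟶ X} (e : Points.ofPt y₁ (closedPoint K₁) = Points.ofPt y₂ (closedPoint K₂))
    {V₁ V₂ : Over S} {p₁ : V₁ ⟶ U} {q₁ : V₁ ⟶ Over.mk str₁} {p₂ : V₂ ⟶ U} {q₂ : V₂ ⟶ Over.mk str₂}
    (sq₁ : IsPullback ((yon S).map p₁) ((yon S).map q₁) a y₁)
    (sq₂ : IsPullback ((yon S).map p₂) ((yon S).map q₂) a y₂) [CompactSpace V₁.left] : CompactSpace V₂.left := by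
  obtain ⟨Q, r₁, r₂, sqQ⟩ := exists_pullback hX.diag y₁ y₂
  obtain ⟨w, -, -⟩ := (ofPt_eq_iff sqQ (closedPoint K₁ : ↥(Over.mk str₁).left)
    (closedPoint K₂ : ↥(Over.mk str₂).left)).1 e
  let L : Over S := Over.mk (Q.left.fromSpecResidueField w ≫ Q.hom)
  let l : L ⟶ Q := Over.homMk (Q.left.fromSpecResidueField w) rfl
  have key : ∀ {K : Type u} [Field K] {str : Spec (CommRingCat.of K) ⟶ S} (V : Over S) (p : V ⟶ U)
      (q : V ⟶ Over.mk str) (y : (yon S).obj (Over.mk str) ⟶ X) (i : L ⟶ Over.mk str),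
      IsPullback ((yon S).map p) ((yon S).map q) a y →
      ∃ (W : Over S) (f : W ⟶ V) (g : W ⟶ L), IsPullback f.left g.left q.left i.left ∧
        IsPullback ((yon S).map (f ≫ p)) ((yon S).map g) a ((yon S).map i ≫ y) := by
    intro K _ str V p q y i sq
    let f : Over.mk (pullback.fst q.left i.left ≫ V.hom) ⟶ V := Over.homMk (pullback.fst q.left i.left) rfl
    let g : Over.mk (pullback.fst q.left i.left ≫ V.hom) ⟶ L := Over.homMk (pullback.snd q.left i.left) (by
      show pullback.snd q.left i.left ≫ L.hom = pullback.fst q.left i.left ≫ V.hom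
      rw [← Over.w q, ← Over.w i]
      exact (pullback.condition_assoc _).symm)
    refine ⟨_, f, g, IsPullback.of_hasPullback _ _, ?_⟩
    rw [Functor.map_comp]
    exact (isPullback_yon_iff.2 (IsPullback.of_hasPullback q.left i.left)).paste_horiz sq
  obtain ⟨W₁, f₁, g₁, hs₁, sw₁⟩ := key V₁ p₁ q₁ y₁ (l ≫ r₁) sq₁
  obtain ⟨W₂, f₂, g₂, hs₂, sw₂⟩ := key V₂ p₂ q₂ y₂ (l ≫ r₂) sq₂
  have he : (yon S).map (l ≫ r₁) ≫ y₁ = (yon S).map (l ≫ r₂) ≫ y₂ := by
    rw [Functor.map_comp, Functor.map_comp, Category.assoc, Category.assoc, sqQ.w]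
  rw [← he] at sw₂
  have hiso : ((yon S).preimageIso (sw₁.isoIsPullback _ _ sw₂)).hom.left = _ := rfl
  let ε := (Over.forget S).mapIso ((yon S).preimageIso (sw₁.isoIsPullback _ _ sw₂))
  have : IsAffine L.left := inferInstanceAs (IsAffine (Spec _))
  have : IsAffine (Over.mk str₁).left := inferInstanceAs (IsAffine (Spec (CommRingCat.of K₁)))
  have : QuasiCompact f₁.left :=
    MorphismProperty.of_isPullback (P := @QuasiCompact) hs₁.flip (inferInstance : QuasiCompact (l ≫ r₁).left)
  have : CompactSpace W₁.left := QuasiCompact.compactSpace_of_compactSpace f₁.left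
  have : CompactSpace W₂.left :=
    have : CompactSpace ↥((Over.forget S).obj W₁) := ‹CompactSpace W₁.left›
    (Scheme.homeoOfIso ε).compactSpace
  have : Surjective (l ≫ r₂).left := ⟨fun t => ⟨closedPoint _, Subsingleton.elim (α := PrimeSpectrum K₂) _ _⟩⟩
  have : Surjective f₂.left :=
    MorphismProperty.of_isPullback (P := @Surjective) hs₂.flip ‹_›
  exact ⟨by
    rw [← f₂.left.surjective.range_eq]
    exact isCompact_range f₂.left.continuous⟩

/-- one field valued point suffices -/
theorem goodAt_of_one {X : Sp S} (hX : IsAlgSpace X) {K : Type u} [Field K] {str : Spec (CommRingCat.of K) ⟶ S}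
    (y : (yon S).obj (Over.mk str) ⟶ X)
    (h : ∀ (U : Over S) (a : (yon S).obj U ⟶ X), IsAffine U.left → RepWith @Etale a →
      (∃ W : S.Opens, IsAffineOpen W ∧ ∀ u, U.hom u ∈ W) → ∀ (V : Over S) (p : V ⟶ U) (q : V ⟶ Over.mk str),
        IsPullback ((yon S).map p) ((yon S).map q) a y → CompactSpace V.left) :
    GoodAt (Points.ofPt y (closedPoint K)) := by
  intro U a hU ha K' _ str' y' hy' V p q sq
  obtain ⟨V₁, p₁, q₁, sq₁⟩ := exists_pullback hX.diag a y
  suffices CompactSpace V₁.left from compactSpace_of_same_point hX a hy'.symm sq₁ sq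
  let ι := {O : U.left.Opens // IsAffineOpen O ∧ ∃ W : S.Opens, IsAffineOpen W ∧ O ≤ U.hom ⁻¹ᵁ W}
  obtain ⟨t, ht⟩ := (isCompact_univ (X := U.left)).elim_finite_subcover (fun O : ι => (O.1 : Set U.left))
    (fun O => O.1.2) (fun u _ => by
      obtain ⟨W, hW, hu, -⟩ := TopologicalSpace.Opens.isBasis_iff_nbhd.mp S.isBasis_affineOpens
        (TopologicalSpace.Opens.mem_top (U.hom u))
      obtain ⟨O, hO, huO, hle⟩ := exists_isAffineOpen_mem_and_subset (U := U.hom ⁻¹ᵁ W) (x := u) hu
      exact Set.mem_iUnion.2 ⟨⟨O, hO, W, hW, hle⟩, huO⟩)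
  refine ⟨?_⟩
  have huniv : (Set.univ : Set V₁.left) = ⋃ O ∈ t, ((p₁.left ⁻¹ᵁ O.1 : V₁.left.Opens) : Set V₁.left) := by
    refine (Set.eq_univ_of_forall fun v => ?_).symm
    obtain ⟨O, hO, hv⟩ := Set.mem_iUnion₂.1 (ht (Set.mem_univ (p₁.left v)))
    exact Set.mem_iUnion₂.2 ⟨O, hO, hv⟩
  rw [huniv]
  refine t.isCompact_biUnion fun O _ => isCompact_iff_compactSpace.2 ?_
  let U' : Over S := Over.mk (O.1.ι ≫ U.hom)
  let inc : U' ⟶ U := Over.homMk O.1.ι rfl
  let V' : Over S := Over.mk ((p₁.left ⁻¹ᵁ O.1).ι ≫ V₁.hom)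
  let iV : V' ⟶ V₁ := Over.homMk (p₁.left ⁻¹ᵁ O.1).ι rfl
  let p' : V' ⟶ U' := Over.homMk (p₁.left ∣_ O.1) (by
    show (p₁.left ∣_ O.1) ≫ O.1.ι ≫ U.hom = (p₁.left ⁻¹ᵁ O.1).ι ≫ V₁.hom
    rw [morphismRestrict_ι_assoc, Over.w p₁])
  have sq' : IsPullback ((yon S).map p') ((yon S).map (iV ≫ q₁)) ((yon S).map inc ≫ a) y := by
    rw [Functor.map_comp]
    exact (isPullback_yon_iff.2 (isPullback_morphismRestrict p₁.left O.1)).paste_vert sq₁
  obtain ⟨hO, W, hW, hle⟩ := O.2
  exact h U' _ hO (repWith_comp ((repWith_yon_iff _).2 (show Etale O.1.ι from inferInstance)) ha)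
    ⟨W, hW, fun u => hle u.2⟩ V' p' _ sq'

/-- a quasi-compact field valued point is good -/
theorem goodAt_of_qc {X : Sp S} (hX : IsAlgSpace X) (p : FieldPt X) (hp : RepWith @QuasiCompact p.toHom) :
    GoodAt (Points.mk p) := by
  rw [← Points.ofPt_toHom p (closedPoint p.K)]
  refine goodAt_of_one hX p.toHom fun U a hU _ _ V pV qV sq => ?_
  have : QuasiCompact pV.left := hp.2 a _ pV sq.flip
  exact QuasiCompact.compactSpace_of_compactSpace pV.left

theorem goodAt_of_isDecent {X : Sp S} (hX : IsAlgSpace X) (hd : IsDecent X) (x : Points X) : GoodAt x := by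
  obtain ⟨p, rfl, -, hq⟩ := hd x
  exact goodAt_of_qc hX p hq

theorem compactFibres_of_good {X : Sp S} (h : ∀ x : Points X, GoodAt x) {U : Over S} [hU : IsAffine U.left]
    {a : (yon S).obj U ⟶ X} (ha : RepWith @Etale a) : CompactFibres a :=
  fun str y V p q sq => h _ U a hU ha _ str y rfl V p q sq

/-- affine charts through every point -/
theorem exists_affine_chart_at {X : Sp S} (hX : IsAlgSpace X) (x : Points X) :
    ∃ (U : Over S) (a : (yon S).obj U ⟶ X) (u : U.left), IsAffine U.left ∧ RepWith @Etale a ∧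
      Points.ofPt a u = x ∧ ∃ W : S.Opens, IsAffineOpen W ∧ ∀ v, U.hom v ∈ W := by
  obtain ⟨U₀, π, ι, O, hπ, hπs, hO, hW, hcov⟩ := exists_affine_chart_family hX
  obtain ⟨u₀, rfl⟩ := ofPt_surjective hπs x
  obtain ⟨i, hi⟩ := hcov u₀
  obtain ⟨W, hWa, hle⟩ := hW i
  let U : Over S := Over.mk ((O i).ι ≫ U₀.hom)
  refine ⟨U, (yon S).map (Over.homMk (O i).ι rfl : U ⟶ U₀) ≫ π, (⟨u₀, hi⟩ : ↥(O i)),
    (hO i : IsAffine (O i).toScheme), repWith_comp ((repWith_yon_iff _).2 (show Etale (O i).ι from inferInstance)) hπ,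
    ?_, W, hWa, fun v => hle (v : ↥(O i)).2⟩
  rw [ofPt_comp]
  rfl

/-- a good point is given by a quasi-compact monomorphism from the spectrum of a field -/
theorem exists_qc_mono_point {X : Sp S} (hX : IsAlgSpace X) {x : Points X} (h : GoodAt x) :
    ∃ p : FieldPt X, Points.mk p = x ∧ Mono p.toHom ∧ RepWith @QuasiCompact p.toHom := by
  obtain ⟨U, a, u, hU, ha, hu, -⟩ := exists_affine_chart_at hX x
  let k := U.left.residueField u
  let W : Over S := Over.mk (U.left.fromSpecResidueField u ≫ U.hom)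
  let iu : W ⟶ U := Over.homMk (U.left.fromSpecResidueField u) rfl
  obtain ⟨c, hcdef⟩ : ∃ c, c = (yon S).map iu ≫ a := ⟨_, rfl⟩
  have hsub : Subsingleton W.left := inferInstanceAs (Subsingleton (PrimeSpectrum k))
  have hcx : ∀ w : W.left, Points.ofPt c w = x := fun w => by
    rw [hcdef, ofPt_comp]
    exact (congrArg (Points.ofPt a) (Scheme.fromSpecResidueField_apply u w)).trans hu
  obtain ⟨F, pF, qF, sqF⟩ := exists_pullback hX.diag a c
  have : CompactSpace F.left := h U a hU ha k _ c (hcx _) F pF qF sqF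
  have : Etale qF.left := (repWith_yon_iff qF).1 (repWith_baseChange sqF ha)
  have : IsAffine W.left := inferInstanceAs (IsAffine (Spec k))
  have : IsLocallyArtinian W.left := by
    have : IsReduced W.left := inferInstanceAs (IsReduced (Spec k))
    infer_instance
  have : LocallyQuasiFinite qF.left := UnivInjMor.lqf_of_unramified _
  have : QuasiCompact qF.left := HasAffineProperty.iff_of_isAffine.mpr ‹_›
  have : IsFinite qF.left := IsFinite.of_locallyQuasiFinite _
  have : DiscreteTopology F.left := by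
    have : IsLocallyArtinian F.left := IsLocallyArtinian.of_locallyQuasiFinite qF.left
    infer_instance
  -- the self product of the point
  let Ro : Over S := Over.mk (pullback.fst pF.left iu.left ≫ F.hom)
  let r₁ : Ro ⟶ F := Over.homMk (pullback.fst pF.left iu.left) rfl
  let t : Ro ⟶ W := Over.homMk (pullback.snd pF.left iu.left) (by
    show pullback.snd pF.left iu.left ≫ W.hom = pullback.fst pF.left iu.left ≫ F.hom
    rw [← Over.w pF, ← Over.w iu]
    exact (pullback.condition_assoc _).symm)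
  have sqR : IsPullback ((yon S).map t) ((yon S).map (r₁ ≫ qF)) c c := by
    have h1 := (isPullback_yon_iff.2 ((IsPullback.of_hasPullback pF.left iu.left).flip) :
      IsPullback ((yon S).map t) ((yon S).map r₁) ((yon S).map iu) ((yon S).map pF)).paste_vert sqF
    rw [← Functor.map_comp, ← hcdef] at h1
    exact h1
  have : IsPreimmersion iu.left := inferInstanceAs (IsPreimmersion (U.left.fromSpecResidueField u))
  have : IsPreimmersion r₁.left := inferInstanceAs (IsPreimmersion (pullback.fst pF.left iu.left))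
  have : IsClosedImmersion r₁.left := IsClosedImmersion.of_isPreimmersion _ (isClosed_discrete _)
  have : IsFinite (r₁ ≫ qF).left := inferInstanceAs (IsFinite (r₁.left ≫ qF.left))
  have : Flat (r₁ ≫ qF).left := by
    have : IsIntegral W.left := inferInstanceAs (IsIntegral (Spec k))
    infer_instance
  have : IsLocallyNoetherian W.left := inferInstance
  have : LocallyOfFinitePresentation (r₁ ≫ qF).left :=
    LocallyOfFinitePresentation.iff_locallyOfFiniteType.mpr inferInstance
  obtain ⟨M, m, hmfin, hmf, hmp, hms, sqM⟩ := exists_kernel_quotient sqR (fun v =>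
    ⟨⊤, isAffineOpen_top _, fun _ _ => trivial⟩)
  obtain ⟨f, hf, hfm⟩ := exists_mono_desc sqR m sqM
  have hMsub : Subsingleton M.left := ⟨fun z z' => by
    obtain ⟨w, rfl⟩ := m.left.surjective z
    obtain ⟨w', rfl⟩ := m.left.surjective z'
    rw [Subsingleton.elim w w']⟩
  have : IsReduced M.left :=
    have : IsReduced W.left := inferInstanceAs (IsReduced (Spec k))
    FlatMor.isReduced_of_flat_surjective m.left
  have hQCf : RepWith @QuasiCompact f := by
    obtain ⟨U₀, π, ι, O, hπ, hπs, hO, -, hcov⟩ := exists_affine_chart_family hX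
    obtain ⟨P, pP, qP, sqP⟩ := exists_pullback hX.diag f π
    have := isLocallySurjective_of_atlas hπ hπs
    have hrep : Representable f := fun {T} ξ => by
      obtain ⟨V, v₁, v₂, sqV⟩ := exists_pullback hX.diag f ξ
      exact ⟨V, v₂, (yon S).map v₁, sqV⟩
    refine repWith_of_isLocallySurjective (P := @QuasiCompact) hrep sqP ((repWith_yon_iff qP).2 ?_)
    refine IsZariskiLocalAtTarget.of_iSup_eq_top O (eq_top_iff.2 fun z _ => TopologicalSpace.Opens.mem_iSup.2 (hcov z)) fun i => ?_
    let Z : Over S := Over.mk ((O i).ι ≫ U₀.hom)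
    let inc : Z ⟶ U₀ := Over.homMk (O i).ι rfl
    have : IsAffine Z.left := (hO i : IsAffine (O i).toScheme)
    have : IsAffine (O i).toScheme := hO i
    refine HasAffineProperty.iff_of_isAffine.mpr ?_
    obtain ⟨G, pG, qG, sqG⟩ := exists_pullback hX.diag ((yon S).map inc ≫ π) c
    have : CompactSpace G.left := h Z _ ‹_› (repWith_comp ((repWith_yon_iff inc).2
      (show Etale (O i).ι from inferInstance)) hπ) k _ c (hcx _) G pG qG sqG
    let Pi : Over S := Over.mk ((qP.left ⁻¹ᵁ O i).ι ≫ P.hom)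
    let iP : Pi ⟶ P := Over.homMk (qP.left ⁻¹ᵁ O i).ι rfl
    let qi : Pi ⟶ Z := Over.homMk (qP.left ∣_ O i) (by
      show (qP.left ∣_ O i) ≫ (O i).ι ≫ U₀.hom = (qP.left ⁻¹ᵁ O i).ι ≫ P.hom
      rw [morphismRestrict_ι_assoc, Over.w qP])
    have sqI : IsPullback ((yon S).map qi) ((yon S).map (iP ≫ pP)) ((yon S).map inc ≫ π) f := by
      rw [Functor.map_comp]
      exact (isPullback_yon_iff.2 (isPullback_morphismRestrict qP.left (O i))).paste_vert sqP.flip
    obtain ⟨l, hl⟩ := exists_map_eq (sqI.lift ((yon S).map pG) ((yon S).map (qG ≫ m)) (by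
      rw [sqG.w, Functor.map_comp, Category.assoc, hf]))
    have sqL : IsPullback ((yon S).map qG) ((yon S).map l) ((yon S).map m) ((yon S).map (iP ≫ pP)) := by
      refine IsPullback.of_bot ?_ ?_ sqI.flip
      · rw [hl, sqI.lift_fst, hf]
        exact sqG.flip
      · rw [hl, sqI.lift_snd, ← Functor.map_comp]
    have : Surjective l.left :=
      MorphismProperty.of_isPullback (P := @Surjective) (isPullback_yon_iff.1 sqL) ‹Surjective m.left›
    exact ⟨by
      rw [← l.left.surjective.range_eq]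
      exact isCompact_range l.left.continuous⟩
  obtain ⟨z⟩ : Nonempty M.left := ⟨m.left (closedPoint k)⟩
  let iz : Over.mk (M.left.fromSpecResidueField z ≫ M.hom) ⟶ M := Over.homMk (M.left.fromSpecResidueField z) rfl
  refine ⟨FieldPt.ofPt f z, ?_, ?_, ?_⟩
  · show Points.ofPt f z = x
    rw [Subsingleton.elim z (m.left (closedPoint k)), ← ofPt_comp, hf]
    exact hcx _
  · rw [FieldPt.toHom_ofPt]
    have : Mono iz.left := inferInstanceAs (Mono (M.left.fromSpecResidueField z))
    have : Mono iz := mono_of_left iz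
    have : Mono ((yon S).map iz) := inferInstance
    exact mono_comp _ _
  · rw [FieldPt.toHom_ofPt]
    refine repWith_comp ((repWith_yon_iff iz).2 ?_) hQCf
    have : Subsingleton (Spec (M.left.residueField z)) :=
      inferInstanceAs (Subsingleton (PrimeSpectrum (M.left.residueField z)))
    exact (⟨fun V hV hVc => (Set.subsingleton_of_subsingleton (s := _)).isCompact⟩ :
      QuasiCompact (M.left.fromSpecResidueField z))

theorem isDecent_of_good {X : Sp S} (hX : IsAlgSpace X) (h : ∀ x : Points X, GoodAt x) : IsDecent X :=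
  fun x => exists_qc_mono_point hX (h x)

end Groth.Agent.SpQS
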