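import Groth.Agent.SpQS.Sober
import Groth.Agent.SpQS.GoodPt
import Groth.Agent.AlgSpLib.DiagProp
import Mathlib.AlgebraicGeometry.Noetherian

/-!
# Locally noetherian decent spaces are quasi-separated
-/

universe u

open CategoryTheory CategoryTheory.Limits AlgebraicGeometry Opposite IsLocalRing TopologicalSpace

set_option backward.isDefEq.respectTransparency false

namespace Groth.Agent.SpQS

open _root_.AlgSp Groth.Agent.AlgSpLib

variable {S : Scheme.{u}}

theorem DegLE.mono_le {m n : ℕ} (h : m ≤ n) {R U : Scheme.{u}} {s : R ⟶ U} {u : U} (hd : DegLE m s u) :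
    DegLE n s u := by
  induction h with
  | refl => exact hd
  | step _ ih => exact ih.succ

theorem isClosed_degLE (m : ℕ) {R U : Scheme.{u}} (s : R ⟶ U) [Etale s] : IsClosed {u | DegLE m s u} := by
  simpa [← isOpen_compl_iff, Set.compl_ofPred] using isOpen_not_degLE m s

/-- separated etale maps of finite degree over noetherian spaces are quasi-compact -/
theorem compactSpace_of_degLE {R U : Scheme.{u}} (s : R ⟶ U) [Etale s] [IsSeparated s] [QuasiSeparatedSpace U]
    [NoetherianSpace U] (h : ∀ u, ∃ m, DegLE m s u) : CompactSpace R := by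
  choose f hf using h
  have hfin := NoetherianSpace.finite_irreducibleComponents (α := U)
  obtain ⟨M, hM⟩ : ∃ M, ∀ u, DegLE M s u := by
    refine ⟨hfin.toFinset.attach.sup (fun T => f ((hfin.mem_toFinset.1 T.2).1.genericPoint)), fun u => ?_⟩
    have hT := irreducibleComponent_mem_irreducibleComponents u
    have hg : IsGenericPoint hT.1.genericPoint (irreducibleComponent u) :=
      hT.1.isGenericPoint_genericPoint isClosed_irreducibleComponent
    have hle : f hT.1.genericPoint ≤
        hfin.toFinset.attach.sup (fun T => f ((hfin.mem_toFinset.1 T.2).1.genericPoint)) :=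
      Finset.le_sup (f := fun T : {x // x ∈ hfin.toFinset} => f ((hfin.mem_toFinset.1 T.2).1.genericPoint))
        (Finset.mem_attach _ ⟨irreducibleComponent u, hfin.mem_toFinset.2 hT⟩)
    exact (hg.specializes mem_irreducibleComponent).mem_closed (isClosed_degLE _ s)
      ((hf hT.1.genericPoint).mono_le hle)
  suffices ∀ (m : ℕ) (Z : Set U), IsClosed Z → (∀ v ∈ Z, DegLE m s v) → IsCompact (s ⁻¹' Z) by
    simpa [← isCompact_univ_iff] using this M Set.univ isClosed_univ fun v _ => hM v
  intro m
  induction m with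
  | zero =>
    intro Z _ hd
    rw [show s ⁻¹' Z = ∅ from Set.eq_empty_of_forall_notMem fun r hr => hd _ hr r rfl]
    exact isCompact_empty
  | succ m ih =>
    intro Z hZ hd
    let D : Set U := {v ∈ Z | ¬ DegLE m s v}
    have key : ∀ v ∈ D, ∃ V : U.Opens, v ∈ V ∧ IsCompact (s ⁻¹' ((V : Set U) ∩ Z)) := by
      rintro v ⟨hvZ, hv⟩
      obtain ⟨V₀, hvV, hV₀⟩ := exists_compact_preimage (m + 1) s hZ ⊤ (fun w _ hw => hd w hw) v trivial hvZ
        (fun k hk => by obtain rfl : k = m := by omega
                        exact hv)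
      exact ⟨V₀, hvV, hV₀ V₀ (NoetherianSpace.isCompact _) le_rfl⟩
    choose! V hV hVc using key
    obtain ⟨t, htD, htfin, hcov⟩ := (NoetherianSpace.isCompact D).elim_finite_subcover_image
      (fun v _ => (V v).2) (fun v hv => Set.mem_biUnion hv (hV v hv))
    have : s ⁻¹' Z = s ⁻¹' (Z ∩ {v | DegLE m s v}) ∪ ⋃ v ∈ t, s ⁻¹' (((V v : U.Opens) : Set U) ∩ Z) := by
      ext r
      constructor
      · intro hr
        by_cases hm : DegLE m s (s r)
        · exact Or.inl ⟨hr, hm⟩
        · obtain ⟨v, hv, hrv⟩ := Set.mem_iUnion₂.1 (hcov (show s r ∈ D from ⟨hr, hm⟩))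
          exact Or.inr (Set.mem_biUnion hv ⟨hrv, hr⟩)
      · rintro (hr | hr)
        · exact hr.1
        · obtain ⟨v, -, hrv⟩ := Set.mem_iUnion₂.1 hr
          exact hrv.2
    rw [this]
    exact (ih _ (hZ.inter (isClosed_degLE m s)) fun v hv => hv.2).union
      (htfin.isCompact_biUnion fun v hv => hVc v (htD hv))

/-- compact fibres bound the degree of the product of two charts -/
theorem exists_degLE_pair {X : Sp S} {U W R : Over S} {a : (yon S).obj U ⟶ X} {b : (yon S).obj W ⟶ X}
    (hfib : CompactFibres a) {p : R ⟶ U} {q : R ⟶ W} (sqR : IsPullback ((yon S).map p) ((yon S).map q) a b)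
    [Etale q.left] [IsSeparated q.left] (v : W.left) : ∃ m, DegLE m q.left v := by
  obtain ⟨Ω, _, _, g, hg⟩ := exists_geomPoint v
  let str : Spec (CommRingCat.of Ω) ⟶ S := g ≫ W.hom
  let gO : Over.mk str ⟶ W := Over.homMk g rfl
  let V : Over S := Over.mk (pullback.fst q.left g ≫ R.hom)
  let vR : V ⟶ R := Over.homMk (pullback.fst q.left g) rfl
  let vK : V ⟶ Over.mk str := Over.homMk (pullback.snd q.left g) (by
    show pullback.snd q.left g ≫ g ≫ W.hom = pullback.fst q.left g ≫ R.hom
    rw [← Over.w q]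
    exact (pullback.condition_assoc _).symm)
  have sqV : IsPullback ((yon S).map vR) ((yon S).map vK) ((yon S).map q) ((yon S).map gO) :=
    isPullback_yon_iff.2 (IsPullback.of_hasPullback q.left g)
  have sq : IsPullback ((yon S).map (vR ≫ p)) ((yon S).map vK) a ((yon S).map gO ≫ b) := by
    rw [Functor.map_comp]
    exact sqV.paste_horiz sqR
  have : CompactSpace ↥(pullback q.left g) := hfib str _ V _ _ sq
  rw [← hg]
  exact SpQS.exists_degLE q.left g

theorem isSeparated_of_isAffine_source {A : Scheme.{u}} [IsAffine A] (f : A ⟶ S) : IsSeparated f := by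
  have : IsSeparated (f ≫ terminal.from S) := inferInstance
  exact IsSeparated.of_comp f (terminal.from S)

/-- products of noetherian affine charts of decent spaces are quasi-compact -/
theorem compactSpace_product_noetherian {X : Sp S} (hg : ∀ x : Points X, GoodAt x) {A B R : Over S}
    [hA : IsAffine A.left] [IsAffine B.left] [NoetherianSpace B.left] {a : (yon S).obj A ⟶ X}
    (ha : RepWith @Etale a) {b : (yon S).obj B ⟶ X} {p : R ⟶ A} {q : R ⟶ B}
    (sq : IsPullback ((yon S).map p) ((yon S).map q) a b) : CompactSpace R.left := by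
  have : Etale q.left := (repWith_yon_iff q).1 (repWith_baseChange sq ha)
  have hw : p.left ≫ A.hom = q.left ≫ B.hom := (Over.w p).trans (Over.w q).symm
  let ρ := pullback.lift p.left q.left hw
  have : Mono ρ := ⟨fun {T} g g' e => by
    have e₁ : g ≫ p.left = g' ≫ p.left := by simpa [ρ] using congrArg (· ≫ pullback.fst A.hom B.hom) e
    have e₂ : g ≫ q.left = g' ≫ q.left := by simpa [ρ] using congrArg (· ≫ pullback.snd A.hom B.hom) e
    let G : Over.mk (g ≫ R.hom) ⟶ R := Over.homMk g rfl
    let G' : Over.mk (g ≫ R.hom) ⟶ R := Over.homMk g' (by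
      show g' ≫ R.hom = g ≫ R.hom
      rw [← Over.w p, reassoc_of% e₁])
    have h : (yon S).map G = (yon S).map G' := sq.hom_ext
      (by rw [← Functor.map_comp, ← Functor.map_comp]; exact congrArg _ (Over.OverMorphism.ext e₁))
      (by rw [← Functor.map_comp, ← Functor.map_comp]; exact congrArg _ (Over.OverMorphism.ext e₂))
    exact congrArg (fun t => t.left) ((yon S).map_injective h)⟩
  have := isSeparated_of_isAffine_source A.hom
  have : IsSeparated q.left := by
    rw [show q.left = ρ ≫ pullback.snd A.hom B.hom from (pullback.lift_snd _ _ hw).symm]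
    infer_instance
  exact compactSpace_of_degLE q.left fun v =>
    exists_degLE_pair (compactFibres_of_good hg (hU := hA) ha) sq v

/-- locally noetherian decent spaces are quasi-separated -/
theorem isQuasiSeparatedSp_of_noetherian {X : Sp S} (hX : IsAlgSpace X) (hg : ∀ x : Points X, GoodAt x)
    {U : Over S} [IsLocallyNoetherian U.left] {π : (yon S).obj U ⟶ X} (hπ : RepWith @Etale π)
    (hπs : RepWith @Surjective π) : IsQuasiSeparatedSp X := by
  obtain ⟨R, t, s, sq⟩ := exists_pullback hX.diag π π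
  have := isLocallySurjective_of_atlas hπ hπs
  have := isLocallySurjective_prod_map π π
  refine repWith_of_isLocallySurjective hX.diag (isPullback_lift_diag sq) ?_
  have e : prod.lift ((yon S).map t) ((yon S).map s) =
      (yon S).map (prod.lift t s) ≫ prodComparison (yon S) U U := by
    apply prod.hom_ext <;> simp [prodComparison, ← Functor.map_comp]
  rw [e]
  refine (repWith_comp_iso_iff (P := @QuasiCompact) _ _).2 ((repWith_yon_iff _).2 ?_)
  rw [← MorphismProperty.cancel_right_of_respectsIso (P := @QuasiCompact) (prod.lift t s).left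
    (Over.prodLeftIsoPullback U U).hom]
  let ρ : R.left ⟶ pullback U.hom U.hom := pullback.lift t.left s.left ((Over.w t).trans (Over.w s).symm)
  rw [show (prod.lift t s).left ≫ (Over.prodLeftIsoPullback U U).hom = ρ by
    apply pullback.hom_ext
    · rw [pullback.lift_fst, Category.assoc, Over.prodLeftIsoPullback_hom_fst]
      exact congrArg (fun k => k.left) (prod.lift_fst t s)
    · rw [pullback.lift_snd, Category.assoc, Over.prodLeftIsoPullback_hom_snd]
      exact congrArg (fun k => k.left) (prod.lift_snd t s)]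
  rw [quasiCompact_iff_forall_isAffineOpen]
  intro Q hQ
  let f₁ : pullback U.hom U.hom ⟶ U.left := pullback.fst U.hom U.hom
  let f₂ : pullback U.hom U.hom ⟶ U.left := pullback.snd U.hom U.hom
  let ι := {T : (pullback U.hom U.hom).Opens // IsAffineOpen T ∧ ∃ A B : U.left.Opens, IsAffineOpen A ∧
    IsAffineOpen B ∧ T ≤ f₁ ⁻¹ᵁ A ⊓ f₂ ⁻¹ᵁ B ∧ T ≤ Q}
  obtain ⟨T, hT⟩ := hQ.isCompact.elim_finite_subcover (fun i : ι => ((i.1 : _) : Set ↥(pullback U.hom U.hom)))
    (fun i => i.1.2) fun z hz => by
      obtain ⟨A, hA, hzA, -⟩ := exists_isAffineOpen_mem_and_subset (U := (⊤ : U.left.Opens)) (x := f₁ z) trivial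
      obtain ⟨B, hB, hzB, -⟩ := exists_isAffineOpen_mem_and_subset (U := (⊤ : U.left.Opens)) (x := f₂ z) trivial
      obtain ⟨T, hT, hzT, hTle⟩ := exists_isAffineOpen_mem_and_subset
        (U := f₁ ⁻¹ᵁ A ⊓ f₂ ⁻¹ᵁ B ⊓ Q) (x := z) ⟨⟨hzA, hzB⟩, hz⟩
      exact Set.mem_iUnion.2 ⟨⟨T, hT, A, B, hA, hB, fun w hw => (hTle hw).1, fun w hw => (hTle hw).2⟩, hzT⟩
  have hpre : ρ ⁻¹' (Q : Set ↥(pullback U.hom U.hom)) =
      ⋃ i ∈ T, ρ ⁻¹' ((i.1 : _) : Set ↥(pullback U.hom U.hom)) := by
    ext r
    constructor
    · intro hr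
      obtain ⟨i, hi, hri⟩ := Set.mem_iUnion₂.1 (hT hr)
      exact Set.mem_biUnion hi hri
    · intro hr
      obtain ⟨i, -, hri⟩ := Set.mem_iUnion₂.1 hr
      obtain ⟨_, A, B, -, -, -, hle⟩ := i.2
      exact hle hri
  show IsCompact (ρ ⁻¹' (Q : Set ↥(pullback U.hom U.hom)))
  rw [hpre]
  refine T.isCompact_biUnion fun i _ => ?_
  obtain ⟨hTaff, A, B, hA, hB, hle, -⟩ := i.2
  let Ao : Over S := Over.mk (A.ι ≫ U.hom)
  let Bo : Over S := Over.mk (B.ι ≫ U.hom)
  let ia : Ao ⟶ U := Over.homMk A.ι rfl
  let ib : Bo ⟶ U := Over.homMk B.ι rfl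
  have : IsAffine Ao.left := (hA : IsAffine A.toScheme)
  have : IsAffine Bo.left := (hB : IsAffine B.toScheme)
  have : IsLocallyNoetherian Bo.left := inferInstanceAs (IsLocallyNoetherian B.toScheme)
  have : IsNoetherian Bo.left := {}
  obtain ⟨V, v₁, v₂, sqV⟩ := exists_pullback hX.diag ((yon S).map ia ≫ π) ((yon S).map ib ≫ π)
  have := compactSpace_product_noetherian hg (a := (yon S).map ia ≫ π)
    (repWith_comp ((repWith_yon_iff ia).2 (inferInstanceAs (Etale A.ι))) hπ) sqV
  obtain ⟨l, hl⟩ := exists_map_eq (sq.lift ((yon S).map (v₁ ≫ ia)) ((yon S).map (v₂ ≫ ib)) (by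
    rw [Functor.map_comp, Functor.map_comp, Category.assoc, Category.assoc, sqV.w]))
  have hlt : l ≫ t = v₁ ≫ ia := (yon S).map_injective (by rw [Functor.map_comp, hl, sq.lift_fst])
  have hls : l ≫ s = v₂ ≫ ib := (yon S).map_injective (by rw [Functor.map_comp, hl, sq.lift_snd])
  let e : V.left ⟶ pullback Ao.hom Bo.hom :=
    pullback.lift v₁.left v₂.left ((Over.w v₁).trans (Over.w v₂).symm)
  let g : pullback Ao.hom Bo.hom ⟶ pullback U.hom U.hom :=
    pullback.map Ao.hom Bo.hom U.hom U.hom A.ι B.ι (𝟙 S) (by simp [Ao]) (by simp [Bo])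
  have hcomm : l.left ≫ ρ = e ≫ g := by
    apply pullback.hom_ext
    · simp only [ρ, e, g, Category.assoc, pullback.lift_fst, pullback.lift_fst_assoc]
      exact congrArg (fun k => k.left) hlt
    · simp only [ρ, e, g, Category.assoc, pullback.lift_snd, pullback.lift_snd_assoc]
      exact congrArg (fun k => k.left) hls
  have : IsOpenImmersion g := by
    show IsOpenImmersion (pullback.map _ _ _ _ _ _ _ _ _)
    infer_instance
  have := isSeparated_of_isAffine_source Ao.hom
  have : Scheme.IsSeparated (pullback Ao.hom Bo.hom) := ⟨by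
    rw [← terminal.comp_from (pullback.snd Ao.hom Bo.hom)]
    infer_instance⟩
  have : QuasiCompact e := quasiCompact_of_compactSpace e
  have hgT : IsCompact (g ⁻¹' (i.1 : Set ↥(pullback U.hom U.hom))) := by
    refine g.isOpenEmbedding.isInducing.isCompact_preimage' hTaff.isCompact fun z hz => ?_
    obtain ⟨hz₁, hz₂⟩ := hle hz
    rw [Scheme.Pullback.range_map]
    exact ⟨⟨⟨_, hz₁⟩, rfl⟩, ⟨⟨_, hz₂⟩, rfl⟩⟩
  have hc := (e.isSpectralMap.isCompact_preimage_of_isOpen
    (i.1.2.preimage g.continuous) hgT)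
  have : ρ ⁻¹' (i.1 : Set ↥(pullback U.hom U.hom)) = l.left '' (e ⁻¹' (g ⁻¹' (i.1 : Set ↥(pullback U.hom U.hom)))) := by
    ext r
    constructor
    · intro hr
      obtain ⟨hr₁, hr₂⟩ := hle hr
      have hr₁' : t.left r ∈ A := by
        have : f₁ (ρ r) ∈ A := hr₁
        rwa [← Scheme.Hom.comp_apply, show ρ ≫ f₁ = t.left from pullback.lift_fst _ _ _] at this
      have hr₂' : s.left r ∈ B := by
        have : f₂ (ρ r) ∈ B := hr₂
        rwa [← Scheme.Hom.comp_apply, show ρ ≫ f₂ = s.left from pullback.lift_snd _ _ _] at this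
      let K : Over S := Over.mk (R.left.fromSpecResidueField r ≫ R.hom)
      let k : K ⟶ R := Over.homMk (R.left.fromSpecResidueField r) rfl
      have hrA : Set.range (k ≫ t).left ⊆ Set.range A.ι := by
        rw [Scheme.Opens.range_ι]
        rintro _ ⟨z, rfl⟩
        rw [Over.comp_left, Scheme.Hom.comp_apply]
        exact (Scheme.fromSpecResidueField_apply r z).symm ▸ hr₁'
      have hrB : Set.range (k ≫ s).left ⊆ Set.range B.ι := by
        rw [Scheme.Opens.range_ι]
        rintro _ ⟨z, rfl⟩
        rw [Over.comp_left, Scheme.Hom.comp_apply]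
        exact (Scheme.fromSpecResidueField_apply r z).symm ▸ hr₂'
      let ka : K ⟶ Ao := Over.homMk (IsOpenImmersion.lift A.ι _ hrA) (by
        show _ ≫ A.ι ≫ U.hom = _
        rw [IsOpenImmersion.lift_fac_assoc, Over.w])
      let kb : K ⟶ Bo := Over.homMk (IsOpenImmersion.lift B.ι _ hrB) (by
        show _ ≫ B.ι ≫ U.hom = _
        rw [IsOpenImmersion.lift_fac_assoc, Over.w])
      have hka : ka ≫ ia = k ≫ t := Over.OverMorphism.ext (IsOpenImmersion.lift_fac _ _ _)
      have hkb : kb ≫ ib = k ≫ s := Over.OverMorphism.ext (IsOpenImmersion.lift_fac _ _ _)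
      obtain ⟨m, hm⟩ := exists_map_eq (sqV.lift ((yon S).map ka) ((yon S).map kb) (by
        rw [← Functor.map_comp_assoc, ← Functor.map_comp_assoc, hka, hkb, Functor.map_comp, Functor.map_comp,
          Category.assoc, Category.assoc, sq.w]))
      have hml : m ≫ l = k := (yon S).map_injective (sq.hom_ext
        (by rw [← Functor.map_comp, ← Functor.map_comp, Category.assoc, hlt, ← hka, Functor.map_comp,
          Functor.map_comp, Functor.map_comp, ← Category.assoc, hm, sqV.lift_fst])
        (by rw [← Functor.map_comp, ← Functor.map_comp, Category.assoc, hls, ← hkb, Functor.map_comp,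
          Functor.map_comp, Functor.map_comp, ← Category.assoc, hm, sqV.lift_snd]))
      have hmr : l.left (m.left (closedPoint (R.left.residueField r))) = r := by
        rw [← Scheme.Hom.comp_apply, ← Over.comp_left, hml]
        exact Scheme.fromSpecResidueField_apply r _
      refine ⟨_, ?_, hmr⟩
      show g (e _) ∈ (i.1 : Set ↥(pullback U.hom U.hom))
      rw [← Scheme.Hom.comp_apply, ← hcomm, Scheme.Hom.comp_apply, hmr]
      exact hr
    · rintro ⟨v, hv, rfl⟩
      show ρ (l.left v) ∈ (i.1 : Set ↥(pullback U.hom U.hom))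
      rw [← Scheme.Hom.comp_apply, hcomm, Scheme.Hom.comp_apply]
      exact hv
  rw [this]
  exact hc.image l.left.continuous

end Groth.Agent.SpQS
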