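import Groth.Agent.SpQS.DimField
import Groth.Agent.SpQS.CodimZero
import Groth.Agent.SpQS.NoethDecent
import Groth.Agent.SpQS.Basic
import Groth.Agent.SpQS.DecentPoint
import Mathlib.AlgebraicGeometry.Limits

/-!
# Spaces of dimension zero and dimension along locally quasi-finite maps
-/

universe u

open CategoryTheory CategoryTheory.Limits AlgebraicGeometry Opposite IsLocalRing Topology TopologicalSpace

set_option backward.isDefEq.respectTransparency false

namespace Groth.Agent.SpQS

open _root_.AlgSp Groth.Agent.AlgSpLib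

/-- compact opens of quasi-separated schemes with closed points are closed -/
theorem isClosed_of_isCompact_opens {U : Scheme.{u}} [QuasiSeparatedSpace U] (h : ∀ x : U, IsClosed ({x} : Set U))
    {V : U.Opens} (hV : IsCompact (V : Set U)) : IsClosed (V : Set U) := by
  have : CompactSpace V.toScheme := isCompact_iff_compactSpace.1 hV
  have : QuasiCompact V.ι := quasiCompact_of_compactSpace _
  refine closure_subset_iff_isClosed.1 fun y hy => ?_
  obtain ⟨z, -, hz⟩ := SubDescent.exists_specializes_of_mem_closure_image V.ι isClosed_univ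
    (y := y) (by rwa [Set.image_univ, Scheme.Opens.range_ι])
  have : y = V.ι z := hz.mem_closed (h _) rfl
  rw [this]
  exact z.2

theorem isAffineOpen_clopen_le {U : Scheme.{u}} {A W : U.Opens} (hA : IsAffineOpen A) (hle : W ≤ A)
    (hW : IsClosed (W : Set U)) : IsAffineOpen W := by
  have : IsAffine A.toScheme := hA
  let i := U.homOfLE hle
  have : IsClosedImmersion i := IsClosedImmersion.of_isPreimmersion i (by
    have : Set.range i = A.ι ⁻¹' (W : Set U) := by
      ext z
      constructor
      · rintro ⟨w, rfl⟩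
        show A.ι (i w) ∈ (W : Set U)
        rw [← Scheme.Hom.comp_apply, Scheme.homOfLE_ι]
        exact w.2
      · intro hz
        refine ⟨⟨A.ι z, hz⟩, A.ι.isOpenEmbedding.injective ?_⟩
        rw [← Scheme.Hom.comp_apply, Scheme.homOfLE_ι]
        rfl
    rw [this]
    exact hW.preimage A.ι.continuous)
  exact isAffine_of_isAffineHom i

/-- quasi-compact opens of quasi-separated zero dimensional schemes are affine -/
theorem isAffineOpen_of_isCompact {U : Scheme.{u}} [QuasiSeparatedSpace U] (h : ∀ x : U, IsClosed ({x} : Set U))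
    (V : U.Opens) (hV : IsCompact (V : Set U)) : IsAffineOpen V := by
  classical
  obtain ⟨t, ht⟩ := hV.elim_finite_subcover (fun A : {A : U.Opens // IsAffineOpen A ∧ A ≤ V} => (A.1 : Set U))
    (fun A => A.1.2) (fun x hx => by
      obtain ⟨A, hA, hxA, hle⟩ := exists_isAffineOpen_mem_and_subset (U := V) (x := x) hx
      exact Set.mem_iUnion.2 ⟨⟨A, hA, hle⟩, hxA⟩)
  suffices ∀ s : Finset {A : U.Opens // IsAffineOpen A ∧ A ≤ V}, IsAffineOpen (⨆ A ∈ s, A.1) by
    convert this t using 1
    refine le_antisymm (fun x hx => ?_) (iSup₂_le fun A _ => A.2.2)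
    obtain ⟨A, hA, hxA⟩ := Set.mem_iUnion₂.1 (ht hx)
    exact (le_iSup₂ (f := fun A (_ : A ∈ t) => A.1) A hA) hxA
  intro s
  induction s using Finset.induction with
  | empty =>
    simp only [Finset.notMem_empty, not_false_eq_true, iSup_neg, iSup_bot]
    exact isAffineOpen_bot U
  | @insert A s _ ih =>
    rw [Finset.iSup_insert]
    let Bc : U.Opens := ⟨((⨆ B ∈ s, B.1 : U.Opens) : Set U)ᶜ, (isClosed_of_isCompact_opens h ih.isCompact).isOpen_compl⟩
    have hB : IsAffineOpen (A.1 ⊓ Bc) := isAffineOpen_clopen_le A.2.1 inf_le_left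
      ((isClosed_of_isCompact_opens h A.2.1.isCompact).inter (⨆ B ∈ s, B.1 : U.Opens).2.isClosed_compl)
    convert ih.sup_of_disjoint hB ?_ using 1
    · refine Opens.ext (Set.ext fun x => ?_)
      simp only [Opens.coe_sup, Opens.coe_inf, Set.mem_union, Set.mem_inter_iff]
      show _ ↔ _ ∨ (_ ∧ x ∉ ((⨆ B ∈ s, B.1 : U.Opens) : Set U))
      tauto
    · rw [disjoint_iff]
      exact Opens.ext (Set.eq_empty_of_forall_notMem fun x hx => hx.2.2 hx.1)

/-- quasi-separated zero dimensional schemes are separated -/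
theorem isSeparated_of_closed_points {U : Scheme.{u}} [QuasiSeparatedSpace U]
    (h : ∀ x : U, IsClosed ({x} : Set U)) : U.IsSeparated := by
  let P := pullback (terminal.from U) (terminal.from U)
  let δ : U ⟶ P := pullback.diagonal (terminal.from U)
  let p₁ : P ⟶ U := pullback.fst _ _
  let p₂ : P ⟶ U := pullback.snd _ _
  have : IsClosedImmersion δ := IsClosedImmersion.of_isPreimmersion δ (by
    rw [← isOpen_compl_iff, isOpen_iff_forall_mem_open]
    intro z hz
    by_cases he : p₁ z = p₂ z
    · obtain ⟨A, hA, hzA, -⟩ := exists_isAffineOpen_mem_and_subset (U := (⊤ : U.Opens)) (x := p₁ z) trivial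
      have : IsAffine A.toScheme := hA
      let g : pullback (A.ι ≫ terminal.from U) (A.ι ≫ terminal.from U) ⟶ P :=
        pullback.map _ _ _ _ A.ι A.ι (𝟙 _) (by simp) (by simp)
      have : IsOpenImmersion g := by
        show IsOpenImmersion (pullback.map _ _ _ _ _ _ _ _ _)
        infer_instance
      have : IsSeparated (A.ι ≫ terminal.from U) := by
        rw [Subsingleton.elim (A.ι ≫ terminal.from U) (terminal.from _)]
        infer_instance
      have hd : IsClosed (Set.range (pullback.diagonal (A.ι ≫ terminal.from U))) :=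
        (pullback.diagonal (A.ι ≫ terminal.from U)).isClosedEmbedding.isClosed_range
      refine ⟨g '' (Set.range (pullback.diagonal (A.ι ≫ terminal.from U)))ᶜ, ?_,
        g.isOpenEmbedding.isOpenMap _ hd.isOpen_compl, ?_⟩
      · rintro _ ⟨w, hw, rfl⟩ ⟨v, hv⟩
        have hgi : g ≫ p₁ = pullback.fst _ _ ≫ A.ι := pullback.lift_fst _ _ _
        have hvA : v ∈ A := by
          have h1 := congrArg p₁ hv
          rw [← Scheme.Hom.comp_apply, ← Scheme.Hom.comp_apply, hgi,
            show δ ≫ p₁ = 𝟙 U from pullback.diagonal_fst _, Scheme.Hom.comp_apply] at h1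
          rw [show v = A.ι (pullback.fst (A.ι ≫ terminal.from U) (A.ι ≫ terminal.from U) w) from h1]
          exact Subtype.mem _
        refine hw ⟨⟨v, hvA⟩, g.isOpenEmbedding.injective ?_⟩
        rw [← hv, ← Scheme.Hom.comp_apply]
        have : pullback.diagonal (A.ι ≫ terminal.from U) ≫ g = A.ι ≫ δ := by
          apply pullback.hom_ext <;> simp [g, δ]
        rw [this, Scheme.Hom.comp_apply]
        rfl
      · obtain ⟨w, hw⟩ : z ∈ Set.range g := by
          rw [Scheme.Pullback.range_map]
          exact ⟨⟨⟨p₁ z, hzA⟩, rfl⟩, ⟨⟨p₂ z, he ▸ hzA⟩, rfl⟩⟩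
        refine ⟨w, fun ⟨v, hv⟩ => hz ⟨A.ι v, ?_⟩, hw⟩
        rw [← hw, ← hv, ← Scheme.Hom.comp_apply, ← Scheme.Hom.comp_apply]
        have : pullback.diagonal (A.ι ≫ terminal.from U) ≫ g = A.ι ≫ δ := by
          apply pullback.hom_ext <;> simp [g, δ]
        rw [this]
    · obtain ⟨A, hA, hzA, hle⟩ := exists_isAffineOpen_mem_and_subset
        (U := (⟨{p₂ z}ᶜ, (h _).isOpen_compl⟩ : U.Opens)) (x := p₁ z) he
      refine ⟨p₁ ⁻¹' (A : Set U) ∩ p₂ ⁻¹' (A : Set U)ᶜ, ?_, (A.2.preimage p₁.continuous).inter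
        ((isClosed_of_isCompact_opens h hA.isCompact).isOpen_compl.preimage p₂.continuous),
        hzA, fun h2 => hle h2 rfl⟩
      rintro _ ⟨h1, h2⟩ ⟨v, rfl⟩
      refine h2 ?_
      show p₂ (δ v) ∈ A
      have e : p₁ (δ v) = p₂ (δ v) := by
        rw [← Scheme.Hom.comp_apply, ← Scheme.Hom.comp_apply, show δ ≫ p₁ = 𝟙 U from pullback.diagonal_fst _,
          show δ ≫ p₂ = 𝟙 U from pullback.diagonal_snd _]
      rw [← e]
      exact h1)
  exact ⟨⟨this⟩⟩

variable {S : Scheme.{u}}

theorem forall_isMaxPt_of_dim {X : Sp S} (hX : IsAlgSpace X) (hdec : IsDecent X) (hd : AlgSp.dim X = 0)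
    (x : Points X) : IsMaxPt x ∧ IsClosed ({x} : Set (Points X)) := by
  obtain ⟨_, _⟩ := t0_sober_of_decent hX hdec
  have h := forall_isClosed_of_dim_le_zero (le_of_eq ((topologicalKrullDim_points_eq_dim hX hdec).trans hd))
  exact ⟨fun y hy => (hy.mem_closed (h y) rfl).symm, h x⟩

theorem exists_scheme_of_dim_zero [QuasiSeparatedSpace S] {X : Sp S} (hX : IsAlgSpace X)
    (hqs : IsQuasiSeparatedSp X) (hd : AlgSp.dim X = 0) : ∃ (U : Over S) (_ : (yon S).obj U ≅ X),
      U.left.IsSeparated ∧ ∀ V : U.left.Opens, IsCompact (V : Set ↥U.left) → IsAffineOpen V := by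
  have hg := goodAt_of_qsDiag hX hqs
  have hdec := isDecent_of_good hX hg
  obtain ⟨_, _⟩ := t0_sober_of_decent hX hdec
  have hch : ∀ x : Points X, ∃ (M : Over S) (f : (yon S).obj M ⟶ X),
      RepWith @IsOpenImmersion f ∧ x ∈ Set.range (Points.map f) := fun x => by
    obtain ⟨V, b, v, hV, hb, rfl, W, hW, hVW⟩ := exists_affine_chart_at hX x
    obtain ⟨R, p, q, sq⟩ := exists_pullback hX.diag b b
    have := compactSpace_relation_of_qs hqs hW hVW sq
    exact exists_scheme_at_max hX hg hb sq ((isMaxPt_ofPt_iff hX hg hb v).1 (forall_isMaxPt_of_dim hX hdec hd _).1)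
  obtain ⟨U₀, π, hπ, hπs⟩ := hX.atlas
  choose M f hf hmem using fun u : U₀.left => hch (Points.ofPt π u)
  obtain ⟨U, ⟨e⟩⟩ := exists_iso_yon_of_open_cover hX M f hf fun z => by
    obtain ⟨u, rfl⟩ := ofPt_surjective hπs z
    exact ⟨u, hmem u⟩
  refine ⟨U, e.symm, ?_⟩
  have hq' : RepWith @QuasiCompact (Limits.diag ((yon S).obj U)) := by
    rw [← repWith_comp_iso_iff (P := @QuasiCompact) _ (prod.map e.inv e.inv),
      show Limits.diag ((yon S).obj U) ≫ prod.map e.inv e.inv = e.inv ≫ Limits.diag X from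
        prod.hom_ext (by simp) (by simp)]
    exact repWith_comp (repWith_of_isIso _) hqs
  let φ : U ⟶ Over.mk (𝟙 S) := Over.homMk U.hom (Category.comp_id _)
  have hqm : IsQuasiSeparatedMor ((yon S).map φ) := (isQuasiSeparatedSp_iff_mor _).1 hq'
  have : QuasiSeparated U.hom := ⟨(repWith_diagonal_yon_iff @QuasiCompact φ).1 hqm⟩
  have : QuasiSeparatedSpace U.left := quasiSeparatedSpace_of_quasiSeparated U.hom
  have hclosed : ∀ u : U.left, IsClosed ({u} : Set U.left) := fun u => by
    have h1 := (forall_isMaxPt_of_dim hX hdec hd (Points.ofPt e.inv u)).2.preimage (Points.continuous_ofPt e.inv)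
    convert h1 using 1
    ext v
    refine ⟨fun hv => congrArg _ hv, fun hv => (Points.schemeEquiv U).injective
      (injective_points_of_mono e.inv ?_)⟩
    show Points.map e.inv (Points.ofScheme U v) = Points.map e.inv (Points.ofScheme U u)
    rw [← Points.ofPt_eq_map_ofScheme, ← Points.ofPt_eq_map_ofScheme]
    exact hv
  exact ⟨isSeparated_of_closed_points hclosed, fun V hV => isAffineOpen_of_isCompact hclosed V hV⟩

theorem exists_scheme_of_dim_zero_field {k : Type u} [Field k] {X : Sp (Spec (CommRingCat.of k))}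
    (hX : IsAlgSpace X) (p : X ⟶ (yon (Spec (CommRingCat.of k))).obj (Over.mk (𝟙 _)))
    (hp : LocP @LocallyOfFiniteType p) (hd : AlgSp.dim X = 0) :
    ∃ (U : Over (Spec (CommRingCat.of k))) (_ : (yon (Spec (CommRingCat.of k))).obj U ≅ X),
      U.left.IsSeparated ∧ ∀ V : U.left.Opens, IsCompact (V : Set ↥U.left) → IsAffineOpen V := by
  have hg : ∀ x : Points X, GoodAt x := fun x => goodAt_of_finite hX x fun U φ hU hφ R s t sq => by
    have : LocallyOfFiniteType U.hom := chart_lft p hp hφ
    have : DiscreteTopology U.left := discrete_of_dim_le_zero U.hom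
      (hd ▸ le_iSup_of_le U (le_iSup_of_le φ (le_iSup_of_le hφ le_rfl)))
    have hw : t.left ≫ U.hom = s.left ≫ U.hom := (Over.w t).trans (Over.w s).symm
    let ρ := pullback.lift t.left s.left hw
    have : Mono ρ := ⟨fun {T} g g' e => by
      have e₁ : g ≫ t.left = g' ≫ t.left := by simpa [ρ] using congrArg (· ≫ pullback.fst U.hom U.hom) e
      have e₂ : g ≫ s.left = g' ≫ s.left := by simpa [ρ] using congrArg (· ≫ pullback.snd U.hom U.hom) e
      let G : Over.mk (g ≫ R.hom) ⟶ R := Over.homMk g rfl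
      let G' : Over.mk (g ≫ R.hom) ⟶ R := Over.homMk g' (by
        show g' ≫ R.hom = g ≫ R.hom
        rw [← Over.w t, reassoc_of% e₁])
      have h : (yon _).map G = (yon _).map G' := sq.hom_ext
        (by rw [← Functor.map_comp, ← Functor.map_comp]; exact congrArg _ (Over.OverMorphism.ext e₁))
        (by rw [← Functor.map_comp, ← Functor.map_comp]; exact congrArg _ (Over.OverMorphism.ext e₂))
      exact congrArg (fun t => t.left) ((yon _).map_injective h)⟩
    have : LocallyQuasiFinite U.hom := locallyQuasiFinite_iff_isDiscrete_preimage_singleton.2 fun v =>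
      isDiscrete_iff_discreteTopology.2 inferInstance
    have : QuasiCompact U.hom := HasAffineProperty.iff_of_isAffine.mpr (inferInstance : CompactSpace U.left)
    have : IsFinite U.hom := IsFinite.of_locallyQuasiFinite U.hom
    let P := pullback U.hom U.hom
    have : IsFinite (pullback.fst U.hom U.hom) := inferInstance
    have : CompactSpace ↥P := QuasiCompact.compactSpace_of_compactSpace (pullback.fst U.hom U.hom)
    have : LocallyQuasiFinite (pullback.fst U.hom U.hom ≫ U.hom) := inferInstance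
    have : IsLocallyArtinian P := IsLocallyArtinian.of_locallyQuasiFinite (pullback.fst U.hom U.hom ≫ U.hom)
    have : Finite ↥P := finite_of_compact_of_discrete
    let Ro : Over (Spec (CommRingCat.of k)) := Over.mk (ρ ≫ pullback.fst U.hom U.hom ≫ U.hom)
    let Po : Over (Spec (CommRingCat.of k)) := Over.mk (pullback.fst U.hom U.hom ≫ U.hom)
    let ρo : Ro ⟶ Po := Over.homMk ρ rfl
    have : Mono ρo := mono_of_left ρo
    have : Finite Ro.left := Finite.of_injective ρ fun a b e => by
      refine (Points.schemeEquiv Ro).injective (injective_points_of_mono ((yon _).map ρo) ?_)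
      show Points.map ((yon _).map ρo) (Points.ofScheme Ro a) = Points.map ((yon _).map ρo) (Points.ofScheme Ro b)
      rw [← Points.ofPt_eq_map_ofScheme, ← Points.ofPt_eq_map_ofScheme, ofScheme_map, ofScheme_map]
      exact congrArg _ e
    have : Finite R.left := ‹Finite Ro.left›
    exact Set.toFinite _
  obtain ⟨U, π, hπ, hπs⟩ := hX.atlas
  have : LocallyOfFiniteType U.hom := chart_lft p hp hπ
  have : IsLocallyNoetherian U.left := LocallyOfFiniteType.isLocallyNoetherian U.hom
  exact exists_scheme_of_dim_zero hX (isQuasiSeparatedSp_of_noetherian hX hg hπ hπs) hd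

/-- etale maps preserve the number of generisations -/
theorem genHt_etale {R U : Scheme.{u}} (f : R ⟶ U) [Etale f] (r : R) : genHt (f r) = genHt r :=
  genHt_map _ f.continuous
    (fun _ _ h h' => eq_of_specializes_of_etale f h ((h.map f.continuous).antisymm h').eq ▸ specializes_rfl)
    (fun a b h => Flat.generalizingMap f (show b ⤳ f a from h)) r

theorem genHt_le_of_lqf {R U : Scheme.{u}} (f : R ⟶ U) [LocallyQuasiFinite f] (r : R) :
    genHt r ≤ genHt (f r) := by
  letI := specializationPreorder R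
  letI := specializationPreorder U
  refine Order.coheight_le_coheight_apply_of_strictMono _ (fun x y h => ?_) r
  rw [spec_lt_iff] at h ⊢
  refine ⟨h.1.map f.continuous, fun h' => h.2 ?_⟩
  have e : f y = f x := ((h.1.map f.continuous).antisymm h').eq
  have : DiscreteTopology ↥(f ⁻¹' {f x}) :=
    isDiscrete_iff_discreteTopology.1 (f.isDiscrete_preimage_singleton (f x))
  have hs : (⟨y, e⟩ : ↥(f ⁻¹' {f x})) ⤳ ⟨x, rfl⟩ := (subtype_specializes_iff _ _).2 h.1
  rw [show y = x from congrArg Subtype.val (specializes_iff_eq.1 hs)]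

/-- generisation numbers of chart points agree -/
theorem genHt_eq_of_ofPt_eq {X : Sp S} (hX : IsAlgSpace X) {U V : Over S} {a : (yon S).obj U ⟶ X}
    (ha : RepWith @Etale a) {b : (yon S).obj V ⟶ X} (hb : RepWith @Etale b) {u : U.left} {v : V.left}
    (e : Points.ofPt a u = Points.ofPt b v) : genHt u = genHt v := by
  obtain ⟨R, p, q, sq⟩ := exists_pullback hX.diag a b
  have : Etale q.left := (repWith_yon_iff q).1 (repWith_baseChange sq ha)
  have : Etale p.left := (repWith_yon_iff p).1 (repWith_baseChange sq.flip hb)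
  obtain ⟨r, rfl, rfl⟩ := (ofPt_eq_iff sq u v).1 e
  rw [genHt_etale, genHt_etale]

theorem exists_lqf_chart_point {X Y : Sp S} (hY : IsAlgSpace Y) (f : X ⟶ Y)
    (hf : LocP (@LocallyQuasiFinite ⊓ @LocallyOfFiniteType) f) {U V : Over S} {a : (yon S).obj U ⟶ X}
    (ha : RepWith @Etale a) {b : (yon S).obj V ⟶ Y} (hb : RepWith @Etale b) {u : U.left} {v : V.left}
    (e : Points.ofPt (a ≫ f) u = Points.ofPt b v) : ∃ v' : V.left, genHt u ≤ genHt v' ∧ Points.ofPt b v' = Points.ofPt b v := by
  obtain ⟨P, p, q, sq⟩ := exists_pullback hY.diag (a ≫ f) b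
  have hp : Etale p.left := (repWith_yon_iff p).1 (repWith_baseChange sq.flip hb)
  have hq := hf ((yon S).map p ≫ a) b q (repWith_comp ((repWith_yon_iff p).2 hp) ha) hb
    (by rw [Category.assoc]; exact sq.w)
  obtain ⟨z, rfl, rfl⟩ := (ofPt_eq_iff sq u v).1 e
  have : LocallyQuasiFinite q.left := hq.1
  exact ⟨q.left z, by rw [genHt_etale]; exact genHt_le_of_lqf q.left z, rfl⟩

theorem stalk_dim_le_of_lqf {X Y : Sp S} (hY : IsAlgSpace Y) (f : X ⟶ Y)
    (hf : LocP (@LocallyQuasiFinite ⊓ @LocallyOfFiniteType) f) (x : Points X) (d e : WithBot ℕ∞)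
    (hx : HasAt (fun U u => ringKrullDim ↥(U.presheaf.stalk u) = d) X x)
    (hy : HasAt (fun V v => ringKrullDim ↥(V.presheaf.stalk v) = e) Y (Points.map f x)) : d ≤ e := by
  obtain ⟨U, a, u, ha, rfl, rfl⟩ := hx
  obtain ⟨V, b, v, hb, hv, rfl⟩ := hy
  rw [stalk_dim_eq_genHt, stalk_dim_eq_genHt, WithBot.coe_le_coe]
  rw [Points.map_ofPt] at hv
  obtain ⟨v', h1, h2⟩ := exists_lqf_chart_point hY f hf ha hb hv.symm
  rwa [genHt_eq_of_ofPt_eq hY hb hb h2] at h1

theorem dim_le_of_lqf {X Y : Sp S} (hY : IsAlgSpace Y) (f : X ⟶ Y)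
    (hf : LocP (@LocallyQuasiFinite ⊓ @LocallyOfFiniteType) f) : AlgSp.dim X ≤ AlgSp.dim Y := by
  obtain ⟨V, b, hb, hbs⟩ := hY.atlas
  refine iSup_le fun U => iSup_le fun a => iSup_le fun ha => ?_
  refine le_trans ?_ (le_iSup_of_le V (le_iSup_of_le b (le_iSup_of_le hb le_rfl)))
  rw [topologicalKrullDim_eq_iSup_genHt, topologicalKrullDim_eq_iSup_genHt]
  refine iSup_le fun u => ?_
  obtain ⟨v, hv⟩ := ofPt_surjective hbs (Points.ofPt (a ≫ f) u)
  obtain ⟨v', h1, -⟩ := exists_lqf_chart_point hY f hf ha hb hv.symm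
  exact (WithBot.coe_le_coe.2 h1).trans (le_iSup (fun w => (genHt w : WithBot ℕ∞)) v')

end Groth.Agent.SpQS
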