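import Groth.Agent.SpQS.QFAt
import Groth.Prelude.Def_Dual3

/-!
# Transcendence degree of residue extensions along quasi-finite maps
-/

universe u

open CategoryTheory CategoryTheory.Limits AlgebraicGeometry Opposite IsLocalRing Topology

set_option backward.isDefEq.respectTransparency false

namespace Groth.Agent.SpQS

open _root_.AlgSp Groth.Agent.AlgSpLib

theorem finite_residueFieldMap {X Y : Scheme.{u}} (f : X ⟶ Y) {x : X} (h : f.QuasiFiniteAt x) :
    (f.residueFieldMap x).hom.Finite := by
  have h1 : ((X.residue x).hom.comp (f.stalkMap x).hom).QuasiFinite :=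
    RingHom.QuasiFinite.comp (RingHom.QuasiFinite.of_finite (RingHom.Finite.of_surjective _ (X.residue_surjective x))) h
  rw [← CommRingCat.hom_comp, ← Scheme.residue_residueFieldMap, CommRingCat.hom_comp] at h1
  have h2 : (f.residueFieldMap x).hom.QuasiFinite := RingHom.QuasiFinite.of_comp h1
  let := (f.residueFieldMap x).hom.toAlgebra
  have : Algebra.QuasiFinite (Y.residueField (f x)) (X.residueField x) := h2.toAlgebra
  exact (Module.Finite.of_quasiFinite : Module.Finite (Y.residueField (f x)) (X.residueField x))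

theorem resTrdeg_precomp {W U V : Scheme.{u}} (e : W ⟶ U) (h : U ⟶ V) {w : W} (he : e.QuasiFiniteAt w) :
    Dual3.resTrdeg (e ≫ h) w = Dual3.resTrdeg h (e w) := by
  unfold Dual3.resTrdeg
  let := (h.residueFieldMap (e w)).hom.toAlgebra
  let := (e.residueFieldMap w).hom.toAlgebra
  let : Algebra (V.residueField (h (e w))) (W.residueField w) := ((e ≫ h).residueFieldMap w).hom.toAlgebra
  have : IsScalarTower (V.residueField (h (e w))) (U.residueField (e w)) (W.residueField w) :=
    IsScalarTower.of_algebraMap_eq' (congrArg (fun g => g.hom) (Scheme.residueFieldMap_comp e h w))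
  have : Module.Finite (U.residueField (e w)) (W.residueField w) := finite_residueFieldMap e he
  show Algebra.trdeg (V.residueField (h (e w))) (W.residueField w) = _
  rw [← trdeg_add_eq (R := V.residueField (h (e w))) (S := U.residueField (e w)) (A := W.residueField w),
    trdeg_eq_zero (R := U.residueField (e w)) (A := W.residueField w), add_zero]

theorem resTrdeg_postcomp {U V V' : Scheme.{u}} (h : U ⟶ V) (e : V ⟶ V') {w : U} (he : e.QuasiFiniteAt (h w)) :
    Dual3.resTrdeg (h ≫ e) w = Dual3.resTrdeg h w := by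
  unfold Dual3.resTrdeg
  let := (e.residueFieldMap (h w)).hom.toAlgebra
  let := (h.residueFieldMap w).hom.toAlgebra
  let : Algebra (V'.residueField (e (h w))) (U.residueField w) := ((h ≫ e).residueFieldMap w).hom.toAlgebra
  have : IsScalarTower (V'.residueField (e (h w))) (V.residueField (h w)) (U.residueField w) :=
    IsScalarTower.of_algebraMap_eq' (congrArg (fun g => g.hom) (Scheme.residueFieldMap_comp h e w))
  have : Module.Finite (V'.residueField (e (h w))) (V.residueField (h w)) := finite_residueFieldMap e he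
  show Algebra.trdeg (V'.residueField (e (h w))) (U.residueField w) = _
  rw [← trdeg_add_eq (R := V'.residueField (e (h w))) (S := V.residueField (h w)) (A := U.residueField w),
    trdeg_eq_zero (R := V'.residueField (e (h w))) (A := V.residueField (h w)), zero_add]

variable {S : Scheme.{u}}

theorem resTrdeg_chart_indep {X Y : Sp S} (hX : IsAlgSpace X) (hY : IsAlgSpace Y) (f : X ⟶ Y) {U V U' V' : Over S}
    {a : (yon S).obj U ⟶ X} {b : (yon S).obj V ⟶ Y} {h : U ⟶ V} (ha : RepWith @Etale a) (hb : RepWith @Etale b)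
    (comm : a ≫ f = (yon S).map h ≫ b) {a' : (yon S).obj U' ⟶ X} {b' : (yon S).obj V' ⟶ Y} {h' : U' ⟶ V'}
    (ha' : RepWith @Etale a') (hb' : RepWith @Etale b') (comm' : a' ≫ f = (yon S).map h' ≫ b')
    {u : U.left} {u' : U'.left} (e : Points.ofPt a u = Points.ofPt a' u') :
    Dual3.resTrdeg h.left u = Dual3.resTrdeg h'.left u' := by
  obtain ⟨V'', v₁, v₂, sqV⟩ := exists_pullback hY.diag b b'
  obtain ⟨U'', p₁, p₂, sqU⟩ := exists_pullback hX.diag a a'
  obtain ⟨k, hk⟩ := exists_map_eq (sqV.lift ((yon S).map (p₁ ≫ h)) ((yon S).map (p₂ ≫ h')) (by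
    rw [Functor.map_comp, Functor.map_comp, Category.assoc, Category.assoc, ← comm, ← comm', reassoc_of% sqU.w]))
  have hk₁ : k ≫ v₁ = p₁ ≫ h := (yon S).map_injective (by rw [Functor.map_comp, hk, sqV.lift_fst])
  have hk₂ : k ≫ v₂ = p₂ ≫ h' := (yon S).map_injective (by rw [Functor.map_comp, hk, sqV.lift_snd])
  have : Etale v₁.left := (repWith_yon_iff v₁).1 (repWith_baseChange sqV.flip hb')
  have : Etale v₂.left := (repWith_yon_iff v₂).1 (repWith_baseChange sqV hb)
  have : Etale p₁.left := (repWith_yon_iff p₁).1 (repWith_baseChange sqU.flip ha')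
  have : Etale p₂.left := (repWith_yon_iff p₂).1 (repWith_baseChange sqU ha)
  have : LocallyQuasiFinite v₁.left := UnivInjMor.lqf_of_unramified _
  have : LocallyQuasiFinite v₂.left := UnivInjMor.lqf_of_unramified _
  have : LocallyQuasiFinite p₁.left := UnivInjMor.lqf_of_unramified _
  have : LocallyQuasiFinite p₂.left := UnivInjMor.lqf_of_unramified _
  obtain ⟨w, rfl, rfl⟩ := (ofPt_eq_iff sqU u u').1 e
  rw [← resTrdeg_precomp p₁.left h.left (p₁.left.quasiFiniteAt w),
    ← resTrdeg_precomp p₂.left h'.left (p₂.left.quasiFiniteAt w),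
    show p₁.left ≫ h.left = k.left ≫ v₁.left from (congrArg (fun g => g.left) hk₁).symm,
    show p₂.left ≫ h'.left = k.left ≫ v₂.left from (congrArg (fun g => g.left) hk₂).symm,
    resTrdeg_postcomp k.left v₁.left (v₁.left.quasiFiniteAt _),
    resTrdeg_postcomp k.left v₂.left (v₂.left.quasiFiniteAt _)]

/-- transcendence degree is invariant along locally quasi-finite maps -/
theorem hasAtMor_resTrdeg_comp_iff {X Y Z : Sp S} (hX : IsAlgSpace X) (hY : IsAlgSpace Y) (hZ : IsAlgSpace Z)
    (f : X ⟶ Y) (g : Y ⟶ Z) (hf : LocP (@LocallyQuasiFinite ⊓ @LocallyOfFiniteType) f) (x : Points X)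
    (r : Cardinal.{u}) :
    HasAtMor (fun _ _ h u => Dual3.resTrdeg h u = r) (f ≫ g) x ↔
      HasAtMor (fun _ _ h u => Dual3.resTrdeg h u = r) g (Points.map f x) := by
  obtain ⟨V, W, b, c, g₁, hb, hbs, hc, commg⟩ := exists_chart_atlas hY hZ g
  obtain ⟨U₀, π, hπ, hπs⟩ := hX.atlas
  obtain ⟨U, p, f₁, sq⟩ := exists_pullback hY.diag (π ≫ f) b
  have ha : RepWith @Etale ((yon S).map p ≫ π) := repWith_comp (repWith_baseChange sq.flip hb) hπ
  have has : RepWith @Surjective ((yon S).map p ≫ π) := repWith_comp (repWith_baseChange sq.flip hbs) hπs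
  have commf : ((yon S).map p ≫ π) ≫ f = (yon S).map f₁ ≫ b := by rw [Category.assoc]; exact sq.w
  have : LocallyQuasiFinite f₁.left := (hf _ b f₁ ha hb commf).1
  have comm : ((yon S).map p ≫ π) ≫ f ≫ g = (yon S).map (f₁ ≫ g₁) ≫ c := by
    rw [← Category.assoc, commf, Category.assoc, commg, Functor.map_comp, Category.assoc]
  obtain ⟨u, hu⟩ := ofPt_surjective has x
  have hv : Points.ofPt b (f₁.left u) = Points.map f x := by
    rw [← hu, Points.map_ofPt, commf, ofPt_comp]
  have he : Dual3.resTrdeg (f₁ ≫ g₁).left u = Dual3.resTrdeg g₁.left (f₁.left u) := by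
    rw [Over.comp_left, resTrdeg_precomp _ _ (f₁.left.quasiFiniteAt u)]
  constructor
  · rintro ⟨U', W', a', c', h', u', ha', hc', comm', hu', h0⟩
    refine ⟨V, W, b, c, g₁, f₁.left u, hb, hc, commg, hv, ?_⟩
    show Dual3.resTrdeg g₁.left (f₁.left u) = r
    rw [← he, resTrdeg_chart_indep hX hZ (f ≫ g) ha hc comm ha' hc' comm' (hu.trans hu'.symm)]
    exact h0
  · rintro ⟨V', W', b', c', g', v', hb', hc', comm', hv', h0⟩
    refine ⟨U, W, _, c, f₁ ≫ g₁, u, ha, hc, comm, hu, ?_⟩
    show Dual3.resTrdeg (f₁ ≫ g₁).left u = r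
    rw [he, resTrdeg_chart_indep hY hZ g hb hc commg hb' hc' comm' (hv.trans hv'.symm)]
    exact h0

end Groth.Agent.SpQS
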