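import Groth.Agent.SpQS.Basic
import Groth.Agent.AlgSpLib.ProperCrit
import Mathlib.Algebra.MvPolynomial.Variables
import Mathlib.AlgebraicGeometry.Morphisms.UniversallyClosed

/-!
# Universally closed morphisms are quasi-compact
-/

universe u

open CategoryTheory CategoryTheory.Limits AlgebraicGeometry Opposite

set_option backward.isDefEq.respectTransparency false

namespace Groth.Agent.SpQS

open _root_.AlgSp Groth.Agent.AlgSpLib

variable {S : Scheme.{u}}

theorem isQuasiCompactMor_of_univClosed {X Y : Sp S} (hX : IsAlgSpace X) (hY : IsAlgSpace Y) (f : X ⟶ Y)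
    (hf : IsUnivClosedMor f) : IsQuasiCompactMor f := by
  classical
  refine isQuasiCompactMor_of_affine hX hY f fun W hW g₀ P fst₀ snd₀ sqP => ?_
  have hP : IsAlgSpace P := isAlgSpace_of_isPullback_space hY hX (IsAlgSpace.yon_obj W) sqP
  obtain ⟨U, π, ι, O, hπ, hπs, hO, -, hcov⟩ := exists_affine_chart_family hP
  let Ui : ι → Set (Points P) := fun i => Points.ofPt π '' (O i : Set U.left)
  have hUi : ∀ i, IsOpen (Ui i) := fun i =>
    isOpenMap_ofPt (repWith_universallyOpen_of_etale hπ) _ (O i).2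
  have hUcov : ∀ x, ∃ i, x ∈ Ui i := fun x => by
    obtain ⟨u, rfl⟩ := ofPt_surjective hπs x
    obtain ⟨i, hi⟩ := hcov u
    exact ⟨i, u, hi, rfl⟩
  let R := Γ(W.left, ⊤)
  let A := MvPolynomial ι R
  let γ₀ : Spec (CommRingCat.of A) ⟶ W.left :=
    Spec.map (CommRingCat.ofHom (MvPolynomial.C : R →+* A)) ≫ W.left.isoSpec.inv
  let T : Over S := Over.mk (γ₀ ≫ W.hom)
  let γ : T ⟶ W := Over.homMk γ₀ rfl
  have sqT := IsPullback.of_hasPullback snd₀ ((yon S).map γ)
  let Q := pullback snd₀ ((yon S).map γ)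
  let pr : Q ⟶ P := pullback.fst snd₀ ((yon S).map γ)
  let fT : Q ⟶ (yon S).obj T := pullback.snd snd₀ ((yon S).map γ)
  have hcl : IsClosedMap (Points.map fT) :=
    hf (IsAlgSpace.yon_obj T) ((yon S).map γ ≫ g₀) (pr ≫ fst₀) fT (sqT.paste_horiz sqP)
  let D : ι → Set (Points ((yon S).obj T)) := fun i =>
    Points.schemeHomeo T '' (PrimeSpectrum.basicOpen (MvPolynomial.X i : A) : Set (PrimeSpectrum A))
  have hD : ∀ i, IsOpen (D i) := fun i =>
    (Points.schemeHomeo T).isOpenMap _ (PrimeSpectrum.basicOpen (MvPolynomial.X i : A)).2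
  let E : Set (Points Q) := (⋃ i, Points.map pr ⁻¹' Ui i ∩ Points.map fT ⁻¹' D i)ᶜ
  have hE : IsClosed E := (isOpen_iUnion fun i =>
    ((hUi i).preimage (Points.continuous_map pr)).inter ((hD i).preimage (Points.continuous_map fT))).isClosed_compl
  let B : Set (PrimeSpectrum A) := Points.schemeHomeo T ⁻¹' (Points.map fT '' E)
  have hB : IsOpen Bᶜ := ((hcl E hE).preimage (Points.schemeHomeo T).continuous).isOpen_compl
  let one : A →+* R := MvPolynomial.eval (fun _ => 1)
  -- a finite set of pieces works near every point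
  have hloc : ∀ p : PrimeSpectrum R, ∃ r : R, r ∉ p.asIdeal ∧ ∃ σ : Finset ι, ∀ p' : PrimeSpectrum R,
      r ∉ p'.asIdeal → ∀ x : Points P,
        Points.map snd₀ x = Points.ofScheme W (W.left.isoSpec.inv p') → ∃ i ∈ σ, x ∈ Ui i := by
    intro p
    let t : PrimeSpectrum A := ⟨p.asIdeal.comap one, Ideal.IsPrime.comap one⟩
    have ht : t ∈ Bᶜ := by
      rintro ⟨z, hz, hzt⟩
      obtain ⟨i, hi⟩ := hUcov (Points.map pr z)
      refine hz (Set.mem_iUnion.2 ⟨i, hi, t, ?_, hzt.symm⟩)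
      show (MvPolynomial.X i : A) ∉ t.asIdeal
      show one (MvPolynomial.X i) ∉ p.asIdeal
      rw [MvPolynomial.eval_X]
      exact fun h => p.2.ne_top (Ideal.eq_top_iff_one _ |>.2 h)
    obtain ⟨V, ⟨g, rfl⟩, htg, hgB⟩ :=
      TopologicalSpace.Opens.isBasis_iff_nbhd.mp PrimeSpectrum.isBasis_basic_opens
        (show t ∈ (⟨Bᶜ, hB⟩ : TopologicalSpace.Opens (PrimeSpectrum A)) from ht)
    refine ⟨one g, htg, g.vars, fun p' hp' x hx => ?_⟩
    let ev : A →+* R := MvPolynomial.eval (fun i => if i ∈ g.vars then 1 else 0)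
    let t' : PrimeSpectrum A := ⟨p'.asIdeal.comap ev, Ideal.IsPrime.comap ev⟩
    have hev : ev g = one g := by
      exact MvPolynomial.eval₂Hom_congr' rfl (fun i hi _ => if_pos hi) rfl
    have ht' : t' ∈ Bᶜ := hgB (show g ∉ t'.asIdeal from fun h => hp' (hev ▸ h))
    obtain ⟨z, hz₁, hz₂⟩ := exists_point_of_isPullback sqT x (Points.ofScheme T t') (by
      rw [hx, Points.map_ofPt, Category.id_comp, ofScheme_map]
      refine congrArg (Points.ofScheme W) ?_
      show W.left.isoSpec.inv p' = W.left.isoSpec.inv (Spec.map (CommRingCat.ofHom MvPolynomial.C) t')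
      refine congrArg W.left.isoSpec.inv (PrimeSpectrum.ext (Ideal.ext fun a => ?_))
      show a ∈ p'.asIdeal ↔ ev (MvPolynomial.C a) ∈ p'.asIdeal
      rw [MvPolynomial.eval_C])
    have hzE : z ∉ E := fun h => ht' ⟨z, h, hz₂⟩
    obtain ⟨i, hi₁, q, hq, hq'⟩ := Set.mem_iUnion.1 (not_not.1 hzE)
    refine ⟨i, ?_, hz₁ ▸ hi₁⟩
    have hqt : q = t' := (Points.schemeHomeo T).injective (hq'.trans hz₂)
    subst hqt
    by_contra hi
    apply hq
    show ev (MvPolynomial.X i) ∈ p'.asIdeal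
    rw [MvPolynomial.eval_X, if_neg hi]
    exact Ideal.zero_mem _
  choose r hr σ hσ using hloc
  obtain ⟨s, hs⟩ := (CompactSpace.isCompact_univ : IsCompact (Set.univ : Set (PrimeSpectrum R))).elim_finite_subcover
    (fun p => (PrimeSpectrum.basicOpen (r p) : Set (PrimeSpectrum R))) (fun p => (PrimeSpectrum.basicOpen (r p)).2)
    (fun p _ => Set.mem_iUnion.2 ⟨p, hr p⟩)
  let τ : Finset ι := s.biUnion σ
  let Z : τ → Over S := fun i => Over.mk ((O i.1).ι ≫ U.hom)
  refine isQuasiCompactSp_of_cofan hP (fun i : τ => (yon S).map (Over.homMk (O i.1).ι rfl : Z i ⟶ U) ≫ π)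
    (fun x => ?_) (fun i => ?_)
  · obtain ⟨w, hw⟩ := (Points.schemeEquiv W).surjective (Points.map snd₀ x)
    obtain ⟨p, hp, hpw⟩ := Set.mem_iUnion₂.1 (hs (Set.mem_univ (W.left.isoSpec.hom w)))
    obtain ⟨i, hi, u, hu, hux⟩ := hσ p _ hpw x (by
      rw [← hw, Scheme.hom_inv_apply]
      rfl)
    refine ⟨⟨i, Finset.mem_biUnion.2 ⟨p, hp, hi⟩⟩, Points.ofScheme (Z _) (⟨u, hu⟩ : ↥(O i)), ?_⟩
    rw [Points.map_ofPt, Category.id_comp, ofPt_comp]
    exact hux
  · have : IsAffine (Z i).left := (hO i.1 : IsAffine (O i.1).toScheme)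
    exact isQuasiCompactSp_yon _

theorem diagonal_qs_of_surjective {X Y B : Sp S} (hX : IsAlgSpace X) (hY : IsAlgSpace Y) (hB : IsAlgSpace B)
    (f : X ⟶ Y) (p : X ⟶ B) (q : Y ⟶ B) (comm : f ≫ q = p) (hs : IsSurjectiveMor f) (hc : IsUnivClosedMor f) :
    (IsQuasiSeparatedMor p → IsQuasiSeparatedMor q) ∧ (IsSeparatedMor p → IsSeparatedMor q) := by
  subst comm
  have hPX : IsAlgSpace (pullback (f ≫ q) (f ≫ q)) :=
    isAlgSpace_of_isPullback_space hB hX hX (IsPullback.of_hasPullback _ _)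
  have hPY : IsAlgSpace (pullback q q) :=
    isAlgSpace_of_isPullback_space hB hY hY (IsPullback.of_hasPullback _ _)
  have sq₁ := IsPullback.of_hasPullback q q
  have hXY : IsAlgSpace (pullback (f ≫ q) q) :=
    isAlgSpace_of_isPullback_space hB hX hY (IsPullback.of_hasPullback _ _)
  let a : pullback (f ≫ q) (f ≫ q) ⟶ pullback (f ≫ q) q :=
    pullback.lift (pullback.fst _ _) (pullback.snd _ _ ≫ f) (by rw [Category.assoc]; exact pullback.condition)
  let b : pullback (f ≫ q) q ⟶ pullback q q :=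
    pullback.lift (pullback.fst _ _ ≫ f) (pullback.snd _ _) (by rw [Category.assoc]; exact pullback.condition)
  have sqa : IsPullback (pullback.snd (f ≫ q) (f ≫ q)) a f (pullback.snd (f ≫ q) q) := by
    refine IsPullback.of_bot ?_ (pullback.lift_snd _ _ _).symm (IsPullback.of_hasPullback (f ≫ q) q).flip
    rw [pullback.lift_fst]
    exact (IsPullback.of_hasPullback (f ≫ q) (f ≫ q)).flip
  have sqb : IsPullback (pullback.fst (f ≫ q) q) b f (pullback.fst q q) := by
    refine IsPullback.of_bot ?_ (pullback.lift_fst _ _ _).symm sq₁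
    rw [pullback.lift_snd]
    exact IsPullback.of_hasPullback (f ≫ q) q
  have e : f ≫ pullback.diagonal q = pullback.diagonal (f ≫ q) ≫ a ≫ b := by
    apply pullback.hom_ext <;> simp [a, b]
  have huc : ∀ {P Q P' Q' : Sp S} {φ : P ⟶ Q} {u : P' ⟶ P} {φ' : P' ⟶ Q'} {v : Q' ⟶ Q},
      IsPullback u φ' φ v → IsUnivClosedMor φ → IsUnivClosedMor φ' :=
    fun sq h _ _ hZ g _ _ sq' => h hZ (g ≫ _) _ _ (sq'.paste_horiz sq)
  have hqcb : ∀ {P Q P' Q' : Sp S} {φ : P ⟶ Q} {u : P' ⟶ P} {φ' : P' ⟶ Q'} {v : Q' ⟶ Q},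
      IsPullback u φ' φ v → IsQuasiCompactMor φ → IsQuasiCompactMor φ' :=
    fun sq h _ _ hZ hZq g _ _ sq' => h hZ hZq (g ≫ _) _ _ (sq'.paste_horiz sq)
  have hq := isQuasiCompactMor_of_univClosed hX hY f hc
  obtain ⟨hmp, -⟩ := repWith_diagonal_props hX (f ≫ q)
  obtain ⟨hmq, -⟩ := repWith_diagonal_props hY q
  refine ⟨fun hp => ?_, fun hp => ?_⟩
  · refine (isQuasiCompactMor_iff_repWith hY hPY hmq.1).1 (isQuasiCompactMor_of_surjective hY hPY f _ hs ?_)
    rw [e]
    exact isQuasiCompactMor_comp hPX hPY ((isQuasiCompactMor_iff_repWith hX hPX hmp.1).2 hp)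
      (isQuasiCompactMor_comp hXY hPY (hqcb sqa hq) (hqcb sqb hq))
  · refine (isSeparatedMor_iff_diagonal hY hB q).1.2 ?_
    have hd : IsUnivClosedMor (pullback.diagonal (f ≫ q)) := (isSeparatedMor_iff_diagonal hX hB _).1.1 hp
    have h : IsUnivClosedMor (f ≫ pullback.diagonal q) := by
      rw [e]
      exact isUnivClosedMor_comp hPX hPY hd (isUnivClosedMor_comp hXY hPY (huc sqa hc) (huc sqb hc))
    intro Z Z' hZ g fst snd sq E hE
    have sq' := IsPullback.of_hasPullback f fst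
    have hcl := h hZ g (pullback.fst f fst) (pullback.snd f fst ≫ snd) (sq'.paste_vert sq)
      (Points.map (pullback.snd f fst) ⁻¹' E) (hE.preimage (Points.continuous_map _))
    have him : Points.map snd '' E =
        Points.map (pullback.snd f fst ≫ snd) '' (Points.map (pullback.snd f fst) ⁻¹' E) := by
      rw [show Points.map (pullback.snd f fst ≫ snd) = Points.map snd ∘ Points.map (pullback.snd f fst) from
        funext fun x => Points.map_comp _ _ x, Set.image_comp,
        Set.image_preimage_eq _ (isSurjectiveMor_baseChange sq' hs)]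
    rw [him]
    exact hcl

end Groth.Agent.SpQS
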