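import Groth.Agent.SpQS.ConfQuot
import Mathlib.AlgebraicGeometry.AlgClosed.Basic

/-!
# The strata cut out by configurations of sheets
-/

universe u

open CategoryTheory CategoryTheory.Limits AlgebraicGeometry IsLocalRing

set_option backward.isDefEq.respectTransparency false

namespace Groth.Agent.SpQS

open _root_.AlgSp Groth.Agent.AlgSpLib

variable {S : Scheme.{u}}

/-- geometric points lift through etale morphisms -/
theorem exists_lift_of_etale {A B : Scheme.{u}} (h : A ⟶ B) [Etale h] {Ω : Type u} [Field Ω] [IsAlgClosed Ω]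
    (g : Spec (CommRingCat.of Ω) ⟶ B) {x : A} (hx : h x = g (closedPoint Ω)) :
    ∃ l : Spec (CommRingCat.of Ω) ⟶ A, l ≫ h = g := by
  obtain ⟨z, -, -⟩ := Scheme.Pullback.exists_preimage_pullback (f := h) (g := g) x (closedPoint Ω) hx
  have : LocallyQuasiFinite (pullback.snd h g) := UnivInjMor.lqf_of_unramified _
  have hzc : IsClosed ({z} : Set ↥(pullback h g)) := by
    have hd := (pullback.snd h g).isDiscrete_preimage_singleton (closedPoint Ω)
    rw [show pullback.snd h g ⁻¹' {closedPoint Ω} = Set.univ from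
      Set.eq_univ_of_forall fun _ => Subsingleton.elim (α := PrimeSpectrum Ω) _ _] at hd
    have : DiscreteTopology ↥(Set.univ : Set ↥(pullback h g)) := isDiscrete_iff_discreteTopology.1 hd
    have : DiscreteTopology ↥(pullback h g) := (Homeomorph.Set.univ _).symm.isEmbedding.discreteTopology
    exact isClosed_discrete _
  exact ⟨pointOfClosedPoint (pullback.snd h g) z hzc ≫ pullback.fst h g, by
    rw [Category.assoc, pullback.condition, pointOfClosedPoint_comp_assoc]⟩

variable {X : Sp S} {W : Over S} {π : (yon S).obj W ⟶ X} {p : ℕ}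

/-- the points covered by `p + 1` sheets -/
def Conf.pts (c : Conf π p) : Set (Points X) := Set.range (Points.ofPt ((yon S).map (c.pr 0) ≫ π))

theorem Conf.isOpen_pts (c : Conf π p) (hπ : RepWith @Etale π) : IsOpen c.pts := by
  have : RepWith @Etale ((yon S).map (c.pr 0) ≫ π) := repWith_comp ((repWith_yon_iff _).2 c.etale) hπ
  exact (isOpenMap_ofPt (repWith_universallyOpen_of_etale this)).isOpen_range

theorem Conf.pts_mono (c : Conf π p) (c' : Conf π (p + 1)) : c'.pts ⊆ c.pts := by
  rintro _ ⟨z, rfl⟩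
  obtain ⟨l, hl⟩ := c.desc (fun i => c'.pr i.castSucc) (fun i => (c'.comm i.castSucc).trans (c'.comm _).symm)
    (fun i j h => c'.ne _ _ fun e => h (Fin.castSucc_injective _ e))
  refine ⟨l.left z, ?_⟩
  rw [← ofPt_comp, ← Category.assoc, ← Functor.map_comp, hl]
  rfl

theorem Conf.pts_zero (c : Conf π 0) (hπs : RepWith @Surjective π) : c.pts = Set.univ :=
  Set.eq_univ_of_forall fun x => by
    obtain ⟨w, rfl⟩ := ofPt_surjective hπs x
    obtain ⟨l, hl⟩ := c.desc (fun _ => 𝟙 W) (fun _ => rfl) (fun i j h => absurd (Fin.ext (by omega)) h)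
    refine ⟨l.left w, ?_⟩
    rw [← ofPt_comp, ← Category.assoc, ← Functor.map_comp, hl, CategoryTheory.Functor.map_id, Category.id_comp]

/-- two full configurations over a geometric point outside the next stratum are permutations of each other -/
theorem Conf.exists_perm (c : Conf π p) (c' : Conf π (p + 1)) {Ω : Type u} [Field Ω] {K : Over S}
    (e : Spec (CommRingCat.of Ω) ≅ K.left) (l₁ l₂ : K ⟶ c.C)
    (h : (yon S).map l₁ ≫ (yon S).map (c.pr 0) ≫ π = (yon S).map l₂ ≫ (yon S).map (c.pr 0) ≫ π)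
    (hnot : ∀ k, Points.ofPt ((yon S).map l₁ ≫ (yon S).map (c.pr 0) ≫ π) k ∉ c'.pts) :
    ∃ σ : Equiv.Perm (Fin (p + 1)), ∀ i, l₂ ≫ c.pr i = l₁ ≫ c.pr (σ i) := by
  have hne : ∀ {a b : K ⟶ W}, a ≠ b → NeverEq a.left b.left := by
    intro a b hab F _ k hk
    apply hab
    obtain ⟨φ, hφ⟩ := Spec.map_surjective (k ≫ e.inv)
    have hk' : (k ≫ e.inv) ≫ e.hom ≫ a.left = (k ≫ e.inv) ≫ e.hom ≫ b.left := by simpa using hk
    have : Epi (Spec.map φ) := by
      have : Flat (Spec.map φ) := inferInstance
      have : Surjective (Spec.map φ) := ⟨fun z => ⟨closedPoint F, Subsingleton.elim (α := PrimeSpectrum Ω) _ _⟩⟩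
      exact Flat.epi_of_flat_of_surjective _
    rw [← hφ, cancel_epi, cancel_epi] at hk'
    exact Over.OverMorphism.ext hk'
  have hinj : ∀ (l : K ⟶ c.C), Function.Injective fun i => l ≫ c.pr i := fun l i j hij => by
    by_contra h'
    exact c.ne i j h' Ω (e.hom ≫ l.left) (by
      have := congrArg (fun k => e.hom ≫ k.left) hij
      simpa using this)
  have hmem : ∀ i, ∃ j, l₂ ≫ c.pr i = l₁ ≫ c.pr j := fun i => by
    by_contra hno
    push Not at hno
    obtain ⟨l, hl⟩ := c'.desc (Fin.snoc (fun j => l₁ ≫ c.pr j) (l₂ ≫ c.pr i))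
      (by
        have h1 : ∀ j, (yon S).map (Fin.snoc (α := fun _ => K ⟶ W) (fun j => l₁ ≫ c.pr j) (l₂ ≫ c.pr i) j) ≫ π =
            (yon S).map l₁ ≫ (yon S).map (c.pr 0) ≫ π := fun j => by
          induction j using Fin.lastCases with
          | last => rw [Fin.snoc_last, Functor.map_comp, Category.assoc, c.comm, h]
          | cast j => rw [Fin.snoc_castSucc, Functor.map_comp, Category.assoc, c.comm]
        intro j
        rw [h1, h1])
      (by
        intro j j' hjj
        apply hne
        induction j using Fin.lastCases with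
        | last =>
          induction j' using Fin.lastCases with
          | last => exact absurd rfl hjj
          | cast j' => rw [Fin.snoc_last, Fin.snoc_castSucc]; exact hno j'
        | cast j =>
          induction j' using Fin.lastCases with
          | last => rw [Fin.snoc_last, Fin.snoc_castSucc]; exact (hno j).symm
          | cast j' =>
            rw [Fin.snoc_castSucc, Fin.snoc_castSucc]
            exact fun e' => hjj (congrArg Fin.castSucc (hinj l₁ e')))
    refine hnot (e.hom (closedPoint Ω)) ⟨l.left (e.hom (closedPoint Ω)), ?_⟩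
    rw [← ofPt_comp, ← Category.assoc, ← Functor.map_comp, hl,
      show (0 : Fin (p + 2)) = (0 : Fin (p + 1)).castSucc from rfl, Fin.snoc_castSucc, Functor.map_comp,
      Category.assoc]
  choose σ hσ using hmem
  have hσi : Function.Injective σ := fun i j hij => hinj l₂ (by simp only [hσ, hij])
  exact ⟨Equiv.ofBijective σ (Finite.injective_iff_bijective.1 hσi), hσ⟩

/-- the separated scheme covering the open of `p + 1` sheets, an isomorphism over the stratum -/
theorem exists_stratum_cover {X : Sp S} (hA : IsAlgSpace X) {W : Over S} [IsAffine W.left]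
    {π : (yon S).obj W ⟶ X} (hπ : RepWith @Etale π) {p : ℕ} (c : Conf π p) (c' : Conf π (p + 1)) :
    ∃ (V : Over S) (f' : (yon S).obj V ⟶ subSheaf c.pts), V.left.IsSeparated ∧
      (CompactSpace ↥c.C.left → CompactSpace ↥V.left) ∧ RepWith @Etale f' ∧ RepWith @Surjective f' ∧
      ∀ (Z P : Sp S) (i : Z ⟶ subSheaf c.pts), (∀ z, Points.map i z ∉ Points.map (subInc c.pts) ⁻¹' c'.pts) →
        ∀ (fst : P ⟶ Z) (snd : P ⟶ (yon S).obj V), IsPullback fst snd i f' → IsIso fst := by
  have hopen := c.isOpen_pts hπ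
  have hA' := isAlgSpace_subSheaf hA hopen
  obtain ⟨V, q, f, hqe, hqs, hsep, hcomp, hqf, hperm⟩ := exists_confQuot hA c
  obtain ⟨f', hf'⟩ := exists_subInc_lift (W := c.pts) f (fun v => by
    obtain ⟨z, rfl⟩ := q.left.surjective v
    rw [← ofPt_comp, hqf]
    exact ⟨z, rfl⟩)
  have hc₀ : RepWith @Etale ((yon S).map (c.pr 0) ≫ π) := repWith_comp ((repWith_yon_iff _).2 c.etale) hπ
  have hqf' : RepWith @Etale ((yon S).map q ≫ f') := by
    refine repWith_etale_of_comp hA' hA (g := subInc c.pts) (by rwa [Category.assoc, hf', hqf]) ?_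
    exact isEtaleMor_of_repWith' (repWith_mono (P := @IsOpenImmersion) (Q := @Etale)
      (fun _ _ g hg => have : IsOpenImmersion g := hg; inferInstance) (repWith_subInc hopen))
  have hrep : Representable f' := Functor.relativelyRepresentable.of_diag hA'.diag f'
  have hfe : RepWith @Etale f' := by
    refine ⟨hrep, fun T P ξ a b sq => ?_⟩
    obtain ⟨a, rfl⟩ := exists_map_eq a
    let Q : Over S := Over.mk (pullback.snd q.left a.left ≫ P.hom)
    let u : Q ⟶ c.C := Over.homMk (pullback.fst q.left a.left) (by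
      show pullback.fst q.left a.left ≫ c.C.hom = pullback.snd q.left a.left ≫ P.hom
      rw [← Over.w q, pullback.condition_assoc, Over.w a])
    let v : Q ⟶ P := Over.homMk (pullback.snd q.left a.left) rfl
    have sq₁ : IsPullback u.left v.left q.left a.left := IsPullback.of_hasPullback _ _
    have : Etale (v.left ≫ b.left) := by
      have := (repWith_yon_iff (v ≫ b)).1 (repWith_baseChange
        (show IsPullback ((yon S).map u) ((yon S).map (v ≫ b)) ((yon S).map q ≫ f') ξ from by
          rw [Functor.map_comp]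
          exact (isPullback_yon_iff.2 sq₁).paste_vert sq) hqf')
      exact this
    have : Etale v.left := inferInstanceAs (Etale (pullback.snd q.left a.left))
    have : Surjective v.left := inferInstanceAs (Surjective (pullback.snd q.left a.left))
    exact SrcDesc.etale v.left b.left
  have hfs : RepWith @Surjective f' := repWith_surjective_of_isSurjectiveMor hrep fun x => by
    obtain ⟨z, hz⟩ := map_subInc_mem x
    refine ⟨Points.ofScheme V (q.left z), ?_⟩
    rw [← Points.ofPt_eq_map_ofScheme]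
    have : Function.Injective (Points.map (subInc c.pts)) := by
      intro x₁ x₂ e
      obtain ⟨T₁, g₁, t₁, rfl⟩ := exists_ofPt x₁
      obtain ⟨T₂, g₂, t₂, rfl⟩ := exists_ofPt x₂
      rw [Points.map_ofPt, Points.map_ofPt] at e
      obtain ⟨K, α, β, k, ee, rfl, rfl⟩ := exists_of_ofPt_eq e
      rw [← Category.assoc, ← Category.assoc, cancel_mono] at ee
      rw [← ofPt_comp, ← ofPt_comp, ee]
    apply this
    rw [Points.map_ofPt, hf', ← ofPt_comp, hqf, hz]
  refine ⟨V, f', hsep, hcomp, hfe, hfs, fun Z P i hi fst snd sq => ?_⟩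
  refine Groth.Agent.AlgSpLib.isIso_of_points _ fun T => ?_
  suffices H : ∀ z : (yon S).obj T ⟶ Z, ∃! w : (yon S).obj T ⟶ P, w ≫ fst = z by
    exact ⟨fun w₁ w₂ e => (H (w₂ ≫ fst)).unique e rfl, fun z => (H z).exists⟩
  intro z
  obtain ⟨P', a, b, sq', hb⟩ := exists_repWith hfe (z ≫ i)
  obtain ⟨a, rfl⟩ := exists_map_eq a
  have : Etale b.left := hb
  have hbs : Surjective b.left := (repWith_yon_iff b).1 (repWith_baseChange sq' hfs)
  have : Surjective (pullback.diagonal b.left) := ⟨fun y => by
    obtain ⟨Ω, _, _, g, hg⟩ := exists_geomPoint y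
    have : LocallyQuasiFinite b.left := UnivInjMor.lqf_of_unramified _
    let g₁ := g ≫ pullback.fst b.left b.left
    let g₂ := g ≫ pullback.snd b.left b.left
    suffices e : g₁ = g₂ by
      refine ⟨g₁ (closedPoint Ω), ?_⟩
      have : g₁ ≫ pullback.diagonal b.left = g := by
        apply pullback.hom_ext
        · rw [Category.assoc, pullback.diagonal_fst, Category.comp_id]
        · rw [Category.assoc, pullback.diagonal_snd, Category.comp_id, e]
      rw [← Scheme.Hom.comp_apply, this, hg]
    have hg12 : g₁ ≫ b.left = g₂ ≫ b.left := by simp only [g₁, g₂, Category.assoc, pullback.condition]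
    let K : Over S := Over.mk (g₁ ≫ P'.hom)
    let k₁ : K ⟶ P' := Over.homMk g₁ rfl
    let k₂ : K ⟶ P' := Over.homMk g₂ (by
      show g₂ ≫ P'.hom = g₁ ≫ P'.hom
      rw [← Over.w b, reassoc_of% hg12])
    have hk : k₁ ≫ b = k₂ ≫ b := Over.OverMorphism.ext hg12
    obtain ⟨x₁, hx₁⟩ := q.left.surjective ((k₁ ≫ a).left (closedPoint Ω))
    obtain ⟨x₂, hx₂⟩ := q.left.surjective ((k₂ ≫ a).left (closedPoint Ω))
    obtain ⟨l₁, hl₁⟩ := exists_lift_of_etale q.left (k₁ ≫ a).left hx₁
    obtain ⟨l₂, hl₂⟩ := exists_lift_of_etale q.left (k₂ ≫ a).left hx₂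
    let L₁ : K ⟶ c.C := Over.homMk l₁ (by rw [← Over.w q, reassoc_of% hl₁, Over.w (k₁ ≫ a)])
    let L₂ : K ⟶ c.C := Over.homMk l₂ (by rw [← Over.w q, reassoc_of% hl₂, Over.w (k₂ ≫ a)])
    have hL₁ : L₁ ≫ q = k₁ ≫ a := Over.OverMorphism.ext hl₁
    have hL₂ : L₂ ≫ q = k₂ ≫ a := Over.OverMorphism.ext hl₂
    have key : ∀ {L : K ⟶ c.C} {k : K ⟶ P'}, L ≫ q = k ≫ a →
        (yon S).map L ≫ (yon S).map (c.pr 0) ≫ π = (yon S).map (k ≫ b) ≫ z ≫ i ≫ subInc c.pts := by
      intro L k hL
      rw [← hqf, ← Category.assoc, ← Functor.map_comp, hL, ← hf', Functor.map_comp, Category.assoc,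
        reassoc_of% sq'.w, Functor.map_comp, Category.assoc]
    obtain ⟨σ, hσ⟩ := c.exists_perm c' (Iso.refl _ : Spec (CommRingCat.of Ω) ≅ K.left) L₁ L₂
      (by rw [key hL₁, key hL₂, hk]) (fun k hk' => by
        rw [key hL₁, ← Category.assoc ((yon S).map (k₁ ≫ b)), ← Category.assoc, ← Points.map_ofPt,
          ← Points.map_ofPt ((yon S).map (k₁ ≫ b) ≫ z)] at hk'
        exact hi _ hk')
    have e : k₁ ≫ a = k₂ ≫ a := by rw [← hL₁, ← hL₂, hperm L₁ L₂ σ hσ]
    exact congrArg (fun m : K ⟶ P' => m.left) ((yon S).map_injective (sq'.hom_ext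
      (((yon S).map_comp _ _).symm.trans ((congrArg (yon S).map e).trans ((yon S).map_comp _ _)))
      (((yon S).map_comp _ _).symm.trans ((congrArg (yon S).map hk).trans ((yon S).map_comp _ _)))))⟩
  have : IsIso (pullback.diagonal b.left) := isIso_of_isOpenImmersion_of_opensRange_eq_top _
    (TopologicalSpace.Opens.ext (Set.range_eq_univ.2 (pullback.diagonal b.left).surjective))
  have : Mono b.left := (pullback.isIso_diagonal_iff _).1 ‹_›
  have : IsOpenImmersion b.left := IsOpenImmersion.of_flat_of_mono b.left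
  have : IsIso b.left := isIso_of_isOpenImmersion_of_opensRange_eq_top _
    (TopologicalSpace.Opens.ext (Set.range_eq_univ.2 b.left.surjective))
  have : IsIso ((Over.forget S).map b) := ‹IsIso b.left›
  have : IsIso b := isIso_of_reflects_iso b (Over.forget S)
  have hw : z ≫ i = ((yon S).map (inv b) ≫ (yon S).map a) ≫ f' := by
    rw [Category.assoc, sq'.w, ← Functor.map_comp_assoc, IsIso.inv_hom_id, CategoryTheory.Functor.map_id,
      Category.id_comp]
  refine ⟨sq.lift z ((yon S).map (inv b) ≫ (yon S).map a) hw, sq.lift_fst _ _ _, fun w hw' => ?_⟩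
  apply sq.hom_ext
  · rw [hw', sq.lift_fst]
  · rw [sq.lift_snd]
    have e : (w ≫ snd) ≫ f' = (𝟙 _) ≫ z ≫ i := by rw [Category.id_comp, Category.assoc, ← sq.w, reassoc_of% hw']
    have hl := sq'.lift_fst (w ≫ snd) (𝟙 _) e
    have hl' := sq'.lift_snd (w ≫ snd) (𝟙 _) e
    have : sq'.lift (w ≫ snd) (𝟙 _) e = (yon S).map (inv b) := by
      rw [← cancel_mono ((yon S).map b), hl', ← Functor.map_comp, IsIso.inv_hom_id,
        CategoryTheory.Functor.map_id]
    rw [← hl, this]

/-- a finite scheme over a field has boundedly many points in any field -/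
theorem exists_bound_points {K : Type u} [Field K] {F : Scheme.{u}} (h : F ⟶ Spec (CommRingCat.of K)) [IsFinite h] :
    ∃ N, ∀ (Ω : Type u) [Field Ω] (g : Spec (CommRingCat.of Ω) ⟶ Spec (CommRingCat.of K))
      (m : Fin (N + 1) → (Spec (CommRingCat.of Ω) ⟶ F)), (∀ i, m i ≫ h = g) → ¬ Function.Injective m := by
  have : IsAffine F := isAffine_of_isAffineHom h
  obtain ⟨φ, hφ⟩ := Spec.map_surjective (F.isoSpec.inv ≫ h)
  have : IsFinite (Spec.map φ) := hφ ▸ inferInstance
  have hfin : φ.hom.Finite := (IsFinite.SpecMap_iff _).1 ‹_›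
  algebraize [φ.hom]
  refine ⟨Module.finrank K Γ(F, ⊤), fun Ω _ g m hm hinj => ?_⟩
  obtain ⟨ψ₀, rfl⟩ := Spec.map_surjective g
  choose ψ hψ using fun i => Spec.map_surjective (m i ≫ F.isoSpec.hom)
  have he : ∀ i, φ ≫ ψ i = ψ₀ := fun i => Spec.map_injective (by
    rw [Spec.map_comp, hψ, hφ, Category.assoc, Iso.hom_inv_id_assoc, hm])
  let := ψ₀.hom.toAlgebra
  let a : Fin (Module.finrank K Γ(F, ⊤) + 1) → (Γ(F, ⊤) →ₐ[K] Ω) := fun i =>
    { (ψ i).hom with commutes' := fun r => congrArg (fun k => k.hom r) (he i) }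
  have ha : Function.Injective a := fun i j e => hinj (by
    rw [← cancel_mono F.isoSpec.hom, ← hψ, ← hψ]
    exact congrArg Spec.map (CommRingCat.hom_ext (RingHom.ext fun r => DFunLike.congr_fun e r)))
  have := (Nat.card_le_card_of_injective a ha).trans (card_algHom_le_finrank K Γ(F, ⊤) Ω)
  simp at this

/-- a quasi-compact field valued point lies on boundedly many sheets -/
theorem exists_bound_pts {X : Sp S} {W : Over S} [IsAffine W.left] {π : (yon S).obj W ⟶ X}
    (hπ : RepWith @Etale π) (q : FieldPt X) (hq : RepWith @QuasiCompact q.toHom) :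
    ∃ N, ∀ c : Conf π N, Points.mk q ∉ c.pts := by
  obtain ⟨F, a, snd, sq, hsnd⟩ := exists_repWith hq π
  have : QuasiCompact snd.left := hsnd
  obtain ⟨h, rfl⟩ := exists_map_eq a
  have : CompactSpace ↥F.left := QuasiCompact.compactSpace_of_compactSpace snd.left
  have : QuasiCompact h.left :=
    (HasAffineProperty.iff_of_isAffine (P := @QuasiCompact) (f := (show F.left ⟶ Spec (CommRingCat.of q.K) from h.left))).mpr ‹_›
  have : Etale h.left := (repWith_yon_iff h).1 (repWith_baseChange sq.flip hπ)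
  let hK : F.left ⟶ Spec (CommRingCat.of q.K) := h.left
  have : LocallyQuasiFinite hK := UnivInjMor.lqf_of_unramified h.left
  have : QuasiCompact hK := ‹QuasiCompact h.left›
  have : IsFinite hK := IsFinite.of_locallyQuasiFinite hK
  obtain ⟨N, hN⟩ := exists_bound_points hK
  refine ⟨N, fun c ⟨z, hz⟩ => ?_⟩
  rw [← Points.ofPt_toHom q (closedPoint q.K)] at hz
  obtain ⟨K₀, β, α, k, e, -, -⟩ := exists_of_ofPt_eq hz
  obtain ⟨Ω, _, _, g, -⟩ := exists_geomPoint k
  let Kg : Over S := Over.mk (g ≫ K₀.hom)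
  let j : Kg ⟶ K₀ := Over.homMk g rfl
  have hw : ∀ i, (yon S).map (j ≫ α) ≫ q.toHom = (yon S).map (j ≫ β ≫ c.pr i) ≫ π := fun i => by
    rw [Functor.map_comp, Functor.map_comp, Functor.map_comp, Category.assoc, Category.assoc,
      Category.assoc, c.comm, e]
  choose m hm using fun i => exists_map_eq (sq.lift _ _ (hw i))
  refine hN Ω (j ≫ α).left (fun i => (m i).left) (fun i => ?_) fun i i' e' => by_contra fun hii => ?_
  · have : m i ≫ h = j ≫ α := (yon S).map_injective (by rw [Functor.map_comp, hm, sq.lift_fst])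
    exact congrArg (fun k => k.left) this
  · have hs : ∀ i, m i ≫ snd = j ≫ β ≫ c.pr i := fun i =>
      (yon S).map_injective (by rw [Functor.map_comp, hm, sq.lift_snd])
    have e'' : m i = m i' := Over.OverMorphism.ext e'
    refine c.ne i i' hii Ω (j ≫ β).left ?_
    have e₃ : j ≫ β ≫ c.pr i = j ≫ β ≫ c.pr i' := by rw [← hs, ← hs, e'']
    simpa using congrArg (fun k => k.left) e₃

end Groth.Agent.SpQS
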