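import Groth.Agent.SpQS.FieldImm
import Groth.Agent.SpQS.GoodPt
import Groth.Agent.RedSepLib.Basic
import Groth.Agent.BMCoh.Geom
import Groth.Agent.AlgSpLib.FppfBase
import Groth.Agent.AlgSpLib.Space
import Groth.Agent.AlgSpLib.Quot
import Groth.Agent.QA.IndQA
import Groth.Agent.FpqcDescent.Immersion
import Groth.Prelude.Def_AlgSpSub

/-!
# Reduced induced closed subspaces
-/

universe u

open CategoryTheory CategoryTheory.Limits AlgebraicGeometry Opposite Topology

set_option backward.isDefEq.respectTransparency false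

namespace Groth.Agent.SpQS

open _root_.AlgSp Groth.Agent.AlgSpLib

variable {S : Scheme.{u}}

theorem exists_lift_mono {P F G : Sp S} (q : P ⟶ G) (m : F ⟶ G) [Mono m]
    (h : ∀ (T : Over S) (z : (yon S).obj T ⟶ P), ∃ l : (yon S).obj T ⟶ F, l ≫ m = z ≫ q) :
    ∃ l : P ⟶ F, l ≫ m = q := by
  have : IsIso (pullback.fst q m) := Groth.Agent.AlgSpLib.isIso_of_points _ fun T =>
    ⟨fun a b e => (cancel_mono (pullback.fst q m)).1 e, fun z => by
      obtain ⟨l, hl⟩ := h T z
      exact ⟨pullback.lift z l hl.symm, pullback.lift_fst _ _ _⟩⟩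
  exact ⟨inv (pullback.fst q m) ≫ pullback.snd q m, by
    rw [Category.assoc, ← pullback.condition, IsIso.inv_hom_id_assoc]⟩

/-- every closed set of points carries a reduced closed subspace -/
theorem exists_redInduced {X : Sp S} (hX : IsAlgSpace X) {T : Set (Points X)} (hT : IsClosed T) :
    ∃ (Z : Sp S) (i : Z ⟶ X), IsAlgSpace Z ∧ IsRedInduced T i := by
  obtain ⟨U, π, hπ, hπs⟩ := hX.atlas
  obtain ⟨R, t, s, sqR⟩ := exists_pullback hX.diag π π
  have : Etale t.left := (repWith_yon_iff t).1 (repWith_baseChange sqR.flip hπ)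
  have : Etale s.left := (repWith_yon_iff s).1 (repWith_baseChange sqR hπ)
  let C : TopologicalSpace.Closeds U.left :=
    ⟨Points.ofPt π ⁻¹' T, hT.preimage (Points.continuous_ofPt π)⟩
  let I := Scheme.IdealSheafData.vanishingIdeal C
  let ZU : Over S := Over.mk (I.subschemeι ≫ U.hom)
  let j : ZU ⟶ U := Over.homMk I.subschemeι rfl
  have : IsClosedImmersion j.left := inferInstanceAs (IsClosedImmersion I.subschemeι)
  have : IsReduced ZU.left := inferInstanceAs (IsReduced I.subscheme)
  have hj : Set.range j.left = Points.ofPt π ⁻¹' T := by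
    show Set.range I.subschemeι = _
    rw [I.range_subschemeι, Scheme.IdealSheafData.coe_support_vanishingIdeal]
    rfl
  -- the two pullbacks to the relation agree
  have hswap : ∀ ⦃T' : Over S⦄ (ρ : T' ⟶ R) (l : T' ⟶ ZU), l ≫ j = ρ ≫ t → ∃ l' : T' ⟶ ZU, l' ≫ j = ρ ≫ s := by
    intro T' ρ l hl
    have : IsReduced (pullback t.left j.left) := isReduced_of_etale_reduced (pullback.snd t.left j.left)
    obtain ⟨g, hg⟩ := RedSepLib.exists_lift_of_isReduced (pullback.fst t.left j.left ≫ s.left) j.left (by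
      rintro _ ⟨z, rfl⟩
      rw [hj]
      show Points.ofPt π (s.left (pullback.fst t.left j.left z)) ∈ T
      have h1 : j.left (pullback.snd t.left j.left z) = t.left (pullback.fst t.left j.left z) := by
        rw [← Scheme.Hom.comp_apply, ← Scheme.Hom.comp_apply, pullback.condition]
      rw [← ofPt_comp, ← sqR.w, ofPt_comp, ← h1]
      have h2 : j.left (pullback.snd t.left j.left z) ∈ Set.range j.left := ⟨_, rfl⟩
      rwa [hj] at h2)
    let k := pullback.lift ρ.left l.left (congrArg (fun m => m.left) hl).symm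
    refine ⟨Over.homMk (k ≫ g) ?_, Over.OverMorphism.ext ?_⟩
    · show (k ≫ g) ≫ j.left ≫ U.hom = T'.hom
      rw [Category.assoc, reassoc_of% hg, pullback.lift_fst_assoc, Over.w s, Over.w ρ]
    · show (k ≫ g) ≫ j.left = _
      rw [Category.assoc, hg, pullback.lift_fst_assoc]
      rfl
  let c : (yon S).obj ZU ⟶ X := (yon S).map j ≫ π
  let i : Sheaf.image c ⟶ X := Sheaf.imageι c
  let e : (yon S).obj ZU ⟶ Sheaf.image c := Sheaf.toImage c
  have hei : e ≫ i = (yon S).map j ≫ π := Sheaf.toImage_ι c
  have : Mono i := inferInstanceAs (Mono (Sheaf.imageι c))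
  have : Mono j.left := inferInstance
  have : Mono j := mono_of_left j
  have : Sheaf.IsLocallySurjective e :=
    (Sheaf.isLocallySurjective_iff_epi' _ e).2 (inferInstanceAs (Epi (Sheaf.toImage c)))
  have sq : IsPullback e ((yon S).map j) i π := by
    refine isPullback_of_points hei fun T' a b hab => ?_
    obtain ⟨b, rfl⟩ := exists_map_eq b
    obtain ⟨W, jW, bW, sqW⟩ : ∃ (W : Over S) (jW : W ⟶ T') (bW : W ⟶ ZU),
        IsPullback bW.left jW.left j.left b.left :=
      ⟨Over.mk (pullback.snd j.left b.left ≫ T'.hom), Over.homMk (pullback.snd j.left b.left) rfl,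
        Over.homMk (pullback.fst j.left b.left) (by
          show pullback.fst j.left b.left ≫ j.left ≫ U.hom = pullback.snd j.left b.left ≫ T'.hom
          rw [pullback.condition_assoc, Over.w b]), IsPullback.of_hasPullback _ _⟩
    have sqW' : IsPullback ((yon S).map bW) ((yon S).map jW) ((yon S).map j) ((yon S).map b) :=
      isPullback_yon_iff.2 sqW
    have : Mono ((yon S).map jW) := sqW'.mono_snd_of_mono
    -- the locally surjective pullback factors through the closed subscheme
    let q := pullback.snd e a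
    have : Sheaf.IsLocallySurjective q :=
      isLocallySurjective_of_isPullback (IsPullback.of_hasPullback e a).flip
    have hq : ∃ l : pullback e a ⟶ (yon S).obj W, l ≫ (yon S).map jW = q := by
      let ρ := sqR.lift (pullback.fst e a ≫ (yon S).map j) (q ≫ (yon S).map b) (by
        rw [Category.assoc, Category.assoc, ← hei, ← hab, reassoc_of% (pullback.condition (f := e) (g := a))])
      have hfac : ∀ (T'' : Over S) (z : (yon S).obj T'' ⟶ pullback e a),
          ∃ l : (yon S).obj T'' ⟶ (yon S).obj W, l ≫ (yon S).map jW = z ≫ q := by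
        intro T'' z
        obtain ⟨ρ', hρ'⟩ := exists_map_eq (z ≫ ρ)
        obtain ⟨u', hu'⟩ := exists_map_eq (z ≫ pullback.fst e a)
        obtain ⟨l', hl'⟩ := hswap ρ' u' ((yon S).map_injective (by
          rw [Functor.map_comp, Functor.map_comp, hρ', hu', Category.assoc, Category.assoc, sqR.lift_fst]))
        refine ⟨sqW'.lift ((yon S).map l') (z ≫ q) ?_, sqW'.lift_snd _ _ _⟩
        rw [← Functor.map_comp, hl', Functor.map_comp, hρ', Category.assoc, Category.assoc, sqR.lift_snd]
      exact exists_lift_mono q _ hfac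
    obtain ⟨l, hl⟩ := hq
    have : Epi q := (Sheaf.isLocallySurjective_iff_epi' _ q).1 ‹_›
    have : Epi ((yon S).map jW) := epi_of_epi_fac hl
    have : IsIso ((yon S).map jW) := isIso_of_mono_of_epi _
    have hcan : ∀ k : (yon S).obj T' ⟶ (yon S).obj ZU, k ≫ (yon S).map j = (yon S).map b → k ≫ e = a := fun k hk => by
      rw [← cancel_mono i, Category.assoc, hei, reassoc_of% hk, hab]
    refine ⟨inv ((yon S).map jW) ≫ (yon S).map bW, ⟨hcan _ ?_, ?_⟩, fun k hk => ?_⟩
    · rw [Category.assoc, sqW'.w, IsIso.inv_hom_id_assoc]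
    · rw [Category.assoc, sqW'.w, IsIso.inv_hom_id_assoc]
    · rw [← cancel_mono ((yon S).map j), hk.2, Category.assoc, sqW'.w, IsIso.inv_hom_id_assoc]
  have hcov : IsFppfCover (fun _ : PUnit.{u + 1} => (yon S).obj U) (fun _ => π) :=
    ⟨fun _ => ⟨(locP_iff_repWith etST_flat hX hπ.1).2 (repWith_mono (fun _ _ r hr => by
        have : Etale r := hr
        infer_instance) hπ),
      (locP_iff_repWith etST_lfp hX hπ.1).2 (repWith_mono (fun _ _ r hr => by
        have : Etale r := hr
        infer_instance) hπ)⟩, fun x => ⟨PUnit.unit, isSurjectiveMor_of_repWith hπs x⟩⟩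
  have hi : RepWith @IsClosedImmersion i := repWith_of_fppfCover @IsClosedImmersion
    (fun _ _ r hr => by
      have : IsClosedImmersion r := hr
      exact QA.IndQA.of_isImmersion r) hX (fun _ => IsAlgSpace.yon_obj U) hcov i (fun _ => (yon S).obj ZU)
    (fun _ => (yon S).map j) (fun _ => e) (fun _ => sq) (fun _ => (repWith_yon_iff j).2 ‹_›)
  refine ⟨_, i, isAlgSpace_of_repBySp (Representable.repBySp hi.1) hX, hi, ?_,
    ⟨ZU, e, repWith_baseChange sq.flip hπ, repWith_baseChange sq.flip hπs, ‹_›⟩⟩
  apply Set.Subset.antisymm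
  · rintro _ ⟨z, rfl⟩
    obtain ⟨u, hu⟩ := ofPt_surjective (repWith_baseChange sq.flip hπs) z
    have hmem : j.left u ∈ Points.ofPt π ⁻¹' T := hj ▸ ⟨u, rfl⟩
    rw [← hu, Points.map_ofPt, hei, ofPt_comp]
    exact hmem
  · intro x hx
    obtain ⟨u, rfl⟩ := ofPt_surjective hπs x
    obtain ⟨z, hz⟩ : u ∈ Set.range j.left := by rw [hj]; exact hx
    exact ⟨Points.ofPt e z, by rw [Points.map_ofPt, hei, ofPt_comp, hz]⟩

end Groth.Agent.SpQS
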