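import Groth.Agent.SpQS.Basic
import Groth.Agent.ValLib.EtLift
import Mathlib.Topology.Spectral.ConstructibleTopology
import Mathlib.Topology.Spectral.Basic

/-!
# Points of quasi-compact quasi-separated spaces form a spectral space
-/

universe u

open CategoryTheory CategoryTheory.Limits AlgebraicGeometry Opposite IsLocalRing

set_option backward.isDefEq.respectTransparency false

namespace Groth.Agent.SpQS

open _root_.AlgSp Groth.Agent.AlgSpLib

/-- a finite set has a point without strict generisations in it -/
theorem exists_maximal_generisation {α : Type*} [TopologicalSpace α] [T0Space α] {s : Set α} (hs : s.Finite)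
    (hne : s.Nonempty) : ∃ u ∈ s, ∀ v ∈ s, v ⤳ u → v = u := by
  let _ := specializationOrder α
  obtain ⟨u, hu⟩ := hs.exists_maximal hne
  exact ⟨u, hu.prop, fun v hv h => le_antisymm (hu.le_of_ge hv h) h⟩

variable {S : Scheme.{u}}

theorem spectralSpace_points [QuasiSeparatedSpace ↥S] {X : Sp S} (hX : IsAlgSpace X)
    (hq : IsQuasiCompactSp X) (hs : IsQuasiSeparatedSp X) : SpectralSpace (Points X) := by
  have := compactSpace_of_isQuasiCompactSp hq
  obtain ⟨U, π, hU, hπ, hπs⟩ := exists_affine_chart_of_compact hX
  have hU' := IsAlgSpace.yon_obj (S := S) U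
  have hqπ : IsQuasiCompactMor π := isQuasiCompactMor_of_qc_qs hU' hX π (isQuasiCompactSp_yon U) hs
  let P : ↥U.left → Points X := Points.ofPt π
  have hPc : Continuous P := Points.continuous_ofPt π
  have hPo : IsOpenMap P := isOpenMap_ofPt (repWith_universallyOpen_of_etale hπ)
  have hPs : Function.Surjective P := ofPt_surjective hπs
  have hP : ∀ V : Set (Points X), P ⁻¹' V = Points.schemeHomeo U ⁻¹' (Points.map π ⁻¹' V) := fun V => by
    ext u
    show Points.ofPt π u ∈ V ↔ Points.map π (Points.ofScheme U u) ∈ V
    rw [Points.map_ofPt, Category.id_comp]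
  have hcpt : ∀ V : Set (Points X), IsOpen V → IsCompact V → IsCompact (P ⁻¹' V) := fun V hV hVc => by
    rw [hP]
    exact (Points.schemeHomeo U).isCompact_preimage.2 (isCompact_preimage hX hqπ V hV hVc)
  have : SpectralSpace U.left := by
    have : CompactSpace U.left := inferInstance
    have : QuasiSeparatedSpace U.left := inferInstance
    exact {}
  have hfin : ∀ y : Points X, (P ⁻¹' {y}).Finite := by
    intro y
    obtain ⟨T, a, t, rfl⟩ := exists_ofPt y
    let K := T.left.residueField t
    let str : Spec (CommRingCat.of K) ⟶ S := T.left.fromSpecResidueField t ≫ T.hom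
    let x : (yon S).obj (Over.mk str) ⟶ X :=
      (yon S).map (Over.homMk (T.left.fromSpecResidueField t) rfl : Over.mk str ⟶ T) ≫ a
    have hx : Points.ofPt x (closedPoint K) = Points.ofPt a t := by
      rw [ofPt_comp]
      exact congrArg (Points.ofPt a) (Scheme.fromSpecResidueField_apply t _)
    have hK : CompactSpace (Over.mk str).left := inferInstanceAs (CompactSpace ↥(Spec (CommRingCat.of K)))
    refine (ValLib.finite_fibre hX hπ x fun V p q sqV => ?_).subset fun v hv => hv.trans hx.symm
    have := compactSpace_of_isQuasiCompactSp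
      (hqπ (IsAlgSpace.yon_obj _) (isQuasiCompactSp_yon (Over.mk str)) x _ _ sqV)
    exact (Points.schemeHomeo V).symm.compactSpace
  have hspec : ∀ (u : U.left) (y : Points X), P u ∈ closure {y} → ∃ v, P v = y ∧ v ⤳ u := by
    intro u y h
    have h1 := hPo.preimage_closure_subset_closure_preimage (show u ∈ P ⁻¹' closure {y} from h)
    rw [← Set.biUnion_of_singleton (P ⁻¹' {y}), (hfin y).closure_biUnion] at h1
    obtain ⟨v, hv, hvu⟩ := Set.mem_iUnion₂.1 h1
    exact ⟨v, hv, specializes_iff_mem_closure.2 hvu⟩
  have : T0Space (Points X) := by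
    refine ⟨fun x y hxy => ?_⟩
    obtain ⟨u, hu, hmax⟩ := exists_maximal_generisation (hfin x) (hPs x)
    obtain ⟨v, hv, hvu⟩ := hspec u y (by rw [show P u = x from hu]; exact specializes_iff_mem_closure.1 hxy.symm.specializes)
    obtain ⟨u', hu', huv⟩ := hspec v x (by rw [hv]; exact specializes_iff_mem_closure.1 hxy.specializes)
    have e := hmax u' hu' (huv.trans hvu)
    subst e
    have : v = u' := hvu.antisymm huv |>.eq
    subst this
    exact (show P v = x from hu).symm.trans hv
  have : QuasiSeparatedSpace (Points X) := ⟨fun V W hV hVc hW hWc => by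
    have := QuasiSeparatedSpace.inter_isCompact _ _ (hV.preimage hPc) (hcpt V hV hVc) (hW.preimage hPc) (hcpt W hW hWc)
    rw [← Set.preimage_inter] at this
    have h := this.image hPc
    rwa [Set.image_preimage_eq _ hPs] at h⟩
  have : PrespectralSpace (Points X) := PrespectralSpace.of_isTopologicalBasis
    (B := {V | IsOpen V ∧ IsCompact V})
    (TopologicalSpace.isTopologicalBasis_of_isOpen_of_nhds (fun V hV => hV.1) fun x V hx hV => by
      obtain ⟨u, rfl⟩ := hPs x
      obtain ⟨O, hO, huO, hOV⟩ := exists_isAffineOpen_mem_and_subset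
        (U := (⟨P ⁻¹' V, hV.preimage hPc⟩ : U.left.Opens)) hx
      exact ⟨P '' O, ⟨hPo _ O.2, hO.isCompact.image hPc⟩, ⟨u, huO, rfl⟩, Set.image_subset_iff.2 hOV⟩)
    fun V hV => hV.2
  have : QuasiSober (Points X) := by
    refine ⟨fun {Z} hZi hZc => ?_⟩
    let ι := {V : Set (Points X) // IsOpen V ∧ IsCompact V ∧ (Z ∩ V).Nonempty}
    let F : ι → Set (WithConstructibleTopology U.left) := fun V =>
      WithTopology.ofTopology ⁻¹' (P ⁻¹' V.1)
    have hFc : ∀ V : ι, IsClosed (F V) := fun V => by
      refine WithConstructibleTopology.isClosed_iff.2 ?_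
      show @IsClosed _ (constructibleTopology U.left) (P ⁻¹' V.1)
      rw [← @isOpen_compl_iff _ _ (constructibleTopology U.left)]
      exact IsCompact.isOpen_constructibleTopology_of_isClosed (by rw [compl_compl]; exact hcpt _ V.2.1 V.2.2.1)
        (V.2.1.preimage hPc).isClosed_compl
    let G : Set (WithConstructibleTopology U.left) := WithTopology.ofTopology ⁻¹' (P ⁻¹' Z)
    have hG : IsClosed G := by
      refine WithConstructibleTopology.isClosed_iff.2 ?_
      show @IsClosed _ (constructibleTopology U.left) (P ⁻¹' Z)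
      rw [← @isOpen_compl_iff _ _ (constructibleTopology U.left)]
      obtain ⟨s, hs, hs'⟩ := PrespectralSpace.isTopologicalBasis.open_eq_sUnion (hZc.preimage hPc).isOpen_compl
      rw [hs']
      exact @isOpen_sUnion _ (constructibleTopology U.left) _ fun t ht =>
        (hs ht).2.isOpen_constructibleTopology_of_isOpen (hs ht).1
    obtain ⟨u', hu'G, hu'F⟩ := hG.isCompact.inter_iInter_nonempty F hFc fun t => by
      classical
      obtain ⟨z, hz⟩ := isIrreducible_iff_sInter.1 hZi (t.image Subtype.val) (by
          intro V hV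
          obtain ⟨W, -, rfl⟩ := Finset.mem_image.1 hV
          exact W.2.1) (by
          intro V hV
          obtain ⟨W, -, rfl⟩ := Finset.mem_image.1 hV
          exact W.2.2.2)
      obtain ⟨u, rfl⟩ := hPs z
      exact ⟨WithTopology.toTopology _ u, hz.1, Set.mem_iInter₂.2 fun W hW =>
        hz.2 W.1 (Finset.mem_coe.2 (Finset.mem_image.2 ⟨W, hW, rfl⟩))⟩
    refine ⟨P (WithTopology.ofTopology u'), Set.Subset.antisymm (closure_minimal (Set.singleton_subset_iff.2 hu'G) hZc)
      fun z hz => ?_⟩
    rw [PrespectralSpace.isTopologicalBasis.mem_closure_iff]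
    intro V hV hzV
    exact ⟨P (WithTopology.ofTopology u'), Set.mem_iInter.1 hu'F ⟨V, hV.1, hV.2, z, hz, hzV⟩, rfl⟩
  exact {}

end Groth.Agent.SpQS
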