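import Groth.Agent.FtPtsLib.Basic
import Groth.Agent.AlgSpLib.LocPMore
import Groth.Agent.AlgSpLib.QCompact

/-!
# Finite type points of algebraic spaces
-/

universe u

open CategoryTheory CategoryTheory.Limits AlgebraicGeometry Opposite IsLocalRing

set_option backward.isDefEq.respectTransparency false

namespace Groth.Agent.SpQS

open _root_.AlgSp Groth.Agent.AlgSpLib

variable {S : Scheme.{u}}

/-- a point of an affine-closed kind in a chart is a finite type point -/
theorem ftPoint_of_chart {X : Sp S} (hX : IsAlgSpace X) {U : Over S} (φ : (yon S).obj U ⟶ X)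
    (hφ : RepWith @Etale φ) {u : U.left} (hu : FtPtsLib.ClosedInAffine u) :
    ∃ (k : Type u) (_ : Field k) (str : Spec (CommRingCat.of k) ⟶ S) (ξ : (yon S).obj (Over.mk str) ⟶ X),
      LocP @LocallyOfFiniteType ξ ∧ Points.ofPt ξ (closedPoint k) = Points.ofPt φ u := by
  let str : Spec (CommRingCat.of (U.left.residueField u)) ⟶ S := U.left.fromSpecResidueField u ≫ U.hom
  let m : Over.mk str ⟶ U := Over.homMk (U.left.fromSpecResidueField u) rfl
  refine ⟨U.left.residueField u, inferInstance, str, (yon S).map m ≫ φ, ?_, ?_⟩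
  · exact locP_of_chart etST_lft (IsAlgSpace.yon_obj _) hX (a := 𝟙 _) (b := φ) (h := m) repWith_id'
      (repWith_id _ _) hφ (Category.id_comp _) (FtPtsLib.lft_of_closedInAffine u hu)
  · rw [ofPt_comp]
    exact congrArg (Points.ofPt φ) (Scheme.fromSpecResidueField_apply u _)

theorem closedInAffine_of_isClosed {U : Scheme.{u}} {u : U} (h : IsClosed ({u} : Set U)) :
    FtPtsLib.ClosedInAffine u := by
  obtain ⟨O, hO, hu, -⟩ := exists_isAffineOpen_mem_and_subset (show u ∈ (⊤ : U.Opens) from trivial)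
  refine ⟨O, hO, hu, ?_⟩
  convert h.preimage (continuous_subtype_val (p := (· ∈ O))) using 1
  ext x
  simp [Subtype.ext_iff]

/-- a finite type point is closed in an affine piece of a chart -/
theorem exists_closed_chart_point {X : Sp S} (hX : IsAlgSpace X) {k : Type u} [Field k]
    {str : Spec (CommRingCat.of k) ⟶ S} (ξ : (yon S).obj (Over.mk str) ⟶ X) (hξ : LocP @LocallyOfFiniteType ξ) :
    ∃ (U : Over S) (φ : (yon S).obj U ⟶ X) (u : U.left), RepWith @Etale φ ∧ IsClosed ({u} : Set U.left) ∧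
      Points.ofPt φ u = Points.ofPt ξ (closedPoint k) := by
  obtain ⟨U, π, hπ, hπs⟩ := hX.atlas
  obtain ⟨W, p, q, sqW⟩ := exists_pullback hX.diag π ξ
  have : LocallyOfFiniteType p.left :=
    hξ ((yon S).map q) π p ((repWith_yon_iff q).2 (hπ.2 ξ _ q sqW)) hπ sqW.w.symm
  have : Surjective q.left := hπs.2 ξ _ q sqW
  obtain ⟨w, -⟩ := q.left.surjective (closedPoint k : ↥(Over.mk str).left)
  obtain ⟨w₀, -, hw₀⟩ := FtPtsLib.exists_mem_of_isLocallyClosed (S := W.left) Set.univ
    isClosed_univ.isLocallyClosed ⟨w, trivial⟩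
  have h := FtPtsLib.image_mem p.left w₀ (FtPtsLib.lft_of_closedInAffine w₀ hw₀)
  obtain ⟨O, hO, hu, hcl⟩ := (FtPtsLib.iff_closedInAffine _).1 h
  refine ⟨Over.mk (O.ι ≫ U.hom), (yon S).map (Over.homMk O.ι rfl) ≫ π, ⟨p.left w₀, hu⟩,
    repWith_comp ((repWith_yon_iff _).2 (inferInstanceAs (Etale O.ι))) hπ, hcl, ?_⟩
  rw [ofPt_comp]
  show Points.ofPt π (p.left w₀) = _
  rw [← ofPt_comp, sqW.w, ofPt_comp]
  exact congrArg (Points.ofPt ξ) (Subsingleton.elim (α := PrimeSpectrum k) _ _)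

/-- nonempty locally closed sets contain finite type points -/
theorem exists_ftPoint_of_isLocallyClosed {X : Sp S} (hX : IsAlgSpace X) {T : Set (Points X)}
    (hT : IsLocallyClosed T) (hne : T.Nonempty) :
    ∃ x ∈ T, ∃ (k : Type u) (_ : Field k) (str : Spec (CommRingCat.of k) ⟶ S)
      (ξ : (yon S).obj (Over.mk str) ⟶ X), LocP @LocallyOfFiniteType ξ ∧ Points.ofPt ξ (closedPoint k) = x := by
  obtain ⟨U, π, hπ, hπs⟩ := hX.atlas
  obtain ⟨x, hx⟩ := hne
  obtain ⟨u₀, rfl⟩ := ofPt_surjective hπs x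
  obtain ⟨u, hu, huc⟩ := FtPtsLib.exists_mem_of_isLocallyClosed (S := U.left) (Points.ofPt π ⁻¹' T)
    (hT.preimage (Points.continuous_ofPt π)) ⟨u₀, hx⟩
  exact ⟨_, hu, ftPoint_of_chart hX π hπ huc⟩

/-- surjective morphisms hit finite type points by finite type points -/
theorem exists_ftPoint_over {X Y : Sp S} (hX : IsAlgSpace X) (hY : IsAlgSpace Y) (f : X ⟶ Y)
    (hs : IsSurjectiveMor f) {V : Over S} (q : (yon S).obj V ⟶ Y) (hq : RepWith @Etale q) {v : V.left}
    (hv : IsClosed ({v} : Set V.left)) :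
    ∃ x : Points X, Points.map f x = Points.ofPt q v ∧ ∃ (k : Type u) (_ : Field k)
      (str : Spec (CommRingCat.of k) ⟶ S) (ξ : (yon S).obj (Over.mk str) ⟶ X),
      LocP @LocallyOfFiniteType ξ ∧ Points.ofPt ξ (closedPoint k) = x := by
  have sqP := IsPullback.of_hasPullback f q
  have hP : IsAlgSpace (pullback f q) := isAlgSpace_of_isPullback_space hY hX (IsAlgSpace.yon_obj V) sqP
  obtain ⟨U, π, hπ, hπs⟩ := hP.atlas
  obtain ⟨a, ha⟩ := exists_map_eq (π ≫ pullback.snd f q)
  obtain ⟨x₀, hx₀⟩ := hs (Points.ofPt q v)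
  obtain ⟨p, -, hp⟩ := exists_point_of_isPullback sqP x₀ (Points.ofScheme V v)
    (hx₀.trans (Points.ofPt_eq_map_ofScheme q v))
  obtain ⟨u₀, rfl⟩ := ofPt_surjective hπs p
  have hu₀ : a.left u₀ = v := (Points.schemeEquiv V).injective (by
    show Points.ofScheme V (a.left u₀) = Points.ofScheme V v
    rw [← hp, Points.map_ofPt, ← ha, ofScheme_map])
  obtain ⟨u, hu, huc⟩ := FtPtsLib.exists_mem_of_isLocallyClosed (S := U.left) (a.left ⁻¹' {v})
    (hv.preimage a.left.continuous).isLocallyClosed ⟨u₀, hu₀⟩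
  refine ⟨_, ?_, ftPoint_of_chart hX (π ≫ pullback.fst f q)
    (repWith_comp hπ (repWith_baseChange sqP.flip hq)) huc⟩
  rw [Points.map_ofPt, Category.assoc, sqP.w, ← Category.assoc, ← ha, ofPt_comp, show a.left u = v from hu]

end Groth.Agent.SpQS
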