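import Groth.Agent.SpQS.GenPts
import Groth.Agent.SpQS.FtPts
import Groth.Prelude.Def_AlgSpDec
import Groth.Prelude.Def_Dual3
import Mathlib.AlgebraicGeometry.Morphisms.FiniteType

/-!
# Jacobson algebraic spaces
-/

universe u

open CategoryTheory CategoryTheory.Limits AlgebraicGeometry Opposite IsLocalRing Topology

set_option backward.isDefEq.respectTransparency false

namespace Groth.Agent.SpQS

open _root_.AlgSp Groth.Agent.AlgSpLib

variable {S : Scheme.{u}}

theorem isLocallyClosed_of_closedInAffine {U : Scheme.{u}} {u : U} (h : FtPtsLib.ClosedInAffine u) :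
    IsLocallyClosed ({u} : Set U) := by
  obtain ⟨O, -, hu, hcl⟩ := h
  have := hcl.isLocallyClosed.image IsInducing.subtypeVal
    (show IsLocallyClosed (Set.range (Subtype.val : ↥O → U)) by
      rw [Subtype.range_coe_subtype]; exact O.2.isLocallyClosed)
  rwa [Set.image_singleton] at this

/-- a scheme with closed locally closed points is Jacobson -/
theorem jacobsonSpace_of_points {U : Scheme.{u}}
    (h : ∀ u : U, IsLocallyClosed ({u} : Set U) → IsClosed ({u} : Set U)) : JacobsonSpace ↥U := by
  rw [jacobsonSpace_iff_locallyClosed]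
  intro Z hne hZ
  obtain ⟨u, hu, huc⟩ := FtPtsLib.exists_mem_of_isLocallyClosed (S := U) Z hZ hne
  exact ⟨u, hu, h u (isLocallyClosed_of_closedInAffine huc)⟩

/-- fibres over locally closed points of etale maps to Jacobson schemes consist of closed points -/
theorem isClosed_of_fibre {R V : Scheme.{u}} (q : R ⟶ V) [Etale q] [JacobsonSpace ↥R] {v : V}
    (hv : IsLocallyClosed ({v} : Set V)) {r : R} (hr : q r = v) : IsClosed ({r} : Set R) := by
  subst hr
  have : LocallyQuasiFinite q := UnivInjMor.lqf_of_unramified q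
  have : DiscreteTopology ↥(q ⁻¹' {q r}) :=
    isDiscrete_iff_discreteTopology.1 (q.isDiscrete_preimage_singleton (q r))
  have hF : IsLocallyClosed (q ⁻¹' {q r}) := hv.preimage q.continuous
  obtain ⟨O, hO, hO'⟩ := isOpen_induced_iff.1 (isOpen_discrete ({⟨r, rfl⟩} : Set ↥(q ⁻¹' {q r})))
  refine isClosed_singleton_of_isLocallyClosed_singleton ?_
  have : ({r} : Set R) = O ∩ q ⁻¹' {q r} := by
    ext x
    constructor
    · rintro rfl
      exact ⟨show (⟨x, rfl⟩ : ↥(q ⁻¹' {q x})) ∈ Subtype.val ⁻¹' O by rw [hO']; rfl, rfl⟩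
    · rintro ⟨hx, hx'⟩
      have h : (⟨x, hx'⟩ : ↥(q ⁻¹' {q r})) ∈ Subtype.val ⁻¹' O := hx
      rw [hO'] at h
      exact congrArg Subtype.val h
  rw [this]
  exact hO.isLocallyClosed.inter hF

/-- the Jacobson property descends along etale surjective maps -/
theorem jacobsonSpace_of_etale_surjective {R V : Scheme.{u}} (q : R ⟶ V) [Etale q] [Surjective q]
    [JacobsonSpace ↥R] : JacobsonSpace ↥V := by
  refine jacobsonSpace_of_points fun v hv => closure_subset_iff_isClosed.1 fun v' hv' => ?_
  obtain ⟨r', rfl⟩ := q.surjective v'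
  obtain ⟨r, hr, rfl⟩ := Flat.generalizingMap q (specializes_iff_mem_closure.2 hv')
  have := isClosed_of_fibre q hv rfl (r := r)
  rw [show r' = r from hr.mem_closed this rfl]
  rfl

/-- charts of spaces locally of finite type over Jacobson spaces are Jacobson -/
theorem jacobsonSpace_of_lft {X Y : Sp S} (hX : IsAlgSpace X)
    (hJ : EtaleLocally (fun U => JacobsonSpace ↥U) X) (f : Y ⟶ X) (hf : LocP @LocallyOfFiniteType f)
    {W : Over S} (a : (yon S).obj W ⟶ Y) (ha : RepWith @Etale a) : JacobsonSpace ↥W.left := by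
  obtain ⟨U, π, hπ, hπs, hU⟩ := hJ
  obtain ⟨P, p, q, sq⟩ := exists_pullback hX.diag (a ≫ f) π
  have he : Etale p.left := (repWith_yon_iff p).1 (repWith_baseChange sq.flip hπ)
  have : Surjective p.left := (repWith_yon_iff p).1 (repWith_baseChange sq.flip hπs)
  have : LocallyOfFiniteType q.left :=
    hf ((yon S).map p ≫ a) π q (repWith_comp ((repWith_yon_iff p).2 he) ha) hπ
      (by rw [Category.assoc]; exact sq.w)
  have : JacobsonSpace ↥P.left := LocallyOfFiniteType.jacobsonSpace q.left
  exact jacobsonSpace_of_etale_surjective p.left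

theorem locP_lft_id {X : Sp S} (hX : IsAlgSpace X) : LocP @LocallyOfFiniteType (𝟙 X) := by
  obtain ⟨U, π, hπ, hπs⟩ := hX.atlas
  exact locP_of_chart etST_lft hX hX (h := 𝟙 U) hπ hπs hπ (by simp)
    (show LocallyOfFiniteType (𝟙 U.left) from inferInstance)

theorem jacobsonSpace_of_chart {X : Sp S} (hX : IsAlgSpace X) (hJ : EtaleLocally (fun U => JacobsonSpace ↥U) X)
    {W : Over S} (a : (yon S).obj W ⟶ X) (ha : RepWith @Etale a) : JacobsonSpace ↥W.left :=
  jacobsonSpace_of_lft hX hJ (𝟙 X) (locP_lft_id hX) a ha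

/-- closedness of a point does not depend on the chart of a Jacobson space -/
theorem isClosed_chart_point {X : Sp S} (hX : IsAlgSpace X) (hJ : EtaleLocally (fun U => JacobsonSpace ↥U) X)
    {U V : Over S} {a : (yon S).obj U ⟶ X} (ha : RepWith @Etale a) {b : (yon S).obj V ⟶ X}
    (hb : RepWith @Etale b) {u : U.left} (hu : IsClosed ({u} : Set U.left)) {v : V.left}
    (e : Points.ofPt a u = Points.ofPt b v) : IsClosed ({v} : Set V.left) := by
  obtain ⟨R, p, q, sq⟩ := exists_pullback hX.diag a b
  have : Etale q.left := (repWith_yon_iff q).1 (repWith_baseChange sq ha)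
  have : Etale p.left := (repWith_yon_iff p).1 (repWith_baseChange sq.flip hb)
  have := jacobsonSpace_of_chart hX hJ a ha
  have := jacobsonSpace_of_chart hX hJ b hb
  have : JacobsonSpace ↥R.left := LocallyOfFiniteType.jacobsonSpace p.left
  obtain ⟨r, hr₁, rfl⟩ := (ofPt_eq_iff sq u v).1 e
  exact q.left.closePoints_subset_preimage_closedPoints
    (isClosed_of_fibre p.left hu.isLocallyClosed hr₁ : r ∈ closedPoints R.left)

/-- closed chart points give closed points of decent Jacobson spaces -/
theorem isClosed_point_of_chart {X : Sp S} (hX : IsAlgSpace X) (hg : ∀ x : Points X, GoodAt x)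
    (hJ : EtaleLocally (fun U => JacobsonSpace ↥U) X) {U : Over S} {a : (yon S).obj U ⟶ X}
    (ha : RepWith @Etale a) {u : U.left} (hu : IsClosed ({u} : Set U.left)) :
    IsClosed ({Points.ofPt a u} : Set (Points X)) := by
  obtain ⟨V, π, hπ, hπs⟩ := hX.atlas
  have hq := (isOpenMap_ofPt (repWith_universallyOpen_of_etale hπ)).isQuotientMap (Points.continuous_ofPt π)
    (ofPt_surjective hπs)
  rw [← hq.isClosed_preimage]
  set F := Points.ofPt π ⁻¹' {Points.ofPt a u} with hFdef
  have hpt : ∀ v ∈ F, IsClosed ({v} : Set V.left) := fun v hv => isClosed_chart_point hX hJ ha hπ hu hv.symm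
  rw [← isOpen_compl_iff, isOpen_iff_forall_mem_open]
  intro w hw
  obtain ⟨A, hA, hwA, -⟩ := exists_isAffineOpen_mem_and_subset (U := (⊤ : V.left.Opens)) (x := w) trivial
  let Ao : Over S := Over.mk (A.ι ≫ V.hom)
  let i : Ao ⟶ V := Over.homMk A.ι rfl
  have : IsAffine Ao.left := (hA : IsAffine A.toScheme)
  have hfin : ((A : Set V.left) ∩ F).Finite := by
    refine (((hg (Points.ofPt a u)).finite hX (a := (yon S).map i ≫ π)
      (repWith_comp ((repWith_yon_iff _).2 (inferInstanceAs (Etale A.ι))) hπ)).image A.ι).subset ?_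
    rintro v ⟨hv, hv'⟩
    refine ⟨(⟨v, hv⟩ : ↥A), ?_, rfl⟩
    show Points.ofPt ((yon S).map i ≫ π) _ = _
    rw [ofPt_comp]
    exact hv'
  refine ⟨(A : Set V.left) \ ((A : Set V.left) ∩ F), fun v hv hv' => hv.2 ⟨hv.1, hv'⟩,
    A.2.sdiff ?_, hwA, fun h => hw h.2⟩
  rw [← Set.biUnion_of_singleton ((A : Set V.left) ∩ F)]
  exact hfin.isClosed_biUnion fun v hv => hpt v hv.2

/-- closed points of decent spaces are closed in charts -/
theorem isClosed_chart_of_isClosed {X : Sp S} (hX : IsAlgSpace X) (hg : ∀ x : Points X, GoodAt x) {U : Over S}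
    {a : (yon S).obj U ⟶ X} (ha : RepWith @Etale a) {u : U.left}
    (hu : IsClosed ({Points.ofPt a u} : Set (Points X))) : IsClosed ({u} : Set U.left) := by
  refine closure_subset_iff_isClosed.1 fun u' hu' => ?_
  have hs : u ⤳ u' := specializes_iff_mem_closure.2 hu'
  have e : Points.ofPt a u' = Points.ofPt a u :=
    (hs.map (Points.continuous_ofPt a)).mem_closed hu rfl
  exact eq_of_specializes_of_good hX ha (fun W b hW hb => (hg _).finite hX (hU := hW) hb) e.symm hs

theorem jacobson_iff {X : Sp S} (hX : IsAlgSpace X) (hg : ∀ x : Points X, GoodAt x) :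
    EtaleLocally (fun U => JacobsonSpace ↥U) X ↔ JacobsonSpace (Points X) := by
  constructor
  · intro hJ
    rw [jacobsonSpace_iff_locallyClosed]
    intro Z hne hZ
    obtain ⟨U, π, hπ, hπs⟩ := hX.atlas
    have := jacobsonSpace_of_chart hX hJ π hπ
    obtain ⟨u, hu, huc⟩ := nonempty_inter_closedPoints (hne.preimage (ofPt_surjective hπs))
      (hZ.preimage (Points.continuous_ofPt π))
    exact ⟨_, hu, isClosed_point_of_chart hX hg hJ hπ huc⟩
  · intro hJ
    obtain ⟨U, π, hπ, hπs⟩ := hX.atlas
    refine ⟨U, π, hπ, hπs, jacobsonSpace_of_points fun u hu => closure_subset_iff_isClosed.1 fun u' hu' => ?_⟩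
    obtain ⟨O, i, o', hO, hi, rfl, hia⟩ := exists_affine_sub_chart hπ u'
    have hop := i.left.isOpenEmbedding
    obtain ⟨o, rfl⟩ : u ∈ Set.range i.left :=
      (specializes_iff_mem_closure.2 hu').mem_open hop.isOpen_range ⟨o', rfl⟩
    have ho : IsLocallyClosed ({o} : Set O.left) := by
      have := hu.preimage hop.continuous
      rwa [← Set.image_singleton, hop.injective.preimage_image] at this
    set b := (yon S).map i ≫ π with hb
    let F' : Set O.left := (Points.ofPt b ⁻¹' {Points.ofPt b o}) \ {o}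
    have hfin : F'.Finite := ((hg _).finite hX hia).subset Set.sdiff_subset
    have hsp : ∀ v w : O.left, Points.ofPt b v = Points.ofPt b w → v ⤳ w → w = v := fun v w e h =>
      eq_of_specializes_of_good hX hia (fun W c hW hc => (hg _).finite hX (hU := hW) hc) e h
    have hF' : o ∉ closure F' := by
      rw [← Set.biUnion_of_singleton F', hfin.closure_biUnion]
      intro h
      obtain ⟨v, hv, hvo⟩ := Set.mem_iUnion₂.1 h
      exact hv.2 (hsp v o hv.1 (specializes_iff_mem_closure.2 hvo)).symm
    obtain ⟨W, C, hW, hC, e⟩ := ho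
    have hPo := isOpenMap_ofPt (repWith_universallyOpen_of_etale hia)
    have hx : IsClosed ({Points.ofPt b o} : Set (Points X)) := by
      refine isClosed_singleton_of_isLocallyClosed_singleton ⟨Points.ofPt b '' (W \ closure F'),
        closure {Points.ofPt b o}, hPo _ (hW.sdiff isClosed_closure), isClosed_closure, ?_⟩
      ext y
      constructor
      · rintro rfl
        exact ⟨⟨o, ⟨(e ▸ Set.mem_singleton o : o ∈ W ∩ C).1, hF'⟩, rfl⟩, subset_closure rfl⟩
      · rintro ⟨⟨w, ⟨hwW, hw⟩, rfl⟩, hy⟩
        have h1 := hPo.preimage_closure_subset_closure_preimage (show w ∈ Points.ofPt b ⁻¹' closure {_} from hy)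
        have : Points.ofPt b ⁻¹' {Points.ofPt b o} ⊆ {o} ∪ F' := fun v hv => by
          by_cases hvo : v = o
          exacts [Or.inl hvo, Or.inr ⟨hv, hvo⟩]
        have h2 := closure_mono this h1
        rw [closure_union] at h2
        rcases h2 with h2 | h2
        · have h3 : closure {o} ⊆ C := closure_minimal (by rw [e]; exact Set.inter_subset_right) hC
          have h4 : w ∈ ({o} : Set O.left) := by rw [e]; exact ⟨hwW, h3 h2⟩
          rw [show w = o from h4]
          rfl
        · exact absurd h2 hw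
    rw [show o' = o from (hop.isInducing.specializes_iff.1 (specializes_iff_mem_closure.2 hu')).mem_closed
      (isClosed_chart_of_isClosed hX hg hia hx) rfl]
    rfl

/-- finite type points lift to closed points along maps locally of finite type -/
theorem exists_closedPoint_over {X : Sp S} (hX : IsAlgSpace X) (hJ : EtaleLocally (fun U => JacobsonSpace ↥U) X)
    {x : Points X} (hx : HasAt (fun U u => IsClosed ({u} : Set ↥U)) X x) {W : Over S} (g : (yon S).obj W ⟶ X)
    (hg : LocP @LocallyOfFiniteType g) (hxW : x ∈ Set.range (Points.ofPt g)) :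
    ∃ w : W.left, IsClosed ({w} : Set W.left) ∧ Points.ofPt g w = x := by
  obtain ⟨U, a, u, ha, rfl, hu⟩ := hx
  obtain ⟨w₀, hw₀⟩ := hxW
  obtain ⟨P, p, q, sq⟩ := exists_pullback hX.diag g a
  have hp : Etale p.left := (repWith_yon_iff p).1 (repWith_baseChange sq.flip ha)
  have := jacobsonSpace_of_chart hX hJ a ha
  have := jacobsonSpace_of_lft hX hJ g hg (𝟙 _) repWith_id'
  have : LocallyOfFiniteType q.left := hg ((yon S).map p) a q ((repWith_yon_iff p).2 hp) ha sq.w
  have : JacobsonSpace ↥P.left := LocallyOfFiniteType.jacobsonSpace q.left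
  obtain ⟨z₀, -, hz₀⟩ := (ofPt_eq_iff sq w₀ u).1 hw₀
  obtain ⟨z, hz, hzc⟩ := nonempty_inter_closedPoints (Z := q.left ⁻¹' {u}) ⟨z₀, hz₀⟩
    (hu.preimage q.left.continuous).isLocallyClosed
  exact ⟨p.left z, p.left.closePoints_subset_preimage_closedPoints hzc,
    ((ofPt_eq_iff sq (p.left z) (q.left z)).2 ⟨z, rfl, rfl⟩).trans (congrArg (Points.ofPt a) hz)⟩

/-- residue extensions at closed points of maps locally of finite type to Jacobson schemes are algebraic -/
theorem resTrdeg_eq_zero {U V : Scheme.{u}} (h : U ⟶ V) [LocallyOfFiniteType h] {u : U}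
    (hu : IsClosed ({u} : Set U)) : Dual3.resTrdeg h u = 0 := by
  have := isClosed_singleton_iff_isClosedImmersion.mp hu
  have hlft : LocallyOfFiniteType (Spec.map (h.residueFieldMap u) ≫ V.fromSpecResidueField (h u)) := by
    rw [Scheme.Hom.SpecMap_residueFieldMap_fromSpecResidueField]
    infer_instance
  have h1 : LocallyOfFiniteType (Spec.map (h.residueFieldMap u)) :=
    locallyOfFiniteType_of_comp _ (V.fromSpecResidueField (h u))
  rw [HasRingHomProperty.Spec_iff (P := @LocallyOfFiniteType)] at h1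
  unfold Dual3.resTrdeg
  let := (h.residueFieldMap u).hom.toAlgebra
  have : Algebra.FiniteType (V.residueField (h u)) (U.residueField u) := h1
  have : Module.Finite (V.residueField (h u)) (U.residueField u) := finite_of_finite_type_of_isJacobsonRing _ _
  exact trdeg_eq_zero

theorem hasAtMor_resTrdeg_zero {X Y : Sp S} (hX : IsAlgSpace X) (hY : IsAlgSpace Y) (f : X ⟶ Y)
    (hf : LocP @LocallyOfFiniteType f) (hJ : EtaleLocally (fun U => JacobsonSpace ↥U) Y) {x : Points X}
    (hx : HasAt (fun U u => IsClosed ({u} : Set ↥U)) X x) :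
    HasAtMor (fun _ _ h u => Dual3.resTrdeg h u = 0) f x := by
  obtain ⟨U, a, u, ha, rfl, hu⟩ := hx
  obtain ⟨V, b, hb, hbs, hV⟩ := hJ
  obtain ⟨P, p, q, sq⟩ := exists_pullback hY.diag (a ≫ f) b
  have hp : Etale p.left := (repWith_yon_iff p).1 (repWith_baseChange sq.flip hb)
  have : Surjective p.left := (repWith_yon_iff p).1 (repWith_baseChange sq.flip hbs)
  have hpa : RepWith @Etale ((yon S).map p ≫ a) := repWith_comp ((repWith_yon_iff p).2 hp) ha
  have comm : ((yon S).map p ≫ a) ≫ f = (yon S).map q ≫ b := by rw [Category.assoc]; exact sq.w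
  have : LocallyOfFiniteType q.left := hf _ b q hpa hb comm
  have : JacobsonSpace ↥P.left := LocallyOfFiniteType.jacobsonSpace q.left
  obtain ⟨z, rfl⟩ := p.left.surjective u
  exact ⟨P, V, _, b, q, z, hpa, hb, comm, ofPt_comp _ _ _, resTrdeg_eq_zero q.left
    (isClosed_of_fibre p.left hu.isLocallyClosed rfl)⟩

end Groth.Agent.SpQS
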