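import Groth.Agent.SpQS.DecentPoint

/-!
# Spaces with a monomorphism into a discrete scheme
-/

universe u

open CategoryTheory CategoryTheory.Limits AlgebraicGeometry Opposite IsLocalRing

set_option backward.isDefEq.respectTransparency false

namespace Groth.Agent.SpQS

open _root_.AlgSp Groth.Agent.AlgSpLib

variable {S : Scheme.{u}}

theorem injective_points_of_mono {X Y : Sp S} (f : X ⟶ Y) [Mono f] : Function.Injective (Points.map f) := by
  intro x y e
  obtain ⟨p, h1, h2⟩ := exists_point_of_isPullback (IsKernelPair.id_of_mono f) x y e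
  rw [Points.map_id] at h1 h2
  exact h1.symm.trans h2

theorem isDecent_of_mono_yon {X : Sp S} (hX : IsAlgSpace X) {Y : Over S} (f : X ⟶ (yon S).obj Y) [Mono f] :
    IsDecent X := by
  have hY : RepWith @IsImmersion (Limits.diag ((yon S).obj Y)) :=
    (repWith_diag_yon_iff (P := @IsImmersion) Y).2 inferInstance
  have sq : IsPullback (Limits.diag X) f (prod.map f f) (Limits.diag ((yon S).obj Y)) := by
    refine IsPullback.of_isLimit' ⟨by apply prod.hom_ext <;> simp⟩
      (PullbackCone.IsLimit.mk _ (fun c => c.fst ≫ prod.fst) (fun c => ?_) (fun c => ?_) ?_)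
    · have h1 := congrArg (· ≫ prod.fst) c.condition
      have h2 := congrArg (· ≫ prod.snd) c.condition
      simp at h1 h2
      apply prod.hom_ext
      · simp
      · rw [← cancel_mono f]
        simp [h1, h2]
    · have h1 := congrArg (· ≫ prod.fst) c.condition
      simp at h1
      simp [h1]
    · intro c m h1 _
      rw [← h1]
      simp
  exact isDecent_of_good hX (goodAt_of_locallySeparated hX (repWith_baseChange sq.flip hY))

theorem exists_iso_yon_of_mono_discrete {X : Sp S} (hX : IsAlgSpace X) {Y : Over S} [DiscreteTopology Y.left]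
    (f : X ⟶ (yon S).obj Y) [Mono f] : ∃ W : Over S, Nonempty (X ≅ (yon S).obj W) := by
  let O : Y.left → Y.left.Opens := fun y => ⟨{y}, isOpen_discrete _⟩
  let Yp : Y.left → Over S := fun y => Over.mk ((O y).ι ≫ Y.hom)
  let inc : ∀ y, Yp y ⟶ Y := fun y => Over.homMk (O y).ι rfl
  have hinc : ∀ y, RepWith @IsOpenImmersion ((yon S).map (inc y)) := fun y =>
    (repWith_yon_iff _).2 (inferInstance : IsOpenImmersion (O y).ι)
  let ι := {y : Y.left // Nonempty (Points (pullback f ((yon S).map (inc y))))}
  have hW : ∀ i : ι, ∃ W : Over S, Nonempty (pullback f ((yon S).map (inc i.1)) ≅ (yon S).obj W) := by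
    rintro ⟨y, hy⟩
    have hP := isAlgSpace_of_isPullback_space (IsAlgSpace.yon_obj Y) hX (IsAlgSpace.yon_obj (Yp y))
      (IsPullback.of_hasPullback f ((yon S).map (inc y)))
    have : Subsingleton (Points (pullback f ((yon S).map (inc y)))) := ⟨fun a b => by
      have : Subsingleton ↥(Yp y).left := ⟨fun u v => Subtype.ext ((show u.1 = y from u.2).trans (show v.1 = y from v.2).symm)⟩
      have : Subsingleton (Points ((yon S).obj (Yp y))) := (Points.schemeEquiv (Yp y)).symm.subsingleton
      exact injective_points_of_mono (pullback.snd f ((yon S).map (inc y))) (Subsingleton.elim _ _)⟩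
    exact exists_iso_yon_of_subsingleton hP (isDecent_of_mono_yon hP (pullback.snd f ((yon S).map (inc y))))
  choose W e using hW
  refine exists_iso_yon_of_open_cover hX W (fun i => (e i).some.inv ≫ pullback.fst f ((yon S).map (inc i.1)))
    (fun i => (repWith_iso_comp_iff _ _).2 (repWith_baseChange (IsPullback.of_hasPullback f _).flip (hinc i.1)))
    fun x => ?_
  obtain ⟨y, hy⟩ := (Points.schemeEquiv Y).surjective (Points.map f x)
  obtain ⟨z, hz, -⟩ := exists_point_of_isPullback (IsPullback.of_hasPullback f ((yon S).map (inc y))) x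
    (Points.ofScheme (Yp y) (⟨y, rfl⟩ : ↥(O y))) (by
      rw [← hy]
      show _ = Points.map _ (Points.ofPt (𝟙 _) _)
      rw [Points.map_ofPt, Category.id_comp, ofScheme_map]
      rfl)
  refine ⟨⟨y, ⟨z⟩⟩, Points.map (e ⟨y, ⟨z⟩⟩).some.hom z, ?_⟩
  rw [← Points.map_comp, Iso.hom_inv_id_assoc, hz]

end Groth.Agent.SpQS
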