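import Groth.Agent.SpQS.DimField
import Groth.Agent.LimDesc.DescendQF
import Groth.Agent.AlgSpLib.LocP
import Groth.Agent.AlgSpLib.Subspace
import Groth.Prelude.Def_AlgSpDec

/-!
# Quasi-finiteness of morphisms of algebraic spaces at a point
-/

universe u

open CategoryTheory CategoryTheory.Limits AlgebraicGeometry Opposite IsLocalRing Topology

set_option backward.isDefEq.respectTransparency false

namespace Groth.Agent.SpQS

open _root_.AlgSp Groth.Agent.AlgSpLib

variable {S : Scheme.{u}}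

/-- quasi-finite at a point iff isolated in the fibre -/
theorem quasiFiniteAt_iff_open {U V : Scheme.{u}} (f : U ⟶ V) [LocallyOfFiniteType f] (u : U) :
    f.QuasiFiniteAt u ↔ ∃ O : Set U, IsOpen O ∧ u ∈ O ∧ ∀ u' ∈ O, f u' = f u → u' = u := by
  rw [Scheme.Hom.quasiFiniteAt_iff_isOpen_singleton_asFiber, ← (f.fiberHomeo (f u)).isOpen_image,
    Set.image_singleton]
  simp only [Scheme.Hom.asFiber, Homeomorph.apply_symm_apply]
  rw [isOpen_induced_iff]
  constructor
  · rintro ⟨O, hO, e⟩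
    refine ⟨O, hO, ?_, fun u' hu' hf => ?_⟩
    · have : (⟨u, rfl⟩ : ↥(f ⁻¹' {f u})) ∈ Subtype.val ⁻¹' O := by rw [e]; rfl
      exact this
    · have h1 : (⟨u', hf⟩ : ↥(f ⁻¹' {f u})) ∈ Subtype.val ⁻¹' O := hu'
      rw [e] at h1
      exact congrArg Subtype.val h1
  · rintro ⟨O, hO, hu, h⟩
    refine ⟨O, hO, Set.ext fun w => ?_⟩
    constructor
    · intro hw
      exact Subtype.ext (h w.1 hw w.2)
    · rintro rfl
      exact hu

theorem qf_of_nhd {U V : Scheme.{u}} {h : U ⟶ V} {u : U}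
    (hn : ∃ W : U.Opens, u ∈ W ∧ LocallyQuasiFinite (W.ι ≫ h) ∧ LocallyOfFiniteType (W.ι ≫ h)) :
    h.QuasiFiniteAt u := by
  obtain ⟨W, hu, hl, -⟩ := hn
  have h1 := (W.ι ≫ h).quasiFiniteAt (⟨u, hu⟩ : W)
  exact (Scheme.Hom.quasiFiniteAt_comp_iff_of_isOpenImmersion (f := W.ι) (g := h) (x := (⟨u, hu⟩ : W))).1 h1

theorem nhd_of_qf {U V : Scheme.{u}} (h : U ⟶ V) [LocallyOfFiniteType h] {u : U} (hu : h.QuasiFiniteAt u) :
    ∃ W : U.Opens, u ∈ W ∧ LocallyQuasiFinite (W.ι ≫ h) ∧ LocallyOfFiniteType (W.ι ≫ h) :=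
  ⟨h.quasiFiniteLocus, hu, LimDesc.locallyQuasiFinite_of_forall_quasiFiniteAt _ fun z =>
    (Scheme.Hom.quasiFiniteAt_comp_iff_of_isOpenImmersion (f := h.quasiFiniteLocus.ι) (g := h) (x := z)).2 z.2,
    inferInstance⟩

theorem fibreDimAt_eq_zero_iff {U V : Scheme.{u}} (h : U ⟶ V) [LocallyOfFiniteType h] (u : U) :
    FlatMor.fibreDimAt h u = 0 ↔ h.QuasiFiniteAt u := by
  rw [Scheme.Hom.quasiFiniteAt_iff_isOpen_singleton_asFiber]
  have : LocallyOfFiniteType (h.fiberToSpecResidueField (h u)) :=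
    inferInstanceAs (LocallyOfFiniteType (pullback.snd h (V.fromSpecResidueField (h u))))
  exact localDim_eq_zero_iff (k := V.residueField (h u)) (h.fiberToSpecResidueField (h u)) (h.asFiber u)

theorem qf_descend {W U V : Scheme.{u}} (e : W ⟶ U) [Etale e] (h : U ⟶ V) [LocallyOfFiniteType h] {w : W}
    (hw : (e ≫ h).QuasiFiniteAt w) : h.QuasiFiniteAt (e w) := by
  rw [quasiFiniteAt_iff_open] at hw ⊢
  obtain ⟨O, hO, hwO, hiso⟩ := hw
  refine ⟨e '' O, e.isOpenMap _ hO, ⟨w, hwO, rfl⟩, ?_⟩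
  rintro _ ⟨w', hw', rfl⟩ he
  rw [hiso w' hw' (by rw [Scheme.Hom.comp_apply, Scheme.Hom.comp_apply]; exact he)]

theorem qf_precomp {W U V : Scheme.{u}} (e : W ⟶ U) [LocallyQuasiFinite e] (h : U ⟶ V) {w : W}
    (hu : h.QuasiFiniteAt (e w)) : (e ≫ h).QuasiFiniteAt w := by
  show ((e ≫ h).stalkMap w).hom.QuasiFinite
  rw [Scheme.Hom.stalkMap_comp, CommRingCat.hom_comp]
  exact (e.quasiFiniteAt w).comp hu

/-- quasi-finiteness does not depend on the charts -/
theorem qf_chart_indep {X Y : Sp S} (hX : IsAlgSpace X) (hY : IsAlgSpace Y) (f : X ⟶ Y) {U V U' V' : Over S}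
    {a : (yon S).obj U ⟶ X} {b : (yon S).obj V ⟶ Y} {h : U ⟶ V} (ha : RepWith @Etale a) (hb : RepWith @Etale b)
    (comm : a ≫ f = (yon S).map h ≫ b) {a' : (yon S).obj U' ⟶ X} {b' : (yon S).obj V' ⟶ Y} {h' : U' ⟶ V'}
    (ha' : RepWith @Etale a') (hb' : RepWith @Etale b') (comm' : a' ≫ f = (yon S).map h' ≫ b')
    [LocallyOfFiniteType h'.left] {u : U.left} {u' : U'.left} (e : Points.ofPt a u = Points.ofPt a' u')
    (hu : h.left.QuasiFiniteAt u) : h'.left.QuasiFiniteAt u' := by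
  obtain ⟨V'', v₁, v₂, sqV⟩ := exists_pullback hY.diag b b'
  obtain ⟨U'', p₁, p₂, sqU⟩ := exists_pullback hX.diag a a'
  obtain ⟨k, hk⟩ := exists_map_eq (sqV.lift ((yon S).map (p₁ ≫ h)) ((yon S).map (p₂ ≫ h')) (by
    rw [Functor.map_comp, Functor.map_comp, Category.assoc, Category.assoc, ← comm, ← comm', reassoc_of% sqU.w]))
  have hk₁ : k ≫ v₁ = p₁ ≫ h := (yon S).map_injective (by rw [Functor.map_comp, hk, sqV.lift_fst])
  have hk₂ : k ≫ v₂ = p₂ ≫ h' := (yon S).map_injective (by rw [Functor.map_comp, hk, sqV.lift_snd])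
  have : Etale v₁.left := (repWith_yon_iff v₁).1 (repWith_baseChange sqV.flip hb')
  have : Etale v₂.left := (repWith_yon_iff v₂).1 (repWith_baseChange sqV hb)
  have : Etale p₁.left := (repWith_yon_iff p₁).1 (repWith_baseChange sqU.flip ha')
  have : Etale p₂.left := (repWith_yon_iff p₂).1 (repWith_baseChange sqU ha)
  have : LocallyQuasiFinite v₁.left := UnivInjMor.lqf_of_unramified _
  have : LocallyQuasiFinite v₂.left := UnivInjMor.lqf_of_unramified _
  have : LocallyQuasiFinite p₁.left := UnivInjMor.lqf_of_unramified _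
  obtain ⟨w, rfl, rfl⟩ := (ofPt_eq_iff sqU u u').1 e
  have h1 : (p₁.left ≫ h.left).QuasiFiniteAt w := qf_precomp _ _ hu
  rw [show p₁.left ≫ h.left = k.left ≫ v₁.left from (congrArg (fun g => g.left) hk₁).symm] at h1
  have h2 : (k.left ≫ v₂.left).QuasiFiniteAt w :=
    Scheme.Hom.quasiFiniteAt_comp_iff.2 (Scheme.Hom.quasiFiniteAt_comp_iff.1 h1)
  rw [show k.left ≫ v₂.left = p₂.left ≫ h'.left from congrArg (fun g => g.left) hk₂] at h2
  exact qf_descend _ _ h2

/-- quasi-finite at a point, read in all charts -/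
def QFAtPt {X Y : Sp S} (f : X ⟶ Y) (x : Points X) : Prop :=
  ∀ (U V : Over S) (a : (yon S).obj U ⟶ X) (b : (yon S).obj V ⟶ Y) (h : U ⟶ V) (u : U.left),
    RepWith @Etale a → RepWith @Etale b → a ≫ f = (yon S).map h ≫ b → Points.ofPt a u = x →
      h.left.QuasiFiniteAt u

theorem qfAtPt_of_chart {X Y : Sp S} (hX : IsAlgSpace X) (hY : IsAlgSpace Y) (f : X ⟶ Y)
    (hf : LocP @LocallyOfFiniteType f) {U V : Over S} {a : (yon S).obj U ⟶ X} {b : (yon S).obj V ⟶ Y} {h : U ⟶ V}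
    (ha : RepWith @Etale a) (hb : RepWith @Etale b) (comm : a ≫ f = (yon S).map h ≫ b) {u : U.left} {x : Points X}
    (hx : Points.ofPt a u = x) (hu : h.left.QuasiFiniteAt u) : QFAtPt f x := by
  intro U' V' a' b' h' u' ha' hb' comm' hu'
  have : LocallyOfFiniteType h'.left := hf a' b' h' ha' hb' comm'
  exact qf_chart_indep hX hY f ha hb comm ha' hb' comm' (hx.trans hu'.symm) hu

theorem exists_chart_atlas {X Y : Sp S} (hX : IsAlgSpace X) (hY : IsAlgSpace Y) (f : X ⟶ Y) :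
    ∃ (U V : Over S) (a : (yon S).obj U ⟶ X) (b : (yon S).obj V ⟶ Y) (h : U ⟶ V),
      RepWith @Etale a ∧ RepWith @Surjective a ∧ RepWith @Etale b ∧ a ≫ f = (yon S).map h ≫ b := by
  obtain ⟨U₀, π, hπ, hπs⟩ := hX.atlas
  obtain ⟨V, b, hb, hbs⟩ := hY.atlas
  obtain ⟨P, p, q, sq⟩ := exists_pullback hY.diag (π ≫ f) b
  exact ⟨P, V, (yon S).map p ≫ π, b, q, repWith_comp (repWith_baseChange sq.flip hb) hπ,
    repWith_comp (repWith_baseChange sq.flip hbs) hπs, hb, by rw [Category.assoc]; exact sq.w⟩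

theorem hasAtMor_nhd_iff {X Y : Sp S} (hX : IsAlgSpace X) (hY : IsAlgSpace Y) (f : X ⟶ Y)
    (hf : LocP @LocallyOfFiniteType f) (x : Points X) :
    HasAtMor (fun U _ h u => ∃ W : U.Opens, u ∈ W ∧ LocallyQuasiFinite (W.ι ≫ h) ∧
      LocallyOfFiniteType (W.ι ≫ h)) f x ↔ QFAtPt f x := by
  constructor
  · rintro ⟨U, V, a, b, h, u, ha, hb, comm, hx, hn⟩
    exact qfAtPt_of_chart hX hY f hf ha hb comm hx (qf_of_nhd hn)
  · intro hq
    obtain ⟨U, V, a, b, h, ha, has, hb, comm⟩ := exists_chart_atlas hX hY f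
    obtain ⟨u, hu⟩ := ofPt_surjective has x
    have : LocallyOfFiniteType h.left := hf a b h ha hb comm
    exact ⟨U, V, a, b, h, u, ha, hb, comm, hu, nhd_of_qf h.left (hq U V a b h u ha hb comm hu)⟩

theorem hasAtMor_dim_zero_iff {X Y : Sp S} (hX : IsAlgSpace X) (hY : IsAlgSpace Y) (f : X ⟶ Y)
    (hf : LocP @LocallyOfFiniteType f) (x : Points X) :
    HasAtMor (fun _ _ h u => FlatMor.fibreDimAt h u = 0) f x ↔ QFAtPt f x := by
  constructor
  · rintro ⟨U, V, a, b, h, u, ha, hb, comm, hx, hn⟩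
    have : LocallyOfFiniteType h.left := hf a b h ha hb comm
    exact qfAtPt_of_chart hX hY f hf ha hb comm hx ((fibreDimAt_eq_zero_iff h.left u).1 hn)
  · intro hq
    obtain ⟨U, V, a, b, h, ha, has, hb, comm⟩ := exists_chart_atlas hX hY f
    obtain ⟨u, hu⟩ := ofPt_surjective has x
    have : LocallyOfFiniteType h.left := hf a b h ha hb comm
    exact ⟨U, V, a, b, h, u, ha, hb, comm, hu, (fibreDimAt_eq_zero_iff h.left u).2 (hq U V a b h u ha hb comm hu)⟩

theorem locP_lqf_iff {X Y : Sp S} (f : X ⟶ Y) (hf : LocP @LocallyOfFiniteType f) :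
    LocP (@LocallyQuasiFinite ⊓ @LocallyOfFiniteType) f ↔ ∀ x, QFAtPt f x := by
  refine ⟨fun hl x U V a b h u ha hb comm _ => ?_, fun hq U V a b h ha hb comm => ?_⟩
  · have : LocallyQuasiFinite h.left := (hl a b h ha hb comm).1
    exact h.left.quasiFiniteAt u
  · have : LocallyOfFiniteType h.left := hf a b h ha hb comm
    exact ⟨LimDesc.locallyQuasiFinite_of_forall_quasiFiniteAt h.left fun u =>
      hq _ U V a b h u ha hb comm rfl, this⟩

theorem isOpen_qfAtPt {X Y : Sp S} (hX : IsAlgSpace X) (hY : IsAlgSpace Y) (f : X ⟶ Y)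
    (hf : LocP @LocallyOfFiniteType f) : IsOpen {x | QFAtPt f x} := by
  obtain ⟨U, V, a, b, h, ha, has, hb, comm⟩ := exists_chart_atlas hX hY f
  have : LocallyOfFiniteType h.left := hf a b h ha hb comm
  rw [← ((isOpenMap_ofPt (repWith_universallyOpen_of_etale ha)).isQuotientMap (Points.continuous_ofPt a)
    (ofPt_surjective has)).isOpen_preimage]
  convert h.left.isOpen_quasiFiniteAt using 1
  ext u
  exact ⟨fun hq => hq U V a b h u ha hb comm rfl, fun hu => qfAtPt_of_chart hX hY f hf ha hb comm rfl hu⟩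

/-- the open subspace where a morphism is quasi-finite -/
theorem exists_lqf_open {X Y : Sp S} (hX : IsAlgSpace X) (hY : IsAlgSpace Y) (f : X ⟶ Y)
    (hf : LocP @LocallyOfFiniteType f) {x : Points X} (hx : QFAtPt f x) :
    ∃ (X' : Sp S) (j : X' ⟶ X), IsAlgSpace X' ∧ RepWith @IsOpenImmersion j ∧ x ∈ Set.range (Points.map j) ∧
      LocP (@LocallyQuasiFinite ⊓ @LocallyOfFiniteType) (j ≫ f) := by
  have hB := isOpen_qfAtPt hX hY f hf
  have hje : IsEtaleMor (subInc {x | QFAtPt f x}) := isEtaleMor_of_repWith' (repWith_mono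
    (fun {A B} g (hg : IsOpenImmersion g) => (by have := hg; infer_instance : Etale g)) (repWith_subInc hB))
  refine ⟨subSheaf {x | QFAtPt f x}, subInc _, isAlgSpace_subSheaf hX hB, repWith_subInc hB, ?_,
    fun U V a b h ha hb comm => ?_⟩
  · obtain ⟨U, V, a, b, h, ha, has, hb, comm⟩ := exists_chart_atlas hX hY f
    obtain ⟨u, hu⟩ := ofPt_surjective has x
    let O : U.left.Opens := ⟨Points.ofPt a ⁻¹' {x | QFAtPt f x}, hB.preimage (Points.continuous_ofPt a)⟩
    let Oo : Over S := Over.mk (O.ι ≫ U.hom)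
    let i : Oo ⟶ U := Over.homMk O.ι rfl
    obtain ⟨l, hl⟩ := exists_factor_subInc (W := {x | QFAtPt f x}) ((yon S).map i ≫ a) fun w => by
      obtain ⟨v, rfl⟩ := (Points.schemeEquiv Oo).surjective w
      show Points.map ((yon S).map i ≫ a) (Points.ofScheme Oo v) ∈ {x | QFAtPt f x}
      rw [← Points.ofPt_eq_map_ofScheme, ofPt_comp]
      exact v.2
    have huO : u ∈ O := by
      show Points.ofPt a u ∈ {x | QFAtPt f x}
      rw [hu]; exact hx
    refine ⟨Points.ofPt l (⟨u, huO⟩ : ↥O), ?_⟩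
    rw [Points.map_ofPt, hl, ofPt_comp]
    exact hu
  · have ha' : RepWith @Etale (a ≫ subInc {x | QFAtPt f x}) := hje a ha
    have : LocallyOfFiniteType h.left := hf _ b h ha' hb (by rw [Category.assoc]; exact comm)
    refine ⟨LimDesc.locallyQuasiFinite_of_forall_quasiFiniteAt h.left fun u => ?_, this⟩
    have hu : Points.ofPt (a ≫ subInc {x | QFAtPt f x}) u ∈ {x | QFAtPt f x} := by
      rw [← Points.map_ofPt]
      exact map_subInc_mem _
    exact hu U V _ b h u ha' hb (by rw [Category.assoc]; exact comm) rfl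

/-- quasi-finiteness on the fibre -/
theorem qfAtPt_fibre_iff {X Y Xk : Sp S} (hX : IsAlgSpace X) (hY : IsAlgSpace Y) (f : X ⟶ Y)
    (hf : LocP @LocallyOfFiniteType f) {K : Type u} [Field K] {str : Spec (CommRingCat.of K) ⟶ S}
    {y : (yon S).obj (Over.mk str) ⟶ Y} {fst : Xk ⟶ X} {snd : Xk ⟶ (yon S).obj (Over.mk str)}
    (sq : IsPullback fst snd f y) (z : Points Xk) :
    QFAtPt snd z ↔ QFAtPt f (Points.map fst z) := by
  have hK : IsAlgSpace ((yon S).obj (Over.mk str)) := IsAlgSpace.yon_obj _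
  have hXk : IsAlgSpace Xk := isAlgSpace_of_isPullback_space hY hX hK sq
  have hsnd : LocP @LocallyOfFiniteType snd := locP_baseChange etST_lft hX hY hXk hK sq hf
  obtain ⟨U, V, a, b, h, ha, has, hb, comm⟩ := exists_chart_atlas hX hY f
  obtain ⟨u, hu⟩ := ofPt_surjective has (Points.map fst z)
  have : LocallyOfFiniteType h.left := hf a b h ha hb comm
  obtain ⟨Vk, v₁, v₂, sqV⟩ := exists_pullback hY.diag b y
  obtain ⟨Uk, π₁, π₂, sqU⟩ := exists_pullback hY.diag (a ≫ f) y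
  obtain ⟨c, hc₁, hc₂⟩ : ∃ c : (yon S).obj Uk ⟶ Xk, c ≫ fst = (yon S).map π₁ ≫ a ∧ c ≫ snd = (yon S).map π₂ :=
    ⟨sq.lift _ _ (by rw [Category.assoc]; exact sqU.w), sq.lift_fst _ _ _, sq.lift_snd _ _ _⟩
  have sqc : IsPullback ((yon S).map π₁) c a fst :=
    IsPullback.of_bot (by rw [hc₂]; exact sqU) hc₁.symm sq
  have hce : RepWith @Etale c := repWith_baseChange sqc ha
  obtain ⟨hk, hhk⟩ := exists_map_eq (sqV.lift ((yon S).map (π₁ ≫ h)) ((yon S).map π₂) (by
    rw [Functor.map_comp, Category.assoc, ← comm, sqU.w]))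
  have hk₁ : hk ≫ v₁ = π₁ ≫ h := (yon S).map_injective (by rw [Functor.map_comp, hhk, sqV.lift_fst])
  have hk₂ : hk ≫ v₂ = π₂ := (yon S).map_injective (by rw [Functor.map_comp, hhk, sqV.lift_snd])
  have sqH : IsPullback π₁.left hk.left h.left v₁.left := by
    refine isPullback_yon_iff.1 (IsPullback.of_bot (h₂₁ := (yon S).map v₁) (v₂₁ := (yon S).map v₂) ?_ ?_ sqV)
    · rw [← Functor.map_comp, hk₂, ← comm]
      exact sqU
    · rw [← Functor.map_comp, ← Functor.map_comp, hk₁]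
  have : LocallyOfFiniteType hk.left := MorphismProperty.of_isPullback sqH ‹LocallyOfFiniteType h.left›
  obtain ⟨w', hw₁, hw₂⟩ := exists_point_of_isPullback sqc (Points.ofScheme U u) z (by
    rw [← Points.ofPt_eq_map_ofScheme]; exact hu)
  obtain ⟨w, rfl⟩ := (Points.schemeEquiv Uk).surjective w'
  have hw : π₁.left w = u := (Points.schemeEquiv U).injective (by
    show Points.ofScheme U (π₁.left w) = Points.ofScheme U u
    rw [← hw₁]
    show _ = Points.map ((yon S).map π₁) (Points.ofScheme Uk w)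
    rw [← Points.ofPt_eq_map_ofScheme, ofScheme_map])
  have hcw : Points.ofPt c w = z := (Points.ofPt_eq_map_ofScheme c w).trans hw₂
  have : Etale v₂.left := (repWith_yon_iff v₂).1 (repWith_baseChange sqV hb)
  have : LocallyQuasiFinite v₂.left := UnivInjMor.lqf_of_unramified _
  have hcomm : c ≫ snd = (yon S).map (hk ≫ v₂) ≫ 𝟙 _ := by rw [Category.comp_id, hk₂, hc₂]
  constructor
  · intro hq
    have h1 := hq Uk _ c (𝟙 _) (hk ≫ v₂) w hce repWith_id' hcomm hcw
    rw [Over.comp_left] at h1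
    exact qfAtPt_of_chart hX hY f hf ha hb comm (by rw [hw]; exact hu) (LimDesc.quasiFiniteAt_of_baseChange sqH
      (Scheme.Hom.quasiFiniteAt_comp_iff.1 h1))
  · intro hq
    have h1 : h.left.QuasiFiniteAt (π₁.left w) := hq U V a b h _ ha hb comm (by rw [hw]; exact hu)
    refine qfAtPt_of_chart hXk hK snd hsnd hce repWith_id' hcomm hcw ?_
    rw [Over.comp_left]
    exact Scheme.Hom.quasiFiniteAt_comp_iff.2 (LimDesc.quasiFiniteAt_of_isPullback sqH h1)

/-- over a field, dimension zero at a point means quasi-finite -/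
theorem hasAt_localDim_zero_iff {Xk : Sp S} (hXk : IsAlgSpace Xk) {K : Type u} [Field K]
    {str : Spec (CommRingCat.of K) ⟶ S} (snd : Xk ⟶ (yon S).obj (Over.mk str))
    (hsnd : LocP @LocallyOfFiniteType snd) (z : Points Xk) :
    HasAt (fun U u => FlatMor.localDim ↥U u = 0) Xk z ↔ QFAtPt snd z := by
  have hK : IsAlgSpace ((yon S).obj (Over.mk str)) := IsAlgSpace.yon_obj _
  have key : ∀ (U : Over S) (g : U ⟶ Over.mk str) (w : U.left), LocallyOfFiniteType g.left →
      (FlatMor.localDim ↥U.left w = 0 ↔ g.left.QuasiFiniteAt w) := by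
    intro U g w hg
    let g' : U.left ⟶ Spec (CommRingCat.of K) := g.left
    have : LocallyOfFiniteType g' := hg
    rw [localDim_eq_zero_iff g' w]
    refine Iff.trans ?_ (quasiFiniteAt_iff_open g' w).symm
    refine ⟨fun h => ⟨{w}, h, rfl, fun v hv _ => hv⟩, fun ⟨O, hO, hw, h⟩ => ?_⟩
    rwa [show ({w} : Set U.left) = O from Set.Subset.antisymm (Set.singleton_subset_iff.2 hw)
      fun v hv => h v hv (Subsingleton.elim (α := PrimeSpectrum K) _ _)]
  constructor
  · rintro ⟨U, c, w, hc, hz, h0⟩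
    obtain ⟨g, hg⟩ := exists_map_eq (c ≫ snd)
    have comm : c ≫ snd = (yon S).map g ≫ 𝟙 _ := by rw [Category.comp_id, hg]
    exact qfAtPt_of_chart hXk hK snd hsnd hc repWith_id' comm hz
      ((key U g w (hsnd c (𝟙 _) g hc repWith_id' comm)).1 h0)
  · intro hq
    obtain ⟨U, c, w, -, hc, hz, -⟩ := exists_affine_chart_at hXk z
    obtain ⟨g, hg⟩ := exists_map_eq (c ≫ snd)
    have comm : c ≫ snd = (yon S).map g ≫ 𝟙 _ := by rw [Category.comp_id, hg]
    exact ⟨U, c, w, hc, hz, (key U g w (hsnd c (𝟙 _) g hc repWith_id' comm)).2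
      (hq U _ c (𝟙 _) g w hc repWith_id' comm hz)⟩

theorem hasAt_fibre_iff {X Y Xk : Sp S} (hX : IsAlgSpace X) (hY : IsAlgSpace Y) (f : X ⟶ Y)
    (hf : LocP @LocallyOfFiniteType f) {K : Type u} [Field K] {str : Spec (CommRingCat.of K) ⟶ S}
    {y : (yon S).obj (Over.mk str) ⟶ Y} {fst : Xk ⟶ X} {snd : Xk ⟶ (yon S).obj (Over.mk str)}
    (sq : IsPullback fst snd f y) (z : Points Xk) :
    HasAt (fun U u => FlatMor.localDim ↥U u = 0) Xk z ↔ QFAtPt f (Points.map fst z) := by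
  have hK : IsAlgSpace ((yon S).obj (Over.mk str)) := IsAlgSpace.yon_obj _
  have hXk : IsAlgSpace Xk := isAlgSpace_of_isPullback_space hY hX hK sq
  rw [hasAt_localDim_zero_iff hXk snd (locP_baseChange etST_lft hX hY hXk hK sq hf) z,
    qfAtPt_fibre_iff hX hY f hf sq z]

end Groth.Agent.SpQS
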