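import Groth.Agent.SpQS.GenPts
import Groth.Prelude.Def_AlgSpDec
import Groth.Prelude.Def_Flat
import Mathlib.Topology.KrullDimension

/-!
# Dimension of decent spaces
-/

universe u

open CategoryTheory CategoryTheory.Limits AlgebraicGeometry Opposite IsLocalRing Topology TopologicalSpace

set_option backward.isDefEq.respectTransparency false

namespace Groth.Agent.SpQS

open _root_.AlgSp Groth.Agent.AlgSpLib

/-- number of proper generisations of a point -/
noncomputable def genHt {α : Type*} [TopologicalSpace α] (x : α) : ℕ∞ :=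
  @Order.coheight α (specializationPreorder α) x

theorem spec_lt_iff {α : Type*} [TopologicalSpace α] {x y : α} :
    (letI := specializationPreorder α; x < y) ↔ y ⤳ x ∧ ¬ x ⤳ y := by
  letI := specializationPreorder α
  exact lt_iff_le_not_ge

/-- maps lifting generisations strictly preserve the number of generisations -/
theorem genHt_map {α β : Type*} [TopologicalSpace α] [TopologicalSpace β] (f : α → β) (hf : Continuous f)
    (hstrict : ∀ a a', a' ⤳ a → f a ⤳ f a' → a ⤳ a')
    (hlift : ∀ a b, b ⤳ f a → ∃ a', a' ⤳ a ∧ f a' = b) (a : α) : genHt (f a) = genHt a := by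
  letI := specializationPreorder α
  letI := specializationPreorder β
  refine (Order.coheight_eq_of_strictMono f (fun x y h => ?_) (fun x y h => ?_) a).symm
  · rw [spec_lt_iff] at h ⊢
    exact ⟨h.1.map hf, fun h' => h.2 (hstrict x y h.1 h')⟩
  · rw [spec_lt_iff] at h
    obtain ⟨x', hx', rfl⟩ := hlift x y h.1
    exact ⟨x', spec_lt_iff.2 ⟨hx', fun h' => h.2 (h'.map hf)⟩, rfl⟩

theorem genHt_open {α : Type*} [TopologicalSpace α] {O : Set α} (hO : IsOpen O) (x : O) :
    genHt (x : α) = genHt x :=
  genHt_map Subtype.val continuous_subtype_val (fun _ _ _ h => (subtype_specializes_iff _ _).2 h)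
    (fun a b h => ⟨⟨b, h.mem_open hO a.2⟩, (subtype_specializes_iff _ _).2 h, rfl⟩) x

theorem topologicalKrullDim_eq_iSup_genHt (α : Type*) [TopologicalSpace α] [T0Space α] [QuasiSober α] :
    topologicalKrullDim α = ⨆ x : α, (genHt x : WithBot ℕ∞) := by
  letI := specializationOrder α
  exact (Order.krullDim_eq_of_orderIso irreducibleSetEquivPoints).trans Order.krullDim_eq_iSup_coheight

theorem coheight_irreducibleCloseds {α : Type*} [TopologicalSpace α] [T0Space α] [QuasiSober α]
    (T : IrreducibleCloseds α) {ξ : α} (hξ : IsGenericPoint ξ (T : Set α)) : Order.coheight T = genHt ξ := by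
  letI := specializationOrder α
  have h : irreducibleSetEquivPoints T = ξ :=
    (T.isIrreducible'.isGenericPoint_genericPoint T.isClosed').eq hξ
  rw [← h]
  exact (Order.coheight_orderIso irreducibleSetEquivPoints T).symm

theorem topologicalKrullDim_open {α : Type*} [TopologicalSpace α] [T0Space α] [QuasiSober α] {O : Set α}
    (hO : IsOpen O) : topologicalKrullDim O = ⨆ x : O, (genHt (x : α) : WithBot ℕ∞) := by
  have : QuasiSober O := hO.isOpenEmbedding_subtypeVal.quasiSober
  rw [topologicalKrullDim_eq_iSup_genHt]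
  exact iSup_congr fun x => by rw [genHt_open hO]

variable {S : Scheme.{u}}

/-- generisations in a chart of a decent space are generisations of the point -/
theorem genHt_ofPt {X : Sp S} (hX : IsAlgSpace X) (hg : ∀ x : Points X, GoodAt x) {U : Over S}
    {a : (yon S).obj U ⟶ X} (ha : RepWith @Etale a) (hT : T0Space (Points X)) (u : U.left) :
    genHt (Points.ofPt a u) = genHt u :=
  genHt_map _ (Points.continuous_ofPt a)
    (fun v v' h h' => (eq_of_specializes_of_good hX ha (fun W b hW hb => (hg _).finite hX (hU := hW) hb)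
      ((h.map (Points.continuous_ofPt a)).antisymm h').eq h) ▸ specializes_rfl)
    (fun v _ h => exists_specializes_lift hX (hg _) h ha v rfl) u

theorem stalk_dim_eq_genHt {U : Scheme.{u}} (x : U) :
    ringKrullDim (U.presheaf.stalk x) = (genHt x : WithBot ℕ∞) :=
  ringKrullDim_stalk_eq_coheight x

theorem coheight_eq_stalk_dim {X : Sp S} (hX : IsAlgSpace X) (hd : IsDecent X)
    (T : IrreducibleCloseds (Points X)) {ξ : Points X} (hξ : IsGenericPoint ξ (T : Set (Points X))) {U : Over S}
    {a : (yon S).obj U ⟶ X} (ha : RepWith @Etale a) {u : U.left} (hu : Points.ofPt a u = ξ) :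
    (Order.coheight T : WithBot ℕ∞) = ringKrullDim ↥(U.left.presheaf.stalk u) := by
  obtain ⟨_, _⟩ := t0_sober_of_decent hX hd
  rw [coheight_irreducibleCloseds T hξ, stalk_dim_eq_genHt, ← hu,
    genHt_ofPt hX (goodAt_of_isDecent hX hd) ha ‹_›]

theorem topologicalKrullDim_points_eq_dim {X : Sp S} (hX : IsAlgSpace X) (hd : IsDecent X) :
    topologicalKrullDim (Points X) = AlgSp.dim X := by
  obtain ⟨_, _⟩ := t0_sober_of_decent hX hd
  have hg := goodAt_of_isDecent hX hd
  rw [topologicalKrullDim_eq_iSup_genHt, AlgSp.dim]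
  refine le_antisymm (iSup_le fun x => ?_) (iSup_le fun U => iSup_le fun a => iSup_le fun ha => ?_)
  · obtain ⟨U, a, u, -, ha, rfl, -⟩ := exists_affine_chart_at hX x
    refine le_trans ?_ (le_iSup_of_le U (le_iSup_of_le a (le_iSup_of_le ha le_rfl)))
    rw [genHt_ofPt hX hg ha ‹_›, topologicalKrullDim_eq_iSup_genHt]
    exact le_iSup (fun v => (genHt v : WithBot ℕ∞)) u
  · rw [topologicalKrullDim_eq_iSup_genHt]
    exact iSup_le fun u => by
      rw [← genHt_ofPt hX hg ha ‹_›]
      exact le_iSup (fun v => (genHt v : WithBot ℕ∞)) _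

theorem localDim_eq {X : Sp S} (hX : IsAlgSpace X) (hd : IsDecent X) {U : Over S} {a : (yon S).obj U ⟶ X}
    (ha : RepWith @Etale a) (u : U.left) :
    FlatMor.localDim ↥U.left u = FlatMor.localDim (Points X) (Points.ofPt a u) := by
  obtain ⟨_, _⟩ := t0_sober_of_decent hX hd
  have hg := goodAt_of_isDecent hX hd
  unfold FlatMor.localDim
  refine le_antisymm (le_iInf fun O => ?_) (le_iInf fun V => ?_)
  · refine (iInf_le _ ⟨⟨Points.ofPt a ⁻¹' O.1, O.1.2.preimage (Points.continuous_ofPt a)⟩, O.2⟩).trans ?_
    refine (topologicalKrullDim_open (O.1.2.preimage (Points.continuous_ofPt a))).trans_le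
      (le_of_le_of_eq ?_ (topologicalKrullDim_open O.1.2).symm)
    exact iSup_le fun v => by
      rw [← genHt_ofPt hX hg ha ‹_›]
      exact le_iSup (fun y : ↥(O.1 : Set (Points X)) => (genHt (y : Points X) : WithBot ℕ∞)) ⟨_, v.2⟩
  · have hop := isOpenMap_ofPt (repWith_universallyOpen_of_etale ha) _ V.1.2
    refine (iInf_le _ ⟨⟨Points.ofPt a '' V.1, hop⟩,
      show Points.ofPt a u ∈ Points.ofPt a '' (V.1 : Set U.left) from ⟨u, V.2, rfl⟩⟩).trans ?_
    refine (topologicalKrullDim_open hop).trans_le (le_of_le_of_eq ?_ (topologicalKrullDim_open V.1.2).symm)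
    refine iSup_le ?_
    rintro ⟨_, v, hv, rfl⟩
    rw [genHt_ofPt hX hg ha ‹_›]
    exact le_iSup (fun y : ↥(V.1 : Set U.left) => (genHt (y : U.left) : WithBot ℕ∞)) ⟨v, hv⟩

/-- a point algebraic over a closed point of the base is closed -/
theorem isClosed_of_integral {X : Sp S} (hX : IsAlgSpace X) (hd : IsDecent X) {k : Type u} [Field k]
    {str : Spec (CommRingCat.of k) ⟶ S} [IsIntegralHom str] (p : (yon S).obj (Over.mk str) ⟶ X) :
    IsClosed ({Points.ofPt p (closedPoint k)} : Set (Points X)) := by
  refine closure_subset_iff_isClosed.1 fun y hy => ?_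
  obtain ⟨U, a, u', hU, ha, rfl, -⟩ := exists_affine_chart_at hX y
  obtain ⟨V, c, q, sq⟩ := exists_pullback hX.diag a p
  have : Etale q.left := (repWith_yon_iff q).1 (repWith_baseChange sq ha)
  have : CompactSpace V.left := ValLib.compactSpace_fibre hX hd p sq
  have : LocallyQuasiFinite q.left := UnivInjMor.lqf_of_unramified q.left
  let q' : V.left ⟶ Spec (CommRingCat.of k) := q.left
  have : LocallyQuasiFinite q' := ‹LocallyQuasiFinite q.left›
  have : QuasiCompact q' := HasAffineProperty.iff_of_isAffine.mpr ‹CompactSpace V.left›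
  have : IsFinite q' := IsFinite.of_locallyQuasiFinite q'
  have : IsIntegralHom (c.left ≫ U.hom) := by
    rw [show c.left ≫ U.hom = q' ≫ str from (Over.w c).trans (Over.w q).symm]
    infer_instance
  have : IsSeparated U.hom := by
    have : IsSeparated (U.hom ≫ terminal.from S) := inferInstance
    exact IsSeparated.of_comp U.hom (terminal.from S)
  have : IsIntegralHom c.left :=
    MorphismProperty.of_postcomp (W := @IsIntegralHom) (W' := @IsSeparated) c.left U.hom ‹_› ‹_›
  have hcl : IsClosed (Set.range c.left) := c.left.isClosedMap.isClosed_range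
  obtain ⟨u, hu, hx⟩ := exists_specializes_lift hX (goodAt_of_isDecent hX hd _)
    (specializes_iff_mem_closure.2 hy) ha u' rfl
  obtain ⟨z, hz, -⟩ := (ofPt_eq_iff sq u (closedPoint k : ↥(Over.mk str).left)).1 hx
  obtain ⟨z', hz'⟩ := hu.mem_closed hcl ⟨z, hz⟩
  exact (ofPt_eq_iff sq u' (closedPoint k : ↥(Over.mk str).left)).2
    ⟨z', hz', Subsingleton.elim (α := PrimeSpectrum k) _ _⟩

end Groth.Agent.SpQS
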