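import Groth.Agent.SpQS.LftField
import Groth.Agent.SpQS.DimDecent
import Groth.Agent.SpQS.Jacob
import Groth.Agent.SpQS.MonoDiscrete

/-!
# Isolated points and dimension zero for spaces locally of finite type over a field
-/

universe u

open CategoryTheory CategoryTheory.Limits AlgebraicGeometry Opposite IsLocalRing Topology TopologicalSpace

set_option backward.isDefEq.respectTransparency false

namespace Groth.Agent.SpQS

open _root_.AlgSp Groth.Agent.AlgSpLib

theorem chart_lft {S : Scheme.{u}} {X : Sp S} (p : X ⟶ (yon S).obj (Over.mk (𝟙 S)))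
    (hp : LocP @LocallyOfFiniteType p) {U : Over S} {a : (yon S).obj U ⟶ X} (ha : RepWith @Etale a) :
    LocallyOfFiniteType U.hom := by
  obtain ⟨g, hg⟩ := exists_map_eq (a ≫ p)
  have h : LocallyOfFiniteType g.left := hp a (𝟙 _) g ha repWith_id' (by rw [Category.comp_id]; exact hg.symm)
  rwa [show g.left = U.hom from (Category.comp_id g.left).symm.trans (Over.w g)] at h

theorem forall_isClosed_of_dim_le_zero {α : Type*} [TopologicalSpace α] [T0Space α] [QuasiSober α]
    (h : topologicalKrullDim α ≤ 0) (x : α) : IsClosed ({x} : Set α) := by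
  refine closure_subset_iff_isClosed.1 fun y hy => ?_
  rw [topologicalKrullDim_eq_iSup_genHt] at h
  have h0 : (genHt y : WithBot ℕ∞) ≤ 0 := (le_iSup (fun z => (genHt z : WithBot ℕ∞)) y).trans h
  have h1 : genHt y = 0 := nonpos_iff_eq_zero.1 (WithBot.coe_le_coe.1 h0)
  letI := specializationPreorder α
  have h2 : IsMax y := Order.coheight_eq_zero.1 h1
  have hs : x ⤳ y := specializes_iff_mem_closure.2 hy
  exact (Specializes.antisymm (h2 (show y ≤ x from hs)) hs).eq

variable {k : Type u} [Field k]

local notation "𝕊" => Spec (CommRingCat.of k)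

theorem discrete_of_dim_le_zero {U : Scheme.{u}} (f : U ⟶ 𝕊) [LocallyOfFiniteType f]
    (h : topologicalKrullDim ↥U ≤ 0) : DiscreteTopology ↥U :=
  discreteTopology_of_closed_points f (forall_isClosed_of_dim_le_zero h)

theorem exists_open_dim_le_zero {α : Type*} [TopologicalSpace α] {x : α} (h : FlatMor.localDim α x = 0) :
    ∃ O : Opens α, x ∈ O ∧ topologicalKrullDim (O : Set α) ≤ 0 := by
  by_contra hno
  push Not at hno
  have h1 : (1 : WithBot ℕ∞) ≤ FlatMor.localDim α x := le_iInf fun O => by
    have h := hno O.1 O.2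
    revert h
    generalize topologicalKrullDim (O.1 : Set α) = d
    intro h
    induction d using WithBot.recBotCoe with
    | bot => exact absurd h (by simp)
    | coe d =>
      rw [show (1 : WithBot ℕ∞) = ((1 : ℕ∞) : WithBot ℕ∞) from rfl, WithBot.coe_le_coe]
      rw [show (0 : WithBot ℕ∞) = ((0 : ℕ∞) : WithBot ℕ∞) from rfl, WithBot.coe_lt_coe] at h
      exact Order.one_le_iff_pos.2 h
  rw [h] at h1
  exact absurd h1 (by simp)

theorem localDim_eq_zero_iff {U : Scheme.{u}} (f : U ⟶ 𝕊) [LocallyOfFiniteType f] (u : U) :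
    FlatMor.localDim ↥U u = 0 ↔ IsOpen ({u} : Set U) := by
  constructor
  · intro h
    obtain ⟨O, hu, hO⟩ := exists_open_dim_le_zero h
    let V : U.Opens := O
    have : LocallyOfFiniteType (V.ι ≫ f) := inferInstance
    have hd : DiscreteTopology ↥V.toScheme := discrete_of_dim_le_zero (V.ι ≫ f) hO
    have := V.ι.isOpenEmbedding.isOpenMap _ (isOpen_discrete ({(⟨u, hu⟩ : ↥V)} : Set ↥V.toScheme))
    rwa [Set.image_singleton] at this
  · intro h
    refine le_antisymm ?_ (le_iInf fun O => ?_)
    · have : DiscreteTopology ↥({u} : Set U) := inferInstance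
      exact (iInf_le _ ⟨⟨{u}, h⟩, show u ∈ ({u} : Set U) from rfl⟩).trans
        (topologicalKrullDim_zero_of_discreteTopology ↥({u} : Set U))
    · have : Nonempty (IrreducibleCloseds ↥(O.1 : Set U)) :=
        ⟨⟨closure {⟨u, O.2⟩}, isIrreducible_singleton.closure, isClosed_closure⟩⟩
      exact Order.krullDim_nonneg

theorem exists_irreducibleCloseds {α : Type*} [TopologicalSpace α] [Nonempty α] : Nonempty (IrreducibleCloseds α) :=
  ⟨⟨closure {Classical.arbitrary α}, isIrreducible_singleton.closure, isClosed_closure⟩⟩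

variable {S : Scheme.{u}} {str : Spec (CommRingCat.of k) ⟶ S} {X : Sp S}

theorem chart_map (p : X ⟶ (yon S).obj (Over.mk str))
    (hp : LocP @LocallyOfFiniteType p) {U : Over S} {a : (yon S).obj U ⟶ X} (ha : RepWith @Etale a) :
    ∃ g : U.left ⟶ 𝕊, LocallyOfFiniteType g := by
  obtain ⟨g, hg⟩ := exists_map_eq (a ≫ p)
  exact ⟨g.left, hp a (𝟙 _) g ha repWith_id' (by rw [Category.comp_id]; exact hg.symm)⟩

theorem isOpen_point_chart (hX : IsAlgSpace X) (p : X ⟶ (yon S).obj (Over.mk str))
    (hp : LocP @LocallyOfFiniteType p) {x : Points X} (hx : IsOpen ({x} : Set (Points X)))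
    {U : Over S} {a : (yon S).obj U ⟶ X} (ha : RepWith @Etale a) :
    DiscreteTopology ↥(Points.ofPt a ⁻¹' {x}) ∧ IsClosed (Points.ofPt a ⁻¹' {x}) := by
  obtain ⟨g₀, hg₀⟩ := chart_map p hp ha
  have hP := isAlgSpace_subSheaf hX hx
  have : Subsingleton (Points (subSheaf ({x} : Set (Points X)))) := ⟨fun y z => by
    have : Mono (subInc ({x} : Set (Points X))) := mono_of_repWith_immersion (repWith_mono (P := @IsOpenImmersion)
      (Q := @IsImmersion) (fun _ _ g hg => have : IsOpenImmersion g := hg; inferInstance) (repWith_subInc hx))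
    exact injective_points_of_mono (subInc _) ((map_subInc_mem y).trans (map_subInc_mem z).symm)⟩
  have : DiscreteTopology (Points (subSheaf ({x} : Set (Points X)))) := Subsingleton.discreteTopology
  let F : U.left.Opens := ⟨Points.ofPt a ⁻¹' {x}, hx.preimage (Points.continuous_ofPt a)⟩
  let Fo : Over S := Over.mk (F.ι ≫ U.hom)
  let i : Fo ⟶ U := Over.homMk F.ι rfl
  obtain ⟨c, hc⟩ := exists_factor_subInc (W := ({x} : Set (Points X))) ((yon S).map i ≫ a) fun w => by
    obtain ⟨v, rfl⟩ := (Points.schemeEquiv Fo).surjective w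
    show Points.map ((yon S).map i ≫ a) (Points.ofScheme Fo v) = x
    rw [← Points.ofPt_eq_map_ofScheme, ofPt_comp]
    exact v.2
  have hce : RepWith @Etale c := repWith_of_comp_mono (m := subInc _) (h := by
    rw [hc]; exact repWith_comp ((repWith_yon_iff i).2 (inferInstanceAs (Etale F.ι))) ha) (g := c)
  have : LocallyOfFiniteType (F.ι ≫ g₀) := inferInstance
  have hd : DiscreteTopology Fo.left := discreteTopology_of_chart hP c hce (F.ι ≫ g₀)
  refine ⟨hd, ?_⟩
  have : IsLocallyNoetherian U.left := LocallyOfFiniteType.isLocallyNoetherian g₀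
  have : JacobsonSpace U.left := LocallyOfFiniteType.jacobsonSpace g₀
  have hpt : ∀ v ∈ F, IsClosed ({v} : Set U.left) := fun v hv => by
    have h1 := F.ι.isOpenEmbedding.isOpenMap _ (isOpen_discrete ({(⟨v, hv⟩ : ↥F)} : Set Fo.left))
    rw [Set.image_singleton] at h1
    exact isClosed_singleton_of_isLocallyClosed_singleton h1.isLocallyClosed
  rw [← isOpen_compl_iff, isOpen_iff_forall_mem_open]
  intro w hw
  obtain ⟨A, hA, hwA, -⟩ := exists_isAffineOpen_mem_and_subset (U := (⊤ : U.left.Opens)) (x := w) trivial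
  have : IsAffine A.toScheme := hA
  have : IsNoetherian A.toScheme := {}
  let T : Set A.toScheme := A.ι ⁻¹' (F : Set U.left)
  have : DiscreteTopology ↥T := by
    refine discreteTopology_iff_isOpen_singleton.2 fun v => ?_
    have h1 := F.ι.isOpenEmbedding.isOpenMap _ (isOpen_discrete ({(⟨A.ι v.1, v.2⟩ : ↥F)} : Set Fo.left))
    rw [Set.image_singleton] at h1
    have h2 : IsOpen ((fun z : T => A.ι z.1) ⁻¹' {A.ι v.1}) :=
      h1.preimage (A.ι.continuous.comp continuous_subtype_val)
    convert h2 using 1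
    ext z
    simp only [Set.mem_singleton_iff, Set.mem_preimage]
    exact ⟨fun e => e ▸ rfl, fun e => Subtype.ext (A.ι.isOpenEmbedding.injective e)⟩
  have : CompactSpace ↥T := isCompact_iff_compactSpace.1 (NoetherianSpace.isCompact T)
  have : Finite ↥T := finite_of_compact_of_discrete
  have hfin : ((A : Set U.left) ∩ F).Finite := by
    refine ((Set.toFinite T).image A.ι).subset ?_
    rintro v ⟨hvA, hvF⟩
    exact ⟨⟨v, hvA⟩, hvF, rfl⟩
  refine ⟨(A : Set U.left) \ ((A : Set U.left) ∩ F), fun v hv hv' => hv.2 ⟨hv.1, hv'⟩,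
    A.2.sdiff ?_, hwA, fun h => hw h.2⟩
  rw [← Set.biUnion_of_singleton ((A : Set U.left) ∩ F)]
  exact hfin.isClosed_biUnion fun v hv => hpt v hv.2

/-- isolated points are the closed points without proper generisations -/
theorem isOpen_point_iff (hX : IsAlgSpace X) (p : X ⟶ (yon S).obj (Over.mk str))
    (hp : LocP @LocallyOfFiniteType p) (x : Points X) :
    IsOpen ({x} : Set (Points X)) ↔ IsClosed ({x} : Set (Points X)) ∧ ∀ x' : Points X, x' ⤳ x → x' = x := by
  obtain ⟨U, a, ha, has⟩ := hX.atlas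
  have hq := (isOpenMap_ofPt (repWith_universallyOpen_of_etale ha)).isQuotientMap (Points.continuous_ofPt a)
    (ofPt_surjective has)
  refine ⟨fun h => ⟨hq.isClosed_preimage.1 (isOpen_point_chart hX p hp h ha).2,
    fun x' h' => h'.mem_open h rfl⟩, fun ⟨hc, hg⟩ => hq.isOpen_preimage.1 ?_⟩
  obtain ⟨g₀, hg₀⟩ := chart_map p hp ha
  have : IsLocallyNoetherian U.left := LocallyOfFiniteType.isLocallyNoetherian g₀
  rw [isOpen_iff_forall_mem_open]
  intro w hw
  obtain ⟨A, hA, hwA, -⟩ := exists_isAffineOpen_mem_and_subset (U := (⊤ : U.left.Opens)) (x := w) trivial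
  have : IsAffine A.toScheme := hA
  have : IsNoetherian A.toScheme := {}
  let g : A.toScheme → Points X := Points.ofPt a ∘ A.ι
  have hgc : Continuous g := (Points.continuous_ofPt a).comp A.ι.continuous
  let T := {C ∈ irreducibleComponents A.toScheme | ∃ v ∈ C, g v ≠ x}
  have hcl : IsClosed (⋃ C ∈ T, C) := ((NoetherianSpace.finite_irreducibleComponents (α := A.toScheme)).subset
    fun C hC => hC.1).isClosed_biUnion fun C hC => isClosed_of_mem_irreducibleComponents C hC.1
  have key : g ⁻¹' {x} = (⋃ C ∈ T, C)ᶜ := by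
    ext v
    constructor
    · intro hv h
      obtain ⟨C, ⟨hC, v', hv', hne⟩, hvC⟩ := Set.mem_iUnion₂.1 h
      obtain ⟨η, hη⟩ := QuasiSober.sober hC.1 (isClosed_of_mem_irreducibleComponents C hC)
      have h1 : g η = x := hg _ ((show x = g v from (Set.mem_singleton_iff.1 hv).symm) ▸ (hη.specializes hvC).map hgc)
      exact hne (((h1 ▸ (hη.specializes hv').map hgc : x ⤳ g v')).mem_closed hc rfl)
    · intro h
      by_contra hne
      exact h (Set.mem_biUnion (x := irreducibleComponent v)
        ⟨irreducibleComponent_mem_irreducibleComponents v, v, mem_irreducibleComponent, hne⟩ mem_irreducibleComponent)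
  have hopen : IsOpen (A.ι '' (g ⁻¹' {x})) := A.ι.isOpenEmbedding.isOpenMap _ (by rw [key]; exact hcl.isOpen_compl)
  refine ⟨A.ι '' (g ⁻¹' {x}), ?_, hopen, ⟨⟨w, hwA⟩, hw, rfl⟩⟩
  rintro _ ⟨v, hv, rfl⟩
  exact hv

theorem isOpen_point_iff_hasAt (hX : IsAlgSpace X) (p : X ⟶ (yon S).obj (Over.mk str))
    (hp : LocP @LocallyOfFiniteType p) (x : Points X) :
    IsOpen ({x} : Set (Points X)) ↔ HasAt (fun U u => FlatMor.localDim ↥U u = 0) X x := by
  constructor
  · intro h
    obtain ⟨U, a, u, -, ha, rfl, -⟩ := exists_affine_chart_at hX x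
    obtain ⟨g₀, hg₀⟩ := chart_map p hp ha
    refine ⟨U, a, u, ha, rfl, (localDim_eq_zero_iff g₀ u).2 ?_⟩
    have hd := (isOpen_point_chart hX p hp h ha).1
    have h1 := (h.preimage (Points.continuous_ofPt a)).isOpenMap_subtype_val _
      (isOpen_discrete ({⟨u, rfl⟩} : Set ↥(Points.ofPt a ⁻¹' {Points.ofPt a u})))
    rwa [Set.image_singleton] at h1
  · rintro ⟨U, a, u, ha, rfl, h⟩
    obtain ⟨g₀, hg₀⟩ := chart_map p hp ha
    have h1 := isOpenMap_ofPt (repWith_universallyOpen_of_etale ha) _ ((localDim_eq_zero_iff g₀ u).1 h)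
    rwa [Set.image_singleton] at h1

theorem localDim_points_iff (hX : IsAlgSpace X) (hd : IsDecent X) (p : X ⟶ (yon S).obj (Over.mk str))
    (hp : LocP @LocallyOfFiniteType p) (x : Points X) :
    FlatMor.localDim (Points X) x = 0 ↔ IsOpen ({x} : Set (Points X)) := by
  rw [isOpen_point_iff_hasAt hX p hp]
  constructor
  · intro h
    obtain ⟨U, a, u, -, ha, rfl, -⟩ := exists_affine_chart_at hX x
    exact ⟨U, a, u, ha, rfl, (localDim_eq hX hd ha u).trans h⟩
  · rintro ⟨U, a, u, ha, rfl, h⟩
    exact (localDim_eq hX hd ha u).symm.trans h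

theorem discrete_iff_dim (hX : IsAlgSpace X) (p : X ⟶ (yon S).obj (Over.mk str))
    (hp : LocP @LocallyOfFiniteType p) [Nonempty (Points X)] :
    DiscreteTopology (Points X) ↔ AlgSp.dim X = 0 := by
  constructor
  · intro h
    refine le_antisymm (iSup_le fun U => iSup_le fun a => iSup_le fun ha => ?_) ?_
    · obtain ⟨g₀, hg₀⟩ := chart_map p hp ha
      have : DiscreteTopology U.left := discreteTopology_of_chart hX a ha g₀
      exact topologicalKrullDim_zero_of_discreteTopology _
    · obtain ⟨U, a, u, -, ha, -⟩ := exists_affine_chart_at hX (Classical.arbitrary (Points X))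
      refine le_trans ?_ (le_iSup_of_le U (le_iSup_of_le a (le_iSup_of_le ha le_rfl)))
      have : Nonempty U.left := ⟨u⟩
      have := exists_irreducibleCloseds (α := U.left)
      exact Order.krullDim_nonneg
  · intro h
    obtain ⟨U, a, ha, has⟩ := hX.atlas
    obtain ⟨g₀, hg₀⟩ := chart_map p hp ha
    have : DiscreteTopology U.left := discrete_of_dim_le_zero g₀
      (h ▸ le_iSup_of_le U (le_iSup_of_le a (le_iSup_of_le ha le_rfl)))
    refine discreteTopology_iff_isOpen_singleton.2 fun z => ?_
    obtain ⟨u, rfl⟩ := ofPt_surjective has z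
    have := isOpenMap_ofPt (repWith_universallyOpen_of_etale ha) _ (isOpen_discrete ({u} : Set U.left))
    rwa [Set.image_singleton] at this

theorem space_conditions (hX : IsAlgSpace X) (p : X ⟶ (yon S).obj (Over.mk str))
    (hp : LocP @LocallyOfFiniteType p) [Nonempty (Points X)] :
    (DiscreteTopology (Points X) ↔ AlgSp.dim X = 0) ∧
      (DiscreteTopology (Points X) → topologicalKrullDim (Points X) = 0) ∧
      (IsDecent X → topologicalKrullDim (Points X) = 0 → DiscreteTopology (Points X)) ∧
      (IsDecent X → Finite (Points X) → AlgSp.dim X = 0) := by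
  refine ⟨discrete_iff_dim hX p hp, fun h => ?_, fun hd h => ?_, fun hd hf => ?_⟩
  · have := exists_irreducibleCloseds (α := Points X)
    exact le_antisymm (topologicalKrullDim_zero_of_discreteTopology _) Order.krullDim_nonneg
  · exact (discrete_iff_dim hX p hp).2 (by rw [← topologicalKrullDim_points_eq_dim hX hd]; exact h)
  · obtain ⟨U, a, ha, has⟩ := hX.atlas
    obtain ⟨g₀, hg₀⟩ := chart_map p hp ha
    have : JacobsonSpace (Points X) := (jacobson_iff hX (goodAt_of_isDecent hX hd)).1
      ⟨U, a, ha, has, LocallyOfFiniteType.jacobsonSpace g₀⟩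
    exact (discrete_iff_dim hX p hp).1 inferInstance

end Groth.Agent.SpQS
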