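import Groth.Agent.SpQS.QFAt
import Groth.Agent.SpQS.DecentProps
import Groth.Agent.S10390

/-!
# Fibres of morphisms locally of finite type and quasi-finite points
-/

universe u

open CategoryTheory CategoryTheory.Limits AlgebraicGeometry Opposite IsLocalRing Topology

set_option backward.isDefEq.respectTransparency false

namespace Groth.Agent.SpQS

open _root_.AlgSp Groth.Agent.AlgSpLib

variable {S : Scheme.{u}}

/-- isolated points of a fibre are the quasi-finite points -/
theorem isOpen_fibre_point_iff {X Y Xk : Sp S} (hX : IsAlgSpace X) (hY : IsAlgSpace Y) (f : X ⟶ Y)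
    (hf : LocP @LocallyOfFiniteType f) {K : Type u} [Field K] {str : Spec (CommRingCat.of K) ⟶ S}
    {y : (yon S).obj (Over.mk str) ⟶ Y} {fst : Xk ⟶ X} {snd : Xk ⟶ (yon S).obj (Over.mk str)}
    (sq : IsPullback fst snd f y) (z : Points Xk) :
    IsOpen ({z} : Set (Points Xk)) ↔ QFAtPt f (Points.map fst z) := by
  have hK : IsAlgSpace ((yon S).obj (Over.mk str)) := IsAlgSpace.yon_obj _
  have hXk : IsAlgSpace Xk := isAlgSpace_of_isPullback_space hY hX hK sq
  rw [isOpen_point_iff_hasAt hXk snd (locP_baseChange etST_lft hX hY hXk hK sq hf) z,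
    hasAt_fibre_iff hX hY f hf sq z]

/-- every point over `mk r` lifts to the fibre over `r` -/
theorem exists_fibre_lift {X Y Xk : Sp S} {f : X ⟶ Y} {r : FieldPt Y} {fst : Xk ⟶ X}
    {snd : Xk ⟶ (yon S).obj r.pt} (sq : IsPullback fst snd f r.toHom) {x : Points X}
    (hx : Points.map f x = Points.mk r) : ∃ z, Points.map fst z = x := by
  obtain ⟨z, hz, -⟩ := exists_point_of_isPullback sq x (Points.ofScheme r.pt (closedPoint r.K))
    (by rw [← Points.ofPt_eq_map_ofScheme, Points.ofPt_toHom]; exact hx)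
  exact ⟨z, hz⟩

theorem map_fibre_point {X Y Xk : Sp S} {f : X ⟶ Y} {r : FieldPt Y} {fst : Xk ⟶ X}
    {snd : Xk ⟶ (yon S).obj r.pt} (sq : IsPullback fst snd f r.toHom) (z : Points Xk) :
    Points.map f (Points.map fst z) = Points.mk r := by
  rw [← Points.map_comp, sq.w, Points.map_comp]
  obtain ⟨w, hw⟩ := (Points.schemeEquiv r.pt).surjective (Points.map snd z)
  rw [← hw]
  exact (Points.ofPt_eq_map_ofScheme r.toHom w).symm.trans (Points.ofPt_toHom r w)

/-- over a decent target the fibre is the space of points of a scheme-theoretic fibre -/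
theorem exists_fibre_model {X Y : AlgSp.Space S} (f : X ⟶ Y) (hY : IsDecent Y.obj) (y : Points Y.obj) :
    ∃ (K : Type u) (_ : Field K) (str : Spec (CommRingCat.of K) ⟶ S) (y₀ : (yon S).obj (Over.mk str) ⟶ Y.obj)
      (Xk : Sp S) (fst : Xk ⟶ X.obj) (snd : Xk ⟶ (yon S).obj (Over.mk str)), IsPullback fst snd f.hom y₀ ∧
      IsAlgSpace Xk ∧ ∃ e : Points Xk ≃ₜ ↥(Points.map f.hom ⁻¹' {y}), ∀ z, (e z).1 = Points.map fst z := by
  obtain ⟨r, rfl, hm, hq⟩ := hY y
  obtain ⟨hP⟩ : Nonempty (IsAlgSpace X.obj → IsAlgSpace Y.obj → IsAlgSpace (pullback f.hom r.toHom)) :=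
    ⟨fun hX hY' => isAlgSpace_of_isPullback_space hY' hX (IsAlgSpace.yon_obj _) (IsPullback.of_hasPullback _ _)⟩
  let Xk : AlgSp.Space S := ⟨pullback f.hom r.toHom, hP X.property Y.property⟩
  obtain ⟨he, hr⟩ := S10390.result f r hm hq Xk (ObjectProperty.homMk (pullback.fst f.hom r.toHom))
    (pullback.snd f.hom r.toHom) (IsPullback.of_hasPullback f.hom r.toHom)
  exact ⟨r.K, inferInstance, r.str, r.toHom, pullback f.hom r.toHom, pullback.fst _ _, pullback.snd _ _,
    IsPullback.of_hasPullback _ _, hP X.property Y.property,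
    he.toHomeomorph.trans (Homeomorph.setCongr hr), fun z => rfl⟩

theorem localDim_homeo {α β : Type*} [TopologicalSpace α] [TopologicalSpace β] (e : α ≃ₜ β) (a : α) :
    FlatMor.localDim β (e a) = FlatMor.localDim α a := by
  refine le_antisymm (le_iInf fun O => ?_) (le_iInf fun O => ?_)
  · refine (iInf_le _ ⟨⟨e '' (O.1 : Set α), e.isOpen_image.2 O.1.2⟩, Set.mem_image_of_mem e O.2⟩).trans ?_
    exact le_of_eq (e.image (O.1 : Set α)).isHomeomorph.topologicalKrullDim_eq.symm
  · refine (iInf_le _ ⟨⟨e ⁻¹' (O.1 : Set β), O.1.2.preimage e.continuous⟩, O.2⟩).trans ?_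
    refine le_of_eq ((e.image (e ⁻¹' (O.1 : Set β))).isHomeomorph.topologicalKrullDim_eq.trans ?_)
    rw [Set.image_preimage_eq _ e.surjective]

/-- a fibre over a decent point has the isolated points at the quasi-finite points -/
theorem fibre_conditions {X Y : AlgSp.Space S} (f : X ⟶ Y) (hf : LocP @LocallyOfFiniteType f.hom)
    (hY : IsDecent Y.obj) (y : Points Y.obj) (x : ↥(Points.map f.hom ⁻¹' {y})) :
    (IsOpen ({x} : Set ↥(Points.map f.hom ⁻¹' {y})) ↔ QFAtPt f.hom x.1) ∧
    (IsClosed ({x} : Set ↥(Points.map f.hom ⁻¹' {y})) ∧ (∀ x', x' ⤳ x → x' = x) ↔ QFAtPt f.hom x.1) ∧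
    (IsDecent X.obj → (FlatMor.localDim ↥(Points.map f.hom ⁻¹' {y}) x = 0 ↔ QFAtPt f.hom x.1)) := by
  obtain ⟨K, _, str, y₀, Xk, fst, snd, sq, hXk, e, he⟩ := exists_fibre_model f hY y
  obtain ⟨z, rfl⟩ := e.surjective x
  obtain ⟨hA⟩ : Nonempty (IsAlgSpace X.obj → IsAlgSpace Y.obj →
      (IsOpen ({z} : Set (Points Xk)) ↔ QFAtPt f.hom (Points.map fst z)) ∧
      LocP @LocallyOfFiniteType snd ∧ (IsDecent X.obj → IsDecent Xk)) := ⟨fun hX hY' =>
    ⟨isOpen_fibre_point_iff hX hY' f.hom hf sq z,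
      locP_baseChange etST_lft hX hY' hXk (IsAlgSpace.yon_obj _) sq hf,
      fun hd => isDecent_of_isPullback hY' hX (IsAlgSpace.yon_obj _) sq hd (isDecent_yon _)⟩⟩
  obtain ⟨h1, hsnd, hdec⟩ := hA X.property Y.property
  rw [← he z] at h1
  have hop : IsOpen ({e z} : Set _) ↔ IsOpen ({z} : Set (Points Xk)) := by
    rw [← e.isOpen_image, Set.image_singleton]
  refine ⟨hop.trans h1, ?_, fun hd => ?_⟩
  · rw [← Set.image_singleton, e.isClosed_image, ← h1, isOpen_point_iff hXk snd hsnd z]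
    refine and_congr Iff.rfl ⟨fun h z' hz' => e.injective (h _ (hz'.map e.continuous)), fun h x' hx' => ?_⟩
    obtain ⟨z', rfl⟩ := e.surjective x'
    exact congrArg e (h z' (e.isInducing.specializes_iff.1 hx'))
  · rw [← h1, ← localDim_points_iff hXk (hdec hd) snd hsnd z, localDim_homeo e z]

end Groth.Agent.SpQS
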