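import Groth.Agent.SpQS.QFAt
import Groth.Agent.SpQS.MonoDiscrete
import Groth.Agent.SpQS.DecentProps

/-!
# Finitely many points of a product over two given points
-/

universe u

open CategoryTheory CategoryTheory.Limits AlgebraicGeometry Opposite IsLocalRing Topology

set_option backward.isDefEq.respectTransparency false

namespace Groth.Agent.SpQS

open _root_.AlgSp Groth.Agent.AlgSpLib

variable {S : Scheme.{u}}

theorem finite_points_over_pair {X Y Z W : Sp S} (hY : IsAlgSpace Y)
    {f : X ⟶ Y} {g : Z ⟶ Y} {p : W ⟶ X} {q : W ⟶ Z} (hW : IsPullback p q f g) {x : Points X} {z : Points Z}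
    (hxz : Points.map f x = Points.map g z) {r : FieldPt Y} (hr : Points.mk r = Points.map g z) [Mono r.toHom]
    (hg : HasAtMor (fun U _ h u => ∃ W : U.Opens, u ∈ W ∧ LocallyQuasiFinite (W.ι ≫ h) ∧
      LocallyOfFiniteType (W.ι ≫ h)) g z) :
    {w : Points W | Points.map p w = x ∧ Points.map q w = z}.Finite := by
  -- an open chart of `Z` around `z` on which `g` is locally quasi-finite
  obtain ⟨U₀, V, a₀, b, h, u₀, ha₀, hb, comm, hu₀, O, huO, hOq, hOl⟩ := hg
  let U : Over S := Over.mk (O.ι ≫ U₀.hom)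
  let i : U ⟶ U₀ := Over.homMk O.ι rfl
  let a := (yon S).map i ≫ a₀
  let u : U.left := ⟨u₀, huO⟩
  have hau : Points.ofPt a u = z := by
    show Points.ofPt ((yon S).map i ≫ a₀) u = z
    rw [ofPt_comp]; exact hu₀
  -- the fibre of the chart over the point of `Y`
  obtain ⟨Vk, v₁, v₂, sqV⟩ := exists_pullback hY.diag b r.toHom
  have : Etale v₂.left := (repWith_yon_iff v₂).1 (repWith_baseChange sqV hb)
  obtain ⟨Uk, π, ρ, sqU⟩ := exists_pullback hY.diag (a ≫ g) r.toHom
  obtain ⟨k, hk⟩ := exists_map_eq (sqV.lift ((yon S).map (π ≫ i ≫ h)) ((yon S).map ρ) (by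
    rw [Functor.map_comp, Functor.map_comp, Category.assoc, Category.assoc, ← comm, ← sqU.w]
    simp [a]))
  have hk₁ : k ≫ v₁ = π ≫ i ≫ h := (yon S).map_injective (by rw [Functor.map_comp, hk, sqV.lift_fst])
  have hk₂ : k ≫ v₂ = ρ := (yon S).map_injective (by rw [Functor.map_comp, hk, sqV.lift_snd])
  have sqK : IsPullback π.left k.left (i ≫ h).left v₁.left := by
    refine isPullback_yon_iff.1 (IsPullback.of_bot (h₂₁ := (yon S).map v₁) (v₂₁ := (yon S).map v₂) ?_ ?_ sqV)
    · have hb' : (yon S).map (i ≫ h) ≫ b = a ≫ g := by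
        rw [Functor.map_comp, Category.assoc, ← comm]; simp [a]
      rw [← Functor.map_comp, hk₂, hb']
      exact sqU
    · rw [← Functor.map_comp, ← Functor.map_comp, hk₁]
  have : LocallyQuasiFinite (i ≫ h).left := hOq
  have : LocallyOfFiniteType (i ≫ h).left := hOl
  have : LocallyQuasiFinite k.left := MorphismProperty.of_isPullback sqK ‹LocallyQuasiFinite (i ≫ h).left›
  have : LocallyOfFiniteType k.left := MorphismProperty.of_isPullback sqK ‹LocallyOfFiniteType (i ≫ h).left›
  have : LocallyQuasiFinite v₂.left := UnivInjMor.lqf_of_unramified _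
  have hρq : LocallyQuasiFinite ρ.left := hk₂ ▸ (inferInstanceAs (LocallyQuasiFinite (k.left ≫ v₂.left)))
  have hρl : LocallyOfFiniteType ρ.left := hk₂ ▸ (inferInstanceAs (LocallyOfFiniteType (k.left ≫ v₂.left)))
  -- a field point of `X` at `x` through the fibre
  obtain ⟨xk, hxk, -⟩ := exists_point_of_isPullback (IsPullback.of_hasPullback f r.toHom) x
    (Points.ofScheme r.pt (closedPoint r.K))
    (by rw [← Points.ofPt_eq_map_ofScheme, Points.ofPt_toHom, hr, hxz])
  obtain ⟨L, _, str, α₀, hα₀⟩ := exists_fieldMap xk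
  obtain ⟨e, he⟩ := exists_map_eq (α₀ ≫ pullback.snd f r.toHom)
  let α := α₀ ≫ pullback.fst f r.toHom
  have hα : α ≫ f = (yon S).map e ≫ r.toHom := by rw [Category.assoc, pullback.condition, he, Category.assoc]
  have hαx : Points.ofPt α (closedPoint L) = x := by rw [← Points.map_ofPt, hα₀, hxk]
  obtain ⟨P, π₁, π₂, sqP⟩ := exists_pullback (IsAlgSpace.yon_obj r.pt).diag ((yon S).map e) ((yon S).map ρ)
  have sqE : IsPullback π₁.left π₂.left e.left ρ.left := isPullback_yon_iff.1 sqP
  have : LocallyQuasiFinite π₁.left := MorphismProperty.of_isPullback sqE.flip hρq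
  have : LocallyOfFiniteType π₁.left := MorphismProperty.of_isPullback sqE.flip hρl
  have : IsAffine (Over.mk str).left := inferInstanceAs (IsAffine (Spec (CommRingCat.of L)))
  have : IsAffine r.pt.left := inferInstanceAs (IsAffine (Spec (CommRingCat.of r.K)))
  have : IsAffineHom e.left := isAffineHom_of_isAffine _
  have : IsAffineHom π₂.left := MorphismProperty.of_isPullback sqE ‹IsAffineHom e.left›
  obtain ⟨l, hl₁, hl₂⟩ : ∃ l : (yon S).obj P ⟶ W, l ≫ p = (yon S).map π₁ ≫ α ∧
      l ≫ q = (yon S).map π₂ ≫ (yon S).map π ≫ a :=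
    ⟨hW.lift _ _ (by
      simp only [Category.assoc]
      rw [hα, reassoc_of% sqP.w, sqU.w]), hW.lift_fst _ _ _, hW.lift_snd _ _ _⟩
  have : Mono ((yon S).map π) := sqU.mono_fst_of_mono
  have hπ : Function.Injective π.left := fun v v' hv => (Points.schemeEquiv Uk).injective
    (injective_points_of_mono ((yon S).map π) (by
      show Points.map _ (Points.ofScheme Uk v) = Points.map _ (Points.ofScheme Uk v')
      rw [← Points.ofPt_eq_map_ofScheme, ← Points.ofPt_eq_map_ofScheme, ofScheme_map, ofScheme_map, hv]))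
  -- finitely many points of the product over `u`
  have hfin : {v : P.left | π.left (π₂.left v) = u}.Finite := by
    by_cases hne : ∃ uk : Uk.left, π.left uk = u
    · obtain ⟨uk, huk⟩ := hne
      have hT : {v : P.left | π.left (π₂.left v) = u} = π₂.left ⁻¹' {uk} :=
        Set.ext fun v => ⟨fun hv => hπ (hv.trans huk.symm),
          fun hv => (congrArg π.left (Set.mem_singleton_iff.1 hv)).trans huk⟩
      rw [hT]
      have : CompactSpace ↥(π₂.left ⁻¹' {uk}) :=
        isCompact_iff_compactSpace.1 (π₂.left.isCompact_preimage_singleton uk)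
      have hiso : ∀ v : P.left, IsOpen ({v} : Set P.left) := fun v => by
        obtain ⟨O, hO, hv, h⟩ := (quasiFiniteAt_iff_open π₁.left v).1 (π₁.left.quasiFiniteAt v)
        rwa [show ({v} : Set P.left) = O from Set.Subset.antisymm (Set.singleton_subset_iff.2 hv)
          fun v' hv' => h v' hv' (Subsingleton.elim (α := PrimeSpectrum L) _ _)]
      have : DiscreteTopology P.left := discreteTopology_iff_isOpen_singleton.2 hiso
      exact Set.finite_coe_iff.1 finite_of_compact_of_discrete
    · exact Set.Finite.subset Set.finite_empty fun v hv => hne ⟨_, hv⟩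
  refine (hfin.image (Points.ofPt l)).subset ?_
  rintro w ⟨hwx, hwz⟩
  let L₁ := pullback α p
  obtain ⟨w₁, hw₁, hw₁'⟩ := exists_point_of_isPullback (IsPullback.of_hasPullback α p)
    (Points.ofScheme (Over.mk str) (closedPoint L)) w
    (by rw [← Points.ofPt_eq_map_ofScheme, hαx, hwx])
  obtain ⟨w₂, hw₂, hw₂'⟩ := exists_point_of_isPullback (IsPullback.of_hasPullback (pullback.snd α p ≫ q) a) w₁
    (Points.ofScheme U u) (by rw [← Points.ofPt_eq_map_ofScheme, hau, Points.map_comp, hw₁', hwz])
  let t₁ := pullback.fst (pullback.snd α p ≫ q) a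
  let t₂ := pullback.snd (pullback.snd α p ≫ q) a
  let d := sqP.lift (t₁ ≫ pullback.fst α p) (sqU.lift t₂ (t₁ ≫ pullback.fst α p ≫ (yon S).map e) (by
    have hc : t₁ ≫ pullback.snd α p ≫ q = t₂ ≫ a := pullback.condition
    rw [← reassoc_of% hc, ← hW.w, ← pullback.condition_assoc, hα]
    simp only [Category.assoc])) (by rw [sqU.lift_snd, Category.assoc])
  have hd₁ : d ≫ (yon S).map π₁ = t₁ ≫ pullback.fst α p := sqP.lift_fst _ _ _
  have hd₂ : d ≫ (yon S).map π₂ ≫ (yon S).map π = t₂ := by
    rw [← Category.assoc, sqP.lift_snd, sqU.lift_fst]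
  have hdl : d ≫ l = t₁ ≫ pullback.snd α p := hW.hom_ext
    (by rw [Category.assoc, hl₁, reassoc_of% hd₁, Category.assoc, pullback.condition])
    (by
      rw [Category.assoc, hl₂, reassoc_of% hd₂, Category.assoc]
      exact pullback.condition.symm)
  obtain ⟨v, hv⟩ := (Points.schemeEquiv P).surjective (Points.map d w₂)
  refine ⟨v, (Points.schemeEquiv U).injective ?_, ?_⟩
  · show Points.ofScheme U (π.left (π₂.left v)) = Points.ofScheme U u
    rw [← hw₂', show pullback.snd (pullback.snd α p ≫ q) a = t₂ from rfl, ← hd₂, Points.map_comp, Points.map_comp,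
      ← hv]
    show _ = Points.map _ (Points.map _ (Points.ofScheme P v))
    rw [← Points.ofPt_eq_map_ofScheme, ofScheme_map, ← Points.ofPt_eq_map_ofScheme, ofScheme_map]
  · rw [Points.ofPt_eq_map_ofScheme, show Points.ofScheme P v = Points.map d w₂ from hv, ← Points.map_comp, hdl,
      Points.map_comp, show t₁ = pullback.fst (pullback.snd α p ≫ q) a from rfl, hw₂, hw₁']

end Groth.Agent.SpQS
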