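import Groth.Agent.SpQS.DegStrat
import Groth.Agent.SpQS.FibreQF
import Groth.Agent.SpQS.DimField
import Groth.Agent.SpQS.FinitePts

/-!
# Etale neighbourhoods splitting off quasi-finite points
-/

universe u

open CategoryTheory CategoryTheory.Limits AlgebraicGeometry Opposite IsLocalRing Topology TopologicalSpace

set_option backward.isDefEq.respectTransparency false

namespace Groth.Agent.SpQS

open _root_.AlgSp Groth.Agent.AlgSpLib

/-- an open set with open points in a space with affine chart of finite type over a field is finite -/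
theorem finite_of_open_points {A : Scheme.{u}} [CompactSpace A] {K : Type u} [Field K]
    (g : A ⟶ Spec (CommRingCat.of K)) [LocallyOfFiniteType g] {α : Type*} [TopologicalSpace α] (π : A → α)
    (hπ : Continuous π) (hs : Function.Surjective π) (T : Set α) (hT : ∀ z ∈ T, IsOpen ({z} : Set α)) :
    T.Finite := by
  have : IsLocallyNoetherian A := LocallyOfFiniteType.isLocallyNoetherian g
  have : IsNoetherian A := {}
  have hc : IsCompact T := by
    rw [← Set.image_preimage_eq T hs]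
    exact (NoetherianSpace.isCompact (π ⁻¹' T)).image hπ
  exact hc.finite (isDiscrete_iff_forall_mem_exists_isOpen.2 fun z hz =>
    ⟨{z}, hT z hz, Set.inter_eq_left.2 (Set.singleton_subset_iff.2 hz)⟩)

variable {S : Scheme.{u}}

/-- the quasi-finite points in a quasi-compact fibre form a finite set -/
theorem finite_qf_fibre {X Y Xk : Sp S} (hX : IsAlgSpace X) (hY : IsAlgSpace Y) (f : X ⟶ Y)
    (hf : LocP @LocallyOfFiniteType f) {K : Type u} [Field K] {str : Spec (CommRingCat.of K) ⟶ S}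
    {y : (yon S).obj (Over.mk str) ⟶ Y} {fst : Xk ⟶ X} {snd : Xk ⟶ (yon S).obj (Over.mk str)}
    (sq : IsPullback fst snd f y) (hc : IsQuasiCompactSp Xk) :
    {z : Points Xk | QFAtPt f (Points.map fst z)}.Finite := by
  have hK : IsAlgSpace ((yon S).obj (Over.mk str)) := IsAlgSpace.yon_obj _
  have hXk : IsAlgSpace Xk := isAlgSpace_of_isPullback_space hY hX hK sq
  have hp : LocP @LocallyOfFiniteType snd := locP_baseChange etST_lft hX hY hXk hK sq hf
  have : CompactSpace (Points Xk) := compactSpace_of_isQuasiCompactSp hc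
  obtain ⟨A, a, hA, ha, has⟩ := exists_affine_chart_of_compact hXk
  obtain ⟨h, hh⟩ := exists_map_eq (a ≫ snd)
  let g : A.left ⟶ Spec (CommRingCat.of K) := h.left
  have : LocallyOfFiniteType g := hp a (𝟙 _) h ha repWith_id' (by rw [Category.comp_id, hh])
  exact finite_of_open_points g (Points.ofPt a) (Points.continuous_ofPt a) (ofPt_surjective has) _
    fun z hz => (isOpen_fibre_point_iff hX hY f hf sq z).2 hz

/-- a finite set of points of a fibre is all of the fibre of a quasi-compact open -/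
theorem exists_qc_open_fibre {M V : Scheme.{u}} (m : M ⟶ V) [LocallyQuasiFinite m] (v : V) {F : Set M}
    (hF : F.Finite) (hFv : ∀ z ∈ F, m z = v) :
    ∃ O : M.Opens, IsCompact (O : Set M) ∧ F ⊆ O ∧ ∀ z ∈ O, m z = v → z ∈ F := by
  obtain ⟨C, hC, hCF⟩ := isDiscrete_iff_forall_mem_exists_isClosed.1 (m.isDiscrete_preimage_singleton v)
    (m ⁻¹' {v} \ F) Set.diff_subset
  let O₂ : M.Opens := ⟨Cᶜ, hC.isOpen_compl⟩
  have hFO : ∀ z ∈ F, z ∈ O₂ := fun z hz hzC =>
    ((Set.ext_iff.1 hCF z).1 ⟨hzC, hFv z hz⟩).2 hz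
  have hex : ∀ z : F, ∃ A : M.Opens, IsAffineOpen A ∧ z.1 ∈ A ∧ A ≤ O₂ := fun z => by
    obtain ⟨A, hA, hzA, hAO⟩ := exists_isAffineOpen_mem_and_subset (U := O₂) (hFO z.1 z.2)
    exact ⟨A, hA, hzA, hAO⟩
  choose A hA hzA hAO using hex
  have : Finite F := hF
  refine ⟨⨆ z : F, A z, ?_, fun z hz => TopologicalSpace.Opens.mem_iSup.2 ⟨⟨z, hz⟩, hzA ⟨z, hz⟩⟩, ?_⟩
  · rw [TopologicalSpace.Opens.coe_iSup]
    exact isCompact_iUnion fun z => (hA z).isCompact
  · intro z hz hzv
    obtain ⟨w, hw⟩ := TopologicalSpace.Opens.mem_iSup.1 hz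
    by_contra hzF
    exact hAO w hw ((Set.ext_iff.1 hCF z).2 ⟨hzv, hzF⟩).1

/-- etale locally on the base a finite part of a quasi-finite fibre splits off -/
theorem exists_etale_split {M V : Scheme.{u}} [IsAffine V] (m : M ⟶ V) [LocallyQuasiFinite m]
    [LocallyOfFiniteType m] [IsSeparated m] (v : V) {F : Set M} (hF : F.Finite) (hFv : ∀ z ∈ F, m z = v) :
    ∃ (U : Scheme.{u}) (g : U ⟶ V) (u : U), Etale g ∧ g u = v ∧
      ∃ W : (pullback m g).Opens, IsFinite (W.ι ≫ pullback.snd m g) ∧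
        ∀ z, pullback.snd m g z = u → (z ∈ W ↔ pullback.fst m g z ∈ F) := by
  obtain ⟨O, hOc, hFO, hOF⟩ := exists_qc_open_fibre m v hF hFv
  have : CompactSpace O.toScheme := isCompact_iff_compactSpace.1 hOc
  have : QuasiCompact (O.ι ≫ m) := (quasiCompact_iff_compactSpace _).2 inferInstance
  have hfin : FinFib (O.ι ≫ m) := fun w => .of_locallyQuasiFinite _
  obtain ⟨U, g, u, hg, hgu, W₀, -, hW₀, hW₀u⟩ := exists_etale_clopen _ (O.ι ≫ m) hfin v le_rfl
  let k : pullback (O.ι ≫ m) g ⟶ pullback m g := pullback.map _ _ _ _ O.ι (𝟙 _) (𝟙 _) (by simp) (by simp)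
  have sqk : IsPullback (pullback.fst (O.ι ≫ m) g) k O.ι (pullback.fst m g) :=
    IsPullback.of_bot (by simpa [k] using IsPullback.of_hasPullback (O.ι ≫ m) g)
      (by simp [k]) (IsPullback.of_hasPullback m g)
  have : IsOpenImmersion k := MorphismProperty.of_isPullback sqk (inferInstanceAs (IsOpenImmersion O.ι))
  refine ⟨U, g, u, hg, hgu, k ''ᵁ W₀, ?_, fun z hz => ⟨?_, fun hzF => ?_⟩⟩
  · rw [show (k ''ᵁ W₀).ι = (k.isoImage W₀).inv ≫ W₀.ι ≫ k by simp, Category.assoc, Category.assoc,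
      MorphismProperty.cancel_left_of_respectsIso @IsFinite]
    simpa [k] using hW₀
  · rintro ⟨q, -, rfl⟩
    have hf : pullback.fst m g (k q) = O.ι (pullback.fst (O.ι ≫ m) g q) := by
      rw [← Scheme.Hom.comp_apply, ← Scheme.Hom.comp_apply]; simp [k]
    refine hOF _ (hf ▸ (pullback.fst (O.ι ≫ m) g q).2) ?_
    rw [← Scheme.Hom.comp_apply, pullback.condition, Scheme.Hom.comp_apply, hz, hgu]
  · obtain ⟨q, -, hq⟩ := Scheme.exists_preimage_of_isPullback sqk ⟨_, hFO hzF⟩ z rfl
    refine ⟨q, hW₀u q ?_, hq⟩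
    rw [← hz, ← hq, ← Scheme.Hom.comp_apply]
    simp [k]

/-- etale base change of quasi-finiteness at a point -/
theorem qfAtPt_etale_baseChange {X Y XV : Sp S} (hX : IsAlgSpace X) (hY : IsAlgSpace Y) {V : Over S} {f : X ⟶ Y}
    (hf : LocP @LocallyOfFiniteType f) {b : (yon S).obj V ⟶ Y} (hb : RepWith @Etale b) {p : XV ⟶ X}
    {q : XV ⟶ (yon S).obj V} (sq : IsPullback p q f b) {z : Points XV} (hz : QFAtPt f (Points.map p z)) :
    QFAtPt q z := by
  have hXV : IsAlgSpace XV := isAlgSpace_of_isPullback_space hY hX (IsAlgSpace.yon_obj V) sq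
  have hp : RepWith @Etale p := repWith_baseChange sq.flip hb
  have hq : LocP @LocallyOfFiniteType q := locP_baseChange etST_lft hX hY hXV (IsAlgSpace.yon_obj V) sq hf
  obtain ⟨U, a, ha, has⟩ := hXV.atlas
  obtain ⟨u, rfl⟩ := ofPt_surjective has z
  obtain ⟨h, hh⟩ := exists_map_eq (a ≫ q)
  refine qfAtPt_of_chart hXV (IsAlgSpace.yon_obj V) q hq (V := V) ha repWith_id' (h := h)
    (by rw [Category.comp_id, hh]) rfl ?_
  exact hz U V (a ≫ p) b h u (repWith_comp ha hp) hb (by rw [Category.assoc, sq.w, ← Category.assoc, hh])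
    (Points.map_ofPt _ _ _).symm

end Groth.Agent.SpQS
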