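import Groth.Agent.SpQS.GoodPt
import Groth.Agent.SpQS.MonoDiscrete
import Groth.Agent.AlgSpLib.QCompact
import Groth.Prelude.Def_AlgSp3

/-!
# Points given by monomorphisms from fields
-/

universe u

open CategoryTheory CategoryTheory.Limits AlgebraicGeometry Opposite IsLocalRing

set_option backward.isDefEq.respectTransparency false

namespace Groth.Agent.SpQS

open _root_.AlgSp Groth.Agent.AlgSpLib

variable {S : Scheme.{u}}

theorem mono_point_scheme {X : Sp S} {M : Over S} (f : (yon S).obj M ⟶ X) [Mono f] (z : M.left) :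
    ∃ p : FieldPt X, Points.mk p = Points.ofPt f z ∧ Mono p.toHom := by
  let iz : Over.mk (M.left.fromSpecResidueField z ≫ M.hom) ⟶ M := Over.homMk (M.left.fromSpecResidueField z) rfl
  refine ⟨FieldPt.ofPt f z, rfl, ?_⟩
  rw [FieldPt.toHom_ofPt]
  have : Mono iz.left := inferInstanceAs (Mono (M.left.fromSpecResidueField z))
  have : Mono iz := mono_of_left iz
  have : Mono ((yon S).map iz) := inferInstance
  exact mono_comp _ _

/-- a field point with finite flat self product is given by a monomorphism -/
theorem exists_mono_of_relation {X : Sp S} {W R : Over S} [IsAffine W.left] [Subsingleton W.left]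
    {c : (yon S).obj W ⟶ X} {t s : R ⟶ W} (sq : IsPullback ((yon S).map t) ((yon S).map s) c c)
    [IsFinite s.left] [Flat s.left] [LocallyOfFinitePresentation s.left] (w : W.left) :
    ∃ p : FieldPt X, Points.mk p = Points.ofPt c w ∧ Mono p.toHom := by
  obtain ⟨M, m, -, hmf, hmp, hms, sqM⟩ := exists_kernel_quotient sq (fun v =>
    ⟨⊤, isAffineOpen_top _, fun _ _ => trivial⟩)
  obtain ⟨f, hf, hfm⟩ := exists_mono_desc sq m sqM
  obtain ⟨p, hp, hpm⟩ := mono_point_scheme f (m.left w)
  exact ⟨p, by rw [hp, ← ofPt_comp, hf], hpm⟩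

/-- the field point of a point of a scheme -/
noncomputable abbrev resPt (U : Over S) (u : U.left) : Over S := Over.mk (U.left.fromSpecResidueField u ≫ U.hom)

noncomputable abbrev resInc (U : Over S) (u : U.left) : resPt U u ⟶ U := Over.homMk (U.left.fromSpecResidueField u) rfl

theorem finite_of_etale_over_field {K : Type u} [Field K] {F : Scheme.{u}} (q : F ⟶ Spec (CommRingCat.of K))
    [Etale q] : DiscreteTopology F ∧ (CompactSpace F → IsFinite q) := by
  have : IsLocallyArtinian (Spec (CommRingCat.of K)) := inferInstance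
  have : LocallyQuasiFinite q := UnivInjMor.lqf_of_unramified q
  have : IsLocallyArtinian F := IsLocallyArtinian.of_locallyQuasiFinite q
  refine ⟨inferInstance, fun hc => ?_⟩
  have : QuasiCompact q := HasAffineProperty.iff_of_isAffine.mpr hc
  exact IsFinite.of_locallyQuasiFinite q

theorem flat_lfp_to_field {K : Type u} [Field K] {F : Scheme.{u}} (q : F ⟶ Spec (CommRingCat.of K))
    [IsFinite q] : Flat q ∧ LocallyOfFinitePresentation q :=
  ⟨inferInstance, LocallyOfFinitePresentation.iff_locallyOfFiniteType.mpr inferInstance⟩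

/-- an etale chart point with compact self product is given by a monomorphism -/
theorem exists_mono_of_compact {X : Sp S} (hX : IsAlgSpace X) {U : Over S} {a : (yon S).obj U ⟶ X}
    (ha : RepWith @Etale a) (u : U.left)
    (h : ∀ (V : Over S) (p q : V ⟶ resPt U u), IsPullback ((yon S).map p) ((yon S).map q)
      ((yon S).map (resInc U u) ≫ a) ((yon S).map (resInc U u) ≫ a) → CompactSpace V.left) :
    ∃ p : FieldPt X, Points.mk p = Points.ofPt a u ∧ Mono p.toHom := by
  let W := resPt U u
  let iu : W ⟶ U := resInc U u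
  obtain ⟨F, pF, qF, sqF⟩ := exists_pullback hX.diag a ((yon S).map iu ≫ a)
  have : Etale qF.left := (repWith_yon_iff qF).1 (repWith_baseChange sqF ha)
  let q' : F.left ⟶ Spec (CommRingCat.of (U.left.residueField u)) := qF.left
  have hdisc : DiscreteTopology F.left := (finite_of_etale_over_field (K := U.left.residueField u) q').1
  let Ro : Over S := Over.mk (pullback.fst pF.left iu.left ≫ F.hom)
  let r₁ : Ro ⟶ F := Over.homMk (pullback.fst pF.left iu.left) rfl
  let t : Ro ⟶ W := Over.homMk (pullback.snd pF.left iu.left) (by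
    show pullback.snd pF.left iu.left ≫ W.hom = pullback.fst pF.left iu.left ≫ F.hom
    rw [← Over.w pF, ← Over.w iu]
    exact (pullback.condition_assoc _).symm)
  have sqR : IsPullback ((yon S).map t) ((yon S).map (r₁ ≫ qF)) ((yon S).map iu ≫ a) ((yon S).map iu ≫ a) := by
    rw [Functor.map_comp]
    exact (isPullback_yon_iff.2 ((IsPullback.of_hasPullback pF.left iu.left).flip) :
      IsPullback ((yon S).map t) ((yon S).map r₁) ((yon S).map iu) ((yon S).map pF)).paste_vert sqF
  have : CompactSpace Ro.left := h Ro t (r₁ ≫ qF) sqR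
  have : IsPreimmersion iu.left := inferInstanceAs (IsPreimmersion (U.left.fromSpecResidueField u))
  have : IsPreimmersion r₁.left := inferInstanceAs (IsPreimmersion (pullback.fst pF.left iu.left))
  have : IsClosedImmersion r₁.left := IsClosedImmersion.of_isPreimmersion _ (isClosed_discrete _)
  have : LocallyQuasiFinite q' := UnivInjMor.lqf_of_unramified q'
  let s' : Ro.left ⟶ Spec (CommRingCat.of (U.left.residueField u)) := r₁.left ≫ q'
  have : LocallyQuasiFinite s' := inferInstanceAs (LocallyQuasiFinite (r₁.left ≫ q'))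
  have : QuasiCompact s' := HasAffineProperty.iff_of_isAffine.mpr ‹CompactSpace Ro.left›
  have hfin : IsFinite s' := IsFinite.of_locallyQuasiFinite s'
  have hfl := flat_lfp_to_field s'
  have : IsFinite (r₁ ≫ qF).left := hfin
  have : Flat (r₁ ≫ qF).left := hfl.1
  have : LocallyOfFinitePresentation (r₁ ≫ qF).left := hfl.2
  have : IsAffine W.left := inferInstanceAs (IsAffine (Spec _))
  have : Subsingleton W.left := inferInstanceAs (Subsingleton (PrimeSpectrum (U.left.residueField u)))
  obtain ⟨p, hp, hpm⟩ := exists_mono_of_relation sqR (closedPoint (U.left.residueField u))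
  refine ⟨p, hp.trans ?_, hpm⟩
  rw [ofPt_comp]
  exact congrArg (Points.ofPt a) (Scheme.fromSpecResidueField_apply u _)

/-- the product of two chart points inside the relation of the chart -/
theorem exists_point_product {X : Sp S} {U₁ U₂ R : Over S} {a₁ : (yon S).obj U₁ ⟶ X} {a₂ : (yon S).obj U₂ ⟶ X}
    {t : R ⟶ U₁} {s : R ⟶ U₂} (sq : IsPullback ((yon S).map t) ((yon S).map s) a₁ a₂)
    (u₁ : U₁.left) (u₂ : U₂.left) :
    ∃ (P : Over S) (p : P ⟶ resPt U₁ u₁) (q : P ⟶ resPt U₂ u₂) (ι : P.left ⟶ R.left),
      IsPullback ((yon S).map p) ((yon S).map q) ((yon S).map (resInc U₁ u₁) ≫ a₁)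
        ((yon S).map (resInc U₂ u₂) ≫ a₂) ∧ Function.Injective ι ∧
        Set.range ι = {r | t.left r = u₁ ∧ s.left r = u₂} := by
  let i₁ := resInc U₁ u₁
  let i₂ := resInc U₂ u₂
  have : IsPreimmersion i₁.left := inferInstanceAs (IsPreimmersion (U₁.left.fromSpecResidueField u₁))
  have : IsPreimmersion i₂.left := inferInstanceAs (IsPreimmersion (U₂.left.fromSpecResidueField u₂))
  let F : Over S := Over.mk (pullback.fst t.left i₁.left ≫ R.hom)
  let r₁ : F ⟶ R := Over.homMk (pullback.fst t.left i₁.left) rfl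
  let p₁ : F ⟶ resPt U₁ u₁ := Over.homMk (pullback.snd t.left i₁.left) (by
    show pullback.snd t.left i₁.left ≫ (resPt U₁ u₁).hom = pullback.fst t.left i₁.left ≫ R.hom
    rw [← Over.w t, ← Over.w i₁]
    exact (pullback.condition_assoc _).symm)
  let P : Over S := Over.mk (pullback.fst (r₁ ≫ s).left i₂.left ≫ F.hom)
  let r₂ : P ⟶ F := Over.homMk (pullback.fst (r₁ ≫ s).left i₂.left) rfl
  let p₂ : P ⟶ resPt U₂ u₂ := Over.homMk (pullback.snd (r₁ ≫ s).left i₂.left) (by
    show pullback.snd (r₁ ≫ s).left i₂.left ≫ (resPt U₂ u₂).hom = pullback.fst (r₁ ≫ s).left i₂.left ≫ F.hom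
    rw [← Over.w (r₁ ≫ s), ← Over.w i₂]
    exact (pullback.condition_assoc _).symm)
  have sqF : IsPullback ((yon S).map p₁) ((yon S).map (r₁ ≫ s)) ((yon S).map i₁ ≫ a₁) a₂ := by
    rw [Functor.map_comp]
    exact (isPullback_yon_iff.2 ((IsPullback.of_hasPullback t.left i₁.left).flip) :
      IsPullback ((yon S).map p₁) ((yon S).map r₁) ((yon S).map i₁) ((yon S).map t)).paste_vert sq
  have sqP : IsPullback ((yon S).map (r₂ ≫ p₁)) ((yon S).map p₂) ((yon S).map i₁ ≫ a₁)
      ((yon S).map i₂ ≫ a₂) := by
    rw [Functor.map_comp]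
    exact (isPullback_yon_iff.2 (IsPullback.of_hasPullback (r₁ ≫ s).left i₂.left) :
      IsPullback ((yon S).map r₂) ((yon S).map p₂) ((yon S).map (r₁ ≫ s)) ((yon S).map i₂)).paste_horiz sqF
  refine ⟨P, r₂ ≫ p₁, p₂, r₂.left ≫ r₁.left, sqP, ?_, ?_⟩
  · rw [Scheme.Hom.comp_base, TopCat.coe_comp]
    exact (pullback.fst t.left i₁.left).isEmbedding.injective.comp
      (pullback.fst (r₁ ≫ s).left i₂.left).isEmbedding.injective
  · ext r
    constructor
    · rintro ⟨z, rfl⟩
      constructor
      · rw [← Scheme.Hom.comp_apply, Category.assoc,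
          show r₁.left ≫ t.left = p₁.left ≫ i₁.left from pullback.condition]
        simp only [Scheme.Hom.comp_apply]
        exact Scheme.fromSpecResidueField_apply u₁ _
      · rw [← Scheme.Hom.comp_apply, Category.assoc,
          show r₂.left ≫ r₁.left ≫ s.left = p₂.left ≫ i₂.left from pullback.condition]
        simp only [Scheme.Hom.comp_apply]
        exact Scheme.fromSpecResidueField_apply u₂ _
    · rintro ⟨h₁, h₂⟩
      obtain ⟨f, hf, -⟩ := Scheme.Pullback.exists_preimage_pullback (f := t.left) (g := i₁.left) r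
        (closedPoint (U₁.left.residueField u₁)) (by rw [h₁]; exact (Scheme.fromSpecResidueField_apply u₁ _).symm)
      obtain ⟨z, hz, -⟩ := Scheme.Pullback.exists_preimage_pullback (f := (r₁ ≫ s).left) (g := i₂.left) f
        (closedPoint (U₂.left.residueField u₂)) (by
          show (r₁.left ≫ s.left) f = _
          rw [Scheme.Hom.comp_apply, show r₁.left f = r from hf, h₂]
          exact (Scheme.fromSpecResidueField_apply u₂ _).symm)
      exact ⟨z, by rw [Scheme.Hom.comp_apply, show r₂.left z = f from hz]; exact hf⟩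

theorem ofPt_resInc {X : Sp S} {U : Over S} (a : (yon S).obj U ⟶ X) (u : U.left) (w : (resPt U u).left) :
    Points.ofPt ((yon S).map (resInc U u) ≫ a) w = Points.ofPt a u := by
  rw [ofPt_comp]
  exact congrArg (Points.ofPt a) (Scheme.fromSpecResidueField_apply u _)

/-- finitely many relations over a pair of points give a monomorphism -/
theorem exists_mono_of_finite_pair {X : Sp S} (hX : IsAlgSpace X) {U R : Over S} {a : (yon S).obj U ⟶ X}
    (ha : RepWith @Etale a) {t s : R ⟶ U} (sq : IsPullback ((yon S).map t) ((yon S).map s) a a)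
    (u u' : U.left) (e : Points.ofPt a u = Points.ofPt a u') (hfin : {r | t.left r = u' ∧ s.left r = u}.Finite) :
    ∃ p : FieldPt X, Points.mk p = Points.ofPt a u ∧ Mono p.toHom := by
  obtain ⟨P, p, q, ι, sqP, hinj, hrange⟩ := exists_point_product sq u' u
  have : Finite P.left := by
    have : Finite (Set.range ι) := by rw [hrange]; exact hfin.to_subtype
    exact Finite.of_injective (Set.rangeFactorization ι) fun _ _ h => hinj (congrArg Subtype.val h)
  refine exists_mono_of_compact hX ha u fun V v₁ v₂ sqV => ?_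
  have he : Points.ofPt ((yon S).map (resInc U u') ≫ a) (closedPoint (U.left.residueField u')) =
      Points.ofPt ((yon S).map (resInc U u) ≫ a) (closedPoint (U.left.residueField u)) := by
    rw [ofPt_resInc, ofPt_resInc, e]
  exact compactSpace_of_same_point hX _ he sqP.flip sqV

/-- monomorphic points have finitely many relations -/
theorem finite_pair_of_mono {X : Sp S} (hX : IsAlgSpace X) {U R : Over S} {a : (yon S).obj U ⟶ X}
    (ha : RepWith @Etale a) {t s : R ⟶ U} (sq : IsPullback ((yon S).map t) ((yon S).map s) a a)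
    (u u' : U.left) (p : FieldPt X) [Mono p.toHom] (hu : Points.ofPt a u = Points.mk p)
    (hu' : Points.ofPt a u' = Points.mk p) : {r | t.left r = u' ∧ s.left r = u}.Finite := by
  obtain ⟨P, p₁, p₂, ι, sqP, hinj, hrange⟩ := exists_point_product sq u' u
  obtain ⟨V, v₁, v₂, sqV⟩ := exists_pullback hX.diag ((yon S).map (resInc U u') ≫ a) p.toHom
  have : Mono ((yon S).map v₁) := sqV.mono_fst_of_mono
  have : Subsingleton V.left := ⟨fun x y => by
    refine (Points.schemeEquiv V).injective (injective_points_of_mono ((yon S).map v₁) ?_)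
    show Points.map ((yon S).map v₁) (Points.ofScheme V x) = Points.map ((yon S).map v₁) (Points.ofScheme V y)
    rw [← Points.ofPt_eq_map_ofScheme, ← Points.ofPt_eq_map_ofScheme, ofScheme_map, ofScheme_map]
    exact congrArg _ (Subsingleton.elim (α := PrimeSpectrum (U.left.residueField u')) _ _)⟩
  have he : Points.ofPt p.toHom (closedPoint p.K) =
      Points.ofPt ((yon S).map (resInc U u) ≫ a) (closedPoint (U.left.residueField u)) := by
    rw [ofPt_resInc, hu, Points.ofPt_toHom]
  have : CompactSpace P.left := compactSpace_of_same_point hX _ he sqV sqP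
  have hs : Etale s.left := (repWith_yon_iff s).1 (repWith_baseChange sq ha)
  have : LocallyQuasiFinite s.left := UnivInjMor.lqf_of_unramified s.left
  rw [← hrange]
  exact (isCompact_range ι.continuous).finite ((s.left.isDiscrete_preimage_singleton u).mono
    (by rw [hrange]; exact fun r hr => hr.2))

theorem finite_points_fibre {X Y : Sp S} (hX : IsAlgSpace X) (hY : IsAlgSpace Y) (f : X ⟶ Y)
    (hq : IsQuasiCompactMor f) (he : IsEtaleMor f) {K : Type u} [Field K] {str : Spec (CommRingCat.of K) ⟶ S}
    (y : (yon S).obj (Over.mk str) ⟶ Y) {P : Sp S} {fst : P ⟶ X} {snd : P ⟶ (yon S).obj (Over.mk str)}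
    (sq : IsPullback fst snd f y) : Finite (Points P) := by
  have hK : IsAlgSpace ((yon S).obj (Over.mk str)) := IsAlgSpace.yon_obj _
  have hP : IsAlgSpace P := isAlgSpace_of_isPullback_space hY hX hK sq
  have : IsAffine (Over.mk str).left := inferInstanceAs (IsAffine (Spec (CommRingCat.of K)))
  have : CompactSpace (Points P) := compactSpace_of_isQuasiCompactSp
    (hq hK ⟨_, 𝟙 _, repWith_id _ _, repWith_id _ _, (inferInstance : CompactSpace ↥(Over.mk str).left)⟩ y fst snd sq)
  obtain ⟨U, π, hπ, hπs⟩ := hX.atlas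
  obtain ⟨V, v₁, v₂, sqV⟩ := exists_pullback hY.diag (π ≫ f) y
  obtain ⟨b, hb₁, hb₂⟩ : ∃ b : (yon S).obj V ⟶ P, b ≫ fst = (yon S).map v₁ ≫ π ∧ b ≫ snd = (yon S).map v₂ :=
    ⟨sq.lift _ _ (by rw [Category.assoc]; exact sqV.w), sq.lift_fst _ _ _, sq.lift_snd _ _ _⟩
  have sqb : IsPullback ((yon S).map v₁) b π fst :=
    IsPullback.of_bot (by rw [hb₂]; exact sqV) hb₁.symm sq
  have hbe : RepWith @Etale b := repWith_baseChange sqb hπ
  have hbs : RepWith @Surjective b := repWith_baseChange sqb hπs
  have : Etale v₂.left := (repWith_yon_iff v₂).1 (repWith_baseChange sqV (he π hπ))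
  let v' : V.left ⟶ Spec (CommRingCat.of K) := v₂.left
  have : DiscreteTopology V.left := (finite_of_etale_over_field (K := K) v').1
  have : DiscreteTopology (Points P) := discreteTopology_iff_isOpen_singleton.2 fun z => by
    obtain ⟨v, rfl⟩ := ofPt_surjective hbs z
    have := isOpenMap_ofPt (repWith_universallyOpen_of_etale hbe) _ (isOpen_discrete ({v} : Set V.left))
    rwa [Set.image_singleton] at this
  exact finite_of_compact_of_discrete

/-- monomorphic points descend along quasi-compact etale maps -/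
theorem exists_mono_image {X Y : Sp S} (hX : IsAlgSpace X) (hY : IsAlgSpace Y) (f : X ⟶ Y)
    (hq : IsQuasiCompactMor f) (he : IsEtaleMor f) (p : FieldPt X) [Mono p.toHom] :
    ∃ q : FieldPt Y, Points.mk q = Points.map f (Points.mk p) ∧ Mono q.toHom := by
  obtain ⟨U, a, u, -, ha, hu, -⟩ := exists_affine_chart_at hX (Points.mk p)
  let y := p.toHom ≫ f
  obtain ⟨Q, q₁, q₂, sqQ⟩ := exists_pullback hY.diag y y
  have sqP := IsPullback.of_hasPullback f y
  have := finite_points_fibre hX hY f hq he y sqP
  obtain ⟨l, hl₁, hl₂⟩ : ∃ l : (yon S).obj Q ⟶ pullback f y,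
      l ≫ pullback.fst f y = (yon S).map q₁ ≫ p.toHom ∧ l ≫ pullback.snd f y = (yon S).map q₂ :=
    ⟨pullback.lift _ _ (by rw [Category.assoc]; exact sqQ.w), pullback.lift_fst _ _ _, pullback.lift_snd _ _ _⟩
  have sql : IsPullback ((yon S).map q₁) l p.toHom (pullback.fst f y) :=
    IsPullback.of_bot (by rw [hl₂]; exact sqQ) hl₁.symm sqP
  have : Mono l := sql.mono_snd_of_mono
  have : Finite (Points ((yon S).obj Q)) := Finite.of_injective _ (injective_points_of_mono l)
  have : Finite Q.left := Finite.of_equiv _ (Points.schemeEquiv Q).symm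
  let c := (yon S).map (resInc U u) ≫ a ≫ f
  have hec : Points.ofPt y (closedPoint p.K) = Points.ofPt c (closedPoint (U.left.residueField u)) := by
    rw [show Points.ofPt c (closedPoint (U.left.residueField u)) = _ from ofPt_resInc (a ≫ f) u _,
      ← Points.map_ofPt, ← Points.map_ofPt, Points.ofPt_toHom, hu]
  obtain ⟨r, hr, hrm⟩ := exists_mono_of_compact hY (he a ha) u (fun V v₁ v₂ sqV => by
    obtain ⟨V₁, w₁, w₂, sq₁⟩ := exists_pullback hY.diag y c
    have : CompactSpace V₁.left := compactSpace_of_same_point hY y hec sqQ sq₁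
    exact compactSpace_of_same_point hY c hec sq₁.flip sqV)
  exact ⟨r, by rw [hr, ← hu, Points.map_ofPt], hrm⟩

end Groth.Agent.SpQS
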