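import Groth.Agent.SpQS.ConfStrat
import Groth.Agent.SpQS.RedInduced
import Groth.Agent.AlgSpLib.QCompact

/-!
# The filtration of a quasi-compact space by schemes
-/

universe u

open CategoryTheory CategoryTheory.Limits AlgebraicGeometry

set_option backward.isDefEq.respectTransparency false

namespace Groth.Agent.SpQS

open _root_.AlgSp Groth.Agent.AlgSpLib

variable {S : Scheme.{u}}

theorem map_subInc_injective {F : Sp S} (E : Set (Points F)) :
    Function.Injective (Points.map (subInc E)) := by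
  intro x₁ x₂ e
  obtain ⟨T₁, g₁, t₁, rfl⟩ := exists_ofPt x₁
  obtain ⟨T₂, g₂, t₂, rfl⟩ := exists_ofPt x₂
  rw [Points.map_ofPt, Points.map_ofPt] at e
  obtain ⟨K, α, β, k, ee, rfl, rfl⟩ := exists_of_ofPt_eq e
  rw [← Category.assoc, ← Category.assoc, cancel_mono] at ee
  rw [← ofPt_comp, ← ofPt_comp, ee]

/-- the sets of points `U_p` -/
def confSet {X : Sp S} {W : Over S} {π : (yon S).obj W ⟶ X} (cs : ∀ p, Conf π p) : ℕ → Set (Points X)
  | 0 => Set.univ
  | p + 1 => (cs p).pts

theorem confSet_isOpen {X : Sp S} {W : Over S} {π : (yon S).obj W ⟶ X} (cs : ∀ p, Conf π p)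
    (hπ : RepWith @Etale π) : ∀ p, IsOpen (confSet cs p)
  | 0 => isOpen_univ
  | p + 1 => (cs p).isOpen_pts hπ

theorem confSet_anti {X : Sp S} {W : Over S} {π : (yon S).obj W ⟶ X} (cs : ∀ p, Conf π p) :
    ∀ p, confSet cs (p + 1) ⊆ confSet cs p
  | 0 => Set.subset_univ _
  | p + 1 => (cs p).pts_mono (cs (p + 1))

/-- the filtration of a quasi-compact space by the number of sheets of an affine chart -/
theorem exists_filtration (X : Space S) (hX : IsQuasiCompactSp X.obj) :
    ∃ (W : Over S) (π : (yon S).obj W ⟶ X.obj) (_ : IsAffine W.left) (_ : RepWith @Etale π)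
      (cs : ∀ p, Conf π p) (Uo : ℕ → Space S) (j : ∀ p, Uo p ⟶ X) (k : ∀ p, Uo (p + 1) ⟶ Uo p)
      (T : ℕ → Space S) (i : ∀ p, T p ⟶ Uo p),
      (∀ p, RepWith @IsOpenImmersion (j p).hom) ∧ (∀ p, k p ≫ j p = j (p + 1)) ∧ IsIso (j 1) ∧
      (∀ p, Set.range (Points.map (j p).hom) = confSet cs p) ∧
      (∀ p, IsRedInduced (Set.range (Points.map (k p).hom))ᶜ (i p).hom) ∧
      (∀ p, 1 ≤ p → ∃ (V : Over S) (f : (yon S).obj V ⟶ (Uo p).obj), V.left.IsSeparated ∧
        (CompactSpace ↥(cs (p - 1)).C.left → CompactSpace ↥V.left) ∧ RepWith @Etale f ∧ RepWith @Surjective f ∧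
        ∀ (P : Sp S) (fst : P ⟶ (T p).obj) (snd : P ⟶ (yon S).obj V), IsPullback fst snd (i p).hom f → IsIso fst) ∧
      (∀ p, ∀ x : Points X.obj, x ∈ confSet cs p → x ∉ confSet cs (p + 1) →
        x ∈ Set.range (Points.map ((i p) ≫ (j p)).hom)) := by
  obtain ⟨hA⟩ : Nonempty (IsAlgSpace X.obj) := ⟨X.property⟩
  have := compactSpace_of_isQuasiCompactSp hX
  obtain ⟨W, π, hW, hπ, hπs⟩ := exists_affine_chart_of_compact hA
  let cs : ∀ p, Conf π p := fun p => (exists_conf hA hπ p).some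
  let E := confSet cs
  have hEo := confSet_isOpen cs hπ
  have hEA : ∀ p, IsAlgSpace (subSheaf (E p)) := fun p => isAlgSpace_subSheaf hA (hEo p)
  choose k hk using fun p => exists_factor_subInc (W := E p) (subInc (E (p + 1)))
    (fun x => confSet_anti cs p (map_subInc_mem x))
  have hrk : ∀ p, Set.range (Points.map (k p)) = Points.map (subInc (E p)) ⁻¹' E (p + 1) := fun p => by
    apply Set.Subset.antisymm
    · rintro _ ⟨x, rfl⟩
      show Points.map (subInc (E p)) (Points.map (k p) x) ∈ E (p + 1)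
      rw [← Points.map_comp, hk]
      exact map_subInc_mem x
    · intro y hy
      obtain ⟨x, hx⟩ := (range_subInc (E (p + 1))).symm.subset hy
      refine ⟨x, map_subInc_injective _ ?_⟩
      rw [← Points.map_comp, hk, hx]
  choose T i hT hi using fun p => exists_redInduced (hEA p)
    (T := (Set.range (Points.map (k p)))ᶜ) (by
      rw [hrk, isClosed_compl_iff]
      exact (hEo (p + 1)).preimage (Points.continuous_map _))
  refine ⟨W, π, hW, hπ, cs, fun p => ⟨subSheaf (E p), hEA p⟩, fun p => ObjectProperty.homMk (subInc (E p)),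
    fun p => ObjectProperty.homMk (k p), fun p => ⟨T p, hT p⟩, fun p => ObjectProperty.homMk (i p),
    fun p => repWith_subInc (hEo p), fun p => ObjectProperty.hom_ext _ (hk p), ?_, fun p => range_subInc _,
    fun p => hi p, ?_, ?_⟩
  · have hE1 : E 1 = Set.univ := (cs 0).pts_zero hπs
    obtain ⟨g, hg⟩ := exists_factor_subInc (W := E 1) (𝟙 X.obj) (fun x => hE1 ▸ trivial)
    refine ⟨⟨ObjectProperty.homMk g, ObjectProperty.hom_ext _ ?_, ObjectProperty.hom_ext _ hg⟩⟩
    show subInc (E 1) ≫ g = 𝟙 _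
    rw [← cancel_mono (subInc (E 1)), Category.assoc, hg, Category.comp_id, Category.id_comp]
  · intro p hp
    obtain ⟨m, rfl⟩ : ∃ m, p = m + 1 := ⟨p - 1, by omega⟩
    obtain ⟨V, f, h₁, h₂, h₃, h₄, h₅⟩ := exists_stratum_cover hA hπ (cs m) (cs (m + 1))
    refine ⟨V, f, h₁, h₂, h₃, h₄, fun P fst snd sq => h₅ _ P (i (m + 1)) (fun z hz => ?_) fst snd sq⟩
    have hz' : Points.map (i (m + 1)) z ∈ (Set.range (Points.map (k (m + 1))))ᶜ :=
      (hi (m + 1)).2.1 ▸ ⟨z, rfl⟩
    rw [hrk] at hz'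
    exact hz' hz
  · intro p x hx hx'
    obtain ⟨y, rfl⟩ := (range_subInc (E p)).symm.subset hx
    obtain ⟨z, hz⟩ : y ∈ Set.range (Points.map (i p)) := by
      rw [(hi p).2.1, hrk]
      exact hx'
    refine ⟨z, ?_⟩
    show Points.map (i p ≫ subInc (E p)) z = _
    rw [Points.map_comp, hz]

end Groth.Agent.SpQS
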