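import Groth.Agent.SpQS.DecentProps

/-!
# Permanence of decency along morphisms
-/

universe u

open CategoryTheory CategoryTheory.Limits AlgebraicGeometry Opposite IsLocalRing

set_option backward.isDefEq.respectTransparency false

namespace Groth.Agent.SpQS

open _root_.AlgSp Groth.Agent.AlgSpLib

variable {S : Scheme.{u}}

/-- good points lift along etale morphisms -/
theorem goodAt_of_etale {X Y : Sp S} (hX : IsAlgSpace X) (hY : IsAlgSpace Y) (f : X ⟶ Y) (hf : IsEtaleMor f)
    {x : Points X} (hy : GoodAt (Points.map f x)) : GoodAt x := by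
  obtain ⟨K, _, str, y₀, rfl⟩ := exists_fieldMap x
  refine goodAt_of_one hX y₀ fun U a hU ha _ V p q sq => ?_
  obtain ⟨V', p', q', sq'⟩ := exists_pullback hY.diag (a ≫ f) (y₀ ≫ f)
  have hae : RepWith @Etale (a ≫ f) := hf a ha
  have : CompactSpace V'.left := hy U (a ≫ f) hU hae K str (y₀ ≫ f) (Points.map_ofPt _ _ _).symm V' p' q' sq'
  have : Etale q'.left := (repWith_yon_iff q').1 (repWith_baseChange sq' hae)
  obtain ⟨l, hl⟩ := exists_map_eq (sq'.lift ((yon S).map p) ((yon S).map q) (by
    rw [← Category.assoc, ← Category.assoc, sq.w]))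
  have hl₁ : l ≫ p' = p := (yon S).map_injective (by rw [Functor.map_comp, hl, sq'.lift_fst])
  have hl₂ : l ≫ q' = q := (yon S).map_injective (by rw [Functor.map_comp, hl, sq'.lift_snd])
  have : Mono l.left := ⟨fun {T} g g' e => by
    let G : Over.mk (g ≫ V.hom) ⟶ V := Over.homMk g rfl
    let G' : Over.mk (g ≫ V.hom) ⟶ V := Over.homMk g' (by
      show g' ≫ V.hom = g ≫ V.hom
      rw [← Over.w l, reassoc_of% e])
    have h : G ≫ l = G' ≫ l := Over.OverMorphism.ext e
    have hG : (yon S).map G = (yon S).map G' := sq.hom_ext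
      (by rw [← Functor.map_comp, ← Functor.map_comp, ← hl₁, reassoc_of% h])
      (by rw [← Functor.map_comp, ← Functor.map_comp, ← hl₂, reassoc_of% h])
    exact congrArg (fun k => k.left) ((yon S).map_injective hG)⟩
  have : Finite V'.left := Set.finite_univ_iff.1 (ValLib.finite_of_etale_compact (K := K) q'.left)
  have : Finite V.left := Finite.of_injective _ l.left.injective
  exact Finite.compactSpace

/-- decency from decent fibres over monomorphic points of the target -/
theorem isDecent_of_fibres {X Y : Sp S} (f : X ⟶ Y)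
    (h : ∀ x : Points X, ∃ p : FieldPt Y, Points.mk p = Points.map f x ∧ Mono p.toHom ∧
      RepWith @QuasiCompact p.toHom ∧ IsDecent (pullback f p.toHom)) : IsDecent X := by
  intro x
  obtain ⟨p, hp, hm, hq, hd⟩ := h x
  have sq := IsPullback.of_hasPullback f p.toHom
  obtain ⟨w, hw, -⟩ := exists_point_of_isPullback sq x (Points.ofScheme p.pt (closedPoint p.K)) (by
    show _ = Points.map p.toHom (Points.ofPt (𝟙 _) _)
    rw [Points.map_ofPt, Category.id_comp, Points.ofPt_toHom]
    exact hp.symm)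
  have : Mono (pullback.fst f p.toHom) := inferInstance
  have h' := decentPt_map (pullback.fst f p.toHom) (repWith_baseChange sq.flip hq) (hd w)
  rwa [hw] at h'

theorem isDecent_of_isDecentMor {X Y : Sp S} (f : X ⟶ Y) (hf : IsDecentMor f) (hY : IsDecent Y) : IsDecent X :=
  isDecent_of_fibres f fun x => by
    obtain ⟨p, hp, hm, hq⟩ := hY (Points.map f x)
    exact ⟨p, hp, hm, hq, hf p.toHom _ _ (IsPullback.of_hasPullback f p.toHom)⟩

theorem isDecent_of_representable {X Y : Sp S} (f : X ⟶ Y) (hf : Representable f) (hY : IsDecent Y) :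
    IsDecent X :=
  isDecent_of_fibres f fun x => by
    obtain ⟨p, hp, hm, hq⟩ := hY (Points.map f x)
    obtain ⟨V, fst, snd, sq⟩ := exists_isPullback_of_representable hf p.toHom
    exact ⟨p, hp, hm, hq, (isDecent_yon V).of_iso (sq.isoIsPullback _ _ (IsPullback.of_hasPullback f p.toHom))⟩

theorem isDecentMor_comp {X Y Z : Sp S} (f : X ⟶ Y) (g : Y ⟶ Z) (hf : IsDecentMor f) (hg : IsDecentMor g) :
    IsDecentMor (f ≫ g) := by
  intro T F' t fst snd sq
  have sqG := IsPullback.of_hasPullback g t
  let l : F' ⟶ pullback g t := pullback.lift (fst ≫ f) snd (by rw [Category.assoc]; exact sq.w)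
  have sql : IsPullback fst l f (pullback.fst g t) :=
    IsPullback.of_bot (by rw [pullback.lift_snd]; exact sq) (pullback.lift_fst _ _ _).symm sqG
  refine isDecent_of_fibres l fun w => ?_
  obtain ⟨p, hp, hm, hq⟩ := (hg t _ _ sqG) (Points.map l w)
  exact ⟨p, hp, hm, hq, hf (p.toHom ≫ pullback.fst g t) (pullback.fst l p.toHom ≫ fst) (pullback.snd l p.toHom)
    ((IsPullback.of_hasPullback l p.toHom).paste_horiz sql)⟩

/-- decency is Zariski local -/
theorem isDecent_of_zarCover {X : Sp S} (hX : IsAlgSpace X) {ι : Type*} (Xi : ι → Sp S) (j : ∀ i, Xi i ⟶ X)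
    (hXi : ∀ i, IsAlgSpace (Xi i)) (hj : ∀ i, RepWith @IsOpenImmersion (j i))
    (hcov : ∀ x : Points X, ∃ i, x ∈ Set.range (Points.map (j i))) (hd : ∀ i, IsDecent (Xi i)) : IsDecent X := by
  refine isDecent_of_good hX fun x => ?_
  obtain ⟨K, _, str, y, rfl⟩ := exists_fieldMap x
  refine goodAt_of_local hX y fun U a ha u => ?_
  obtain ⟨i, hi⟩ := hcov (Points.ofPt a u)
  have : Mono (j i) := mono_of_repWith_immersion (repWith_mono (P := @IsOpenImmersion) (Q := @IsImmersion)
    (fun _ _ g hg => have : IsOpenImmersion g := hg; inferInstance) (hj i))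
  have hje : IsEtaleMor (j i) := isEtaleMor_of_repWith' (repWith_mono (P := @IsOpenImmersion) (Q := @Etale)
    (fun _ _ g hg => have : IsOpenImmersion g := hg; inferInstance) (hj i))
  refine ⟨⟨Points.ofPt a ⁻¹' Set.range (Points.map (j i)),
    (exists_iso_subSheaf_of_mono (hXi i) hX (j i) hje).1.preimage (Points.continuous_ofPt a)⟩, hi, ?_⟩
  intro U' inc hU' hinc hsub V p q sq
  by_cases hV : Nonempty V.left
  swap
  · have := not_nonempty_iff.1 hV
    infer_instance
  obtain ⟨v⟩ := hV
  obtain ⟨b, hb⟩ := (exists_factor_iff (hXi i) hX (j i) (hj i) ((yon S).map inc ≫ a)).2 (by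
    rintro _ ⟨z, rfl⟩
    obtain ⟨w, rfl⟩ := (Points.schemeEquiv U').surjective z
    show Points.map _ (Points.ofPt (𝟙 _) w) ∈ _
    rw [Points.map_ofPt, Category.id_comp, ofPt_comp]
    exact hsub ⟨w, rfl⟩)
  obtain ⟨y₁, hy₁⟩ := (exists_factor_iff (hXi i) hX (j i) (hj i) y).2 (by
    rintro _ ⟨z, rfl⟩
    obtain ⟨w, rfl⟩ := (Points.schemeEquiv (Over.mk str)).surjective z
    show Points.map _ (Points.ofPt (𝟙 _) w) ∈ _
    rw [Points.map_ofPt, Category.id_comp, Subsingleton.elim (α := PrimeSpectrum K) w (q.left v),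
      ← (ofPt_eq_iff sq _ _).2 ⟨v, rfl, rfl⟩, ofPt_comp]
    exact hsub ⟨_, rfl⟩)
  have hbe : RepWith @Etale b := repWith_etale_of_comp (hXi i) hX (by
    rw [hb]
    exact repWith_comp ((repWith_yon_iff inc).2 (inferInstance : Etale inc.left)) ha) hje
  have sq₁ : IsPullback ((yon S).map p) ((yon S).map q) b y₁ := by
    refine isPullback_of_comp_mono (j i) ?_
    rw [hb, hy₁]
    exact sq
  exact goodAt_of_isDecent (hXi i) (hd i) _ U' b hU' hbe K str y₁ rfl V p q sq₁

/-- decent morphisms are tested on affine schemes -/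
theorem isDecentMor_of_affine {X Y : Sp S} (hX : IsAlgSpace X) (hY : IsAlgSpace Y) (f : X ⟶ Y)
    (h : ∀ (Z : Over S) (g : (yon S).obj Z ⟶ Y) (P : Sp S) (fst : P ⟶ X) (snd : P ⟶ (yon S).obj Z),
      IsAffine Z.left → IsPullback fst snd f g → IsDecent P) : IsDecentMor f := by
  intro T F' g fst snd sq
  have hF' : IsAlgSpace F' := isAlgSpace_of_isPullback_space hY hX (IsAlgSpace.yon_obj T) sq
  let A : T.left.affineOpens → Over S := fun O => Over.mk (O.1.ι ≫ T.hom)
  let inc : ∀ O, A O ⟶ T := fun O => Over.homMk O.1.ι rfl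
  refine isDecent_of_zarCover hF' (fun O => pullback snd ((yon S).map (inc O)))
    (fun O => pullback.fst snd ((yon S).map (inc O)))
    (fun O => isAlgSpace_of_isPullback_space (IsAlgSpace.yon_obj T) hF' (IsAlgSpace.yon_obj _)
      (IsPullback.of_hasPullback _ _))
    (fun O => repWith_baseChange (IsPullback.of_hasPullback snd ((yon S).map (inc O))).flip
      ((repWith_yon_iff _).2 (inferInstance : IsOpenImmersion O.1.ι)))
    (fun z => ?_) fun O => ?_
  · obtain ⟨t, ht⟩ := (Points.schemeEquiv T).surjective (Points.map snd z)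
    obtain ⟨O, hO, htO, -⟩ := exists_isAffineOpen_mem_and_subset (U := (⊤ : T.left.Opens)) (x := t) trivial
    obtain ⟨w, hw, -⟩ := exists_point_of_isPullback (IsPullback.of_hasPullback snd ((yon S).map (inc ⟨O, hO⟩))) z
      (Points.ofScheme (A ⟨O, hO⟩) (⟨t, htO⟩ : ↥O)) (by
        rw [← ht]
        show _ = Points.map _ (Points.ofPt (𝟙 _) _)
        rw [Points.map_ofPt, Category.id_comp, ofScheme_map]
        rfl)
    exact ⟨⟨O, hO⟩, w, hw⟩
  · exact h (A O) ((yon S).map (inc O) ≫ g) _ (pullback.fst snd ((yon S).map (inc O)) ≫ fst)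
      (pullback.snd snd ((yon S).map (inc O))) (O.2 : IsAffine O.1.toScheme)
      ((IsPullback.of_hasPullback snd ((yon S).map (inc O))).paste_horiz sq)

/-- decency descends along quasi-compact etale surjections -/
theorem isDecent_of_qc_etale_surjective {X Y : Sp S} (hX : IsAlgSpace X) (hY : IsAlgSpace Y) (f : X ⟶ Y)
    (hq : IsQuasiCompactMor f) (hs : IsSurjectiveMor f) (hd : IsDecent X) : IsDecent Y := by
  refine isDecent_of_good hY fun z => ?_
  obtain ⟨x, rfl⟩ := hs z
  obtain ⟨K, _, str, y, rfl⟩ := exists_fieldMap x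
  rw [Points.map_ofPt]
  refine goodAt_of_one hY (y ≫ f) fun U a hU ha _ V p q sq => ?_
  have sqP := IsPullback.of_hasPullback f a
  have hP : IsAlgSpace (pullback f a) := isAlgSpace_of_isPullback_space hY hX (IsAlgSpace.yon_obj U) sqP
  have : IsAffine U.left := hU
  have := compactSpace_of_isQuasiCompactSp (hq (IsAlgSpace.yon_obj _) (isQuasiCompactSp_yon U) a _ _ sqP)
  obtain ⟨W, w, hW, hwe, hws⟩ := exists_affine_chart_of_compact hP
  let l : (yon S).obj V ⟶ pullback f a :=
    pullback.lift ((yon S).map q ≫ y) ((yon S).map p) (by rw [Category.assoc, sq.w])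
  have sql : IsPullback l ((yon S).map q) (pullback.fst f a) y :=
    IsPullback.of_right (by rw [pullback.lift_snd]; exact sq) (pullback.lift_fst _ _ _) sqP.flip
  obtain ⟨M, m₁, m₂, sqM⟩ := exists_pullback hP.diag w l
  have hwe' : RepWith @Etale (w ≫ pullback.fst f a) := repWith_comp hwe (repWith_baseChange sqP.flip ha)
  have sqM' : IsPullback ((yon S).map m₁) ((yon S).map (m₂ ≫ q)) (w ≫ pullback.fst f a) y := by
    rw [Functor.map_comp]
    exact sqM.paste_vert sql
  have : CompactSpace M.left := goodAt_of_isDecent hX hd _ W _ hW hwe' K str y rfl M _ _ sqM'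
  have : Surjective m₂.left := (repWith_yon_iff m₂).1 (repWith_baseChange sqM hws)
  exact ⟨by rw [← m₂.left.surjective.range_eq]; exact isCompact_range m₂.left.continuous⟩

end Groth.Agent.SpQS
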