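import Groth.Agent.SpQS.DecentMor
import Groth.Agent.SpQS.GoodPt

/-!
# Quasi-separated morphisms are decent
-/

universe u

open CategoryTheory CategoryTheory.Limits AlgebraicGeometry Opposite IsLocalRing

set_option backward.isDefEq.respectTransparency false

namespace Groth.Agent.SpQS

open _root_.AlgSp Groth.Agent.AlgSpLib

variable {S : Scheme.{u}}

theorem isDecentMor_of_qs {X Y : Sp S} (hX : IsAlgSpace X) (hY : IsAlgSpace Y) (f : X ⟶ Y)
    (hf : IsQuasiSeparatedMor f) : IsDecentMor f := by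
  refine isDecentMor_of_affine hX hY f fun T g P fst snd hT sqP => ?_
  have hP : IsAlgSpace P := isAlgSpace_of_isPullback_space hY hX (IsAlgSpace.yon_obj T) sqP
  refine isDecent_of_good hP fun x => ?_
  obtain ⟨p, rfl⟩ := Points.mk_surjective x
  rw [← Points.ofPt_toHom p (closedPoint p.K)]
  refine goodAt_of_one hP p.toHom fun U a hU ha _ V pV qV sq => ?_
  obtain ⟨Q, q₁, q₂, sqQ⟩ := exists_pullback (IsAlgSpace.yon_obj T).diag (a ≫ snd) (p.toHom ≫ snd)
  obtain ⟨e₁, he₁⟩ := exists_map_eq (a ≫ snd)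
  obtain ⟨e₂, he₂⟩ := exists_map_eq (p.toHom ≫ snd)
  rw [← he₁, ← he₂] at sqQ
  have hsq := isPullback_yon_iff.1 sqQ
  have : IsAffine p.pt.left := inferInstanceAs (IsAffine (Spec (CommRingCat.of p.K)))
  have : IsAffineHom q₁.left := MorphismProperty.of_isPullback (P := @IsAffineHom) hsq.flip
    (inferInstance : IsAffineHom e₂.left)
  have : IsAffine Q.left := isAffine_of_isAffineHom q₁.left
  rw [he₁, he₂] at sqQ
  obtain ⟨l, hl⟩ := exists_map_eq (sqQ.lift ((yon S).map pV) ((yon S).map qV) (by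
    rw [← Category.assoc, ← Category.assoc, sq.w]))
  have hl₁ : l ≫ q₁ = pV := (yon S).map_injective (by rw [Functor.map_comp, hl, sqQ.lift_fst])
  have hl₂ : l ≫ q₂ = qV := (yon S).map_injective (by rw [Functor.map_comp, hl, sqQ.lift_snd])
  obtain ⟨ξ, hξ₁, hξ₂⟩ : ∃ ξ : (yon S).obj Q ⟶ pullback f f, ξ ≫ pullback.fst f f = (yon S).map q₁ ≫ a ≫ fst ∧
      ξ ≫ pullback.snd f f = (yon S).map q₂ ≫ p.toHom ≫ fst := by
    refine ⟨pullback.lift _ _ ?_, pullback.lift_fst _ _ _, pullback.lift_snd _ _ _⟩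
    simp only [Category.assoc, sqP.w]
    rw [reassoc_of% sqQ.w]
  have hw : ((yon S).map pV ≫ a ≫ fst) ≫ pullback.diagonal f = (yon S).map l ≫ ξ := by
    apply pullback.hom_ext
    · rw [Category.assoc, pullback.diagonal_fst, Category.comp_id, Category.assoc, hξ₁,
        ← Functor.map_comp_assoc, hl₁]
    · rw [Category.assoc, pullback.diagonal_snd, Category.comp_id, Category.assoc, hξ₂,
        ← Functor.map_comp_assoc, hl₂, ← Category.assoc, sq.w, Category.assoc]
  have hlift : ∀ (s : PullbackCone (pullback.diagonal f) ξ),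
      (s.snd ≫ (yon S).map q₁) ≫ a = (s.snd ≫ (yon S).map q₂) ≫ p.toHom := fun s => by
    refine sqP.hom_ext ?_ ?_
    · have h₁ := congrArg (· ≫ pullback.fst f f) s.condition
      have h₂ := congrArg (· ≫ pullback.snd f f) s.condition
      simp only [Category.assoc, pullback.diagonal_fst, pullback.diagonal_snd, Category.comp_id, hξ₁, hξ₂] at h₁ h₂
      simp only [Category.assoc]
      exact h₁.symm.trans h₂
    · simp only [Category.assoc]
      rw [sqQ.w]
  have sqD : IsPullback ((yon S).map pV ≫ a ≫ fst) ((yon S).map l) (pullback.diagonal f) ξ := by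
    refine ⟨⟨hw⟩, ⟨PullbackCone.IsLimit.mk hw (fun s => sq.lift (s.snd ≫ (yon S).map q₁)
      (s.snd ≫ (yon S).map q₂) (hlift s)) (fun s => ?_) (fun s => ?_) (fun s m h₁ h₂ => ?_)⟩⟩
    · rw [sq.lift_fst_assoc, Category.assoc, ← hξ₁, ← Category.assoc, ← s.condition, Category.assoc,
        pullback.diagonal_fst, Category.comp_id]
    · refine sqQ.hom_ext ?_ ?_
      · rw [Category.assoc, ← Functor.map_comp, hl₁, sq.lift_fst]
      · rw [Category.assoc, ← Functor.map_comp, hl₂, sq.lift_snd]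
    · refine sq.hom_ext ?_ ?_
      · rw [sq.lift_fst, ← h₂, Category.assoc, ← Functor.map_comp, hl₁]
      · rw [sq.lift_snd, ← h₂, Category.assoc, ← Functor.map_comp, hl₂]
  have : QuasiCompact l.left := hf.2 ξ _ l sqD
  exact QuasiCompact.compactSpace_of_compactSpace l.left

end Groth.Agent.SpQS
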