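import Groth.Agent.SpQS.DegStrat

/-!
# Global functions of discrete schemes over a field and the fibre degree
-/

universe u

open CategoryTheory CategoryTheory.Limits AlgebraicGeometry IsLocalRing Opposite TopologicalSpace

set_option backward.isDefEq.respectTransparency false

namespace Groth.Agent.SpQS

/-- the dimension of the functions on a scheme over a field -/
noncomputable def gRank {K : Type u} [Field K] {P : Scheme.{u}} (q : P ⟶ Spec (CommRingCat.of K)) :
    Cardinal.{u} :=
  letI := ((Scheme.ΓSpecIso (CommRingCat.of K)).inv ≫ q.appTop).hom.toAlgebra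
  Module.rank K (Γ(P, ⊤) : Type u)

variable {K : Type u} [Field K] {P : Scheme.{u}} (q : P ⟶ Spec (CommRingCat.of K))

theorem gRank_eq_finrank [IsFinite q] : gRank q = (q.finrank (closedPoint K) : Cardinal.{u}) := by
  haveI : IsAffine P := isAffine_of_isAffineHom q
  let φ : CommRingCat.of K ⟶ Γ(P, ⊤) := (Scheme.ΓSpecIso (CommRingCat.of K)).inv ≫ q.appTop
  have hq : q = P.isoSpec.hom ≫ Spec.map φ := by
    simp only [φ, Spec.map_comp, Scheme.isoSpec_hom]
    rw [← Scheme.toSpecΓ_naturality_assoc, toSpecΓ_SpecMap_ΓSpecIso_inv, Category.comp_id]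
  haveI : IsFinite (Spec.map φ) := by
    rw [← MorphismProperty.cancel_left_of_respectsIso @IsFinite P.isoSpec.hom, ← hq]
    infer_instance
  letI := φ.hom.toAlgebra
  have h1 : φ.hom.Finite := (IsFinite.SpecMap_iff _).1 ‹_›
  haveI : Module.Finite K Γ(P, ⊤) := h1
  have h2 : q.finrank (closedPoint K) = Module.finrank K Γ(P, ⊤) := by
    conv_lhs => rw [hq]
    rw [Scheme.Hom.finrank_comp_left_of_isIso,
      show φ = CommRingCat.ofHom (algebraMap K Γ(P, ⊤)) from rfl]
    exact (Scheme.Hom.finrank_SpecMap_algebraMap K Γ(P, ⊤) _).trans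
      (congrFun (Module.rankAtStalk_eq_finrank_of_free (R := K) (M := Γ(P, ⊤))) _)
  rw [h2]
  exact (Module.finrank_eq_rank K Γ(P, ⊤)).symm

theorem isClosed_of_discrete [DiscreteTopology P] (s : Set P) : IsClosed s := isClosed_discrete s

theorem discreteTopology_of_lqf [LocallyQuasiFinite q] : DiscreteTopology P := by
  haveI : IsLocallyArtinian P := .of_locallyQuasiFinite q
  infer_instance

/-- a section on an open of a discrete scheme extends by zero -/
theorem exists_extend [DiscreteTopology P] (V : P.Opens) (t : Γ(P, V)) :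
    ∃ s : Γ(P, ⊤), P.presheaf.map (homOfLE (le_top : V ≤ ⊤)).op s = t ∧
      ∀ W : P.Opens, Disjoint (W : Set P) (V : Set P) →
        P.presheaf.map (homOfLE (le_top : W ≤ ⊤)).op s = 0 := by
  let W₀ : P.Opens := ⟨(V : Set P)ᶜ, isOpen_discrete _⟩
  let U : Bool → P.Opens := fun b => if b then V else W₀
  have hcov : (⊤ : P.Opens) ≤ iSup U := fun x _ => by
    by_cases h : x ∈ V
    · exact Opens.mem_iSup.2 ⟨true, h⟩
    · exact Opens.mem_iSup.2 ⟨false, h⟩
  let sf : ∀ b, Γ(P, U b) := fun b => match b with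
    | true => t
    | false => 0
  have hbot : ∀ O : P.Opens, O = ⊥ → ∀ a b : Γ(P, O), a = b := by
    rintro O rfl a b
    exact Subsingleton.elim a b
  have hd : U true ⊓ U false = ⊥ := by
    ext x
    exact ⟨fun h => h.2 h.1, fun h => h.elim⟩
  have hcomp : TopCat.Presheaf.IsCompatible P.presheaf U sf := by
    intro a b
    cases a <;> cases b
    · rfl
    · exact hbot _ (by rw [inf_comm]; exact hd) _ _
    · exact hbot _ hd _ _
    · rfl
  obtain ⟨s, hs, -⟩ := TopCat.Sheaf.existsUnique_gluing' P.sheaf U ⊤ (fun b => homOfLE le_top) hcov sf hcomp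
  refine ⟨s, hs true, fun W hW => ?_⟩
  have hle : W ≤ W₀ := fun x hx hxV => hW.le_bot ⟨hx, hxV⟩
  have h := congrArg (P.presheaf.map (homOfLE hle).op) (hs false)
  rw [map_zero] at h
  rw [← h]
  change _ = (P.presheaf.map _ ≫ P.presheaf.map _) s
  rw [← Functor.map_comp]
  rfl

/-- an open part has smaller rank -/
theorem gRank_open_le [DiscreteTopology P] (V : P.Opens) : gRank (V.ι ≫ q) ≤ gRank q := by
  letI := ((Scheme.ΓSpecIso (CommRingCat.of K)).inv ≫ q.appTop).hom.toAlgebra
  letI := ((Scheme.ΓSpecIso (CommRingCat.of K)).inv ≫ (V.ι ≫ q).appTop).hom.toAlgebra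
  let l : Γ(P, ⊤) →ₐ[K] Γ(V.toScheme, ⊤) :=
    { V.ι.appTop.hom with commutes' := fun _ => rfl }
  refine LinearMap.rank_le_of_surjective l.toLinearMap fun t => ?_
  have htop : V.ι ''ᵁ ⊤ = V := V.ι_image_top
  obtain ⟨s, hs, -⟩ := exists_extend (P := P) (V.ι ''ᵁ ⊤) t
  exact ⟨s, hs⟩

/-- points give independent functions -/
theorem card_le_gRank [DiscreteTopology P] (T : Finset P) : (T.card : Cardinal.{u}) ≤ gRank q := by
  classical
  letI := ((Scheme.ΓSpecIso (CommRingCat.of K)).inv ≫ q.appTop).hom.toAlgebra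
  let O : P → P.Opens := fun x => ⟨{x}, isOpen_discrete _⟩
  choose e he₁ he₂ using fun x : P => exists_extend (O x) (1 : Γ(P, O x))
  have hli : LinearIndependent K fun x : T => e x := by
    rw [Fintype.linearIndependent_iff]
    intro c hc x
    by_contra hne
    let r := P.presheaf.map (homOfLE (le_top : O x ≤ ⊤)).op
    have h1 : ∀ y : T, r (c y • e y) = r (algebraMap K Γ(P, ⊤) (c y)) * r (e y) := fun y => by
      rw [Algebra.smul_def, map_mul]
    have h2 := congrArg r hc
    rw [map_sum, map_zero, Finset.sum_eq_single x] at h2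
    · rw [h1, show r (e x) = 1 from he₁ x, mul_one] at h2
      haveI : Nonempty (O x : P.Opens) := ⟨⟨x, rfl⟩⟩
      haveI : Nontrivial Γ(P, O x) := inferInstance
      exact hne ((map_eq_zero (r.hom.comp (algebraMap K Γ(P, ⊤)))).mp h2)
    · intro y _ hy
      rw [h1, show r (e y) = 0 from he₂ y (O x) (Set.disjoint_singleton.2 fun h => hy (Subtype.ext h.symm)),
        mul_zero]
    · simp
  simpa [gRank] using hli.cardinal_le_rank

theorem finite_of_gRank_le [DiscreteTopology P] {n : ℕ} (h : gRank q ≤ (n : Cardinal.{u})) : Finite P := by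
  by_contra hf
  rw [not_finite_iff_infinite] at hf
  obtain ⟨T, hT⟩ := Infinite.exists_subset_card_eq P (n + 1)
  have := (card_le_gRank q T).trans h
  rw [hT, Nat.cast_le] at this
  omega

theorem isFinite_of_finite [LocallyQuasiFinite q] [Finite P] : IsFinite q := by
  haveI : CompactSpace P := ⟨(Set.finite_univ).isCompact⟩
  exact IsFinite.of_locallyQuasiFinite q

/-- large rank is seen on a quasi-compact open -/
theorem exists_qc_open_of_le [LocallyQuasiFinite q] {d : ℕ} (h : (d : Cardinal.{u}) ≤ gRank q) :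
    ∃ V : P.Opens, IsCompact (V : Set P) ∧ (d : Cardinal.{u}) ≤ gRank (V.ι ≫ q) := by
  haveI := discreteTopology_of_lqf q
  by_cases hf : Finite P
  · refine ⟨⊤, Set.finite_univ.isCompact.of_isClosed_subset (isClosed_discrete _) (Set.subset_univ _), ?_⟩
    haveI := isFinite_of_finite q
    haveI : IsIso (⊤ : P.Opens).ι := inferInstanceAs (IsIso (Scheme.topIso P).hom)
    haveI : IsFinite ((⊤ : P.Opens).ι ≫ q) := inferInstance
    rw [gRank_eq_finrank ((⊤ : P.Opens).ι ≫ q), Scheme.Hom.finrank_comp_left_of_isIso, ← gRank_eq_finrank]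
    exact h
  · rw [not_finite_iff_infinite] at hf
    obtain ⟨T, hT⟩ := Infinite.exists_subset_card_eq P d
    let V : P.Opens := ⟨(T : Set P), isOpen_discrete _⟩
    refine ⟨V, T.finite_toSet.isCompact, ?_⟩
    haveI : DiscreteTopology V.toScheme := V.ι.isEmbedding.discreteTopology
    haveI : Finite V.toScheme := T.finite_toSet.to_subtype
    let emb : {x // x ∈ T} ↪ V.toScheme :=
      ⟨fun x => ⟨x.1, x.2⟩, fun a b hab => Subtype.ext (congrArg (fun z : V.toScheme => z.1) hab)⟩
    let T' : Finset V.toScheme := T.attach.map emb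
    have hT' : T'.card = d := by
      rw [Finset.card_map, Finset.card_attach, hT]
    rw [← hT']
    exact card_le_gRank _ T'

end Groth.Agent.SpQS
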