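import Groth.Agent.SpQS.ConfStrat
import Groth.Agent.AlgSpLib.SepAffine
import Groth.Agent.ElemSq.Step

/-!
# Configurations over a separated space are affine

Variants of `exists_conf`, `exists_confQuot` and `exists_stratum_cover` recording affineness.
-/

universe u

open CategoryTheory CategoryTheory.Limits AlgebraicGeometry IsLocalRing

set_option backward.isDefEq.respectTransparency false
set_option linter.style.haveILetI false

namespace Groth.Agent.SpQS

open _root_.AlgSp Groth.Agent.AlgSpLib

variable {S : Scheme.{u}}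

theorem exists_conf_affine [S.IsSeparated] {X : Sp S} (hA : IsAlgSpace X) (hX : IsSeparatedSp X) {W : Over S}
    [IsAffine W.left] {π : (yon S).obj W ⟶ X} (hπ : RepWith @Etale π) :
    ∀ p, ∃ c : Conf π p, IsAffine c.C.left
  | 0 => ⟨{ C := W
            pr := fun _ => 𝟙 W
            comm := fun _ => rfl
            ne := fun i j h => absurd (Fin.ext (by omega)) h
            desc := fun a _ _ => ⟨a 0, fun i => by rw [Category.comp_id, show i = 0 from Fin.ext (by omega)]⟩
            ext := fun l l' h => by simpa using h 0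
            etale := inferInstanceAs (Etale (𝟙 W.left))
            sep := inferInstanceAs (IsSeparated (𝟙 W.left))
            compact := fun _ => inferInstance }, ‹IsAffine W.left›⟩
  | p + 1 => by
    obtain ⟨c, hcA⟩ := exists_conf_affine hA hX hπ p
    obtain ⟨R, t, s, sqR⟩ := exists_pullback hA.diag π π
    have : IsSeparated s.left := isSeparated_snd_of_chart sqR
    have : Etale s.left := (repWith_yon_iff s).1 (repWith_baseChange sqR hπ)
    have := c.etale
    have := c.sep
    let Q : Over S := Over.mk (pullback.snd s.left (c.pr 0).left ≫ c.C.hom)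
    let v : Q ⟶ c.C := Over.homMk (pullback.snd s.left (c.pr 0).left) rfl
    let u : Q ⟶ R := Over.homMk (pullback.fst s.left (c.pr 0).left) (by
      show pullback.fst s.left (c.pr 0).left ≫ R.hom = pullback.snd s.left (c.pr 0).left ≫ c.C.hom
      rw [← Over.w s, pullback.condition_assoc, Over.w (c.pr 0)])
    have : Etale v.left := inferInstanceAs (Etale (pullback.snd s.left (c.pr 0).left))
    have : IsSeparated v.left := inferInstanceAs (IsSeparated (pullback.snd s.left (c.pr 0).left))
    have sqQ₀ : IsPullback u.left v.left s.left (c.pr 0).left := IsPullback.of_hasPullback _ _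
    have sqQ : IsPullback ((yon S).map (u ≫ t)) ((yon S).map v) π ((yon S).map (c.pr 0) ≫ π) := by
      rw [Functor.map_comp]
      exact (isPullback_yon_iff.2 sqQ₀).paste_horiz sqR
    have hlift : ∀ i, ∃ d : c.C ⟶ Q, d ≫ u ≫ t = c.pr i ∧ d ≫ v = 𝟙 _ := fun i => by
      have hw : (yon S).map (c.pr i) ≫ π = (yon S).map (𝟙 c.C) ≫ (yon S).map (c.pr 0) ≫ π := by
        rw [c.comm i, CategoryTheory.Functor.map_id, Category.id_comp]
      obtain ⟨d, hd⟩ := exists_map_eq (sqQ.lift _ _ hw)
      exact ⟨d, (yon S).map_injective (by rw [Functor.map_comp, hd, sqQ.lift_fst]),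
        (yon S).map_injective (by rw [Functor.map_comp, hd, sqQ.lift_snd])⟩
    choose d hd₁ hd₂ using hlift
    have hsec : ∀ i, (d i).left ≫ v.left = 𝟙 _ := fun i => congrArg (fun k => k.left) (hd₂ i)
    have hdo : ∀ i, IsOpenImmersion (d i).left := fun i =>
      EtaleSections.isOpenImmersion_section v.left _ (hsec i)
    have hdc : ∀ i, IsClosedImmersion (d i).left := fun i => by
      have : IsClosedImmersion ((d i).left ≫ v.left) := by rw [hsec i]; infer_instance
      exact IsClosedImmersion.of_comp (d i).left v.left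
    let O : Q.left.Opens := ⟨(⋃ i, Set.range (d i).left)ᶜ,
      (isClosed_iUnion_of_finite fun i => (d i).left.isClosedEmbedding.isClosed_range).isOpen_compl⟩
    have hO : IsClosed (O : Set Q.left) :=
      (isOpen_iUnion fun i => (d i).left.isOpenEmbedding.isOpen_range).isClosed_compl
    let C' : Over S := Over.mk (O.ι ≫ Q.hom)
    let j : C' ⟶ Q := Over.homMk O.ι rfl
    let pr' : Fin (p + 2) → (C' ⟶ W) := Fin.snoc (fun i => j ≫ v ≫ c.pr i) (j ≫ u ≫ t)
    have pr'c : ∀ i, pr' (Fin.castSucc i) = j ≫ v ≫ c.pr i := fun i => Fin.snoc_castSucc _ _ i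
    have pr'l : pr' (Fin.last (p + 1)) = j ≫ u ≫ t := Fin.snoc_last _ _
    have pr'0 : pr' 0 = j ≫ v ≫ c.pr 0 := pr'c 0
    have hne : ∀ i, NeverEq (j ≫ u ≫ t).left (j ≫ v ≫ c.pr i).left := fun i K _ k e => by
      let K' : Over S := Over.mk (k ≫ C'.hom)
      let k' : K' ⟶ C' := Over.homMk k rfl
      have e' : k' ≫ j ≫ u ≫ t = k' ≫ j ≫ v ≫ c.pr i := Over.OverMorphism.ext e
      have h : k' ≫ j = k' ≫ j ≫ v ≫ d i := (yon S).map_injective (sqQ.hom_ext
        (by rw [← Functor.map_comp, ← Functor.map_comp, Category.assoc, e', Category.assoc, Category.assoc,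
          Category.assoc, hd₁])
        (by rw [← Functor.map_comp, ← Functor.map_comp, Category.assoc, Category.assoc, Category.assoc,
          Category.assoc, hd₂, Category.comp_id]))
      have h' := congrArg (fun m : K' ⟶ Q => m.left (IsLocalRing.closedPoint K)) h
      exact (k (IsLocalRing.closedPoint K)).2 (Set.mem_iUnion.2 ⟨i, _, h'.symm⟩)
    have hRA : IsAffine R.left := (affine_pullback_of_isSeparatedSp hX sqR).1
    have : IsAffine Q.left := inferInstanceAs (IsAffine (pullback s.left (c.pr 0).left))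
    have : IsClosedImmersion O.ι := IsClosedImmersion.of_isPreimmersion _ (by rwa [Scheme.Opens.range_ι])
    have hC' : IsAffine C'.left := isAffine_of_isAffineHom O.ι
    refine ⟨⟨C', pr', ?_, ?_, ?_, ?_, ?_, ?_, ?_⟩, hC'⟩
    · intro i
      refine Fin.lastCases ?_ (fun i => ?_) i
      · rw [pr'l, pr'0, Functor.map_comp, Category.assoc, sqQ.w, Functor.map_comp, Functor.map_comp,
          Category.assoc, Category.assoc]
      · rw [pr'c, pr'0]
        simp only [Functor.map_comp, Category.assoc, c.comm i]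
    · intro i i' h
      induction i using Fin.lastCases with
      | last =>
        induction i' using Fin.lastCases with
        | last => exact absurd rfl h
        | cast i' => rw [pr'l, pr'c]; exact hne i'
      | cast i =>
        induction i' using Fin.lastCases with
        | last => rw [pr'l, pr'c]; exact (hne i).symm
        | cast i' =>
          rw [pr'c, pr'c]
          exact (c.ne i i' fun e => h (congrArg Fin.castSucc e)).comp (j.left ≫ v.left)
    · intro T a ha hane
      obtain ⟨l, hl⟩ := c.desc (fun i => a i.castSucc) (fun i => (ha i.castSucc).trans rfl)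
        (fun i i' h => hane _ _ fun e => h (Fin.castSucc_injective _ e))
      have hw : (yon S).map (a (Fin.last (p + 1))) ≫ π = (yon S).map l ≫ (yon S).map (c.pr 0) ≫ π := by
        rw [← Category.assoc, ← Functor.map_comp, hl, ha]
        rfl
      obtain ⟨m, hm⟩ := exists_map_eq (sqQ.lift _ _ hw)
      have hm₁ : m ≫ u ≫ t = a (Fin.last (p + 1)) :=
        (yon S).map_injective (by rw [Functor.map_comp, hm, sqQ.lift_fst])
      have hm₂ : m ≫ v = l := (yon S).map_injective (by rw [Functor.map_comp, hm, sqQ.lift_snd])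
      have hmem : Set.range m.left ⊆ Set.range O.ι := by
        rw [Scheme.Opens.range_ι]
        rintro _ ⟨x, rfl⟩
        simp only [O, TopologicalSpace.Opens.coe_mk, Set.mem_compl_iff, Set.mem_iUnion, not_exists]
        rintro i ⟨z, hz⟩
        let Z : T.left.Opens := m.left ⁻¹ᵁ (d i).left.opensRange
        have hZ : Set.range (Z.ι ≫ m.left) ⊆ Set.range (d i).left := by
          rintro _ ⟨w, rfl⟩
          exact w.2
        let l' := IsOpenImmersion.lift (d i).left (Z.ι ≫ m.left) hZ
        have hl' : l' ≫ (d i).left = Z.ι ≫ m.left := IsOpenImmersion.lift_fac _ _ _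
        have hm₂' : m.left ≫ v.left = l.left := congrArg (fun k => k.left) hm₂
        have hl'' : l' = Z.ι ≫ l.left := by
          have := congrArg (· ≫ v.left) hl'
          simpa [hsec i, hm₂'] using this
        have e₁ : (d i).left ≫ (u ≫ t).left = (c.pr i).left := congrArg (fun k => k.left) (hd₁ i)
        have e₂ : m.left ≫ (u ≫ t).left = (a (Fin.last (p + 1))).left := congrArg (fun k => k.left) hm₁
        have e₃ : l.left ≫ (c.pr i).left = (a i.castSucc).left := congrArg (fun k => k.left) (hl i)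
        have e : Z.ι ≫ (a (Fin.last (p + 1))).left = Z.ι ≫ (a i.castSucc).left := by
          rw [← e₂, ← Category.assoc, ← hl', Category.assoc, e₁, hl'', Category.assoc, e₃]
        exact hane _ _ (Fin.castSucc_lt_last i).ne' _ (T.left.fromSpecResidueField x) (by
          have hr : Set.range (T.left.fromSpecResidueField x) ⊆ Set.range Z.ι := by
            rw [Scheme.range_fromSpecResidueField, Scheme.Opens.range_ι, Set.singleton_subset_iff]
            exact ⟨z, hz⟩
          rw [← IsOpenImmersion.lift_fac Z.ι _ hr, Category.assoc, Category.assoc, e])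
      let m' : T ⟶ C' := Over.homMk (IsOpenImmersion.lift O.ι m.left hmem) (by
        show IsOpenImmersion.lift O.ι m.left hmem ≫ O.ι ≫ Q.hom = T.hom
        rw [IsOpenImmersion.lift_fac_assoc, Over.w m])
      have hm' : m' ≫ j = m := Over.OverMorphism.ext (IsOpenImmersion.lift_fac _ _ _)
      refine ⟨m', fun i => ?_⟩
      induction i using Fin.lastCases with
      | last => rw [pr'l, reassoc_of% hm', hm₁]
      | cast i => rw [pr'c, reassoc_of% hm', reassoc_of% hm₂, hl]
    · intro T l l' h
      have e₁ : l ≫ j ≫ v = l' ≫ j ≫ v := c.ext _ _ fun i => by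
        simpa [pr'c] using h i.castSucc
      have e₂ : l ≫ j ≫ u ≫ t = l' ≫ j ≫ u ≫ t := by simpa [pr'l] using h (Fin.last (p + 1))
      have : l ≫ j = l' ≫ j := (yon S).map_injective (sqQ.hom_ext
        (by rw [← Functor.map_comp, ← Functor.map_comp, Category.assoc, e₂, Category.assoc])
        (by rw [← Functor.map_comp, ← Functor.map_comp, Category.assoc, e₁, Category.assoc]))
      exact Over.OverMorphism.ext ((cancel_mono O.ι).1 (congrArg (fun k => k.left) this))
    · rw [pr'0]
      exact inferInstanceAs (Etale (O.ι ≫ v.left ≫ (c.pr 0).left))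
    · rw [pr'0]
      exact inferInstanceAs (IsSeparated (O.ι ≫ v.left ≫ (c.pr 0).left))
    · intro hq
      have := c.compact hq
      have : QuasiCompact s.left := (repWith_yon_iff s).1 (repWith_baseChange sqR hq)
      have : QuasiCompact v.left := inferInstanceAs (QuasiCompact (pullback.snd s.left (c.pr 0).left))
      have : CompactSpace ↥Q.left := QuasiCompact.compactSpace_of_compactSpace v.left
      exact isCompact_iff_compactSpace.1 hO.isCompact

theorem exists_confQuot_affine {X : Sp S} (hA : IsAlgSpace X) {W : Over S} [IsAffine W.left]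
    {π : (yon S).obj W ⟶ X} {p : ℕ} (c : Conf π p) (hcA : IsAffine c.C.left) :
    ∃ (V : Over S) (q : c.C ⟶ V) (f : (yon S).obj V ⟶ X), Etale q.left ∧ Surjective q.left ∧ IsAffine V.left ∧
      V.left.IsSeparated ∧ (CompactSpace ↥c.C.left → CompactSpace ↥V.left) ∧
      (yon S).map q ≫ f = (yon S).map (c.pr 0) ≫ π ∧
      ∀ {T : Over S} (l l' : T ⟶ c.C) (σ : Equiv.Perm (Fin (p + 1))),
        (∀ i, l' ≫ c.pr i = l ≫ c.pr (σ i)) → l ≫ q = l' ≫ q := by
  have := c.etale
  have := c.sep
  choose a ha using fun σ : Equiv.Perm (Fin (p + 1)) => c.desc (fun i => c.pr (σ i))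
    (fun i => (c.comm (σ i)).trans (c.comm (σ 0)).symm) (fun i j h => c.ne _ _ (fun e => h (σ.injective e)))
  have ha₁ : a 1 = 𝟙 _ := c.ext _ _ fun i => by rw [ha, Category.id_comp]; rfl
  have hmul : ∀ σ τ, a σ ≫ a τ = a (σ * τ) := fun σ τ => c.ext _ _ fun i => by
    rw [Category.assoc, ha, ha, ha]; rfl
  let G := ULift.{u} (Equiv.Perm (Fin (p + 1)))
  let ρ : G →* Aut c.C.left :=
    { toFun := fun g => ⟨(a g.down⁻¹).left, (a g.down).left,
        (congrArg (fun k => k.left) ((hmul g.down⁻¹ g.down).trans (by rw [inv_mul_cancel, ha₁]))),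
        (congrArg (fun k => k.left) ((hmul g.down g.down⁻¹).trans (by rw [mul_inv_cancel, ha₁])))⟩
      map_one' := Iso.ext (by
        show (a (1 : G).down⁻¹).left = 𝟙 _
        rw [show (1 : G).down⁻¹ = 1 from inv_one, ha₁]; rfl)
      map_mul' := fun g h => Iso.ext (by
        show (a (g * h).down⁻¹).left = (a h.down⁻¹).left ≫ (a g.down⁻¹).left
        rw [show (g * h).down⁻¹ = h.down⁻¹ * g.down⁻¹ from mul_inv_rev _ _, ← hmul]; rfl) }
  have hfree : QuotScheme.IsFree ρ := by
    intro K _ _ ξ g h
    by_contra hg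
    obtain ⟨i, hi⟩ : ∃ i, g.down⁻¹ i ≠ i := by
      by_contra hall
      push Not at hall
      exact hg (ULift.ext _ _ (inv_eq_one.1 (Equiv.ext hall)))
    apply c.ne _ _ hi K ξ
    have e : (a g.down⁻¹).left ≫ (c.pr i).left = (c.pr (g.down⁻¹ i)).left :=
      congrArg (fun k => k.left) (ha g.down⁻¹ i)
    have h' : ξ ≫ (a g.down⁻¹).left = ξ := h
    rw [← e, reassoc_of% h']
  obtain ⟨Y, m, hm⟩ := QuotScheme.exists_isQuot ρ fun x => by
    obtain ⟨U, hU, hUx⟩ := exists_affine_of_finite (c.pr 0).left (Set.finite_range fun g : G => (ρ g).hom x)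
    exact ⟨U, hU, fun g => hUx ⟨g, rfl⟩⟩
  have := QuotScheme.etaleHom_of_free hm hfree
  have hms : Surjective m := ⟨QuotScheme.surjective hm⟩
  obtain ⟨g₀, hg₀, -⟩ := QuotScheme.existsUnique_desc hm c.C.hom (fun g => Over.w (a g.down⁻¹))
  let V : Over S := Over.mk g₀
  let q : c.C ⟶ V := Over.homMk m hg₀
  have : Etale q.left := inferInstanceAs (Etale m)
  have : Surjective q.left := hms
  have hα : ∀ σ, (yon S).map (a σ) ≫ (yon S).map (c.pr 0) ≫ π = (yon S).map (c.pr 0) ≫ π := fun σ => by
    rw [← Category.assoc, ← Functor.map_comp, ha, c.comm]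
  have hiso := QuotScheme.isIso_graphs hm hfree
  obtain ⟨f, hf⟩ := exists_desc q ((yon S).map (c.pr 0) ≫ π) (fun T l l' e => by
    have e' : l.left ≫ m = l'.left ≫ m := congrArg (fun k => k.left) e
    let gr : G → (c.C.left ⟶ pullback m m) := fun g =>
      pullback.lift (𝟙 _) (ρ g).hom ((Category.id_comp m).trans (hm.inv g).symm)
    let P : Over S := Over.mk (pullback.fst m m ≫ c.C.hom)
    let k : T ⟶ P := Over.homMk (pullback.lift l.left l'.left e') (by
      show pullback.lift l.left l'.left e' ≫ pullback.fst m m ≫ c.C.hom = T.hom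
      rw [pullback.lift_fst_assoc, Over.w l])
    let p₁ : P ⟶ c.C := Over.homMk (pullback.fst m m) rfl
    let p₂ : P ⟶ c.C := Over.homMk (pullback.snd m m) (by
      show pullback.snd m m ≫ c.C.hom = pullback.fst m m ≫ c.C.hom
      rw [← hg₀, ← Category.assoc, ← pullback.condition, Category.assoc])
    have key : (yon S).map p₁ ≫ (yon S).map (c.pr 0) ≫ π = (yon S).map p₂ ≫ (yon S).map (c.pr 0) ≫ π := by
      have hgr : ∀ g, IsOpenImmersion (gr g) := fun g =>
        EtaleSections.isOpenImmersion_section (pullback.fst m m) _ (pullback.lift_fst _ _ _)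
      refine hom_ext_cover (R := Presieve.ofArrows (fun _ : G => c.C.left) gr) ?_ ?_
      · refine Scheme.zariskiPrecoverage_le_fppfPrecoverage _ ?_
        refine (Scheme.ofArrows_mem_precoverage_iff (P := @IsOpenImmersion)).mpr ⟨fun x => ?_, hgr⟩
        obtain ⟨z, hz⟩ := (Sigma.desc gr).surjective x
        obtain ⟨g, y, hy⟩ := (sigmaOpenCover fun _ : G => c.C.left).exists_eq z
        refine ⟨g, y, ?_⟩
        have : Sigma.ι (fun _ : G => c.C.left) g ≫ Sigma.desc gr = gr g := Sigma.ι_desc _ _
        rw [← this, Scheme.Hom.comp_apply]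
        exact (congrArg (Sigma.desc gr) hy).trans hz
      · rintro _ _ ⟨g⟩
        let j : Over.mk (gr g ≫ P.hom) ⟶ P := Over.homMk (gr g) rfl
        have j₁ : (j ≫ p₁).left = 𝟙 _ := pullback.lift_fst _ _ _
        have j₂ : j ≫ p₂ = (j ≫ p₁) ≫ a g.down⁻¹ := Over.OverMorphism.ext (by
          show gr g ≫ pullback.snd m m = (gr g ≫ pullback.fst m m) ≫ (ρ g).hom
          rw [pullback.lift_snd, pullback.lift_fst, Category.id_comp])
        show (yon S).map j ≫ _ = (yon S).map j ≫ _
        have e₁ : (yon S).map j ≫ (yon S).map p₂ = (yon S).map (j ≫ p₁) ≫ (yon S).map (a g.down⁻¹) := by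
          rw [← Functor.map_comp, j₂, Functor.map_comp]
        rw [reassoc_of% e₁, hα, Functor.map_comp, Category.assoc]
    have k₁ : k ≫ p₁ = l := Over.OverMorphism.ext (pullback.lift_fst _ _ _)
    have k₂ : k ≫ p₂ = l' := Over.OverMorphism.ext (pullback.lift_snd _ _ _)
    rw [← k₁, ← k₂, Functor.map_comp, Functor.map_comp, Category.assoc, Category.assoc, key])
  refine ⟨V, q, f, inferInstance, hms, QuotScheme.isAffine_of_isQuot hm, ?_, fun hc => ?_, hf, fun {T} l l' σ h => ?_⟩
  · have hC : IsSeparated (terminal.from c.C.left) := by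
      rw [terminal.hom_ext (terminal.from c.C.left) ((c.pr 0).left ≫ terminal.from W.left)]
      infer_instance
    exact ⟨(QuotScheme.isSeparated_iff_of_isQuot hm (f := terminal.from c.C.left) (q := terminal.from Y)
      (terminal.hom_ext _ _)).1 hC⟩
  · exact ⟨hms.surj.range_eq ▸ isCompact_range m.continuous⟩
  · have : l' = l ≫ a σ := c.ext _ _ fun i => by rw [h, Category.assoc, ha]
    refine Over.OverMorphism.ext ?_
    show l.left ≫ m = l'.left ≫ m
    have hinv : (a σ).left ≫ m = m := by
      have := hm.inv (ULift.up σ⁻¹)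
      have e : (ρ (ULift.up σ⁻¹)).hom = (a σ).left := by
        show (a σ⁻¹⁻¹).left = _
        rw [inv_inv]
      rwa [e] at this
    rw [this, show (l ≫ a σ).left = l.left ≫ (a σ).left from rfl, Category.assoc, hinv]

theorem exists_stratum_cover_affine {X : Sp S} (hA : IsAlgSpace X) {W : Over S} [IsAffine W.left]
    {π : (yon S).obj W ⟶ X} (hπ : RepWith @Etale π) {p : ℕ} (c : Conf π p) (c' : Conf π (p + 1))
    (hcA : IsAffine c.C.left) :
    ∃ (V : Over S) (f' : (yon S).obj V ⟶ subSheaf c.pts), IsAffine V.left ∧ V.left.IsSeparated ∧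
      (CompactSpace ↥c.C.left → CompactSpace ↥V.left) ∧ RepWith @Etale f' ∧ RepWith @Surjective f' ∧
      ∀ (Z P : Sp S) (i : Z ⟶ subSheaf c.pts), (∀ z, Points.map i z ∉ Points.map (subInc c.pts) ⁻¹' c'.pts) →
        ∀ (fst : P ⟶ Z) (snd : P ⟶ (yon S).obj V), IsPullback fst snd i f' → IsIso fst := by
  have hopen := c.isOpen_pts hπ
  have hA' := isAlgSpace_subSheaf hA hopen
  obtain ⟨V, q, f, hqe, hqs, hVA, hsep, hcomp, hqf, hperm⟩ := exists_confQuot_affine hA c hcA
  obtain ⟨f', hf'⟩ := exists_subInc_lift (W := c.pts) f (fun v => by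
    obtain ⟨z, rfl⟩ := q.left.surjective v
    rw [← ofPt_comp, hqf]
    exact ⟨z, rfl⟩)
  have hc₀ : RepWith @Etale ((yon S).map (c.pr 0) ≫ π) := repWith_comp ((repWith_yon_iff _).2 c.etale) hπ
  have hqf' : RepWith @Etale ((yon S).map q ≫ f') := by
    refine repWith_etale_of_comp hA' hA (g := subInc c.pts) (by rwa [Category.assoc, hf', hqf]) ?_
    exact isEtaleMor_of_repWith' (repWith_mono (P := @IsOpenImmersion) (Q := @Etale)
      (fun _ _ g hg => have : IsOpenImmersion g := hg; inferInstance) (repWith_subInc hopen))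
  have hrep : Representable f' := Functor.relativelyRepresentable.of_diag hA'.diag f'
  have hfe : RepWith @Etale f' := by
    refine ⟨hrep, fun T P ξ a b sq => ?_⟩
    obtain ⟨a, rfl⟩ := exists_map_eq a
    let Q : Over S := Over.mk (pullback.snd q.left a.left ≫ P.hom)
    let u : Q ⟶ c.C := Over.homMk (pullback.fst q.left a.left) (by
      show pullback.fst q.left a.left ≫ c.C.hom = pullback.snd q.left a.left ≫ P.hom
      rw [← Over.w q, pullback.condition_assoc, Over.w a])
    let v : Q ⟶ P := Over.homMk (pullback.snd q.left a.left) rfl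
    have sq₁ : IsPullback u.left v.left q.left a.left := IsPullback.of_hasPullback _ _
    have : Etale (v.left ≫ b.left) := by
      have := (repWith_yon_iff (v ≫ b)).1 (repWith_baseChange
        (show IsPullback ((yon S).map u) ((yon S).map (v ≫ b)) ((yon S).map q ≫ f') ξ from by
          rw [Functor.map_comp]
          exact (isPullback_yon_iff.2 sq₁).paste_vert sq) hqf')
      exact this
    have : Etale v.left := inferInstanceAs (Etale (pullback.snd q.left a.left))
    have : Surjective v.left := inferInstanceAs (Surjective (pullback.snd q.left a.left))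
    exact SrcDesc.etale v.left b.left
  have hfs : RepWith @Surjective f' := repWith_surjective_of_isSurjectiveMor hrep fun x => by
    obtain ⟨z, hz⟩ := map_subInc_mem x
    refine ⟨Points.ofScheme V (q.left z), ?_⟩
    rw [← Points.ofPt_eq_map_ofScheme]
    have : Function.Injective (Points.map (subInc c.pts)) := by
      intro x₁ x₂ e
      obtain ⟨T₁, g₁, t₁, rfl⟩ := exists_ofPt x₁
      obtain ⟨T₂, g₂, t₂, rfl⟩ := exists_ofPt x₂
      rw [Points.map_ofPt, Points.map_ofPt] at e
      obtain ⟨K, α, β, k, ee, rfl, rfl⟩ := exists_of_ofPt_eq e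
      rw [← Category.assoc, ← Category.assoc, cancel_mono] at ee
      rw [← ofPt_comp, ← ofPt_comp, ee]
    apply this
    rw [Points.map_ofPt, hf', ← ofPt_comp, hqf, hz]
  refine ⟨V, f', hVA, hsep, hcomp, hfe, hfs, fun Z P i hi fst snd sq => ?_⟩
  refine Groth.Agent.AlgSpLib.isIso_of_points _ fun T => ?_
  suffices H : ∀ z : (yon S).obj T ⟶ Z, ∃! w : (yon S).obj T ⟶ P, w ≫ fst = z by
    exact ⟨fun w₁ w₂ e => (H (w₂ ≫ fst)).unique e rfl, fun z => (H z).exists⟩
  intro z
  obtain ⟨P', a, b, sq', hb⟩ := exists_repWith hfe (z ≫ i)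
  obtain ⟨a, rfl⟩ := exists_map_eq a
  have : Etale b.left := hb
  have hbs : Surjective b.left := (repWith_yon_iff b).1 (repWith_baseChange sq' hfs)
  have : Surjective (pullback.diagonal b.left) := ⟨fun y => by
    obtain ⟨Ω, _, _, g, hg⟩ := exists_geomPoint y
    have : LocallyQuasiFinite b.left := UnivInjMor.lqf_of_unramified _
    let g₁ := g ≫ pullback.fst b.left b.left
    let g₂ := g ≫ pullback.snd b.left b.left
    suffices e : g₁ = g₂ by
      refine ⟨g₁ (closedPoint Ω), ?_⟩
      have : g₁ ≫ pullback.diagonal b.left = g := by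
        apply pullback.hom_ext
        · rw [Category.assoc, pullback.diagonal_fst, Category.comp_id]
        · rw [Category.assoc, pullback.diagonal_snd, Category.comp_id, e]
      rw [← Scheme.Hom.comp_apply, this, hg]
    have hg12 : g₁ ≫ b.left = g₂ ≫ b.left := by simp only [g₁, g₂, Category.assoc, pullback.condition]
    let K : Over S := Over.mk (g₁ ≫ P'.hom)
    let k₁ : K ⟶ P' := Over.homMk g₁ rfl
    let k₂ : K ⟶ P' := Over.homMk g₂ (by
      show g₂ ≫ P'.hom = g₁ ≫ P'.hom
      rw [← Over.w b, reassoc_of% hg12])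
    have hk : k₁ ≫ b = k₂ ≫ b := Over.OverMorphism.ext hg12
    obtain ⟨x₁, hx₁⟩ := q.left.surjective ((k₁ ≫ a).left (closedPoint Ω))
    obtain ⟨x₂, hx₂⟩ := q.left.surjective ((k₂ ≫ a).left (closedPoint Ω))
    obtain ⟨l₁, hl₁⟩ := exists_lift_of_etale q.left (k₁ ≫ a).left hx₁
    obtain ⟨l₂, hl₂⟩ := exists_lift_of_etale q.left (k₂ ≫ a).left hx₂
    let L₁ : K ⟶ c.C := Over.homMk l₁ (by rw [← Over.w q, reassoc_of% hl₁, Over.w (k₁ ≫ a)])
    let L₂ : K ⟶ c.C := Over.homMk l₂ (by rw [← Over.w q, reassoc_of% hl₂, Over.w (k₂ ≫ a)])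
    have hL₁ : L₁ ≫ q = k₁ ≫ a := Over.OverMorphism.ext hl₁
    have hL₂ : L₂ ≫ q = k₂ ≫ a := Over.OverMorphism.ext hl₂
    have key : ∀ {L : K ⟶ c.C} {k : K ⟶ P'}, L ≫ q = k ≫ a →
        (yon S).map L ≫ (yon S).map (c.pr 0) ≫ π = (yon S).map (k ≫ b) ≫ z ≫ i ≫ subInc c.pts := by
      intro L k hL
      rw [← hqf, ← Category.assoc, ← Functor.map_comp, hL, ← hf', Functor.map_comp, Category.assoc,
        reassoc_of% sq'.w, Functor.map_comp, Category.assoc]
    obtain ⟨σ, hσ⟩ := c.exists_perm c' (Iso.refl _ : Spec (CommRingCat.of Ω) ≅ K.left) L₁ L₂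
      (by rw [key hL₁, key hL₂, hk]) (fun k hk' => by
        rw [key hL₁, ← Category.assoc ((yon S).map (k₁ ≫ b)), ← Category.assoc, ← Points.map_ofPt,
          ← Points.map_ofPt ((yon S).map (k₁ ≫ b) ≫ z)] at hk'
        exact hi _ hk')
    have e : k₁ ≫ a = k₂ ≫ a := by rw [← hL₁, ← hL₂, hperm L₁ L₂ σ hσ]
    exact congrArg (fun m : K ⟶ P' => m.left) ((yon S).map_injective (sq'.hom_ext
      (((yon S).map_comp _ _).symm.trans ((congrArg (yon S).map e).trans ((yon S).map_comp _ _)))
      (((yon S).map_comp _ _).symm.trans ((congrArg (yon S).map hk).trans ((yon S).map_comp _ _)))))⟩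
  have : IsIso (pullback.diagonal b.left) := isIso_of_isOpenImmersion_of_opensRange_eq_top _
    (TopologicalSpace.Opens.ext (Set.range_eq_univ.2 (pullback.diagonal b.left).surjective))
  have : Mono b.left := (pullback.isIso_diagonal_iff _).1 ‹_›
  have : IsOpenImmersion b.left := IsOpenImmersion.of_flat_of_mono b.left
  have : IsIso b.left := isIso_of_isOpenImmersion_of_opensRange_eq_top _
    (TopologicalSpace.Opens.ext (Set.range_eq_univ.2 b.left.surjective))
  have : IsIso ((Over.forget S).map b) := ‹IsIso b.left›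
  have : IsIso b := isIso_of_reflects_iso b (Over.forget S)
  have hw : z ≫ i = ((yon S).map (inv b) ≫ (yon S).map a) ≫ f' := by
    rw [Category.assoc, sq'.w, ← Functor.map_comp_assoc, IsIso.inv_hom_id, CategoryTheory.Functor.map_id,
      Category.id_comp]
  refine ⟨sq.lift z ((yon S).map (inv b) ≫ (yon S).map a) hw, sq.lift_fst _ _ _, fun w hw' => ?_⟩
  apply sq.hom_ext
  · rw [hw', sq.lift_fst]
  · rw [sq.lift_snd]
    have e : (w ≫ snd) ≫ f' = (𝟙 _) ≫ z ≫ i := by rw [Category.id_comp, Category.assoc, ← sq.w, reassoc_of% hw']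
    have hl := sq'.lift_fst (w ≫ snd) (𝟙 _) e
    have hl' := sq'.lift_snd (w ≫ snd) (𝟙 _) e
    have : sq'.lift (w ≫ snd) (𝟙 _) e = (yon S).map (inv b) := by
      rw [← cancel_mono ((yon S).map b), hl', ← Functor.map_comp, IsIso.inv_hom_id,
        CategoryTheory.Functor.map_id]
    rw [← hl, this]

/-- the chart of a stratum of a separated space -/
theorem exists_stratum_chart_affine {X : Sp S} (hA : IsAlgSpace X) {W : Over S} [IsAffine W.left]
    {π : (yon S).obj W ⟶ X} (hπ : RepWith @Etale π) {p : ℕ} (c : Conf π p) (c' : Conf π (p + 1))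
    (hcA : IsAffine c.C.left) :
    ∃ (V : Over S) (g : (yon S).obj V ⟶ X), IsAffine V.left ∧ RepWith @Etale g ∧
      Set.range (Points.ofPt g) = c.pts ∧ ElemSq.IsoOver g c'.pts := by
  obtain ⟨V, f', hV, -, -, hfe, hfs, hiso⟩ := exists_stratum_cover_affine hA hπ c c' hcA
  have ho := c.isOpen_pts hπ
  refine ⟨V, f' ≫ subInc c.pts, hV, repWith_comp hfe (ElemSq.repWith_etale_of_open (repWith_subInc ho)), ?_, ?_⟩
  · ext x
    constructor
    · rintro ⟨v, rfl⟩
      rw [← Points.map_ofPt]
      exact map_subInc_mem _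
    · intro hx
      obtain ⟨y, rfl⟩ := (range_subInc c.pts).symm.subset hx
      obtain ⟨v, rfl⟩ := ofPt_surjective hfs y
      exact ⟨v, (Points.map_ofPt _ _ _).symm⟩
  · intro R q _ _ hq
    obtain ⟨q₁, rfl⟩ := exists_factor_subInc (W := c.pts) q (fun r => by
      obtain ⟨v, hv⟩ := (hq r).1
      rw [← hv, ← Points.map_ofPt]
      exact map_subInc_mem _)
    have sq := IsPullback.of_hasPullback (q₁ ≫ subInc c.pts) (f' ≫ subInc c.pts)
    refine hiso R _ q₁ (fun z hz => (hq z).2 (by rw [Points.map_comp]; exact hz)) _ _ (?_ : IsPullback (pullback.fst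
      (q₁ ≫ subInc c.pts) (f' ≫ subInc c.pts)) (pullback.snd (q₁ ≫ subInc c.pts) (f' ≫ subInc c.pts)) q₁ f')
    exact ⟨⟨(cancel_mono (subInc c.pts)).1 (by rw [Category.assoc, Category.assoc]; exact sq.w)⟩,
      ⟨PullbackCone.IsLimit.mk _
        (fun t => sq.lift t.fst t.snd (by rw [← Category.assoc, t.condition, Category.assoc]))
        (fun t => sq.lift_fst _ _ _) (fun t => sq.lift_snd _ _ _)
        (fun t m e₁ e₂ => sq.hom_ext (e₁.trans (sq.lift_fst _ _ _).symm) (e₂.trans (sq.lift_snd _ _ _).symm))⟩⟩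

end Groth.Agent.SpQS
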