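import Groth.Agent.SpQS.GoodPt

/-!
# Diagonal conditions giving good points
-/

universe u

open CategoryTheory CategoryTheory.Limits AlgebraicGeometry Opposite IsLocalRing

set_option backward.isDefEq.respectTransparency false

namespace Groth.Agent.SpQS

open _root_.AlgSp Groth.Agent.AlgSpLib

variable {S : Scheme.{u}}

/-- the map of a fibre product into the product over the base has the property of the diagonal -/
theorem graph_of_repWith_diag (P : MorphismProperty Scheme.{u}) [P.RespectsIso] {X : Sp S}
    (hX : RepWith P (Limits.diag X)) {U W V : Over S} {a : (yon S).obj U ⟶ X} {b : (yon S).obj W ⟶ X}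
    {p : V ⟶ U} {q : V ⟶ W} (sq : IsPullback ((yon S).map p) ((yon S).map q) a b) :
    P (pullback.lift p.left q.left ((Over.w p).trans (Over.w q).symm) : V.left ⟶ pullback U.hom W.hom) := by
  let T : Over S := U ⨯ W
  let ξ : (yon S).obj T ⟶ X ⨯ X := prod.lift ((yon S).map prod.fst ≫ a) ((yon S).map prod.snd ≫ b)
  have hξ : ξ = prodComparison (yon S) U W ≫ prod.map a b := by
    apply prod.hom_ext <;> simp [ξ, prodComparison, T]
  let t : V ⟶ T := prod.lift p q
  have sqT : IsPullback ((yon S).map p ≫ a) ((yon S).map t) (Limits.diag X) ξ := by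
    refine IsPullback.of_iso (isPullback_lift_diag sq) (Iso.refl _) (Iso.refl _)
      (asIso (prodComparison (yon S) U W)).symm (Iso.refl _) (by simp) ?_ (by simp) ?_
    · simp only [Iso.refl_hom, Category.id_comp, Iso.symm_hom, asIso_inv]
      rw [IsIso.comp_inv_eq]
      apply prod.hom_ext <;> simp [t, prodComparison, ← Functor.map_comp]
    · simp only [Iso.refl_hom, Category.comp_id, Iso.symm_hom, asIso_inv]
      rw [hξ, IsIso.inv_hom_id_assoc]
  have ht : P t.left := hX.2 ξ _ t sqT
  rw [← MorphismProperty.cancel_right_of_respectsIso (P := P) t.left (Over.prodLeftIsoPullback U W).hom] at ht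
  convert ht using 1
  apply pullback.hom_ext
  · rw [pullback.lift_fst, Category.assoc, Over.prodLeftIsoPullback_hom_fst]
    exact (congrArg (fun k => k.left) (prod.lift_fst p q)).symm
  · rw [pullback.lift_snd, Category.assoc, Over.prodLeftIsoPullback_hom_snd]
    exact (congrArg (fun k => k.left) (prod.lift_snd p q)).symm

/-- product over the base of small affine scheme and field point is quasi-compact -/
theorem compactSpace_prod_point {U : Scheme.{u}} [IsAffine U] (f : U ⟶ S) {W : S.Opens} (hW : IsAffineOpen W)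
    (hU : ∀ u, f u ∈ W) {K : Type u} [Field K] (str : Spec (CommRingCat.of K) ⟶ S) :
    CompactSpace ↥(pullback f str) := by
  by_cases hne : Nonempty ↥(pullback f str)
  swap
  · have := not_nonempty_iff.1 hne
    infer_instance
  obtain ⟨z⟩ := hne
  have hUr : Set.range f ⊆ Set.range W.ι := by
    rw [Scheme.Opens.range_ι]
    rintro _ ⟨u, rfl⟩
    exact hU u
  have hKr : Set.range str ⊆ Set.range W.ι := by
    rw [Scheme.Opens.range_ι]
    rintro _ ⟨t, rfl⟩
    rw [Subsingleton.elim (α := PrimeSpectrum K) t (pullback.snd f str z), ← Scheme.Hom.comp_apply,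
      ← pullback.condition, Scheme.Hom.comp_apply]
    exact hU _
  rw [← IsOpenImmersion.lift_fac W.ι f hUr, ← IsOpenImmersion.lift_fac W.ι str hKr]
  have : IsAffine W.toScheme := hW
  exact (Scheme.homeoOfIso (isPullback_comp_mono (IsPullback.of_hasPullback
    (IsOpenImmersion.lift W.ι f hUr) (IsOpenImmersion.lift W.ι str hKr)) W.ι).isoPullback).compactSpace

theorem goodAt_of_qsDiag {X : Sp S} (hX : IsAlgSpace X) (hq : IsQuasiSeparatedSp X) (x : Points X) : GoodAt x := by
  obtain ⟨T, b, t, rfl⟩ := exists_ofPt x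
  let y : (yon S).obj (Over.mk (T.left.fromSpecResidueField t ≫ T.hom)) ⟶ X :=
    (yon S).map (Over.homMk (T.left.fromSpecResidueField t) rfl : Over.mk _ ⟶ T) ≫ b
  have hy : Points.ofPt y (closedPoint (T.left.residueField t)) = Points.ofPt b t := by
    rw [ofPt_comp]
    exact congrArg (Points.ofPt b) (Scheme.fromSpecResidueField_apply t _)
  rw [← hy]
  refine goodAt_of_one hX y fun U a hU _ hsmall V p q sq => ?_
  obtain ⟨W, hW, hUW⟩ := hsmall
  have h := graph_of_repWith_diag @QuasiCompact hq sq
  have := compactSpace_prod_point U.hom hW hUW (K := T.left.residueField t)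
    (T.left.fromSpecResidueField t ≫ T.hom)
  exact @QuasiCompact.compactSpace_of_compactSpace _ _ _ h this

/-- a field valued point in the range of an immersion lifts -/
theorem exists_field_lift {R Y : Scheme.{u}} (ρ : R ⟶ Y) [IsImmersion ρ] {K : Type u} [Field K]
    (g : Spec (CommRingCat.of K) ⟶ Y) (h : g (closedPoint K) ∈ Set.range ρ) :
    ∃ m : Spec (CommRingCat.of K) ⟶ R, m ≫ ρ = g := by
  obtain ⟨r, hr⟩ := h
  obtain ⟨z, -, -⟩ := Scheme.Pullback.exists_preimage_pullback (f := ρ) (g := g) r (closedPoint K) hr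
  have hsub : Subsingleton ↥(Spec (CommRingCat.of K)) := inferInstanceAs (Subsingleton (PrimeSpectrum K))
  have : Surjective (pullback.snd ρ g) := ⟨fun t => ⟨z, Subsingleton.elim _ _⟩⟩
  have : IsClosedImmersion (pullback.snd ρ g) := IsClosedImmersion.of_isPreimmersion _ (by
    rw [(pullback.snd ρ g).surjective.range_eq]; exact isClosed_univ)
  have : IsIso (pullback.snd ρ g) := isIso_of_isClosedImmersion_of_surjective _
  exact ⟨inv (pullback.snd ρ g) ≫ pullback.fst ρ g, by
    rw [Category.assoc, pullback.condition, IsIso.inv_hom_id_assoc]⟩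

/-- the graph of a fibre product over an algebraically closed field has closed range when the diagonal is an
immersion -/
theorem isClosed_range_graph_of_locallySeparated {X : Sp S} (hX : IsAlgSpace X)
    (hls : RepWith @IsImmersion (Limits.diag X))
    {U : Over S} (a : (yon S).obj U ⟶ X) (ha : RepWith @Etale a) {Ω : Type u} [Field Ω]
    {str : Spec (CommRingCat.of Ω) ⟶ S} (y : (yon S).obj (Over.mk str) ⟶ X) {V : Over S} {p : V ⟶ U}
    {q : V ⟶ Over.mk str} (sq : IsPullback ((yon S).map p) ((yon S).map q) a y) :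
    IsClosed (Set.range (pullback.lift p.left q.left ((Over.w p).trans (Over.w q).symm) :
      V.left ⟶ pullback U.hom str)) := by
  set ι := (pullback.lift p.left q.left ((Over.w p).trans (Over.w q).symm) : V.left ⟶ pullback U.hom str) with hι
  refine isClosed_iff_clusterPt.2 fun τ hτ => ?_
  rw [← mem_closure_iff_clusterPt] at hτ
  -- move to a field over which the point is rational
  obtain ⟨Ω', _, _, g, hg⟩ := exists_geomPoint τ
  let i : Spec (CommRingCat.of Ω') ⟶ Spec (CommRingCat.of Ω) := g ≫ pullback.snd U.hom str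
  let str' : Spec (CommRingCat.of Ω') ⟶ S := i ≫ str
  let iO : Over.mk str' ⟶ Over.mk str := Over.homMk i rfl
  let y' : (yon S).obj (Over.mk str') ⟶ X := (yon S).map iO ≫ y
  obtain ⟨V', p', q', sq'⟩ := exists_pullback hX.diag a y'
  let π : (pullback U.hom str') ⟶ Spec (CommRingCat.of Ω') := pullback.snd U.hom str'
  let pr : (pullback U.hom str') ⟶ U.left := pullback.fst U.hom str'
  let ι' : V'.left ⟶ (pullback U.hom str') := pullback.lift p'.left q'.left ((Over.w p').trans (Over.w q').symm)
  let φ : (pullback U.hom str') ⟶ pullback U.hom str := pullback.map _ _ _ _ (𝟙 _) i (𝟙 _) (by simp) (by simp [str'])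
  have hφ₁ : φ ≫ pullback.fst U.hom str = pr := by simp [φ, pr]
  have hφ₂ : φ ≫ pullback.snd U.hom str = π ≫ i := by simp [φ, π]
  obtain ⟨l, hl⟩ := exists_map_eq (sq.lift ((yon S).map p') ((yon S).map (q' ≫ iO)) (by
    rw [Functor.map_comp, Category.assoc]; exact sq'.w))
  have hl₁ : l ≫ p = p' := (yon S).map_injective (by rw [Functor.map_comp, hl, sq.lift_fst])
  have hl₂ : l ≫ q = q' ≫ iO := (yon S).map_injective (by rw [Functor.map_comp, hl, sq.lift_snd])
  have hlφ : ι' ≫ φ = l.left ≫ ι := by
    apply pullback.hom_ext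
    · rw [Category.assoc, hφ₁, Category.assoc, hι, pullback.lift_fst]
      simp only [ι', pr, pullback.lift_fst]
      exact (congrArg (fun k => k.left) hl₁).symm
    · rw [Category.assoc, hφ₂, Category.assoc, hι, pullback.lift_snd]
      simp only [ι', π, pullback.lift_snd_assoc]
      exact (congrArg (fun k => k.left) hl₂).symm
  -- the base change of the range is the preimage
  have hrange : Set.range ι' = φ ⁻¹' Set.range ι := by
    ext z
    constructor
    · rintro ⟨v, rfl⟩
      exact ⟨l.left v, by rw [← Scheme.Hom.comp_apply, ← hlφ, Scheme.Hom.comp_apply]⟩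
    · rintro ⟨v, hv⟩
      have h : IsPullback φ π (pullback.snd U.hom str) i := by
        refine IsPullback.of_right (h₁₂ := pullback.fst U.hom str) (v₁₃ := U.hom) (h₂₂ := str) ?_ hφ₂
          (IsPullback.of_hasPullback U.hom str)
        rw [hφ₁]
        exact IsPullback.of_hasPullback U.hom str'
      have sql : IsPullback l.left q'.left q.left i := by
        refine (isPullback_yon_iff (p := l) (q := q') (f := q) (g := iO)).1 (IsPullback.of_right ?_ ?_ sq)
        · rw [← Functor.map_comp, hl₁]; exact sq'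
        · rw [← Functor.map_comp, ← Functor.map_comp, hl₂]
      have sqι : IsPullback l.left ι' ι φ := by
        refine IsPullback.of_bot ?_ hlφ.symm h
        rw [hι, pullback.lift_snd, pullback.lift_snd]
        exact sql
      obtain ⟨w, -, hw⟩ := Scheme.exists_preimage_of_isPullback sqι v z hv
      exact ⟨w, hw⟩
  let Tg : Spec (CommRingCat.of Ω') ⟶ (pullback U.hom str') :=
    pullback.lift (g ≫ pullback.fst U.hom str) (𝟙 _) (by simp [str', i, pullback.condition])
  have hTφ : Tg ≫ φ = g := by
    apply pullback.hom_ext <;> simp [Tg, φ, i] <;> exact Category.id_comp _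
  let T₀ := Tg (closedPoint Ω')
  have hT₀ : φ T₀ = τ := by rw [← Scheme.Hom.comp_apply, hTφ, hg]
  suffices T₀ ∈ Set.range ι' by rw [hrange, Set.mem_preimage, hT₀] at this; exact this
  have hT₀cl : T₀ ∈ closure (Set.range ι') := by
    have : UniversallyOpen i := inferInstance
    have : UniversallyOpen φ := by
      have h : IsPullback φ π (pullback.snd U.hom str) i := by
        refine IsPullback.of_right (h₁₂ := pullback.fst U.hom str) (v₁₃ := U.hom) (h₂₂ := str) ?_ hφ₂
          (IsPullback.of_hasPullback U.hom str)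
        rw [hφ₁]
        exact IsPullback.of_hasPullback U.hom str'
      exact MorphismProperty.of_isPullback (P := @UniversallyOpen) h.flip ‹_›
    rw [hrange]
    exact φ.isOpenMap.preimage_closure_subset_closure_preimage (show φ T₀ ∈ _ by rw [hT₀]; exact hτ)
  -- the relation on the chart
  obtain ⟨R, r₁, r₂, sqR⟩ := exists_pullback hX.diag a a
  have : IsImmersion (pullback.lift r₁.left r₂.left ((Over.w r₁).trans (Over.w r₂).symm) :
      R.left ⟶ pullback U.hom U.hom) := graph_of_repWith_diag @IsImmersion hls sqR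
  set ρ := (pullback.lift r₁.left r₂.left ((Over.w r₁).trans (Over.w r₂).symm) :
      R.left ⟶ pullback U.hom U.hom) with hρ
  let χ : (pullback π π) ⟶ pullback U.hom U.hom := pullback.lift (pullback.fst π π ≫ pr) (pullback.snd π π ≫ pr) (by
    simp only [Category.assoc, pr, π, pullback.condition]
    rw [← reassoc_of% pullback.condition (f := π) (g := π)])
  let L : Set ↥(pullback π π) := {z | χ z ∈ Set.range ρ}
  obtain ⟨O, C, hO, hC, hOC⟩ :=
    (show IsLocallyClosed (Set.range ρ) from ρ.isLocallyClosed_range)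
  have hdiag : ∀ w : U.left, pullback.diagonal U.hom w ∈ Set.range ρ := fun w => by
    obtain ⟨e, he⟩ := exists_map_eq (sqR.lift (𝟙 _) (𝟙 _) rfl)
    have h₁ : e ≫ r₁ = 𝟙 U := (yon S).map_injective (by rw [Functor.map_comp, he, sqR.lift_fst, CategoryTheory.Functor.map_id])
    have h₂ : e ≫ r₂ = 𝟙 U := (yon S).map_injective (by rw [Functor.map_comp, he, sqR.lift_snd, CategoryTheory.Functor.map_id])
    refine ⟨e.left w, ?_⟩
    have key : e.left ≫ ρ = pullback.diagonal U.hom := by
      apply pullback.hom_ext
      · rw [Category.assoc, hρ, pullback.lift_fst, pullback.diagonal_fst]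
        exact congrArg (fun k => k.left) h₁
      · rw [Category.assoc, hρ, pullback.lift_snd, pullback.diagonal_snd]
        exact congrArg (fun k => k.left) h₂
    exact (Scheme.Hom.comp_apply _ _ _).symm.trans (congr($key w))
  have : Subsingleton ↥(Spec (CommRingCat.of Ω')) := inferInstanceAs (Subsingleton (PrimeSpectrum Ω'))
  let secL (s : Spec (CommRingCat.of Ω') ⟶ (pullback U.hom str')) (hs : s ≫ π = 𝟙 _) : (pullback U.hom str') ⟶ (pullback π π) :=
    pullback.lift (π ≫ s) (𝟙 _) (by rw [Category.assoc, hs]; simp)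
  let secR (s : Spec (CommRingCat.of Ω') ⟶ (pullback U.hom str')) (hs : s ≫ π = 𝟙 _) : (pullback U.hom str') ⟶ (pullback π π) :=
    pullback.lift (𝟙 _) (π ≫ s) (by rw [Category.assoc, hs]; simp)
  have hTπ : Tg ≫ π = 𝟙 _ := pullback.lift_snd _ _ _
  let j := secL Tg hTπ
  have hsecL : ∀ (c : Spec (CommRingCat.of Ω') ⟶ pullback U.hom str') (hc : c ≫ π = 𝟙 _),
      secL c hc ≫ χ ≫ pullback.fst U.hom U.hom = π ≫ c ≫ pr ∧
      secL c hc ≫ χ ≫ pullback.snd U.hom U.hom = pr := fun c hc => by
    constructor
    · simp only [secL, χ]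
      rw [pullback.lift_fst, ← Category.assoc, pullback.lift_fst, Category.assoc]
    · simp only [secL, χ]
      rw [pullback.lift_snd, ← Category.assoc, pullback.lift_snd]
      exact Category.id_comp _
  have hsecR : ∀ (c : Spec (CommRingCat.of Ω') ⟶ pullback U.hom str') (hc : c ≫ π = 𝟙 _),
      secR c hc ≫ χ ≫ pullback.fst U.hom U.hom = pr ∧
      secR c hc ≫ χ ≫ pullback.snd U.hom U.hom = π ≫ c ≫ pr := fun c hc => by
    constructor
    · simp only [secR, χ]
      rw [pullback.lift_fst, ← Category.assoc, pullback.lift_fst]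
      exact Category.id_comp _
    · simp only [secR, χ]
      rw [pullback.lift_snd, ← Category.assoc, pullback.lift_snd, Category.assoc]
  have hjT : j T₀ ∈ L := by
    have : Tg ≫ j ≫ χ = (Tg ≫ pr) ≫ pullback.diagonal U.hom := by
      apply pullback.hom_ext
      · rw [Category.assoc, Category.assoc, (hsecL Tg hTπ).1, reassoc_of% hTπ, Category.assoc,
          pullback.diagonal_fst, Category.comp_id]
      · rw [Category.assoc, Category.assoc, (hsecL Tg hTπ).2, Category.assoc, pullback.diagonal_snd,
          Category.comp_id]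
    show χ (j (Tg (closedPoint Ω'))) ∈ Set.range ρ
    have e : χ (j (Tg (closedPoint Ω'))) = pullback.diagonal U.hom ((Tg ≫ pr) (closedPoint Ω')) := by
      rw [← Scheme.Hom.comp_apply, ← Scheme.Hom.comp_apply, ← Scheme.Hom.comp_apply]
      exact congr($this (closedPoint Ω'))
    rw [e]
    exact hdiag _
  obtain ⟨z, hzN, v₀, rfl⟩ := mem_closure_iff.1 hT₀cl ((j ≫ χ) ⁻¹' O) (hO.preimage (j ≫ χ).continuous) (by
    show (j ≫ χ) T₀ ∈ O
    rw [Scheme.Hom.comp_apply]
    exact (hOC ▸ hjT : _ ∈ O ∩ C).1)
  -- a rational point of the fibre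
  have : Etale q'.left := (repWith_yon_iff q').1 (repWith_baseChange sq' ha)
  obtain ⟨hv, hhv⟩ : ∃ hv : Spec (CommRingCat.of Ω') ⟶ V'.left, hv ≫ q'.left = 𝟙 _ ∧ hv (closedPoint Ω') = v₀ := by
    have : LocallyQuasiFinite q'.left := UnivInjMor.lqf_of_unramified _
    have hd := q'.left.isDiscrete_preimage_singleton (closedPoint Ω')
    rw [show q'.left ⁻¹' {closedPoint Ω'} = Set.univ from
      Set.eq_univ_of_forall fun _ => Subsingleton.elim (α := PrimeSpectrum Ω') _ _] at hd
    have : DiscreteTopology ↥(Set.univ : Set V'.left) := isDiscrete_iff_discreteTopology.1 hd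
    have : DiscreteTopology V'.left := (Homeomorph.Set.univ _).symm.isEmbedding.discreteTopology
    exact ⟨pointOfClosedPoint q'.left v₀ (isClosed_discrete _), pointOfClosedPoint_comp _ _ _,
      pointOfClosedPoint_apply _ _ _ _⟩
  let hg' := hv ≫ ι'
  have hhπ : hg' ≫ π = 𝟙 _ := by
    rw [Category.assoc]
    exact (congrArg (hv ≫ ·) (pullback.lift_snd _ _ _)).trans hhv.1
  let k := secR hg' hhπ
  -- pairs with the rational point
  have hswap : k T₀ = j (ι' v₀) := by
    have e : hg' (closedPoint Ω') = ι' v₀ := by rw [Scheme.Hom.comp_apply, hhv.2]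
    rw [← e]
    have key : Tg ≫ k = hg' ≫ j := by
      apply pullback.hom_ext <;> simp [k, j, secL, secR, reassoc_of% hTπ, reassoc_of% hhπ]
    exact (Scheme.Hom.comp_apply _ _ _).symm.trans (congr($key (closedPoint Ω')) |>.trans (Scheme.Hom.comp_apply _ _ _))
  have hH : ∀ w, χ (k (ι' w)) ∈ C := fun w => by
    obtain ⟨m, hm⟩ := exists_map_eq (sqR.lift ((yon S).map p')
      ((yon S).map (q' ≫ (Over.homMk (hv ≫ p'.left) (by
        show (hv ≫ p'.left) ≫ U.hom = str'
        rw [Category.assoc, show p'.left ≫ U.hom = q'.left ≫ str' from (Over.w p').trans (Over.w q').symm,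
          reassoc_of% hhv.1]) : Over.mk str' ⟶ U))) (by
      rw [sq'.w, Functor.map_comp, Category.assoc]
      congr 1
      let hvO : Over.mk str' ⟶ V' := Over.homMk hv (by
        show hv ≫ V'.hom = str'
        rw [← Over.w q']
        show hv ≫ q'.left ≫ str' = str'
        rw [reassoc_of% hhv.1])
      have hid : hvO ≫ q' = 𝟙 _ := Over.OverMorphism.ext hhv.1
      calc y' = (yon S).map (hvO ≫ q') ≫ y' := by rw [hid, CategoryTheory.Functor.map_id, Category.id_comp]
        _ = (yon S).map (hvO ≫ p') ≫ a := by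
          rw [Functor.map_comp, Functor.map_comp, Category.assoc, Category.assoc, sq'.w]
        _ = _ := rfl))
    have e₁ : m ≫ r₁ = p' := (yon S).map_injective (by rw [Functor.map_comp, hm, sqR.lift_fst])
    have e₂ : m.left ≫ r₂.left = q'.left ≫ hv ≫ p'.left :=
      congrArg (fun k => k.left) ((yon S).map_injective (by rw [Functor.map_comp, hm, sqR.lift_snd]) :
        m ≫ r₂ = q' ≫ _)
    have : ι' ≫ k ≫ χ = m.left ≫ ρ := by
      apply pullback.hom_ext
      · simp only [Category.assoc, k, (hsecR hg' hhπ).1]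
        rw [hρ, pullback.lift_fst]
        simp only [ι', pr, pullback.lift_fst]
        exact (congrArg (fun k => k.left) e₁).symm
      · simp only [Category.assoc, k, (hsecR hg' hhπ).2]
        rw [hρ, pullback.lift_snd, e₂]
        simp only [ι', π, hg', pr, pullback.lift_snd_assoc, Category.assoc, pullback.lift_fst]
    have hmem : χ (k (ι' w)) ∈ Set.range ρ := ⟨m.left w, by
      rw [← Scheme.Hom.comp_apply, ← Scheme.Hom.comp_apply, ← Scheme.Hom.comp_apply, this, Scheme.Hom.comp_apply]⟩
    exact (hOC ▸ hmem : _ ∈ O ∩ C).2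
  have hTC : χ (k T₀) ∈ C := by
    have : closure (Set.range ι') ⊆ (k ≫ χ) ⁻¹' C := closure_minimal (by
      rintro _ ⟨w, rfl⟩
      show (k ≫ χ) (ι' w) ∈ C
      rw [Scheme.Hom.comp_apply]
      exact hH w) (hC.preimage (k ≫ χ).continuous)
    have h := this hT₀cl
    rwa [Set.mem_preimage, Scheme.Hom.comp_apply] at h
  have hTL : χ (k T₀) ∈ Set.range ρ := by
    rw [hOC]
    refine ⟨?_, hTC⟩
    rw [hswap, ← Scheme.Hom.comp_apply]
    exact hzN
  -- lift the related pair to the fibre
  let pair : Spec (CommRingCat.of Ω') ⟶ pullback U.hom U.hom := Tg ≫ k ≫ χ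
  have hpr : Set.range pair ⊆ Set.range ρ := by
    rintro _ ⟨t, rfl⟩
    rw [Subsingleton.elim t (closedPoint Ω'), Scheme.Hom.comp_apply, Scheme.Hom.comp_apply]
    exact hTL
  obtain ⟨m, hm⟩ := exists_field_lift ρ pair (hpr ⟨closedPoint Ω', rfl⟩)
  have e₁ : m ≫ r₁.left = g ≫ pullback.fst U.hom str := by
    have h := congrArg (fun f => f ≫ pullback.fst U.hom U.hom) hm
    simp only [pair, k, Category.assoc, (hsecR hg' hhπ).1] at h
    rw [hρ, pullback.lift_fst] at h
    exact h.trans (pullback.lift_fst _ _ _)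
  have e₂ : m ≫ r₂.left = hv ≫ p'.left := by
    have h := congrArg (fun f => f ≫ pullback.snd U.hom U.hom) hm
    simp only [pair, k, Category.assoc, (hsecR hg' hhπ).2] at h
    rw [hρ, pullback.lift_snd, reassoc_of% hTπ] at h
    exact h.trans ((Category.assoc _ _ _).trans (congrArg (hv ≫ ·) (pullback.lift_fst _ _ _)))
  let mO : Over.mk str' ⟶ R := Over.homMk m (by
    show m ≫ R.hom = str'
    rw [← Over.w r₂, reassoc_of% e₂, show p'.left ≫ U.hom = q'.left ≫ str' from (Over.w p').trans (Over.w q').symm,
      reassoc_of% hhv.1])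
  let hvO : Over.mk str' ⟶ V' := Over.homMk hv (by
    show hv ≫ V'.hom = str'
    rw [← Over.w q']
    show hv ≫ q'.left ≫ str' = str'
    rw [reassoc_of% hhv.1])
  let TO : Over.mk str' ⟶ U := Over.homMk (g ≫ pullback.fst U.hom str) (by
    show (g ≫ pullback.fst U.hom str) ≫ U.hom = str'
    rw [Category.assoc, pullback.condition]
    simp [str', i])
  obtain ⟨n, hn⟩ := exists_map_eq (sq'.lift ((yon S).map TO) (𝟙 _) (by
    rw [show TO = mO ≫ r₁ from (Over.OverMorphism.ext e₁).symm, Functor.map_comp, Category.assoc, sqR.w,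
      ← Functor.map_comp_assoc, show mO ≫ r₂ = hvO ≫ p' from Over.OverMorphism.ext e₂, Functor.map_comp_assoc,
      sq'.w, ← Functor.map_comp_assoc, show hvO ≫ q' = 𝟙 _ from Over.OverMorphism.ext hhv.1,
      CategoryTheory.Functor.map_id]))
  have en₁ : n ≫ p' = TO := (yon S).map_injective (by rw [Functor.map_comp, hn, sq'.lift_fst])
  have en₂ : n ≫ q' = 𝟙 _ := (yon S).map_injective (by
    rw [Functor.map_comp, hn, sq'.lift_snd, CategoryTheory.Functor.map_id])
  refine ⟨n.left (closedPoint Ω'), ?_⟩
  have key : n.left ≫ ι' = Tg := by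
    apply pullback.hom_ext
    · simp only [Category.assoc, ι', Tg, pullback.lift_fst]
      exact congrArg (fun k => k.left) en₁
    · simp only [Category.assoc, ι', Tg, pullback.lift_snd]
      exact congrArg (fun k => k.left) en₂
  exact (Scheme.Hom.comp_apply _ _ _).symm.trans (congr($key (closedPoint Ω')))

theorem goodAt_of_locallySeparated {X : Sp S} (hX : IsAlgSpace X) (hls : RepWith @IsImmersion (Limits.diag X))
    (x : Points X) : GoodAt x := by
  obtain ⟨T, b, t, rfl⟩ := exists_ofPt x
  let str := T.left.fromSpecResidueField t ≫ T.hom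
  let y : (yon S).obj (Over.mk str) ⟶ X :=
    (yon S).map (Over.homMk (T.left.fromSpecResidueField t) rfl : Over.mk str ⟶ T) ≫ b
  have hy : Points.ofPt y (closedPoint (T.left.residueField t)) = Points.ofPt b t := by
    rw [ofPt_comp]
    exact congrArg (Points.ofPt b) (Scheme.fromSpecResidueField_apply t _)
  rw [← hy]
  refine goodAt_of_one hX y fun U a hU ha hsmall V p q sq => ?_
  obtain ⟨W, hW, hUW⟩ := hsmall
  have h : IsImmersion (pullback.lift p.left q.left ((Over.w p).trans (Over.w q).symm) :
      V.left ⟶ pullback U.hom str) := graph_of_repWith_diag @IsImmersion hls sq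
  have := compactSpace_prod_point U.hom hW hUW (K := T.left.residueField t) str
  have hcl := isClosed_range_graph_of_locallySeparated hX hls a ha y sq
  have := h
  exact ((Scheme.Hom.isEmbedding _).isCompact_iff.2 (by rw [Set.image_univ]; exact hcl.isCompact) |>
    fun h => ⟨h⟩)

end Groth.Agent.SpQS
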