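import Groth.Agent.SpQS.GenPts
import Groth.Agent.SpQS.MonoDiscrete

/-!
# Decency from a dense open scheme with finitely many components
-/

universe u

open CategoryTheory CategoryTheory.Limits AlgebraicGeometry Opposite IsLocalRing

set_option backward.isDefEq.respectTransparency false

namespace Groth.Agent.SpQS

open _root_.AlgSp Groth.Agent.AlgSpLib

variable {S : Scheme.{u}}

theorem finite_components_iff {α : Type*} [TopologicalSpace α] [T0Space α] [QuasiSober α] :
    (irreducibleComponents α).Finite ↔ {x : α | IsMaxPt x}.Finite := by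
  have h : {x : α | IsMaxPt x} = genericPoints α := by
    ext x
    show IsMaxPt x ↔ closure {x} ∈ irreducibleComponents α
    rw [← component_generic_iff]
    exact ⟨fun ⟨T, hT, hx⟩ => by rwa [show closure {x} = T from hx], fun h => ⟨_, h, rfl⟩⟩
  rw [h]
  refine ⟨genericPoints.finite, fun hf => Set.finite_coe_iff.1 ?_⟩
  have := hf.to_subtype
  exact Finite.of_surjective _ genericPoints.component_surjective

/-- bounded geometric fibres are quasi-compact -/
theorem compactSpace_fibre_of_degLE {R U : Scheme.{u}} (s : R ⟶ U) [Etale s] [IsSeparated s] {Ω : Type u} [Field Ω]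
    [IsAlgClosed Ω] (g : Spec (CommRingCat.of Ω) ⟶ U) {m : ℕ} (h : DegLE m s (g (closedPoint Ω))) :
    CompactSpace ↥(pullback s g) := by
  have : LocallyQuasiFinite (pullback.snd s g) := UnivInjMor.lqf_of_unramified _
  have hd := (pullback.snd s g).isDiscrete_preimage_singleton (closedPoint Ω)
  rw [show pullback.snd s g ⁻¹' {closedPoint Ω} = Set.univ from
    Set.eq_univ_of_forall fun _ => Subsingleton.elim (α := PrimeSpectrum Ω) _ _] at hd
  have : DiscreteTopology ↥(Set.univ : Set ↥(pullback s g)) := isDiscrete_iff_discreteTopology.1 hd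
  have : DiscreteTopology ↥(pullback s g) := (Homeomorph.Set.univ _).symm.isEmbedding.discreteTopology
  let F := {t : Spec (CommRingCat.of Ω) ⟶ R | t ≫ s = g}
  let t : ↥(pullback s g) → F := fun z =>
    ⟨pointOfClosedPoint (pullback.snd s g) z (isClosed_discrete _) ≫ pullback.fst s g, by
      show (_ ≫ _) ≫ s = g
      rw [Category.assoc, pullback.condition, pointOfClosedPoint_comp_assoc]⟩
  have : Finite F := (lifts_le_of_degLE m s g h).1.to_subtype
  have : Finite ↥(pullback s g) := Finite.of_injective t fun z z' e => by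
    have e' : pointOfClosedPoint (pullback.snd s g) z (isClosed_discrete _) =
        pointOfClosedPoint (pullback.snd s g) z' (isClosed_discrete _) := by
      apply pullback.hom_ext
      · exact congrArg Subtype.val e
      · exact (pointOfClosedPoint_comp _ _ _).trans (pointOfClosedPoint_comp _ _ _).symm
    rw [← pointOfClosedPoint_apply (pullback.snd s g) z (isClosed_discrete _) (closedPoint Ω), e',
      pointOfClosedPoint_apply]
  exact Finite.compactSpace

/-- the geometric fibre of the relation is the fibre of the chart -/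
theorem isPullback_geomFibre {X : Sp S} {U R : Over S} {a : (yon S).obj U ⟶ X} {p q : R ⟶ U}
    (sqR : IsPullback ((yon S).map p) ((yon S).map q) a a) {Ω : Type u} [Field Ω]
    (g : Spec (CommRingCat.of Ω) ⟶ U.left) : ∃ (w : Over.mk (pullback.fst q.left g ≫ R.hom) ⟶ U)
      (v : Over.mk (pullback.fst q.left g ≫ R.hom) ⟶ Over.mk (g ≫ U.hom)),
        IsPullback ((yon S).map w) ((yon S).map v) a
          ((yon S).map (Over.homMk g rfl : Over.mk (g ≫ U.hom) ⟶ U) ≫ a) := by
  let gO : Over.mk (g ≫ U.hom) ⟶ U := Over.homMk g rfl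
  let vR : Over.mk (pullback.fst q.left g ≫ R.hom) ⟶ R := Over.homMk (pullback.fst q.left g) rfl
  let vK : Over.mk (pullback.fst q.left g ≫ R.hom) ⟶ Over.mk (g ≫ U.hom) :=
    Over.homMk (pullback.snd q.left g) (by
      show pullback.snd q.left g ≫ g ≫ U.hom = pullback.fst q.left g ≫ R.hom
      rw [← Over.w q]
      exact (pullback.condition_assoc _).symm)
  refine ⟨vR ≫ p, vK, ?_⟩
  rw [Functor.map_comp]
  exact (isPullback_yon_iff.2 (IsPullback.of_hasPullback q.left g) :
    IsPullback ((yon S).map vR) ((yon S).map vK) ((yon S).map q) ((yon S).map gO)).paste_horiz sqR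

theorem ofPt_geomPoint {X : Sp S} {U : Over S} (a : (yon S).obj U ⟶ X) {Ω : Type u} [Field Ω]
    (g : Spec (CommRingCat.of Ω) ⟶ U.left) :
    Points.ofPt ((yon S).map (Over.homMk g rfl : Over.mk (g ≫ U.hom) ⟶ U) ≫ a) (closedPoint Ω) =
      Points.ofPt a (g (closedPoint Ω)) := by
  rw [ofPt_comp]
  rfl

/-- a decent space criterion by finitely many good generic points -/
theorem good_of_dense {X : Sp S} (hX : IsAlgSpace X) {W : Over S} {j : (yon S).obj W ⟶ X}
    (hj : RepWith @IsOpenImmersion j) (hdense : Dense (Set.range (Points.ofPt j)))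
    (hfin : {w : W.left | IsMaxPt w}.Finite) (hgood : ∀ w, IsMaxPt w → GoodAt (Points.ofPt j w)) :
    (∀ x : Points X, GoodAt x) ∧ ∀ x : Points X, IsMaxPt x → x ∈ Points.ofPt j '' {w | IsMaxPt w} := by
  have : Mono j := mono_of_repWith_immersion (repWith_mono (P := @IsOpenImmersion) (Q := @IsImmersion)
    (fun _ _ g hg => have : IsOpenImmersion g := hg; inferInstance) hj)
  have hje : RepWith @Etale j := repWith_mono (P := @IsOpenImmersion) (Q := @Etale)
    (fun _ _ g hg => have : IsOpenImmersion g := hg; inferInstance) hj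
  have hinj : Function.Injective (Points.ofPt j) := by
    intro w w' e
    refine (Points.schemeEquiv W).injective (injective_points_of_mono j ?_)
    show Points.map j (Points.ofPt (𝟙 _) w) = Points.map j (Points.ofPt (𝟙 _) w')
    rw [Points.map_ofPt, Points.map_ofPt, Category.id_comp]
    exact e
  have key : ∀ (U : Over S) (a : (yon S).obj U ⟶ X), IsAffine U.left → RepWith @Etale a →
      (∀ u : U.left, ∀ (R : Over S) (p q : R ⟶ U), IsPullback ((yon S).map p) ((yon S).map q) a a →
        ∃ n, DegLE n q.left u) ∧ (∀ u : U.left, IsMaxPt u → Points.ofPt a u ∈ Points.ofPt j '' {w | IsMaxPt w}) := by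
    intro U a hU ha
    let M : Set U.left := Points.ofPt a ⁻¹' (Points.ofPt j '' {w | IsMaxPt w})
    have hM : M.Finite := by
      show (Points.ofPt a ⁻¹' _).Finite
      rw [← Set.biUnion_of_singleton (Points.ofPt j '' {w | IsMaxPt w}), Set.preimage_iUnion₂]
      refine (hfin.image _).biUnion ?_
      rintro _ ⟨w, hw, rfl⟩
      exact (hgood w hw).finite hX (hU := hU) ha
    let D : Set U.left := Points.ofPt a ⁻¹' Set.range (Points.ofPt j)
    have hPo : IsOpenMap (Points.ofPt a) := isOpenMap_ofPt (repWith_universallyOpen_of_etale ha)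
    have hDo : IsOpen D := by
      refine IsOpen.preimage (Points.continuous_ofPt a) ?_
      rw [← Set.image_univ]
      exact isOpenMap_ofPt (repWith_universallyOpen_of_etale hje) _ isOpen_univ
    have hDd : Dense D := hdense.preimage hPo
    have hmaxD : ∀ d ∈ D, IsMaxPt d → d ∈ M := by
      rintro d ⟨w, hw⟩ hd
      refine ⟨w, fun w' hw' => ?_, hw⟩
      obtain ⟨g, hg, hgmax⟩ := exists_isMaxPt_specializes w'
      obtain ⟨d', hd', hd''⟩ := exists_specializes_lift hX (hgood g hgmax)
        ((hg.trans hw').map (Points.continuous_ofPt j)) ha d hw.symm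
      rw [hd d' hd', ← hw] at hd''
      have : w = g := hinj hd''
      subst this
      exact (hw'.antisymm hg).eq
    have hMcl : ∀ u : U.left, ∃ m ∈ M, m ⤳ u := by
      intro u
      have hDM : D ⊆ closure M := fun d hd => by
        obtain ⟨g, hg, hgmax⟩ := exists_isMaxPt_specializes d
        exact hg.mem_closed isClosed_closure (subset_closure (hmaxD g (hg.mem_open hDo hd) hgmax))
      have hu : u ∈ closure M := closure_minimal hDM isClosed_closure (hDd u)
      rw [← Set.biUnion_of_singleton M, hM.closure_biUnion] at hu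
      obtain ⟨m, hm, hmu⟩ := Set.mem_iUnion₂.1 hu
      exact ⟨m, hm, specializes_iff_mem_closure.2 hmu⟩
    refine ⟨fun u R p q sqR => ?_, fun u hu => ?_⟩
    · have : IsAffine U.left := hU
      have : Etale q.left := (repWith_yon_iff q).1 (repWith_baseChange sqR ha)
      have : IsSeparated q.left := isSeparated_snd_of_chart sqR
      have hdeg : ∀ m ∈ M, ∃ n, DegLE n q.left m := by
        rintro m ⟨w, hw, hwm⟩
        obtain ⟨Ω, _, _, g, hg⟩ := exists_geomPoint m
        obtain ⟨v, vK, sq⟩ := isPullback_geomFibre sqR g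
        have : CompactSpace ↥(pullback q.left g) := hgood w hw U a hU ha Ω _ _ (by
          rw [ofPt_geomPoint, hg]; exact hwm.symm) _ v vK sq
        rw [← hg]
        exact SpQS.exists_degLE q.left g
      choose! f hf using hdeg
      refine ⟨hM.toFinset.sup f, ?_⟩
      by_contra hno
      obtain ⟨m, hm, hmu⟩ := hMcl u
      exact hmu.mem_open (isOpen_not_degLE _ q.left) hno
        (DegLE.mono (Finset.le_sup (f := f) (hM.mem_toFinset.2 hm)) (hf m hm))
    · obtain ⟨m, hm, hmu⟩ := hMcl u
      rwa [← hu m hmu]
  have hall : ∀ x : Points X, GoodAt x := by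
    intro x U a hU ha K _ str y hy V p q sq
    by_cases hV : Nonempty V.left
    swap
    · have := not_nonempty_iff.1 hV
      infer_instance
    obtain ⟨v⟩ := hV
    obtain ⟨R, rp, rq, sqR⟩ := exists_pullback hX.diag a a
    have : IsAffine U.left := hU
    have : Etale rq.left := (repWith_yon_iff rq).1 (repWith_baseChange sqR ha)
    have : IsSeparated rq.left := isSeparated_snd_of_chart sqR
    obtain ⟨Ω, _, _, g, hg⟩ := exists_geomPoint (p.left v)
    obtain ⟨n, hn⟩ := (key U a hU ha).1 (p.left v) R rp rq sqR
    obtain ⟨w, vK, sq'⟩ := isPullback_geomFibre sqR g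
    have : CompactSpace ↥(pullback rq.left g) := compactSpace_fibre_of_degLE rq.left g (by rw [hg]; exact hn)
    have : CompactSpace (Over.mk (pullback.fst rq.left g ≫ R.hom)).left := this
    refine compactSpace_of_same_point hX a ?_ sq' sq
    rw [ofPt_geomPoint, hg, (ofPt_eq_iff sq (p.left v) (q.left v)).2 ⟨v, rfl, rfl⟩,
      Subsingleton.elim (α := PrimeSpectrum K) (q.left v) (closedPoint K)]
  refine ⟨hall, fun x hx => ?_⟩
  obtain ⟨U, a, u, hU, ha, rfl, -⟩ := exists_affine_chart_at hX x
  exact (key U a hU ha).2 u ((isMaxPt_ofPt_iff hX hall ha u).1 hx)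

theorem decent_finite_components_iff {X : Sp S} (hX : IsAlgSpace X) :
    (IsDecent X ∧ (irreducibleComponents (Points X)).Finite) ↔ ∃ (X' : Over S) (j : (yon S).obj X' ⟶ X),
      RepWith @IsOpenImmersion j ∧ Dense (Set.range (Points.ofPt j)) ∧ (irreducibleComponents ↥X'.left).Finite ∧
        ∀ x' : ↥X'.left, (∃ T ∈ irreducibleComponents ↥X'.left, IsGenericPoint x' T) →
          RepWith @QuasiCompact (FieldPt.ofPt j x').toHom := by
  constructor
  · rintro ⟨hd, hfin⟩
    obtain ⟨X₁, j₁, -, hj₁, ⟨W, ⟨e⟩⟩, hdense⟩ := exists_dense_scheme hX hd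
    obtain ⟨h₁, h₂⟩ := t0_sober_of_decent hX hd
    let j : (yon S).obj W ⟶ X := e.inv ≫ j₁
    have hj : RepWith @IsOpenImmersion j := (repWith_iso_comp_iff _ _).2 hj₁
    have hrange : Set.range (Points.ofPt j) = Set.range (Points.map j₁) := by
      ext x
      constructor
      · rintro ⟨w, rfl⟩
        exact ⟨Points.ofPt e.inv w, Points.map_ofPt _ _ _⟩
      · rintro ⟨z, rfl⟩
        obtain ⟨w, hw⟩ := (Points.schemeEquiv W).surjective (Points.map e.hom z)
        refine ⟨w, ?_⟩
        show _ = Points.map j₁ z
        rw [show Points.map j₁ z = Points.map j (Points.map e.hom z) by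
          rw [← Points.map_comp, Iso.hom_inv_id_assoc], ← hw]
        show _ = Points.map j (Points.ofPt (𝟙 _) w)
        rw [Points.map_ofPt, Category.id_comp]
    refine ⟨W, j, hj, hrange ▸ hdense, ?_, fun w _ => ?_⟩
    · have : Mono j := mono_of_repWith_immersion (repWith_mono (P := @IsOpenImmersion) (Q := @IsImmersion)
        (fun _ _ g hg => have : IsOpenImmersion g := hg; inferInstance) hj)
      rw [finite_components_iff] at hfin ⊢
      refine (hfin.preimage (f := Points.ofPt j) ?_).subset fun w hw => ?_
      · intro w _ w' _ e'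
        refine (Points.schemeEquiv W).injective (injective_points_of_mono j ?_)
        show Points.map j (Points.ofPt (𝟙 _) w) = Points.map j (Points.ofPt (𝟙 _) w')
        rw [Points.map_ofPt, Points.map_ofPt, Category.id_comp]
        exact e'
      · show IsMaxPt (Points.ofPt j w)
        intro y hy
        have ho : IsOpen (Set.range (Points.ofPt j)) := by
          rw [← Set.image_univ]
          exact isOpenMap_ofPt (repWith_universallyOpen_of_etale (repWith_mono (P := @IsOpenImmersion) (Q := @Etale)
            (fun _ _ g hg => have : IsOpenImmersion g := hg; inferInstance) hj)) _ isOpen_univ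
        obtain ⟨w', hw'⟩ := hy.mem_open ho ⟨w, rfl⟩
        obtain ⟨w'', hw'', e''⟩ := exists_specializes_lift hX (goodAt_of_isDecent hX hd y) hy
          (repWith_mono (P := @IsOpenImmersion) (Q := @Etale)
            (fun _ _ g hg => have : IsOpenImmersion g := hg; inferInstance) hj) w rfl
        rw [hw w'' hw''] at e''
        exact e''.symm
    · refine repWith_qc_of_good hX _ ?_
      exact goodAt_of_isDecent hX hd _
  · rintro ⟨W, j, hj, hdense, hfin, hqc⟩
    rw [finite_components_iff] at hfin
    obtain ⟨hgood, hmax⟩ := good_of_dense hX hj hdense hfin fun w hw => by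
      have := goodAt_of_qc hX (FieldPt.ofPt j w) (hqc w ((component_generic_iff w).2 hw))
      exact this
    have hd := isDecent_of_good hX hgood
    obtain ⟨h₁, h₂⟩ := t0_sober_of_decent hX hd
    exact ⟨hd, finite_components_iff.2 ((hfin.image _).subset hmax)⟩

end Groth.Agent.SpQS
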