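import Groth.Agent.SpQS.BiratNormal
import Groth.Agent.SpQS.DenseCrit
import Groth.Agent.GrpField.FlatPoint

/-!
# Birational morphisms: base change along affine etale charts
-/

set_option autoImplicit false
universe u

open CategoryTheory CategoryTheory.Limits AlgebraicGeometry Opposite IsLocalRing Topology

set_option backward.isDefEq.respectTransparency false

namespace Groth.Agent.SpQS

open _root_.AlgSp Groth.Agent.AlgSpLib

theorem isIso_stalkMap_of_flat_preimmersion {A B : Scheme.{u}} (f : A ⟶ B) [Flat f] [IsPreimmersion f] (x : A) :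
    IsIso (f.stalkMap x) := by
  refine (ConcreteCategory.isIso_iff_bijective _).2 ⟨?_, f.stalkMap_surjective x⟩
  letI := (f.stalkMap x).hom.toAlgebra
  haveI : Module.Flat (B.presheaf.stalk (f x)) (A.presheaf.stalk x) := Flat.stalkMap f x
  haveI : IsLocalHom (algebraMap (B.presheaf.stalk (f x)) (A.presheaf.stalk x)) := f.toLRSHom.prop x
  haveI : Module.FaithfullyFlat (B.presheaf.stalk (f x)) (A.presheaf.stalk x) :=
    Module.FaithfullyFlat.of_flat_of_isLocalHom
  exact FaithfulSMul.algebraMap_injective (B.presheaf.stalk (f x)) (A.presheaf.stalk x)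

/-- base change of a morphism inducing an isomorphism of local rings -/
theorem exists_unique_stalkIso {U₀ V₀ R T : Scheme.{u}} {g : U₀ ⟶ V₀} {r : R ⟶ V₀} {t : T ⟶ U₀} {g' : T ⟶ R}
    (sq : IsPullback t g' g r) (u₀ : U₀) [IsIso (g.stalkMap u₀)] (v' : R) (h : r v' = g u₀) :
    ∃ ω, t ω = u₀ ∧ g' ω = v' ∧ IsIso (g'.stalkMap ω) ∧ ∀ ω', t ω' = u₀ → g' ω' = v' → ω' = ω := by
  let fU := U₀.fromSpecStalk u₀
  have hfg : fU ≫ g = Spec.map (g.stalkMap u₀) ≫ V₀.fromSpecStalk (g u₀) :=
    (Scheme.SpecMap_stalkMap_fromSpecStalk g).symm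
  haveI : Flat fU := GrpField.flat_fromSpecStalk u₀
  haveI : Flat (V₀.fromSpecStalk (g u₀)) := GrpField.flat_fromSpecStalk (g u₀)
  haveI : IsPreimmersion fU := inferInstance
  haveI : Flat (fU ≫ g) := by rw [hfg]; infer_instance
  haveI : IsPreimmersion (fU ≫ g) := by rw [hfg]; infer_instance
  let M := pullback t fU
  let j : M ⟶ T := pullback.fst t fU
  have sqM : IsPullback j (pullback.snd t fU) t fU := IsPullback.of_hasPullback _ _
  have sq2 : IsPullback (pullback.snd t fU) (j ≫ g') (fU ≫ g) r := sqM.flip.paste_vert sq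
  haveI : Flat j := MorphismProperty.of_isPullback (P := @Flat) sqM.flip inferInstance
  haveI : IsPreimmersion j := MorphismProperty.of_isPullback (P := @IsPreimmersion) sqM.flip inferInstance
  haveI : Flat (j ≫ g') := MorphismProperty.of_isPullback (P := @Flat) sq2 inferInstance
  haveI : IsPreimmersion (j ≫ g') := MorphismProperty.of_isPullback (P := @IsPreimmersion) sq2 inferInstance
  have hcl : fU (closedPoint (U₀.presheaf.stalk u₀)) = u₀ := Scheme.fromSpecStalk_closedPoint
  obtain ⟨m, hm1, hm2⟩ := Scheme.exists_preimage_of_isPullback sq2 (closedPoint (U₀.presheaf.stalk u₀)) v'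
    (by rw [Scheme.Hom.comp_apply, hcl, h])
  refine ⟨j m, ?_, (Scheme.Hom.comp_apply j g' m).symm.trans hm2, ?_, fun ω' h1 h2 => ?_⟩
  · rw [← Scheme.Hom.comp_apply, sqM.w, Scheme.Hom.comp_apply, hm1, hcl]
  · haveI := isIso_stalkMap_of_flat_preimmersion (j ≫ g') m
    haveI := isIso_stalkMap_of_flat_preimmersion j m
    haveI : IsIso (g'.stalkMap (j m) ≫ j.stalkMap m) := by
      rw [← Scheme.Hom.stalkMap_comp]
      infer_instance
    exact IsIso.of_isIso_comp_right (g'.stalkMap (j m)) (j.stalkMap m)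
  · obtain ⟨m', hm'1, -⟩ := Scheme.exists_preimage_of_isPullback sqM ω' (closedPoint (U₀.presheaf.stalk u₀))
      (by rw [h1, hcl])
    have : m' = m := (j ≫ g').isEmbedding.injective (by
      rw [Scheme.Hom.comp_apply, hm'1, h2, hm2])
    rw [← hm'1, this]

variable {S : Scheme.{u}}

theorem birational_baseChange {X Y : AlgSp.Space S} (f : X ⟶ Y)
    (hX : IsDecent X.obj) (hY : IsDecent Y.obj)
    (hYf : (irreducibleComponents (Points Y.obj)).Finite)
    (hf : W4stk3decentspacesp2.IsBirational f.hom) {V : Over S} [IsAffine V.left] (b : (yon S).obj V ⟶ Y.obj)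
    (hb : RepWith @Etale b) {P : Sp S} (fst : P ⟶ X.obj) (snd : P ⟶ (yon S).obj V)
    (hP : IsPullback fst snd f.hom b) :
    IsDecent P ∧ (irreducibleComponents (Points P)).Finite ∧
      (irreducibleComponents (Points ((yon S).obj V))).Finite ∧ W4stk3decentspacesp2.IsBirational snd := by
  have hgX := goodAt_of_isDecent X.property hX
  have hgY := goodAt_of_isDecent Y.property hY
  have hPa : IsAlgSpace P := isAlgSpace_of_isPullback_space Y.property X.property (IsAlgSpace.yon_obj V) hP
  have hfst : RepWith @Etale fst := repWith_baseChange hP.flip hb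
  have hPd : IsDecent P := isDecent_of_good hPa fun z =>
    goodAt_of_etale hPa X.property fst (isEtaleMor_of_repWith' hfst) (hgX _)
  have hVd : IsDecent ((yon S).obj V) := isDecent_of_good (IsAlgSpace.yon_obj V) fun z =>
    goodAt_of_etale (IsAlgSpace.yon_obj V) Y.property b (isEtaleMor_of_repWith' hb) (hgY _)
  obtain ⟨_, _⟩ := t0_sober_of_decent (IsAlgSpace.yon_obj V) hVd
  obtain ⟨_, _⟩ := t0_sober_of_decent hPa hPd
  obtain ⟨_, _⟩ := t0_sober_of_decent Y.property hY
  have maxP : ∀ z : Points P, IsMaxPt z ↔ IsMaxPt (Points.map fst z) :=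
    isMaxPt_map_iff X.property hPa hX fst (isEtaleMor_of_repWith' hfst)
  have maxV : ∀ z : Points ((yon S).obj V), IsMaxPt z ↔ IsMaxPt (Points.map b z) :=
    isMaxPt_map_iff Y.property (IsAlgSpace.yon_obj V) hY b (isEtaleMor_of_repWith' hb)
  have hcomm : ∀ z : Points P, Points.map f.hom (Points.map fst z) = Points.map b (Points.map snd z) := fun z => by
    rw [← Points.map_comp, hP.w, Points.map_comp]
  have hVfin : {z : Points ((yon S).obj V) | IsMaxPt z}.Finite := by
    rw [finite_components_iff] at hYf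
    have h1 : (Points.ofPt b ⁻¹' {y : Points Y.obj | IsMaxPt y}).Finite :=
      Set.Finite.preimage' hYf fun y _ => (hgY y).finite Y.property hb
    refine (h1.image (Points.ofScheme V)).subset fun z hz => ?_
    obtain ⟨v, rfl⟩ := (Points.schemeEquiv V).surjective z
    refine ⟨v, ?_, rfl⟩
    have h2 := (maxV _).1 hz
    change IsMaxPt (Points.map b (Points.ofPt (𝟙 _) v)) at h2
    rw [Points.map_ofPt, Category.id_comp] at h2
    exact h2
  have hdown : ∀ z : Points P, IsMaxPt z → IsMaxPt (Points.map snd z) := fun z hz => by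
    rw [maxV, ← hcomm]
    exact (genericPoints_iff Y.property hY _).1
      (hf.bijOn.mapsTo ((genericPoints_iff X.property hX _).2 ((maxP z).1 hz)))
  have key : ∀ v : Points ((yon S).obj V), IsMaxPt v → ∃ z : Points P, IsMaxPt z ∧ Points.map snd z = v ∧
      (∀ z', IsMaxPt z' → Points.map snd z' = v → z' = z) ∧
      ∃ (U' V' : Over S) (a' : (yon S).obj U' ⟶ P) (b' : (yon S).obj V' ⟶ (yon S).obj V) (g' : U' ⟶ V') (u' : U'.left),
        RepWith @IsOpenImmersion a' ∧ RepWith @IsOpenImmersion b' ∧ a' ≫ snd = (yon S).map g' ≫ b' ∧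
          Points.ofPt a' u' = z ∧ IsIso (g'.left.stalkMap u') := by
    intro v hv
    obtain ⟨x, hx, hxy⟩ := hf.bijOn.surjOn ((genericPoints_iff Y.property hY _).2 ((maxV v).1 hv))
    obtain ⟨U₀, V₀, a, b₀, g, u₀, hae, hbe, comm, hau, hiso⟩ := hf.stalkIso x hx
    obtain ⟨R, r, q, sqR⟩ := exists_pullback Y.property.diag b₀ b
    have hqe : RepWith @IsOpenImmersion ((yon S).map q) := repWith_baseChange sqR hbe
    haveI : IsOpenImmersion q.left := (repWith_yon_iff q).1 hqe
    obtain ⟨v₁, rfl⟩ := (Points.schemeEquiv V).surjective v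
    obtain ⟨v', hv'r, hv'q⟩ := (ofPt_eq_iff sqR (g.left u₀) v₁).1 (by
      change _ = Points.map b (Points.ofPt (𝟙 _) v₁) at hxy
      rw [Points.map_ofPt, Category.id_comp] at hxy
      rw [← hxy, ← hau, Points.map_ofPt, comm, ofPt_comp])
    obtain ⟨T, t, g', sqT⟩ := exists_pullback (IsAlgSpace.yon_obj V₀).diag ((yon S).map g) ((yon S).map r)
    have sqT' : IsPullback t.left g'.left g.left r.left := isPullback_yon_iff.1 sqT
    haveI : IsIso (g.left.stalkMap u₀) := hiso
    obtain ⟨ω, hωt, hωg, hωiso, hωu⟩ := exists_unique_stalkIso sqT' u₀ v' hv'r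
    let c : (yon S).obj T ⟶ P := hP.lift ((yon S).map t ≫ a) ((yon S).map g' ≫ (yon S).map q) (by
      rw [Category.assoc, comm, reassoc_of% sqT.w, sqR.w, Category.assoc])
    have sqC : IsPullback ((yon S).map t) c a fst := by
      refine IsPullback.of_bot (v₁₁ := c) (v₂₁ := snd) ?_ (hP.lift_fst _ _ _).symm hP.flip.flip
      rw [hP.lift_snd, comm]
      exact (sqT.paste_vert sqR)
    have hce : RepWith @IsOpenImmersion c := repWith_baseChange sqC hae
    have hzv : Points.map snd (Points.ofPt c ω) = (Points.schemeEquiv V) v₁ := by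
      rw [Points.map_ofPt, hP.lift_snd, ← Functor.map_comp, ofScheme_map, Over.comp_left, Scheme.Hom.comp_apply,
        hωg, hv'q]
      rfl
    have hzx : Points.map fst (Points.ofPt c ω) = x := by
      rw [Points.map_ofPt, hP.lift_fst, ofPt_comp, hωt, hau]
    have hzmax : IsMaxPt (Points.ofPt c ω) := by
      rw [maxP, hzx]
      exact (genericPoints_iff X.property hX _).1 hx
    refine ⟨Points.ofPt c ω, hzmax, hzv, fun z' hz' e => ?_,
      T, R, c, (yon S).map q, g', ω, hce, hqe, hP.lift_snd _ _ _, rfl, hωiso⟩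
    have hz'x : Points.map fst z' = x := hf.bijOn.injOn ((genericPoints_iff X.property hX _).2 ((maxP z').1 hz')) hx
      (by rw [hcomm, e, hxy])
    obtain ⟨p, hp1, hp2⟩ := exists_point_of_isPullback sqC (Points.ofScheme U₀ u₀) z' (by
      rw [hz'x, ← hau]
      show Points.map a (Points.ofPt (𝟙 _) u₀) = _
      rw [Points.map_ofPt, Category.id_comp])
    obtain ⟨ω', rfl⟩ := (Points.schemeEquiv T).surjective p
    change Points.map ((yon S).map t) (Points.ofPt (𝟙 _) ω') = _ at hp1
    change Points.map c (Points.ofPt (𝟙 _) ω') = _ at hp2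
    rw [Points.map_ofPt, Category.id_comp] at hp1 hp2
    rw [ofScheme_map] at hp1
    have h1 : t.left ω' = u₀ := (Points.schemeEquiv U₀).injective hp1
    have h2 : g'.left ω' = v' := q.left.isOpenEmbedding.injective (by
      rw [hv'q, ← Scheme.Hom.comp_apply, ← Over.comp_left]
      refine (Points.schemeEquiv V).injective ?_
      rw [← e, ← hp2, Points.map_ofPt, hP.lift_snd, ← Functor.map_comp, ofScheme_map]
      rfl)
    rw [← hp2, hωu ω' h1 h2]
  have hbij : Set.BijOn (Points.map snd) (genericPoints (Points P)) (genericPoints (Points ((yon S).obj V))) := by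
    refine ⟨fun z hz => ?_, fun z hz z' hz' e => ?_, fun v hv => ?_⟩
    · exact (genericPoints_iff (IsAlgSpace.yon_obj V) hVd _).2 (hdown z ((genericPoints_iff hPa hPd _).1 hz))
    · have hzm := (genericPoints_iff hPa hPd _).1 hz
      obtain ⟨w, -, -, hu, -⟩ := key _ (hdown z hzm)
      rw [hu z hzm rfl, hu z' ((genericPoints_iff hPa hPd _).1 hz') e.symm]
    · obtain ⟨z, hz, hzv, -⟩ := key v ((genericPoints_iff (IsAlgSpace.yon_obj V) hVd _).1 hv)
      exact ⟨z, (genericPoints_iff hPa hPd _).2 hz, hzv⟩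
  have hVgen : (genericPoints (Points ((yon S).obj V))).Finite :=
    hVfin.subset fun z hz => (genericPoints_iff (IsAlgSpace.yon_obj V) hVd z).1 hz
  refine ⟨hPd, ?_, finite_components_iff.2 hVfin, hbij, fun z hz => ?_⟩
  · rw [finite_components_iff]
    exact (Set.Finite.of_finite_image (hVgen.subset hbij.mapsTo.image_subset) hbij.injOn).subset
      fun z hz => (genericPoints_iff hPa hPd z).2 hz
  · have hzm := (genericPoints_iff hPa hPd _).1 hz
    obtain ⟨w, -, -, hu, U', V', a', b', g', u', ha', hb', hc, hu', hi⟩ := key _ (hdown z hzm)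
    exact ⟨U', V', a', b', g', u', ha', hb', hc, hu'.trans (hu z hzm rfl).symm, hi⟩

end Groth.Agent.SpQS
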