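import Groth.Agent.SpQS.BiratStalk
import Groth.Agent.SpQS.SchOpen
import Groth.Agent.Birat.Generic
import Groth.Agent.SchImg.LimPoints
import Groth.Agent.EtInvariance.Extend

/-!
# Birational morphisms are isomorphisms over dense open subschemes
-/

set_option autoImplicit false
universe u

open CategoryTheory CategoryTheory.Limits AlgebraicGeometry Opposite IsLocalRing Topology

set_option backward.isDefEq.respectTransparency false

namespace Groth.Agent.SpQS

open _root_.AlgSp Groth.Agent.AlgSpLib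

variable {S : Scheme.{u}}

theorem mono_of_openImm {F G : Sp S} {f : F ⟶ G} (h : RepWith @IsOpenImmersion f) : Mono f :=
  mono_of_repWith_immersion (repWith_mono (P := @IsOpenImmersion) (Q := @IsImmersion)
    (fun _ _ g hg => have : IsOpenImmersion g := hg; inferInstance) h)

theorem repWith_etale_of_openImm {F G : Sp S} {f : F ⟶ G} (h : RepWith @IsOpenImmersion f) : RepWith @Etale f :=
  repWith_mono (P := @IsOpenImmersion) (Q := @Etale) (fun _ _ g hg => have : IsOpenImmersion g := hg; inferInstance) h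

theorem isIso_stalkMap_congr' {A B : Scheme.{u}} {f g : A ⟶ B} (h : f = g) (x : A) (hi : IsIso (f.stalkMap x)) :
    IsIso (g.stalkMap x) := by
  subst h; exact hi

theorem isIso_stalkMap_of_square {A B A' B' : Scheme.{u}} {i : A' ⟶ A} {k : B' ⟶ B} {g : A ⟶ B} {g' : A' ⟶ B'}
    [IsOpenImmersion i] [IsOpenImmersion k] (w : i ≫ g = g' ≫ k) (a : A') :
    IsIso (g.stalkMap (i a)) ↔ IsIso (g'.stalkMap a) := by
  have h : IsIso ((i ≫ g).stalkMap a) ↔ IsIso ((g' ≫ k).stalkMap a) := by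
    constructor <;> intro h
    · exact isIso_stalkMap_congr' w a h
    · exact isIso_stalkMap_congr' w.symm a h
  rw [Scheme.Hom.stalkMap_comp, Scheme.Hom.stalkMap_comp, isIso_comp_right_iff, isIso_comp_left_iff] at h
  exact h

theorem closure_mem_components_iff {A : Scheme.{u}} (a : A) :
    closure {a} ∈ irreducibleComponents ↥A ↔ IsMaxPt a := by
  rw [← component_generic_iff]
  exact ⟨fun h => ⟨_, h, rfl⟩, fun ⟨T, hT, hx⟩ => by rwa [show closure {a} = T from hx]⟩

theorem finite_maxPts_scheme {X : Sp S} (hX : IsAlgSpace X) (hd : IsDecent X)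
    (hfin : (irreducibleComponents (Points X)).Finite) {U : Over S} {a : (yon S).obj U ⟶ X}
    (ha : RepWith @IsOpenImmersion a) : (irreducibleComponents ↥U.left).Finite := by
  obtain ⟨_, _⟩ := t0_sober_of_decent hX hd
  rw [finite_components_iff] at hfin ⊢
  have := mono_of_openImm ha
  refine (hfin.preimage (f := Points.ofPt a) (SchImg.injective_ofPt_of_mono a).injOn).subset fun u hu => ?_
  exact (isMaxPt_ofPt_iff hX (goodAt_of_isDecent hX hd) (repWith_etale_of_openImm ha) u).2 hu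

theorem dense_of_max {X : Sp S} (hX : IsAlgSpace X) (hd : IsDecent X) {A : Set (Points X)}
    (h : ∀ x, IsMaxPt x → x ∈ A) : Dense A := by
  obtain ⟨_, _⟩ := t0_sober_of_decent hX hd
  intro x
  obtain ⟨y, hy, hy'⟩ := exists_isMaxPt_specializes x
  exact closure_mono (Set.singleton_subset_iff.2 (h y hy')) (specializes_iff_mem_closure.1 hy)

theorem lft_or_lfp {X Y : AlgSp.Space S} (f : X ⟶ Y)
    (h : (LocP @LocallyOfFiniteType f.hom ∧ EtaleLocally (fun T => IsReduced T) Y.obj) ∨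
      LocP @LocallyOfFinitePresentation f.hom) {U V : Over S} (a : (yon S).obj U ⟶ X.obj)
    (b : (yon S).obj V ⟶ Y.obj) (g : U ⟶ V) (ha : RepWith @Etale a) (hb : RepWith @Etale b)
    (comm : a ≫ f.hom = (yon S).map g ≫ b) :
    (LocallyOfFiniteType g.left ∧ IsReduced V.left) ∨ LocallyOfFinitePresentation g.left := by
  rcases h with ⟨h1, h2⟩ | h
  · exact Or.inl ⟨h1 a b g ha hb comm, StalkPoint.isReduced_chart Y.property h2 (EtOver.mk b hb)⟩
  · exact Or.inr (h a b g ha hb comm)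

/-- dense open subschemes which a birational morphism identifies, containing all maximal points -/
theorem exists_dense_iso {X Y : AlgSp.Space S} (f : X ⟶ Y) (hX : IsDecent X.obj) (hY : IsDecent Y.obj)
    (hXf : (irreducibleComponents (Points X.obj)).Finite)
    (hYf : (irreducibleComponents (Points Y.obj)).Finite)
    (hf : W4stk3decentspacesp2.IsBirational f.hom)
    (h : (LocP @LocallyOfFiniteType f.hom ∧ EtaleLocally (fun T => IsReduced T) Y.obj) ∨
      LocP @LocallyOfFinitePresentation f.hom) :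
    ∃ (U V : Over S) (a : (yon S).obj U ⟶ X.obj) (b : (yon S).obj V ⟶ Y.obj) (g : U ⟶ V),
      RepWith @IsOpenImmersion a ∧ RepWith @IsOpenImmersion b ∧
        (∀ x, IsMaxPt x → x ∈ Set.range (Points.ofPt a)) ∧ (∀ y, IsMaxPt y → y ∈ Set.range (Points.ofPt b)) ∧
          a ≫ f.hom = (yon S).map g ≫ b ∧ IsIso g.left := by
  have hgX := goodAt_of_isDecent X.property hX
  have hgY := goodAt_of_isDecent Y.property hY
  obtain ⟨X₁, jX, -, hjX, ⟨U₁, ⟨eX⟩⟩, -, hmaxX⟩ := exists_dense_scheme_max X.property hX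
  obtain ⟨Y₁, jY, -, hjY, ⟨W, ⟨eY⟩⟩, -, hmaxY⟩ := exists_dense_scheme_max Y.property hY
  obtain ⟨b₁, hb₁⟩ : ∃ b₁ : (yon S).obj W ⟶ Y.obj, b₁ = eY.inv ≫ jY := ⟨_, rfl⟩
  obtain ⟨a₁, ha₁⟩ : ∃ a₁ : (yon S).obj U₁ ⟶ X.obj, a₁ = eX.inv ≫ jX := ⟨_, rfl⟩
  have hb₁o : RepWith @IsOpenImmersion b₁ := hb₁ ▸ (repWith_iso_comp_iff _ _).2 hjY
  have ha₁o : RepWith @IsOpenImmersion a₁ := ha₁ ▸ (repWith_iso_comp_iff _ _).2 hjX
  have inY : ∀ (M : Over S) (k : (yon S).obj M ⟶ Y.obj), RepWith @IsOpenImmersion k → ∀ m : M.left,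
      Points.ofPt k m ∈ Set.range (Points.ofPt b₁) := fun M k hk m => by
    obtain ⟨y, hy⟩ := hmaxY M k hk ⟨Points.ofScheme M m, rfl⟩
    obtain ⟨w, hw⟩ := (Points.schemeEquiv W).surjective (Points.map eY.hom y)
    refine ⟨w, ?_⟩
    rw [show Points.ofPt b₁ w = Points.map b₁ (Points.ofPt (𝟙 _) w) by rw [Points.map_ofPt, Category.id_comp]]
    change Points.map b₁ (Points.schemeEquiv W w) = _
    rw [hw, ← Points.map_comp, hb₁, Iso.hom_inv_id_assoc, hy]
    show Points.map k (Points.ofPt (𝟙 _) m) = _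
    rw [Points.map_ofPt, Category.id_comp]
  have inX : ∀ (M : Over S) (k : (yon S).obj M ⟶ X.obj), RepWith @IsOpenImmersion k → ∀ m : M.left,
      Points.ofPt k m ∈ Set.range (Points.ofPt a₁) := fun M k hk m => by
    obtain ⟨y, hy⟩ := hmaxX M k hk ⟨Points.ofScheme M m, rfl⟩
    obtain ⟨w, hw⟩ := (Points.schemeEquiv U₁).surjective (Points.map eX.hom y)
    refine ⟨w, ?_⟩
    rw [show Points.ofPt a₁ w = Points.map a₁ (Points.ofPt (𝟙 _) w) by rw [Points.map_ofPt, Category.id_comp]]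
    change Points.map a₁ (Points.schemeEquiv U₁ w) = _
    rw [hw, ← Points.map_comp, ha₁, Iso.hom_inv_id_assoc, hy]
    show Points.map k (Points.ofPt (𝟙 _) m) = _
    rw [Points.map_ofPt, Category.id_comp]
  obtain ⟨U₂, q₁, g, sqU⟩ := exists_pullback Y.property.diag (a₁ ≫ f.hom) b₁
  obtain ⟨a₂, ha₂⟩ : ∃ a₂ : (yon S).obj U₂ ⟶ X.obj, a₂ = (yon S).map q₁ ≫ a₁ := ⟨_, rfl⟩
  have ha₂o : RepWith @IsOpenImmersion a₂ := ha₂ ▸ repWith_comp (repWith_baseChange sqU.flip hb₁o) ha₁o
  have comm : a₂ ≫ f.hom = (yon S).map g ≫ b₁ := by rw [ha₂, Category.assoc]; exact sqU.w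
  have hcomm : ∀ u : U₂.left, Points.map f.hom (Points.ofPt a₂ u) = Points.ofPt b₁ (g.left u) := fun u => by
    rw [Points.map_ofPt, comm, ofPt_comp]
  have hlift : ∀ x, IsMaxPt x → ∃ u : U₂.left, Points.ofPt a₂ u = x := fun x hx => by
    have hxg := (genericPoints_iff X.property hX x).2 hx
    obtain ⟨U₀, V₀, a, b₀, g₀, u₀, hae, hbe, comm₀, hau, -⟩ := hf.stalkIso x hxg
    obtain ⟨u₁, hu₁⟩ := inX U₀ a hae u₀
    obtain ⟨w, hw⟩ := inY V₀ b₀ hbe (g₀.left u₀)
    obtain ⟨u, hu, -⟩ := (ofPt_eq_iff sqU u₁ w).1 (by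
      rw [hw, ← Points.map_ofPt, hu₁, Points.map_ofPt, comm₀, ofPt_comp])
    exact ⟨u, by rw [ha₂, ofPt_comp, hu, hu₁, hau]⟩
  have hmaxU : ∀ u : U₂.left, IsMaxPt u ↔ IsMaxPt (Points.ofPt a₂ u) := fun u =>
    (isMaxPt_ofPt_iff X.property hgX (repWith_etale_of_openImm ha₂o) u).symm
  have hmaxW : ∀ w : W.left, IsMaxPt w ↔ IsMaxPt (Points.ofPt b₁ w) := fun w =>
    (isMaxPt_ofPt_iff Y.property hgY (repWith_etale_of_openImm hb₁o) w).symm
  have hma := mono_of_openImm ha₂o
  have hmb := mono_of_openImm hb₁o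
  have hstalk : ∀ u : U₂.left, IsMaxPt u → IsIso (g.left.stalkMap u) := fun u hu => by
    obtain ⟨U₀, V₀, a, b₀, g₀, u₀, hae, hbe, comm₀, hau, hiso⟩ :=
      hf.stalkIso _ ((genericPoints_iff X.property hX _).2 ((hmaxU u).1 hu))
    obtain ⟨T, t, j, sqT⟩ := exists_pullback X.property.diag a a₂
    obtain ⟨R, r, q, sqR⟩ := exists_pullback Y.property.diag b₀ b₁
    haveI : IsOpenImmersion t.left := (repWith_yon_iff t).1 (repWith_baseChange sqT.flip ha₂o)
    haveI : IsOpenImmersion j.left := (repWith_yon_iff j).1 (repWith_baseChange sqT hae)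
    haveI : IsOpenImmersion r.left := (repWith_yon_iff r).1 (repWith_baseChange sqR.flip hb₁o)
    haveI : IsOpenImmersion q.left := (repWith_yon_iff q).1 (repWith_baseChange sqR hbe)
    obtain ⟨n, hn⟩ := exists_map_eq (sqR.lift ((yon S).map (t ≫ g₀)) ((yon S).map (j ≫ g)) (by
      rw [Functor.map_comp, Category.assoc, ← comm₀, reassoc_of% sqT.w, comm, Functor.map_comp, Category.assoc]))
    have hnr : n ≫ r = t ≫ g₀ := (yon S).map_injective (by rw [Functor.map_comp, hn, sqR.lift_fst])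
    have hnq : n ≫ q = j ≫ g := (yon S).map_injective (by rw [Functor.map_comp, hn, sqR.lift_snd])
    obtain ⟨τ, hτt, hτj⟩ := (ofPt_eq_iff sqT u₀ u).1 hau
    haveI : IsIso (g₀.left.stalkMap (t.left τ)) := by rw [hτt]; exact hiso
    have h1 : IsIso (n.left.stalkMap τ) :=
      (isIso_stalkMap_of_square (i := t.left) (k := r.left) (g := g₀.left) (g' := n.left)
        (by rw [← Over.comp_left, ← Over.comp_left, hnr]) τ).1 inferInstance
    have h2 := (isIso_stalkMap_of_square (i := j.left) (k := q.left) (g := g.left) (g' := n.left)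
        (by rw [← Over.comp_left, ← Over.comp_left, hnq]) τ).2 h1
    rwa [hτj] at h2
  have hbij : Set.BijOn (fun u : U₂.left => g.left.base u) {u | closure {u} ∈ irreducibleComponents ↥U₂.left}
      {w | closure {w} ∈ irreducibleComponents ↥W.left} := by
    refine ⟨fun u hu => ?_, fun u hu u' hu' e => ?_, fun w hw => ?_⟩
    · show closure {g.left u} ∈ irreducibleComponents ↥W.left
      rw [closure_mem_components_iff, hmaxW, ← hcomm]
      exact (genericPoints_iff Y.property hY _).1 (hf.bijOn.mapsTo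
        ((genericPoints_iff X.property hX _).2 ((hmaxU u).1 ((closure_mem_components_iff u).1 hu))))
    · refine SchImg.injective_ofPt_of_mono a₂ (hf.bijOn.injOn
        ((genericPoints_iff X.property hX _).2 ((hmaxU u).1 ((closure_mem_components_iff u).1 hu)))
        ((genericPoints_iff X.property hX _).2 ((hmaxU u').1 ((closure_mem_components_iff u').1 hu'))) ?_)
      rw [hcomm, hcomm]
      exact congrArg _ e
    · obtain ⟨x, hx, hxw⟩ := hf.bijOn.surjOn
        ((genericPoints_iff Y.property hY _).2 ((hmaxW w).1 ((closure_mem_components_iff w).1 hw)))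
      obtain ⟨u, hu⟩ := hlift x ((genericPoints_iff X.property hX x).1 hx)
      refine ⟨u, (closure_mem_components_iff u).2 ((hmaxU u).2 (hu ▸ (genericPoints_iff X.property hX x).1 hx)), ?_⟩
      exact SchImg.injective_ofPt_of_mono b₁ (by rw [← hxw, ← hu, hcomm])
  obtain ⟨O, O', hO, hO', -, -, hoi, hr⟩ := Birat.exists_dense_opens g.left
    (finite_maxPts_scheme X.property hX hXf ha₂o) (finite_maxPts_scheme Y.property hY hYf hb₁o) hbij
    (fun u hu => hstalk u ((closure_mem_components_iff u).1 hu))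
    (lft_or_lfp f h a₂ b₁ g (repWith_etale_of_openImm ha₂o) (repWith_etale_of_openImm hb₁o) comm)
  haveI := hoi
  let UO : Over S := Over.mk (O.ι ≫ U₂.hom)
  let VO : Over S := Over.mk (O'.ι ≫ W.hom)
  let iO : UO ⟶ U₂ := Over.homMk O.ι rfl
  let iO' : VO ⟶ W := Over.homMk O'.ι rfl
  let l : O.toScheme ⟶ O'.toScheme := IsOpenImmersion.lift O'.ι (O.ι ≫ g.left) (by
    rw [hr, Scheme.Opens.range_ι])
  have hl : l ≫ O'.ι = O.ι ≫ g.left := IsOpenImmersion.lift_fac _ _ _
  let gO : UO ⟶ VO := Over.homMk l (by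
    show l ≫ O'.ι ≫ W.hom = O.ι ≫ U₂.hom
    rw [reassoc_of% hl, Over.w g])
  haveI : IsOpenImmersion l := by
    haveI : IsOpenImmersion (l ≫ O'.ι) := by rw [hl]; infer_instance
    exact IsOpenImmersion.of_comp l O'.ι
  haveI : Surjective l := ⟨fun y => by
    obtain ⟨z, hz⟩ : y.1 ∈ Set.range (O.ι ≫ g.left) := hr.symm ▸ y.2
    refine ⟨z, Subtype.ext ?_⟩
    show O'.ι (l z) = y.1
    rw [← Scheme.Hom.comp_apply, hl, hz]⟩
  haveI : IsIso l := isIso_of_isOpenImmersion_of_opensRange_eq_top l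
    (TopologicalSpace.Opens.ext (Set.range_eq_univ.2 l.surjective))
  refine ⟨UO, VO, (yon S).map iO ≫ a₂, (yon S).map iO' ≫ b₁, gO,
    repWith_comp ((repWith_yon_iff iO).2 (inferInstanceAs (IsOpenImmersion O.ι))) ha₂o,
    repWith_comp ((repWith_yon_iff iO').2 (inferInstanceAs (IsOpenImmersion O'.ι))) hb₁o,
    fun x hx => ?_, fun y hy => ?_, ?_, ‹IsIso l›⟩
  · obtain ⟨u, rfl⟩ := hlift x hx
    exact ⟨(⟨u, hO u ((closure_mem_components_iff u).2 ((hmaxU u).2 hx))⟩ : O.toScheme), by rw [ofPt_comp]; rfl⟩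
  · obtain ⟨x, hx, rfl⟩ := hf.bijOn.surjOn ((genericPoints_iff Y.property hY y).2 hy)
    obtain ⟨u, rfl⟩ := hlift x ((genericPoints_iff X.property hX x).1 hx)
    rw [hcomm] at hy ⊢
    exact ⟨(⟨g.left u, hO' _ ((closure_mem_components_iff _).2 ((hmaxW _).2 hy))⟩ : O'.toScheme), by
      rw [ofPt_comp]; rfl⟩
  · rw [Category.assoc, comm, ← Category.assoc, ← Category.assoc, ← Functor.map_comp, ← Functor.map_comp]
    congr 2
    exact Over.OverMorphism.ext hl.symm

theorem maxPts_open {X : Sp S} (hX : IsAlgSpace X) (hd : IsDecent X) {O : Set (Points X)} (hO : IsOpen O)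
    (hne : O.Nonempty) : ∃ x ∈ O, IsMaxPt x := by
  obtain ⟨_, _⟩ := t0_sober_of_decent hX hd
  obtain ⟨z, hz⟩ := hne
  obtain ⟨x, hxz, hx⟩ := exists_isMaxPt_specializes z
  exact ⟨x, hxz.mem_open hO hz, hx⟩

end Groth.Agent.SpQS
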