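import Groth.Agent.SpQS.FtPts
import Groth.Agent.AlgSpLib.DiagCrit
import Groth.Agent.UnivInjMor.MonoUnram
import Mathlib.AlgebraicGeometry.AlgClosed.Basic
import Mathlib.FieldTheory.IsAlgClosed.AlgebraicClosure

/-!
# Points and fibres of morphisms locally of finite type
-/

universe u

open CategoryTheory CategoryTheory.Limits AlgebraicGeometry Opposite IsLocalRing

set_option backward.isDefEq.respectTransparency false

namespace Groth.Agent.SpQS

open _root_.AlgSp Groth.Agent.AlgSpLib

/-- a scheme locally of finite type over a field with all points closed is discrete -/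
theorem discreteTopology_of_closed_points {k : Type u} [Field k] {F : Scheme.{u}}
    (f : F ⟶ Spec (CommRingCat.of k)) [LocallyOfFiniteType f] (h : ∀ x : F, IsClosed ({x} : Set F)) :
    DiscreteTopology F := by
  have : IsLocallyNoetherian (Spec (CommRingCat.of k)) := inferInstance
  have : IsLocallyNoetherian F := LocallyOfFiniteType.isLocallyNoetherian f
  refine discreteTopology_iff_isOpen_singleton.2 fun x => ?_
  obtain ⟨O, hO, hx, -⟩ := exists_isAffineOpen_mem_and_subset (show x ∈ (⊤ : F.Opens) from trivial)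
  have : IsAffine O.toScheme := hO
  have : CompactSpace O.toScheme := isCompact_iff_compactSpace.1 hO.isCompact
  have : IsNoetherian O.toScheme := {}
  have : TopologicalSpace.NoetherianSpace O.toScheme := inferInstance
  have hc : ∀ y : O.toScheme, IsClosed ({y} : Set O.toScheme) := fun y => by
    convert (h (O.ι y)).preimage O.ι.continuous using 1
    ext z
    simp only [Set.mem_singleton_iff, Set.mem_preimage]
    exact ⟨fun e => e ▸ rfl, fun e => O.ι.isOpenEmbedding.injective e⟩
  have hfin : (Set.univ : Set O.toScheme).Finite := by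
    refine ((TopologicalSpace.NoetherianSpace.finite_irreducibleComponents (α := O.toScheme)).biUnion
      (t := fun C => C) fun C hC => ?_).subset fun y _ =>
      Set.mem_iUnion₂.2 ⟨irreducibleComponent y, irreducibleComponent_mem_irreducibleComponents y,
        mem_irreducibleComponent⟩
    obtain ⟨g, hg⟩ := QuasiSober.sober hC.1 (isClosed_of_mem_irreducibleComponents C hC)
    rw [← hg.def, (hc g).closure_eq]
    exact Set.finite_singleton g
  have : T1Space O.toScheme := ⟨hc⟩
  have : Finite O.toScheme := Set.finite_univ_iff.1 hfin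
  have h1 := O.ι.isOpenEmbedding.isOpenMap _ (isOpen_discrete ({⟨x, hx⟩} : Set O.toScheme))
  rw [Set.image_singleton] at h1
  exact h1

variable {S : Scheme.{u}}

/-- an etale chart of a discrete space locally of finite type over a field is discrete -/
theorem discreteTopology_of_chart {P : Sp S} (hP : IsAlgSpace P) [DiscreteTopology (Points P)] {F : Over S}
    (c : (yon S).obj F ⟶ P) (hc : RepWith @Etale c) {k : Type u} [Field k]
    (f : F.left ⟶ Spec (CommRingCat.of k)) [LocallyOfFiniteType f] : DiscreteTopology F.left := by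
  have : JacobsonSpace F.left := LocallyOfFiniteType.jacobsonSpace f
  refine discreteTopology_of_closed_points f fun w => ?_
  have hM : IsOpen (Points.ofPt c ⁻¹' {Points.ofPt c w}) :=
    (isOpen_discrete _).preimage (Points.continuous_ofPt c)
  obtain ⟨w₀, hw₀, hcl⟩ : ∃ w₀ ∈ Points.ofPt c ⁻¹' {Points.ofPt c w}, IsClosed ({w₀} : Set F.left) :=
    nonempty_inter_closedPoints ⟨w, rfl⟩ hM.isLocallyClosed
  obtain ⟨R, p, q, sqR⟩ := exists_pullback hP.diag c c
  obtain ⟨z, hz, hz'⟩ := (ofPt_eq_iff sqR w w₀).1 (Eq.symm hw₀)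
  have : Etale q.left := hc.2 c _ q sqR
  have : Etale p.left := hc.2 c _ p sqR.flip
  have : LocallyQuasiFinite q.left := UnivInjMor.lqf_of_unramified q.left
  have hzc : IsClosed ({z} : Set R.left) := by
    have hF : IsClosed (q.left ⁻¹' {w₀}) := hcl.preimage q.left.continuous
    have hd := q.left.isDiscrete_preimage_singleton w₀
    have hz₂ : z ∈ q.left ⁻¹' {w₀} := hz'
    have : DiscreteTopology ↥(q.left ⁻¹' {w₀}) := isDiscrete_iff_discreteTopology.1 hd
    have h1 := hF.isClosedEmbedding_subtypeVal.isClosedMap _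
      (isClosed_discrete ({⟨z, hz₂⟩} : Set ↥(q.left ⁻¹' {w₀})))
    rwa [Set.image_singleton] at h1
  have : LocallyOfFiniteType (p.left ≫ f) := inferInstance
  have : JacobsonSpace R.left := LocallyOfFiniteType.jacobsonSpace (p.left ≫ f)
  have h1 := FtPtsLib.image_mem p.left z (isClosed_singleton_iff_locallyOfFiniteType.1 hzc)
  rw [hz] at h1
  exact isClosed_singleton_iff_locallyOfFiniteType.2 h1

/-- discrete fibres give local quasi-finiteness -/
theorem locP_lqf_of_discrete {X Y : Sp S} (hX : IsAlgSpace X) (hY : IsAlgSpace Y) {f : X ⟶ Y}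
    (hf : LocP @LocallyOfFiniteType f)
    (h : ∀ (k : Type u) [Field k] (str : Spec (CommRingCat.of k) ⟶ S) (y : (yon S).obj (Over.mk str) ⟶ Y)
      (P : Sp S) (fst : P ⟶ X) (snd : P ⟶ (yon S).obj (Over.mk str)), IsPullback fst snd f y →
        DiscreteTopology (Points P)) :
    LocP ((@LocallyQuasiFinite : MorphismProperty Scheme.{u}) ⊓ @LocallyOfFiniteType) f := by
  intro U V a b g ha hb comm
  have : LocallyOfFiniteType g.left := hf a b g ha hb comm
  refine ⟨locallyQuasiFinite_iff_isDiscrete_preimage_singleton.2 fun v => ?_, inferInstance⟩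
  let str : Spec (CommRingCat.of (V.left.residueField v)) ⟶ S := V.left.fromSpecResidueField v ≫ V.hom
  let m : Over.mk str ⟶ V := Over.homMk (V.left.fromSpecResidueField v) rfl
  let F : Over S := Over.mk (g.left.fiberι v ≫ U.hom)
  let iF : F ⟶ U := Over.homMk (g.left.fiberι v) rfl
  let pF : F ⟶ Over.mk str := Over.homMk (g.left.fiberToSpecResidueField v) (by
    show g.left.fiberToSpecResidueField v ≫ V.left.fromSpecResidueField v ≫ V.hom = g.left.fiberι v ≫ U.hom
    rw [← Over.w g]
    exact (pullback.condition_assoc (f := g.left) (g := V.left.fromSpecResidueField v) _).symm)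
  have sqF : IsPullback ((yon S).map iF) ((yon S).map pF) ((yon S).map g) ((yon S).map m) :=
    isPullback_yon_iff.2 (IsPullback.of_hasPullback g.left (V.left.fromSpecResidueField v))
  have sqV := IsPullback.of_hasPullback f b
  have hXV : IsAlgSpace (pullback f b) := isAlgSpace_of_isPullback_space hY hX (IsAlgSpace.yon_obj V) sqV
  have sqP := IsPullback.of_hasPullback (pullback.snd f b) ((yon S).map m)
  have hP : IsAlgSpace (pullback (pullback.snd f b) ((yon S).map m)) :=
    isAlgSpace_of_isPullback_space (IsAlgSpace.yon_obj V) hXV (IsAlgSpace.yon_obj _) sqP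
  let e := sqV.lift a ((yon S).map g) comm
  have he : RepWith @Etale e := repWith_etale_of_comp hXV hX (g := pullback.fst f b)
    (by rw [sqV.lift_fst]; exact ha) (isEtaleMor_of_repWith' (repWith_baseChange sqV.flip hb))
  let c := sqP.lift ((yon S).map iF ≫ e) ((yon S).map pF)
    (by rw [Category.assoc, sqV.lift_snd]; exact sqF.w)
  have sqc : IsPullback ((yon S).map iF) c e (pullback.fst (pullback.snd f b) ((yon S).map m)) := by
    refine IsPullback.of_bot ?_ (sqP.lift_fst _ _ _).symm sqP
    rw [sqP.lift_snd, sqV.lift_snd]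
    exact sqF
  have := h (V.left.residueField v) str ((yon S).map m ≫ b) _ _ _ (sqP.paste_horiz sqV)
  have : LocallyOfFiniteType (g.left.fiberToSpecResidueField v) :=
    inferInstanceAs (LocallyOfFiniteType (pullback.snd g.left (V.left.fromSpecResidueField v)))
  have : DiscreteTopology F.left :=
    discreteTopology_of_chart hP c (repWith_baseChange sqc he) (g.left.fiberToSpecResidueField v)
  have hr : Set.range (g.left.fiberι v) = g.left ⁻¹' {v} := g.left.range_fiberι v
  rw [← hr]
  have : DiscreteTopology ↥(g.left.fiber v) := ‹DiscreteTopology F.left›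
  have hemb : Topology.IsEmbedding (g.left.fiberι v) := (g.left.fiberι v).isEmbedding
  exact isDiscrete_iff_discreteTopology.2 hemb.toHomeomorph.symm.isEmbedding.discreteTopology

/-- locally quasi-finite morphisms have discrete fibres -/
theorem discreteTopology_of_locP_lqf {X Y : Sp S} (hX : IsAlgSpace X) (hY : IsAlgSpace Y) {f : X ⟶ Y}
    (hf : LocP ((@LocallyQuasiFinite : MorphismProperty Scheme.{u}) ⊓ @LocallyOfFiniteType) f)
    {k : Type u} [Field k] {str : Spec (CommRingCat.of k) ⟶ S} {y : (yon S).obj (Over.mk str) ⟶ Y}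
    {P : Sp S} {fst : P ⟶ X} {snd : P ⟶ (yon S).obj (Over.mk str)} (sq : IsPullback fst snd f y) :
    DiscreteTopology (Points P) := by
  have hP : IsAlgSpace P := isAlgSpace_of_isPullback_space hY hX (IsAlgSpace.yon_obj _) sq
  obtain ⟨W, π, hπ, hπs⟩ := hP.atlas
  obtain ⟨q, hq⟩ := exists_map_eq (π ≫ snd)
  have hq' := locP_baseChange etST_lqf hX hY hP (IsAlgSpace.yon_obj _) sq hf π (𝟙 _) q hπ repWith_id'
    (by rw [Category.comp_id, hq])
  have : LocallyQuasiFinite q.left := hq'.1
  refine discreteTopology_iff_isOpen_singleton.2 fun x => ?_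
  obtain ⟨w, rfl⟩ := ofPt_surjective hπs x
  have hd := q.left.isDiscrete_preimage_singleton (closedPoint k : ↥(Over.mk str).left)
  have huniv : q.left ⁻¹' {(closedPoint k : ↥(Over.mk str).left)} = Set.univ :=
    Set.eq_univ_of_forall fun z => Subsingleton.elim (α := PrimeSpectrum k) _ _
  rw [huniv] at hd
  have : DiscreteTopology ↥(Set.univ : Set W.left) := isDiscrete_iff_discreteTopology.1 hd
  have : DiscreteTopology W.left := (Homeomorph.Set.univ W.left).symm.isEmbedding.discreteTopology
  have := isOpenMap_ofPt (repWith_universallyOpen_of_etale hπ) _ (isOpen_discrete ({w} : Set W.left))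
  rwa [Set.image_singleton] at this

/-- geometric points lift along surjections locally of finite type -/
theorem exists_geometric_lift {X Y : Sp S} (hX : IsAlgSpace X) (hY : IsAlgSpace Y) {f : X ⟶ Y}
    (hf : LocP @LocallyOfFiniteType f) (hs : IsSurjectiveMor f) {k : Type u} [Field k] [IsAlgClosed k]
    {str : Spec (CommRingCat.of k) ⟶ S} (y : (yon S).obj (Over.mk str) ⟶ Y) :
    ∃ x : (yon S).obj (Over.mk str) ⟶ X, x ≫ f = y := by
  have sq := IsPullback.of_hasPullback f y
  have hP : IsAlgSpace (pullback f y) := isAlgSpace_of_isPullback_space hY hX (IsAlgSpace.yon_obj _) sq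
  obtain ⟨W, π, hπ, hπs⟩ := hP.atlas
  obtain ⟨q, hq⟩ := exists_map_eq (π ≫ pullback.snd f y)
  have : LocallyOfFiniteType q.left :=
    locP_baseChange etST_lft hX hY hP (IsAlgSpace.yon_obj _) sq hf π (𝟙 _) q hπ repWith_id'
      (by rw [Category.comp_id, hq])
  obtain ⟨p, -⟩ := isSurjectiveMor_baseChange sq hs (Points.ofScheme (Over.mk str) (closedPoint k))
  obtain ⟨w, rfl⟩ := ofPt_surjective hπs p
  have : JacobsonSpace W.left :=
    LocallyOfFiniteType.jacobsonSpace (Y := Spec (CommRingCat.of k)) q.left
  obtain ⟨w₀, -, hw₀⟩ := nonempty_inter_closedPoints (X := W.left) (Z := Set.univ) ⟨w, trivial⟩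
    isClosed_univ.isLocallyClosed
  let m : Over.mk str ⟶ W := Over.homMk
    (pointOfClosedPoint (X := W.left) (K := k) q.left w₀ hw₀) (by
    show _ ≫ W.hom = str
    rw [← Over.w q]
    exact pointOfClosedPoint_comp_assoc (X := W.left) (K := k) q.left w₀ hw₀ str)
  refine ⟨(yon S).map m ≫ π ≫ pullback.fst f y, ?_⟩
  rw [Category.assoc, Category.assoc, pullback.condition, ← reassoc_of% hq, ← Functor.map_comp_assoc]
  have : m ≫ q = 𝟙 _ := Over.OverMorphism.ext (pointOfClosedPoint_comp (X := W.left) (K := k) q.left w₀ hw₀)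
  rw [this, (yon S).map_id, Category.id_comp]

/-- surjective from geometric points -/
theorem isSurjectiveMor_of_geometric {X Y : Sp S} {f : X ⟶ Y}
    (h : ∀ (k : Type u) [Field k] [IsAlgClosed k] (str : Spec (CommRingCat.of k) ⟶ S)
      (y : (yon S).obj (Over.mk str) ⟶ Y), ∃ x : (yon S).obj (Over.mk str) ⟶ X, x ≫ f = y) :
    IsSurjectiveMor f := by
  intro y
  obtain ⟨T, a, t, rfl⟩ := exists_ofPt y
  let K := AlgebraicClosure (T.left.residueField t)
  let g : Spec (CommRingCat.of K) ⟶ T.left :=
    Spec.map (CommRingCat.ofHom (algebraMap (T.left.residueField t) K)) ≫ T.left.fromSpecResidueField t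
  let m : Over.mk (g ≫ T.hom) ⟶ T := Over.homMk g rfl
  obtain ⟨x, hx⟩ := h K (g ≫ T.hom) ((yon S).map m ≫ a)
  refine ⟨Points.ofPt x (closedPoint K), ?_⟩
  rw [Points.map_ofPt, hx, ofPt_comp]
  exact congrArg (Points.ofPt a) ((Scheme.Hom.comp_apply _ _ _).trans (Scheme.fromSpecResidueField_apply t _))

end Groth.Agent.SpQS
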