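import Groth.Agent.SpQS.FibDeg
import Groth.Agent.SpQS.Spectral
import Groth.Agent.AlgSpLib.Diag
import Mathlib.CategoryTheory.Limits.Constructions.Over.Products
import Mathlib.FieldTheory.IsAlgClosed.AlgebraicClosure

/-!
# Sober point spaces: charts with quasi-compact fibres
-/

universe u

open CategoryTheory CategoryTheory.Limits AlgebraicGeometry Opposite IsLocalRing

set_option backward.isDefEq.respectTransparency false

namespace Groth.Agent.SpQS

open _root_.AlgSp Groth.Agent.AlgSpLib

variable {S : Scheme.{u}}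

/-- every fibre of the chart over a field valued point is quasi-compact -/
def CompactFibres {X : Sp S} {U : Over S} (a : (yon S).obj U ⟶ X) : Prop :=
  ∀ {K : Type u} [Field K] (str : Spec (CommRingCat.of K) ⟶ S) (x : (yon S).obj (Over.mk str) ⟶ X) (V : Over S)
    (p : V ⟶ U) (q : V ⟶ Over.mk str), IsPullback ((yon S).map p) ((yon S).map q) a x → CompactSpace V.left

theorem CompactFibres.finite {X : Sp S} (hX : IsAlgSpace X) {U : Over S} {a : (yon S).obj U ⟶ X}
    (ha : RepWith @Etale a) (h : CompactFibres a) (y : Points X) : (Points.ofPt a ⁻¹' {y}).Finite := by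
  obtain ⟨T, b, t, rfl⟩ := exists_ofPt y
  let K := T.left.residueField t
  let str : Spec (CommRingCat.of K) ⟶ S := T.left.fromSpecResidueField t ≫ T.hom
  let x : (yon S).obj (Over.mk str) ⟶ X :=
    (yon S).map (Over.homMk (T.left.fromSpecResidueField t) rfl : Over.mk str ⟶ T) ≫ b
  have hx : Points.ofPt x (closedPoint K) = Points.ofPt b t := by
    rw [ofPt_comp]
    exact congrArg (Points.ofPt b) (Scheme.fromSpecResidueField_apply t _)
  exact (ValLib.finite_fibre hX ha x fun V p q sqV => h str x V p q sqV).subset fun v hv => hv.trans hx.symm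

/-- specialisations in the points lift to a chart with finite fibres -/
theorem CompactFibres.exists_lift {X : Sp S} (hX : IsAlgSpace X) {U : Over S} {a : (yon S).obj U ⟶ X}
    (ha : RepWith @Etale a) (h : CompactFibres a) (u : U.left) (y : Points X) (hu : Points.ofPt a u ∈ closure {y}) :
    ∃ v, Points.ofPt a v = y ∧ v ⤳ u := by
  have h1 := (isOpenMap_ofPt (repWith_universallyOpen_of_etale ha)).preimage_closure_subset_closure_preimage
    (show u ∈ Points.ofPt a ⁻¹' closure {y} from hu)
  rw [← Set.biUnion_of_singleton (Points.ofPt a ⁻¹' {y}), (h.finite hX ha y).closure_biUnion] at h1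
  obtain ⟨v, hv, hvu⟩ := Set.mem_iUnion₂.1 h1
  exact ⟨v, hv, specializes_iff_mem_closure.2 hvu⟩

/-- points are Kolmogorov when compact fibre charts cover -/
theorem t0Space_points {X : Sp S} (hX : IsAlgSpace X)
    (hch : ∀ x : Points X, ∃ (U : Over S) (a : (yon S).obj U ⟶ X), IsAffine U.left ∧ RepWith @Etale a ∧
      CompactFibres a ∧ x ∈ Set.range (Points.ofPt a)) : T0Space (Points X) := by
  refine ⟨fun x y hxy => ?_⟩
  obtain ⟨U, a, -, hae, hfib, hx⟩ := hch x
  obtain ⟨u, hu, hmax⟩ := exists_maximal_generisation (hfib.finite hX hae x) hx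
  obtain ⟨v, hv, hvu⟩ := hfib.exists_lift hX hae u y (by
    rw [show Points.ofPt a u = x from hu]; exact specializes_iff_mem_closure.1 hxy.symm.specializes)
  obtain ⟨u', hu', huv⟩ := hfib.exists_lift hX hae v x (by
    rw [hv]; exact specializes_iff_mem_closure.1 hxy.specializes)
  have e := hmax u' hu' (huv.trans hvu)
  subst e
  have : v = u' := hvu.antisymm huv |>.eq
  subst this
  exact (show Points.ofPt a v = x from hu).symm.trans hv

/-- a countable increasing closed exhaustion of a closed subset of an affine scheme has interior -/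
theorem exists_open_inter_subset {U : Scheme.{u}} [IsAffine U] {C : Set U} (hC : IsClosed C) (hne : C.Nonempty)
    (E : ℕ → Set U) (hE : ∀ m, IsClosed (E m)) (hcov : ∀ v ∈ C, ∃ m, v ∈ E m) :
    ∃ (m : ℕ) (W : U.Opens), ((W : Set U) ∩ C).Nonempty ∧ (W : Set U) ∩ C ⊆ E m := by
  by_contra hno
  push Not at hno
  have : SpectralSpace U := by
    have : CompactSpace U := inferInstance
    have : QuasiSeparatedSpace U := inferInstance
    exact {}
  let B := {O : U.Opens // IsCompact (O : Set U) ∧ ((O : Set U) ∩ C).Nonempty}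
  have hstep : ∀ (m : ℕ) (O : B), ∃ O' : B, O'.1 ≤ O.1 ∧ Disjoint (O'.1 : Set U) (E m) := by
    intro m O
    obtain ⟨x, hx, hxE⟩ := Set.not_subset.1 (hno m O.1 O.2.2)
    obtain ⟨A, hA, hxA, hAO⟩ := exists_isAffineOpen_mem_and_subset
      (U := O.1 ⊓ ⟨(E m)ᶜ, (hE m).isOpen_compl⟩) (x := x) ⟨hx.1, hxE⟩
    exact ⟨⟨A, hA.isCompact, x, hxA, hx.2⟩, fun y hy => (hAO hy).1,
      Set.disjoint_left.2 fun y hy hy' => (hAO hy).2 hy'⟩
  choose next hnext hdisj using hstep
  let b₀ : B := ⟨⊤, isCompact_univ, by simpa using hne⟩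
  let O : ℕ → B := fun n => Nat.rec b₀ next n
  have hanti : Antitone fun n => ((O n).1 : Set U) := antitone_nat_of_succ_le fun n => hnext n (O n)
  let F : ℕ → Set (WithConstructibleTopology U) := fun n => WithTopology.ofTopology ⁻¹' ((O n).1 : Set U)
  have hFc : ∀ n, IsClosed (F n) := fun n => by
    refine WithConstructibleTopology.isClosed_iff.2 ?_
    show @IsClosed _ (constructibleTopology U) ((O n).1 : Set U)
    rw [← @isOpen_compl_iff _ _ (constructibleTopology U)]
    exact IsCompact.isOpen_constructibleTopology_of_isClosed (by rw [compl_compl]; exact (O n).2.1)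
      (O n).1.2.isClosed_compl
  let G : Set (WithConstructibleTopology U) := WithTopology.ofTopology ⁻¹' C
  have hG : IsClosed G := by
    refine WithConstructibleTopology.isClosed_iff.2 ?_
    show @IsClosed _ (constructibleTopology U) C
    rw [← @isOpen_compl_iff _ _ (constructibleTopology U)]
    obtain ⟨s, hs, hs'⟩ := PrespectralSpace.isTopologicalBasis.open_eq_sUnion hC.isOpen_compl
    rw [hs']
    exact @isOpen_sUnion _ (constructibleTopology U) _ fun t ht =>
      (hs ht).2.isOpen_constructibleTopology_of_isOpen (hs ht).1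
  obtain ⟨x, hxG, hxF⟩ := hG.isCompact.inter_iInter_nonempty F hFc fun t => by
    obtain ⟨y, hy, hyC⟩ := (O (t.sup id)).2.2
    exact ⟨WithTopology.toTopology _ y, hyC, Set.mem_iInter₂.2 fun n hn =>
      hanti (Finset.le_sup (f := id) hn) hy⟩
  obtain ⟨m, hm⟩ := hcov _ hxG
  exact Set.disjoint_left.1 (hdisj m (O m)) (Set.mem_iInter.1 hxF (m + 1)) hm

/-- a point of a closed subset of an affine scheme has a maximal generisation inside -/
theorem exists_generic_mem {U : Scheme.{u}} {V : U.Opens} {C : Set U} (hC : IsClosed C) {u : U} (hu : u ∈ V)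
    (huC : u ∈ C) : ∃ g ∈ V, g ∈ C ∧ ∀ y ∈ V, y ∈ C → y ⤳ g → y = g := by
  let C' : Set ↥V := Subtype.val ⁻¹' C
  have hC' : IsClosed C' := hC.preimage continuous_subtype_val
  have : QuasiSober ↥V := inferInstanceAs (QuasiSober V.toScheme)
  have : QuasiSober ↥C' := hC'.isClosedEmbedding_subtypeVal.quasiSober
  let c : ↥C' := ⟨⟨u, hu⟩, huC⟩
  have hirr : IsIrreducible (irreducibleComponent c) := isIrreducible_irreducibleComponent
  refine ⟨(hirr.genericPoint.1).1, hirr.genericPoint.1.2, hirr.genericPoint.2, fun y hy hyC hyg => ?_⟩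
  let y' : ↥C' := ⟨⟨y, hy⟩, hyC⟩
  have hyg' : y' ⤳ hirr.genericPoint :=
    (subtype_specializes_iff _ _).2 ((subtype_specializes_iff _ _).2 hyg)
  have hgcl : closure {hirr.genericPoint} = irreducibleComponent c := by
    rw [hirr.genericPoint_closure_eq, isClosed_irreducibleComponent.closure_eq]
  have hsub : irreducibleComponent c ⊆ closure {y'} := by
    rw [← hgcl]
    exact closure_minimal (Set.singleton_subset_iff.2 (specializes_iff_mem_closure.1 hyg')) isClosed_closure
  have h1 : closure {y'} = irreducibleComponent c :=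
    eq_irreducibleComponent (isIrreducible_singleton.closure.isPreirreducible) hsub
  have h2 : hirr.genericPoint ⤳ y' := specializes_iff_mem_closure.2 (by
    rw [hgcl, ← h1]
    exact subset_closure rfl)
  have h3 := (hyg'.antisymm h2).eq
  exact congrArg (fun t : ↥C' => t.1.1) h3

/-- a geometric point over a point of a scheme -/
theorem exists_geomPoint {U : Scheme.{u}} (v : U) : ∃ (Ω : Type u) (_ : Field Ω) (_ : IsAlgClosed Ω)
    (g : Spec (CommRingCat.of Ω) ⟶ U), g (closedPoint Ω) = v := by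
  refine ⟨AlgebraicClosure (U.residueField v), inferInstance, inferInstance,
    Spec.map (CommRingCat.ofHom (algebraMap (U.residueField v) (AlgebraicClosure (U.residueField v)))) ≫
      U.fromSpecResidueField v, ?_⟩
  exact (Scheme.Hom.comp_apply _ _ _).trans (Scheme.fromSpecResidueField_apply v _)

/-- compact fibres bound the degree of the relation of a chart -/
theorem CompactFibres.exists_degLE {X : Sp S} {U R : Over S} {a : (yon S).obj U ⟶ X} (hfib : CompactFibres a)
    {p q : R ⟶ U} (sqR : IsPullback ((yon S).map p) ((yon S).map q) a a) [Etale q.left] [IsSeparated q.left]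
    (v : U.left) : ∃ m, DegLE m q.left v := by
  obtain ⟨Ω, _, _, g, hg⟩ := exists_geomPoint v
  let str : Spec (CommRingCat.of Ω) ⟶ S := g ≫ U.hom
  let gO : Over.mk str ⟶ U := Over.homMk g rfl
  let V : Over S := Over.mk (pullback.fst q.left g ≫ R.hom)
  let vR : V ⟶ R := Over.homMk (pullback.fst q.left g) rfl
  let vK : V ⟶ Over.mk str := Over.homMk (pullback.snd q.left g) (by
    show pullback.snd q.left g ≫ g ≫ U.hom = pullback.fst q.left g ≫ R.hom
    rw [← Over.w q]
    exact (pullback.condition_assoc _).symm)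
  have sqV : IsPullback ((yon S).map vR) ((yon S).map vK) ((yon S).map q) ((yon S).map gO) :=
    isPullback_yon_iff.2 (IsPullback.of_hasPullback q.left g)
  have sq : IsPullback ((yon S).map (vR ≫ p)) ((yon S).map vK) a ((yon S).map gO ≫ a) := by
    rw [Functor.map_comp]
    exact sqV.paste_horiz sqR
  have : CompactSpace ↥(pullback q.left g) := hfib str _ V _ _ sq
  rw [← hg]
  exact SpQS.exists_degLE q.left g

/-- points are sober when compact fibre charts cover -/
theorem quasiSober_points {X : Sp S} (hX : IsAlgSpace X)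
    (hch : ∀ x : Points X, ∃ (U : Over S) (a : (yon S).obj U ⟶ X), IsAffine U.left ∧ RepWith @Etale a ∧
      CompactFibres a ∧ x ∈ Set.range (Points.ofPt a)) : QuasiSober (Points X) := by
  classical
  refine ⟨fun {Z} hZi hZc => ?_⟩
  obtain ⟨z₀, hz₀⟩ := hZi.nonempty
  obtain ⟨U, a, hU, hae, hfib, u₀, hu₀⟩ := hch z₀
  let P : ↥U.left → Points X := Points.ofPt a
  have hPc : Continuous P := Points.continuous_ofPt a
  have hPo : IsOpenMap P := isOpenMap_ofPt (repWith_universallyOpen_of_etale hae)
  let C : Set U.left := P ⁻¹' Z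
  have hC : IsClosed C := hZc.preimage hPc
  have hCne : C.Nonempty := ⟨u₀, show P u₀ ∈ Z by rw [show P u₀ = z₀ from hu₀]; exact hz₀⟩
  obtain ⟨R, p, q, sqR⟩ := exists_pullback hX.diag a a
  let s : R.left ⟶ U.left := q.left
  have : Etale s := (repWith_yon_iff q).1 (repWith_baseChange sqR hae)
  have : IsSeparated s := by
    have hw : p.left ≫ U.hom = q.left ≫ U.hom := (Over.w p).trans (Over.w q).symm
    let j : R.left ⟶ pullback U.hom U.hom := pullback.lift p.left q.left hw
    have : Mono j := ⟨fun {T} g g' e => by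
      have e₁ : g ≫ p.left = g' ≫ p.left := by simpa [j] using congrArg (· ≫ pullback.fst U.hom U.hom) e
      have e₂ : g ≫ q.left = g' ≫ q.left := by simpa [j] using congrArg (· ≫ pullback.snd U.hom U.hom) e
      let To : Over S := Over.mk (g ≫ R.hom)
      let G : To ⟶ R := Over.homMk g rfl
      let G' : To ⟶ R := Over.homMk g' (by
        show g' ≫ R.hom = g ≫ R.hom
        rw [← Over.w p, reassoc_of% e₁])
      have h : (yon S).map G = (yon S).map G' := sqR.hom_ext
        (by rw [← Functor.map_comp, ← Functor.map_comp]; exact congrArg _ (Over.OverMorphism.ext e₁))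
        (by rw [← Functor.map_comp, ← Functor.map_comp]; exact congrArg _ (Over.OverMorphism.ext e₂))
      exact congrArg (fun t => t.left) ((yon S).map_injective h)⟩
    have : IsSeparated U.hom := by
      have : IsSeparated (U.hom ≫ terminal.from S) := inferInstance
      exact IsSeparated.of_comp U.hom (terminal.from S)
    rw [show s = j ≫ pullback.snd U.hom U.hom from (pullback.lift_snd _ _ hw).symm]
    infer_instance
  have hdeg : ∀ v : U.left, ∃ m, DegLE m s v := hfib.exists_degLE sqR
  have hex : ∃ m, ∃ W : U.left.Opens, ((W : Set U.left) ∩ C).Nonempty ∧ ∀ v ∈ W, v ∈ C → DegLE m s v := by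
    obtain ⟨m, W, h1, h2⟩ := exists_open_inter_subset hC hCne (fun m => {v | DegLE m s v})
      (fun m => by simpa [← isOpen_compl_iff, Set.compl_setOf] using isOpen_not_degLE m s) (fun v _ => hdeg v)
    exact ⟨m, W, h1, fun v hv hvC => h2 ⟨hv, hvC⟩⟩
  obtain ⟨W, hWne, hW⟩ := Nat.find_spec hex
  obtain ⟨u, huW, huC, humax⟩ : ∃ u ∈ W, u ∈ C ∧ ∀ k, Nat.find hex = k + 1 → ¬ DegLE k s u := by
    by_cases h0 : Nat.find hex = 0
    · obtain ⟨u, h1, h2⟩ := hWne
      exact ⟨u, h1, h2, fun k hk => by omega⟩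
    · obtain ⟨k, hk⟩ := Nat.exists_eq_succ_of_ne_zero h0
      have := Nat.find_min hex (show k < Nat.find hex by omega)
      push Not at this
      obtain ⟨u, h1, h2, h3⟩ := this W hWne
      exact ⟨u, h1, h2, fun k' hk' => by
        have : k' = k := by omega
        exact this ▸ h3⟩
  obtain ⟨V₀, huV₀, hV₀⟩ := exists_compact_preimage _ s hC W hW u huW huC humax
  obtain ⟨V, hV, huV, hVW⟩ := exists_isAffineOpen_mem_and_subset (U := V₀ ⊓ W) (x := u) ⟨huV₀, huW⟩
  have hK := hV₀ V hV.isCompact (fun v hv => (hVW hv).1)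
  have : QuasiSeparatedSpace R.left := quasiSeparatedSpace_of_quasiSeparated s
  obtain ⟨A, hA, hKA, hAV⟩ : ∃ A : R.left.Opens, IsCompact (A : Set R.left) ∧
      s ⁻¹' ((V : Set U.left) ∩ C) ⊆ (A : Set R.left) ∧ A ≤ s ⁻¹ᵁ V := by
    let ι := {O : R.left.Opens // IsAffineOpen O ∧ O ≤ s ⁻¹ᵁ V}
    obtain ⟨t, ht⟩ := hK.elim_finite_subcover (fun O : ι => (O.1 : Set R.left)) (fun O => O.1.2) (fun r hr => by
      obtain ⟨O, hO, hrO, hOV⟩ := exists_isAffineOpen_mem_and_subset (U := s ⁻¹ᵁ V) (x := r) hr.1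
      exact Set.mem_iUnion.2 ⟨⟨O, hO, hOV⟩, hrO⟩)
    refine ⟨t.sup (fun O : ι => O.1), ?_, ?_, Finset.sup_le fun O _ => O.2.2⟩
    · rw [Finset.sup_eq_iSup]
      simp only [TopologicalSpace.Opens.coe_iSup]
      exact t.isCompact_biUnion fun O _ => O.2.1.isCompact
    · rw [Finset.sup_eq_iSup]
      simpa only [TopologicalSpace.Opens.coe_iSup] using ht
  obtain ⟨g, hgV, hgC, hgmax⟩ := exists_generic_mem hC huV huC
  refine ⟨P g, Set.Subset.antisymm (closure_minimal (Set.singleton_subset_iff.2 hgC) hZc) fun z hz => ?_⟩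
  rw [mem_closure_iff]
  intro O hO hzO
  obtain ⟨_, hvZ, hvO, v, hvV, rfl⟩ := hZi.2 O (P '' (V : Set U.left)) hO (hPo _ V.2) ⟨z, hz, hzO⟩
    ⟨P u, huC, u, huV, rfl⟩
  obtain ⟨V', hV', hvV', hV'O⟩ := exists_isAffineOpen_mem_and_subset
    (U := (⟨P ⁻¹' O, hO.preimage hPc⟩ : U.left.Opens)) (x := v) hvO
  let M : R.left.Opens := A ⊓ p.left ⁻¹ᵁ V'
  have hM : IsCompact (M : Set R.left) := by
    have : CompactSpace A.toScheme := isCompact_iff_compactSpace.1 hA
    have h := (A.ι ≫ p.left).isCompact_preimage hV'.isCompact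
    have h' := h.image A.ι.continuous
    rw [Scheme.Hom.coe_preimage, show ((A.ι ≫ p.left) ⁻¹' (V' : Set U.left)) = A.ι ⁻¹' (p.left ⁻¹' V') from rfl,
      Set.image_preimage_eq_inter_range, Scheme.Opens.range_ι] at h'
    rw [show (M : Set R.left) = p.left ⁻¹' V' ∩ (A : Set R.left) from Set.inter_comm _ _]
    exact h'
  have : CompactSpace M.toScheme := isCompact_iff_compactSpace.1 hM
  have : QuasiCompact (M.ι ≫ s) := inferInstance
  let F : Set M.toScheme := M.ι ⁻¹' (s ⁻¹' C)
  have hgcl : g ∈ closure ((M.ι ≫ s) '' F) := by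
    rw [mem_closure_iff]
    intro N hN hgN
    obtain ⟨w, hwZ, ⟨n, hn, hnw⟩, ⟨v', hv', hvw⟩⟩ := hZi.2 (P '' (N ∩ V)) (P '' (V' : Set U.left))
      (hPo _ (hN.inter V.2)) (hPo _ V'.2) ⟨P g, hgC, g, ⟨hgN, hgV⟩, rfl⟩ ⟨P v, hvZ, v, hvV', rfl⟩
    obtain ⟨r, hr₁, hr₂⟩ := (ofPt_eq_iff sqR v' n).1 (hvw.trans hnw.symm)
    have hrC : s r ∈ C := by
      show P (q.left r) ∈ Z
      rw [hr₂, hnw]; exact hwZ
    have hrA : r ∈ A := hKA ⟨show q.left r ∈ V by rw [hr₂]; exact hn.2, hrC⟩
    let r' : M.toScheme := (⟨r, hrA, show p.left r ∈ V' by rw [hr₁]; exact hv'⟩ : ↥M)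
    refine ⟨(M.ι ≫ s) r', ?_, r', hrC, rfl⟩
    show q.left r ∈ N
    rw [hr₂]; exact hn.1
  obtain ⟨r, hrF, hrg⟩ := SubDescent.exists_specializes_of_mem_closure_image (M.ι ≫ s)
    ((hC.preimage s.continuous).preimage M.ι.continuous) hgcl
  have hrV : (M.ι ≫ s) r ∈ V := hAV (show M.ι r ∈ A from (r : ↥M).2.1)
  have hrg' := hgmax _ hrV hrF hrg
  refine ⟨P g, ?_, rfl⟩
  have e : P (q.left (M.ι r)) = P (p.left (M.ι r)) := ((ofPt_eq_iff sqR _ _).2 ⟨M.ι r, rfl, rfl⟩).symm
  rw [← hrg']
  show P (q.left (M.ι r)) ∈ O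
  rw [e]
  exact hV'O ((r : ↥M).2.2)

/-- a monomorphism can be removed from a cartesian square -/
theorem isPullback_of_comp_mono {C : Type*} [Category C] {P X Y Z Z' : C} {fst : P ⟶ X} {snd : P ⟶ Y}
    {f : X ⟶ Z} {g : Y ⟶ Z} (m : Z ⟶ Z') [Mono m] (h : IsPullback fst snd (f ≫ m) (g ≫ m)) :
    IsPullback fst snd f g := by
  have hw : fst ≫ f = snd ≫ g := (cancel_mono m).1 (by simpa only [Category.assoc] using h.w)
  refine ⟨⟨hw⟩, ⟨PullbackCone.IsLimit.mk hw (fun s => h.lift s.fst s.snd (by
    rw [← Category.assoc, ← Category.assoc, s.condition])) ?_ ?_ ?_⟩⟩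
  · intro s; exact h.lift_fst _ _ _
  · intro s; exact h.lift_snd _ _ _
  · intro s m₀ h1 h2; exact h.hom_ext (h1.trans (h.lift_fst _ _ _).symm) (h2.trans (h.lift_snd _ _ _).symm)

/-- quasi-separated spaces have charts with compact fibres -/
theorem compactFibres_comp_openImmersion {X Y : Sp S} (hY : IsQuasiSeparatedSp Y) {j : Y ⟶ X}
    (hj : RepWith @IsOpenImmersion j) {U : Over S} [IsAffine U.left] (a : (yon S).obj U ⟶ Y) {W : S.Opens}
    (hW : IsAffineOpen W) (hU : ∀ u, U.hom u ∈ W) : CompactFibres (a ≫ j) := by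
  intro K _ str x V p q sq
  by_cases hne : Nonempty V.left
  swap
  · have := not_nonempty_iff.1 hne
    infer_instance
  obtain ⟨v⟩ := hne
  obtain ⟨E, fst, snd, sqE⟩ := exists_isPullback_of_representable hj.1 x
  have hoi : IsOpenImmersion snd.left := hj.2 x fst snd sqE
  obtain ⟨l, hl⟩ := exists_map_eq (sqE.lift ((yon S).map p ≫ a) ((yon S).map q)
    (by rw [Category.assoc]; exact sq.w))
  have hlq : l ≫ snd = q := (yon S).map_injective (by rw [Functor.map_comp, hl, sqE.lift_snd])
  have : Surjective snd.left := ⟨fun t => ⟨l.left v, Subsingleton.elim (α := PrimeSpectrum K) _ _⟩⟩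
  have : IsIso snd.left := (isIso_iff_isOpenImmersion_and_epi_base _).2
    ⟨hoi, (TopCat.epi_iff_surjective _).2 snd.left.surjective⟩
  have : IsIso snd := by
    have : IsIso ((Over.forget S).map snd) := ‹IsIso snd.left›
    exact isIso_of_reflects_iso snd (Over.forget S)
  let x₁ : (yon S).obj (Over.mk str) ⟶ Y := inv ((yon S).map snd) ≫ fst
  have hx₁ : x₁ ≫ j = x := by
    show (inv _ ≫ fst) ≫ j = x
    rw [Category.assoc, sqE.w, IsIso.inv_hom_id_assoc]
  have : Mono j := mono_of_repWith_immersion (repWith_mono (fun {A B} f (hf : IsOpenImmersion f) => by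
    have := hf; infer_instance) hj)
  have sq₁ : IsPullback ((yon S).map p) ((yon S).map q) a x₁ := by
    rw [← hx₁] at sq
    exact isPullback_of_comp_mono j sq
  let T : Over S := U ⨯ Over.mk str
  let ξ : (yon S).obj T ⟶ Y ⨯ Y :=
    prod.lift ((yon S).map prod.fst ≫ a) ((yon S).map prod.snd ≫ x₁)
  have hξ : ξ = prodComparison (yon S) U (Over.mk str) ≫ prod.map a x₁ := by
    apply prod.hom_ext <;> simp [ξ, prodComparison, T]
  let t : V ⟶ T := prod.lift p q
  have sqT : IsPullback ((yon S).map p ≫ a) ((yon S).map t) (Limits.diag Y) ξ := by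
    refine IsPullback.of_iso (isPullback_lift_diag sq₁) (Iso.refl _) (Iso.refl _)
      (asIso (prodComparison (yon S) U (Over.mk str))).symm (Iso.refl _) (by simp) ?_ (by simp) ?_
    · simp only [Iso.refl_hom, Category.id_comp, Iso.symm_hom, asIso_inv]
      rw [IsIso.comp_inv_eq]
      apply prod.hom_ext <;> simp [t, prodComparison, ← Functor.map_comp]
    · simp only [Iso.refl_hom, Category.comp_id, Iso.symm_hom, asIso_inv]
      rw [hξ, IsIso.inv_hom_id_assoc]
  have : QuasiCompact t.left := hY.2 ξ _ t sqT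
  have : CompactSpace T.left := by
    have e := (Over.prodLeftIsoPullback U (Over.mk str)).symm
    suffices CompactSpace ↥(pullback U.hom str) by
      have h : CompactSpace ↥(pullback U.hom (Over.mk str).hom) := this
      exact (Scheme.homeoOfIso e).compactSpace
    have hUr : Set.range U.hom ⊆ Set.range W.ι := by
      rw [Scheme.Opens.range_ι]
      rintro _ ⟨u, rfl⟩
      exact hU u
    have hKr : Set.range str ⊆ Set.range W.ι := by
      rw [Scheme.Opens.range_ι]
      rintro _ ⟨k, rfl⟩
      have e2 : (q.left ≫ str) v = (p.left ≫ U.hom) v :=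
        congrArg (fun f : V.left ⟶ S => f v) ((Over.w q).trans (Over.w p).symm)
      rw [Subsingleton.elim (α := PrimeSpectrum K) k (q.left v)]
      exact (show str (q.left v) = U.hom (p.left v) from
        (Scheme.Hom.comp_apply _ _ _).symm.trans (e2.trans (Scheme.Hom.comp_apply _ _ _))) ▸ hU _
    rw [← IsOpenImmersion.lift_fac W.ι U.hom hUr, ← IsOpenImmersion.lift_fac W.ι str hKr]
    have : IsAffine W.toScheme := hW
    exact (Scheme.homeoOfIso (isPullback_comp_mono (IsPullback.of_hasPullback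
      (IsOpenImmersion.lift W.ι U.hom hUr) (IsOpenImmersion.lift W.ι str hKr)) W.ι).isoPullback).compactSpace
  exact QuasiCompact.compactSpace_of_compactSpace t.left

end Groth.Agent.SpQS
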