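import Groth.Agent.SpQS.ConfSpace
import Groth.Agent.SpQS.Sober
import Groth.Agent.QuotScheme.Free
import Groth.Agent.QuotScheme.Existence
import Groth.Agent.QuotScheme.Props
import Groth.Agent.QA.GenLocus
import Groth.Agent.QA.Props
import Groth.Agent.AlgSpLib.SheafLemmas
import Groth.Agent.AlgSpLib.Subspace
import Groth.Agent.AlgSpLib.LocP
import Groth.Agent.AlgSpLib.SourceDesc
import Groth.Agent.UnivInjMor.MonoUnram

/-!
# Unordered configurations of sheets
-/

universe u

open CategoryTheory CategoryTheory.Limits AlgebraicGeometry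

set_option backward.isDefEq.respectTransparency false

namespace Groth.Agent.SpQS

open _root_.AlgSp Groth.Agent.AlgSpLib

variable {S : Scheme.{u}}

/-- finitely many points of a scheme separated etale over an affine lie in an affine open -/
theorem exists_affine_of_finite {C W : Scheme.{u}} (e : C ⟶ W) [IsAffine W] [IsSeparated e] [Etale e]
    {F : Set C} (hF : F.Finite) : ∃ U : C.Opens, IsAffineOpen U ∧ F ⊆ U := by
  have : LocallyQuasiFinite e := UnivInjMor.lqf_of_unramified _
  choose A hA hxA using fun x : C => (exists_isAffineOpen_mem_and_subset (U := ⊤) (x := x) trivial)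
  let O : C.Opens := ⨆ x ∈ F, A x
  have hFO : ∀ x ∈ F, x ∈ O := fun x hx =>
    TopologicalSpace.Opens.mem_iSup.2 ⟨x, TopologicalSpace.Opens.mem_iSup.2 ⟨hx, (hxA x).1⟩⟩
  have hOc : IsCompact (O : Set C) := by
    simp only [O, TopologicalSpace.Opens.coe_iSup]
    exact hF.isCompact_biUnion fun x _ => (hA x).isCompact
  have : CompactSpace O.toScheme := isCompact_iff_compactSpace.1 hOc
  have : QuasiCompact (O.ι ≫ e) := HasAffineProperty.iff_of_isAffine.mpr ‹_›
  have hqa := (Groth.Agent.QA.of_locallyQuasiFinite (O.ι ≫ e)).2 ⊤ (isAffineOpen_top W)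
  have : (⊤ : O.toScheme.Opens).toScheme.IsQuasiAffine := hqa
  have : O.toScheme.IsQuasiAffine := Scheme.IsQuasiAffine.of_isImmersion (Scheme.topIso O.toScheme).inv
  let i := O.toScheme.toSpecΓ
  obtain ⟨g, hg, hgF⟩ := GrpdLib.exists_basicOpen_of_finite i.opensRange
    ((hF.preimage O.ι.isOpenEmbedding.injective.injOn).image i) (by rintro _ ⟨y, -, rfl⟩; exact ⟨y, rfl⟩)
  refine ⟨O.ι ''ᵁ (i ⁻¹ᵁ (Spec Γ(O.toScheme, ⊤)).basicOpen g),
    (((isAffineOpen_top _).basicOpen g).preimage_of_isOpenImmersion i hg).image_of_isOpenImmersion _,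
    fun x hx => ⟨⟨x, hFO x hx⟩, hgF ⟨⟨x, hFO x hx⟩, hx, rfl⟩, rfl⟩⟩

/-- the quotient of the configurations by the symmetric group -/
theorem exists_confQuot {X : Sp S} (hA : IsAlgSpace X) {W : Over S} [IsAffine W.left]
    {π : (yon S).obj W ⟶ X} {p : ℕ} (c : Conf π p) :
    ∃ (V : Over S) (q : c.C ⟶ V) (f : (yon S).obj V ⟶ X), Etale q.left ∧ Surjective q.left ∧
      V.left.IsSeparated ∧ (CompactSpace ↥c.C.left → CompactSpace ↥V.left) ∧
      (yon S).map q ≫ f = (yon S).map (c.pr 0) ≫ π ∧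
      ∀ {T : Over S} (l l' : T ⟶ c.C) (σ : Equiv.Perm (Fin (p + 1))),
        (∀ i, l' ≫ c.pr i = l ≫ c.pr (σ i)) → l ≫ q = l' ≫ q := by
  have := c.etale
  have := c.sep
  choose a ha using fun σ : Equiv.Perm (Fin (p + 1)) => c.desc (fun i => c.pr (σ i))
    (fun i => (c.comm (σ i)).trans (c.comm (σ 0)).symm) (fun i j h => c.ne _ _ (fun e => h (σ.injective e)))
  have ha₁ : a 1 = 𝟙 _ := c.ext _ _ fun i => by rw [ha, Category.id_comp]; rfl
  have hmul : ∀ σ τ, a σ ≫ a τ = a (σ * τ) := fun σ τ => c.ext _ _ fun i => by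
    rw [Category.assoc, ha, ha, ha]; rfl
  let G := ULift.{u} (Equiv.Perm (Fin (p + 1)))
  let ρ : G →* Aut c.C.left :=
    { toFun := fun g => ⟨(a g.down⁻¹).left, (a g.down).left,
        (congrArg (fun k => k.left) ((hmul g.down⁻¹ g.down).trans (by rw [inv_mul_cancel, ha₁]))),
        (congrArg (fun k => k.left) ((hmul g.down g.down⁻¹).trans (by rw [mul_inv_cancel, ha₁])))⟩
      map_one' := Iso.ext (by
        show (a (1 : G).down⁻¹).left = 𝟙 _
        rw [show (1 : G).down⁻¹ = 1 from inv_one, ha₁]; rfl)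
      map_mul' := fun g h => Iso.ext (by
        show (a (g * h).down⁻¹).left = (a h.down⁻¹).left ≫ (a g.down⁻¹).left
        rw [show (g * h).down⁻¹ = h.down⁻¹ * g.down⁻¹ from mul_inv_rev _ _, ← hmul]; rfl) }
  have hfree : QuotScheme.IsFree ρ := by
    intro K _ _ ξ g h
    by_contra hg
    obtain ⟨i, hi⟩ : ∃ i, g.down⁻¹ i ≠ i := by
      by_contra hall
      push Not at hall
      exact hg (ULift.ext _ _ (inv_eq_one.1 (Equiv.ext hall)))
    apply c.ne _ _ hi K ξ
    have e : (a g.down⁻¹).left ≫ (c.pr i).left = (c.pr (g.down⁻¹ i)).left :=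
      congrArg (fun k => k.left) (ha g.down⁻¹ i)
    have h' : ξ ≫ (a g.down⁻¹).left = ξ := h
    rw [← e, reassoc_of% h']
  obtain ⟨Y, m, hm⟩ := QuotScheme.exists_isQuot ρ fun x => by
    obtain ⟨U, hU, hUx⟩ := exists_affine_of_finite (c.pr 0).left (Set.finite_range fun g : G => (ρ g).hom x)
    exact ⟨U, hU, fun g => hUx ⟨g, rfl⟩⟩
  have := QuotScheme.etaleHom_of_free hm hfree
  have hms : Surjective m := ⟨QuotScheme.surjective hm⟩
  obtain ⟨g₀, hg₀, -⟩ := QuotScheme.existsUnique_desc hm c.C.hom (fun g => Over.w (a g.down⁻¹))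
  let V : Over S := Over.mk g₀
  let q : c.C ⟶ V := Over.homMk m hg₀
  have : Etale q.left := inferInstanceAs (Etale m)
  have : Surjective q.left := hms
  have hα : ∀ σ, (yon S).map (a σ) ≫ (yon S).map (c.pr 0) ≫ π = (yon S).map (c.pr 0) ≫ π := fun σ => by
    rw [← Category.assoc, ← Functor.map_comp, ha, c.comm]
  have hiso := QuotScheme.isIso_graphs hm hfree
  obtain ⟨f, hf⟩ := exists_desc q ((yon S).map (c.pr 0) ≫ π) (fun T l l' e => by
    have e' : l.left ≫ m = l'.left ≫ m := congrArg (fun k => k.left) e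
    let gr : G → (c.C.left ⟶ pullback m m) := fun g =>
      pullback.lift (𝟙 _) (ρ g).hom ((Category.id_comp m).trans (hm.inv g).symm)
    let P : Over S := Over.mk (pullback.fst m m ≫ c.C.hom)
    let k : T ⟶ P := Over.homMk (pullback.lift l.left l'.left e') (by
      show pullback.lift l.left l'.left e' ≫ pullback.fst m m ≫ c.C.hom = T.hom
      rw [pullback.lift_fst_assoc, Over.w l])
    let p₁ : P ⟶ c.C := Over.homMk (pullback.fst m m) rfl
    let p₂ : P ⟶ c.C := Over.homMk (pullback.snd m m) (by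
      show pullback.snd m m ≫ c.C.hom = pullback.fst m m ≫ c.C.hom
      rw [← hg₀, ← Category.assoc, ← pullback.condition, Category.assoc])
    have key : (yon S).map p₁ ≫ (yon S).map (c.pr 0) ≫ π = (yon S).map p₂ ≫ (yon S).map (c.pr 0) ≫ π := by
      have hgr : ∀ g, IsOpenImmersion (gr g) := fun g =>
        EtaleSections.isOpenImmersion_section (pullback.fst m m) _ (pullback.lift_fst _ _ _)
      refine hom_ext_cover (R := Presieve.ofArrows (fun _ : G => c.C.left) gr) ?_ ?_
      · refine Scheme.zariskiPrecoverage_le_fppfPrecoverage _ ?_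
        refine (Scheme.ofArrows_mem_precoverage_iff (P := @IsOpenImmersion)).mpr ⟨fun x => ?_, hgr⟩
        obtain ⟨z, hz⟩ := (Sigma.desc gr).surjective x
        obtain ⟨g, y, hy⟩ := (sigmaOpenCover fun _ : G => c.C.left).exists_eq z
        refine ⟨g, y, ?_⟩
        have : Sigma.ι (fun _ : G => c.C.left) g ≫ Sigma.desc gr = gr g := Sigma.ι_desc _ _
        rw [← this, Scheme.Hom.comp_apply]
        exact (congrArg (Sigma.desc gr) hy).trans hz
      · rintro _ _ ⟨g⟩
        let j : Over.mk (gr g ≫ P.hom) ⟶ P := Over.homMk (gr g) rfl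
        have j₁ : (j ≫ p₁).left = 𝟙 _ := pullback.lift_fst _ _ _
        have j₂ : j ≫ p₂ = (j ≫ p₁) ≫ a g.down⁻¹ := Over.OverMorphism.ext (by
          show gr g ≫ pullback.snd m m = (gr g ≫ pullback.fst m m) ≫ (ρ g).hom
          rw [pullback.lift_snd, pullback.lift_fst, Category.id_comp])
        show (yon S).map j ≫ _ = (yon S).map j ≫ _
        have e₁ : (yon S).map j ≫ (yon S).map p₂ = (yon S).map (j ≫ p₁) ≫ (yon S).map (a g.down⁻¹) := by
          rw [← Functor.map_comp, j₂, Functor.map_comp]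
        rw [reassoc_of% e₁, hα, Functor.map_comp, Category.assoc]
    have k₁ : k ≫ p₁ = l := Over.OverMorphism.ext (pullback.lift_fst _ _ _)
    have k₂ : k ≫ p₂ = l' := Over.OverMorphism.ext (pullback.lift_snd _ _ _)
    rw [← k₁, ← k₂, Functor.map_comp, Functor.map_comp, Category.assoc, Category.assoc, key])
  refine ⟨V, q, f, inferInstance, hms, ?_, fun hc => ?_, hf, fun {T} l l' σ h => ?_⟩
  · have hC : IsSeparated (terminal.from c.C.left) := by
      rw [terminal.hom_ext (terminal.from c.C.left) ((c.pr 0).left ≫ terminal.from W.left)]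
      infer_instance
    exact ⟨(QuotScheme.isSeparated_iff_of_isQuot hm (f := terminal.from c.C.left) (q := terminal.from Y)
      (terminal.hom_ext _ _)).1 hC⟩
  · exact ⟨hms.surj.range_eq ▸ isCompact_range m.continuous⟩
  · have : l' = l ≫ a σ := c.ext _ _ fun i => by rw [h, Category.assoc, ha]
    refine Over.OverMorphism.ext ?_
    show l.left ≫ m = l'.left ≫ m
    have hinv : (a σ).left ≫ m = m := by
      have := hm.inv (ULift.up σ⁻¹)
      have e : (ρ (ULift.up σ⁻¹)).hom = (a σ).left := by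
        show (a σ⁻¹⁻¹).left = _
        rw [inv_inv]
      rwa [e] at this
    rw [this, show (l ≫ a σ).left = l.left ≫ (a σ).left from rfl, Category.assoc, hinv]

end Groth.Agent.SpQS
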