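import Groth.Agent.SpQS.QFAt
import Groth.Agent.AlgSpLib.QCompact
import Groth.Agent.AlgSpLib.Criteria
import Groth.Prelude.Def_AlgSp4

/-!
# A fibre has finitely many quasi-finite points
-/

universe u

open CategoryTheory CategoryTheory.Limits AlgebraicGeometry Opposite Topology TopologicalSpace

set_option backward.isDefEq.respectTransparency false

namespace Groth.Agent.SpQS

open _root_.AlgSp Groth.Agent.AlgSpLib

variable {S : Scheme.{u}}

/-- isolated points of a finite type scheme over a field are finitely many -/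
theorem finite_quasiFiniteAt_field {U : Scheme.{u}} {K : Type u} [Field K] (g : U ⟶ Spec (CommRingCat.of K))
    [LocallyOfFiniteType g] [CompactSpace U] : {u : U | g.QuasiFiniteAt u}.Finite := by
  have : IsLocallyNoetherian U := LocallyOfFiniteType.isLocallyNoetherian g
  have : IsNoetherian U := {}
  have : Subsingleton ↥(Spec (CommRingCat.of K)) := inferInstanceAs (Subsingleton (PrimeSpectrum K))
  set A : Set U := {u : U | g.QuasiFiniteAt u}
  have hd : DiscreteTopology A := discreteTopology_iff_isOpen_singleton.2 fun a => by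
    obtain ⟨O, hO, ha, h⟩ := (quasiFiniteAt_iff_open g a.1).1 a.2
    rw [isOpen_induced_iff]
    refine ⟨O, hO, Set.ext fun b => ⟨fun hb => Subtype.ext (h b.1 hb (Subsingleton.elim _ _)), ?_⟩⟩
    rintro rfl
    exact ha
  have : Finite A := NoetherianSpace.finite
  exact Set.toFinite A

/-- the quasi-finite points of a fibre over a field point are finite -/
theorem finite_qfAtPt_fibre {X Y Xk : Sp S} (hX : IsAlgSpace X) (hY : IsAlgSpace Y) (f : X ⟶ Y)
    (hf : LocP @LocallyOfFiniteType f) (hqc : IsQuasiCompactMor f) {K : Type u} [Field K]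
    {str : Spec (CommRingCat.of K) ⟶ S}
    {y : (yon S).obj (Over.mk str) ⟶ Y} {fst : Xk ⟶ X} {snd : Xk ⟶ (yon S).obj (Over.mk str)}
    (sq : IsPullback fst snd f y) : {z : Points Xk | QFAtPt f (Points.map fst z)}.Finite := by
  have hKA : IsAlgSpace ((yon S).obj (Over.mk str)) := IsAlgSpace.yon_obj _
  have hXk : IsAlgSpace Xk := isAlgSpace_of_isPullback_space hY hX hKA sq
  have hsnd : LocP @LocallyOfFiniteType snd := locP_baseChange etST_lft hX hY hXk hKA sq hf
  have : IsAffine (Over.mk str).left := inferInstanceAs (IsAffine (Spec (CommRingCat.of K)))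
  have : CompactSpace (Points Xk) :=
    compactSpace_of_isQuasiCompactSp (hqc hKA (isQuasiCompactSp_yon (Over.mk str)) _ _ _ sq)
  obtain ⟨W, c, hW, hc, hcs⟩ := exists_affine_chart_of_compact hXk
  obtain ⟨g, hg⟩ := exists_map_eq (c ≫ snd)
  have comm : c ≫ snd = (yon S).map g ≫ 𝟙 _ := by rw [Category.comp_id, hg]
  have : LocallyOfFiniteType g.left := hsnd c (𝟙 _) g hc repWith_id' comm
  let g' : W.left ⟶ Spec (CommRingCat.of K) := g.left
  have : LocallyOfFiniteType g' := ‹LocallyOfFiniteType g.left›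
  refine ((finite_quasiFiniteAt_field g').image fun w => Points.ofPt c w).subset ?_
  intro z hz
  obtain ⟨w, rfl⟩ := ofPt_surjective hcs z
  exact ⟨w, (qfAtPt_fibre_iff hX hY f hf sq (Points.ofPt c w)).2 hz W _ c (𝟙 _) g w hc repWith_id' comm rfl, rfl⟩

/-- over a point of the base a morphism of finite type has finitely many quasi-finite points -/
theorem finite_qfAtPt_over {X Y : Sp S} (hX : IsAlgSpace X) (hY : IsAlgSpace Y) (f : X ⟶ Y)
    (hf : LocP @LocallyOfFiniteType f) (hqc : IsQuasiCompactMor f) (y : Points Y) :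
    {x : Points X | Points.map f x = y ∧ QFAtPt f x}.Finite := by
  obtain ⟨K, rfl⟩ := Points.mk_surjective y
  have sq := IsPullback.of_hasPullback f K.toHom
  refine ((finite_qfAtPt_fibre hX hY f hf hqc sq).image (Points.map (pullback.fst f K.toHom))).subset ?_
  rintro x ⟨hx, hq⟩
  obtain ⟨k, hk⟩ : ∃ k : K.pt.left, Points.ofPt K.toHom k = Points.mk K := ⟨_, (mk_eq_ofPt K).symm⟩
  obtain ⟨z, hz₁, -⟩ := exists_point_of_isPullback sq x (Points.ofScheme K.pt k) (by
    rw [← Points.ofPt_eq_map_ofScheme, hk, hx])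
  exact ⟨z, show QFAtPt f (Points.map _ z) by rw [hz₁]; exact hq, hz₁⟩

/-- finitely many points of a fibre product over a pair of points with one leg quasi-finite there -/
theorem finite_pair_of_qfAtPt {X Y Z W : Sp S} (hX : IsAlgSpace X) (hY : IsAlgSpace Y)
    {f : X ⟶ Y} {g : Z ⟶ Y} {p : W ⟶ X} {q : W ⟶ Z} (hW : IsPullback p q f g)
    (hf : LocP @LocallyOfFiniteType f) (hqc : IsQuasiCompactMor f) {x : Points X} (z : Points Z)
    (hx : QFAtPt f x) : {w : Points W | Points.map p w = x ∧ Points.map q w = z}.Finite := by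
  obtain ⟨K, rfl⟩ := Points.mk_surjective z
  have sq := IsPullback.of_hasPullback q K.toHom
  refine ((finite_qfAtPt_fibre hX hY f hf hqc (sq.paste_horiz hW)).image
    (Points.map (pullback.fst q K.toHom))).subset ?_
  rintro w ⟨hwx, hwz⟩
  obtain ⟨k, hk⟩ : ∃ k : K.pt.left, Points.ofPt K.toHom k = Points.mk K := ⟨_, (mk_eq_ofPt K).symm⟩
  obtain ⟨z', hz₁, -⟩ := exists_point_of_isPullback sq w (Points.ofScheme K.pt k) (by
    rw [← Points.ofPt_eq_map_ofScheme, hk, hwz])
  exact ⟨z', show QFAtPt f (Points.map _ z') by rw [Points.map_comp, hz₁, hwx]; exact hx, hz₁⟩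

end Groth.Agent.SpQS
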