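import Groth.Agent.SpQS.FiniteNhd
import Groth.Agent.SpQS.FiniteFibrePts
import Groth.Agent.SpQS.Basic
import Groth.Agent.SpQS.DecentQS
import Groth.Agent.SpQS.DecentMor
import Groth.Agent.SpQS.DecentProps
import Groth.Agent.AlgSpLib.DiagCrit
import Groth.Agent.AlgSpLib.PointMisc
import Groth.Agent.LqfRep.Main
import Groth.Agent.S10444
import Groth.Agent.S10179

/-!
# Finite fibre over a point of codimension zero
-/

universe u

open CategoryTheory CategoryTheory.Limits AlgebraicGeometry Opposite Topology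

set_option backward.isDefEq.respectTransparency false

namespace Groth.Agent.SpQS

open _root_.AlgSp Groth.Agent.AlgSpLib

variable {S : Scheme.{u}}

theorem finite_fibre_of_finiteMor {X Y : Sp S} (hX : IsAlgSpace X) (hY : IsAlgSpace Y) (f : X ⟶ Y)
    (hf : IsFiniteMor f) (y : Points Y) : (Points.map f ⁻¹' {y}).Finite := by
  have hr := (isFiniteMor_iff_repWith f).1 hf
  have hl : LocP (@LocallyQuasiFinite ⊓ @LocallyOfFiniteType : MorphismProperty Scheme.{u}) f :=
    (locP_iff_repWith etST_lqf hY hr.1).2 (repWith_mono (fun _ _ g hg => by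
      have : IsFinite g := hg
      exact ⟨inferInstance, inferInstance⟩) hr)
  have hft : LocP @LocallyOfFiniteType f := fun U V a b h ha hb e => (hl a b h ha hb e).2
  have hqc : IsQuasiCompactMor f := (isQuasiCompactMor_iff_repWith hX hY hr.1).2 (repWith_mono (fun _ _ g hg => by
    have : IsFinite g := hg
    infer_instance) hr)
  exact (finite_qfAtPt_over hX hY f hft hqc y).subset fun x hx => ⟨hx, (locP_lqf_iff f hft).1 hl x⟩

theorem isDecent_of_quasiSeparatedSp {X : Sp S} (hX : IsAlgSpace X) (h : IsQuasiSeparatedSp X) : IsDecent X :=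
  isDecent_of_isDecentMor (baseStr X) (isDecentMor_of_qs hX (IsAlgSpace.yon_obj _) _
    ((isQuasiSeparatedSp_iff_mor _).1 h)) (isDecent_yon _)

theorem finite_fibre_iff_finite_nhd [QuasiSeparatedSpace ↥S] {X Y : AlgSp.Space S} (f : X ⟶ Y)
    (hqs : IsQuasiSeparatedMor f.hom) (hft : LocP @LocallyOfFiniteType f.hom) (hY : IsQuasiSeparatedSp Y.obj)
    (y : Points Y.obj) (hy : HasAt (fun U u => ringKrullDim ↥(U.presheaf.stalk u) = 0) Y.obj y) :
    (Points.map f.hom ⁻¹' {y}).Finite ↔
      ∃ (X' Y' : AlgSp.Space S) (i : X' ⟶ X) (j : Y' ⟶ Y) (f' : X' ⟶ Y'), RepWith @IsOpenImmersion i.hom ∧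
        RepWith @IsOpenImmersion j.hom ∧ f' ≫ j = i ≫ f ∧ y ∈ Set.range (Points.map j.hom) ∧
          Points.map f.hom ⁻¹' {y} ⊆ Set.range (Points.map i.hom) ∧ IsFiniteMor f'.hom := by
  obtain ⟨hA⟩ : Nonempty (IsAlgSpace X.obj) := ⟨X.property⟩
  obtain ⟨hB⟩ : Nonempty (IsAlgSpace Y.obj) := ⟨Y.property⟩
  constructor
  swap
  · rintro ⟨X', Y', i, j, f', hi, hj, hw, ⟨y', rfl⟩, hsub, hfin⟩
    refine ((finite_fibre_of_finiteMor X'.property Y'.property f'.hom hfin y').image (Points.map i.hom)).subset ?_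
    intro x hx
    obtain ⟨x', rfl⟩ := hsub hx
    have : Mono j.hom := mono_of_repWith_immersion (repWith_mono (P := @IsOpenImmersion) (Q := @IsImmersion)
      (fun _ _ g hg => have : IsOpenImmersion g := hg; inferInstance) hj)
    refine ⟨x', injective_points_of_mono j.hom ?_, rfl⟩
    rw [← Points.map_comp, show f'.hom ≫ j.hom = i.hom ≫ f.hom from congrArg (·.hom) hw, Points.map_comp]
    exact hx
  intro hfin
  have hXs : IsQuasiSeparatedSp X.obj := (isQuasiSeparatedSp_iff_mor _).2
    (isQuasiSeparatedMor_comp hqs ((isQuasiSeparatedSp_iff_mor (baseStr Y.obj)).1 hY))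
  have hqf : ∀ x, Points.map f.hom x = y → QFAtPt f.hom x := by
    intro x hx
    obtain ⟨r, rfl⟩ := Points.mk_surjective y
    have sq := IsPullback.of_hasPullback f.hom r.toHom
    have hP : IsAlgSpace (pullback f.hom r.toHom) := isAlgSpace_of_isPullback_space hB hA (IsAlgSpace.yon_obj _) sq
    obtain ⟨c1, c2, -, -, -, -, -, hd1, hd2⟩ := S10444.result f hft r ⟨x, hx⟩ ⟨_, hP⟩
      (ObjectProperty.homMk (pullback.fst f.hom r.toHom)) (pullback.snd f.hom r.toHom) sq
    have hdY := isDecent_of_quasiSeparatedSp hB hY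
    have hdX := isDecent_of_quasiSeparatedSp hA hXs
    exact (hasAtMor_nhd_iff hA hB f.hom hft x).1
      (c2.1 (c1.1 ((hd1 hdY).1 ((hd2 hdY hdX).2 hfin))) x hx)
  choose B hBo hBc hxB hBs using fun x : Points X.obj => S10179.result X x Set.univ isOpen_univ trivial
  let O : Set (Points X.obj) := ⋃ x ∈ Points.map f.hom ⁻¹' {y}, B x
  have hO : IsOpen O := isOpen_biUnion fun x _ => hBo x
  have hOc : IsCompact O := hfin.isCompact_biUnion fun x _ => hBc x
  have hO' := isAlgSpace_subSheaf hA hO
  have hi := repWith_subInc hO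
  have hi' : RepWith @IsImmersion (subInc O) := repWith_mono (P := @IsOpenImmersion) (Q := @IsImmersion)
    (fun _ _ g hg => have : IsOpenImmersion g := hg; inferInstance) hi
  have : Mono (subInc O) := mono_of_repWith_immersion hi'
  obtain ⟨hei, -⟩ := immersion_topology hA hi'
  have : CompactSpace (Points (subSheaf O)) := ⟨hei.isCompact_iff.2 (by rwa [Set.image_univ, range_subInc])⟩
  have hqc : IsQuasiCompactMor (subInc O ≫ f.hom) :=
    isQuasiCompactMor_of_qc_qs hO' hB _ (isQuasiCompactSp_of_compactSpace hO') hY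
  have hqs' : IsQuasiSeparatedMor (subInc O ≫ f.hom) :=
    isQuasiSeparatedMor_comp (repWith_mono (P := @IsClosedImmersion) (Q := @QuasiCompact)
      (fun _ _ g hg => have : IsClosedImmersion g := hg; inferInstance) (LqfRep.isSeparatedMor_of_mono (subInc O))) hqs
  have hie : IsEtaleMor (subInc O) := isEtaleMor_of_repWith' (repWith_mono
    (fun {A B} g (hg : IsOpenImmersion g) => (by have := hg; infer_instance : Etale g)) hi)
  have hlft : LocP @LocallyOfFiniteType (subInc O ≫ f.hom) := fun U V a b h ha hb comm =>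
    hft _ b h (hie a ha) hb (by rw [Category.assoc]; exact comm)
  obtain ⟨Y', j, hY', hj, hmem, hfin'⟩ := exists_finite_nhd hO' hB (subInc O ≫ f.hom) hlft hqc hqs' hy fun x hx =>
    fun U V a b h u ha hb comm hu => hqf (Points.map (subInc O) x) (by rw [← Points.map_comp]; exact hx) U V
      (a ≫ subInc O) b h u (hie a ha) hb (by rw [Category.assoc]; exact comm) (by rw [← Points.map_ofPt, hu])
  have sq := IsPullback.of_hasPullback j (subInc O ≫ f.hom)
  have hX' := isAlgSpace_of_isPullback_space hB hY' hO' sq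
  refine ⟨⟨pullback j (subInc O ≫ f.hom), hX'⟩, ⟨Y', hY'⟩, ObjectProperty.homMk (pullback.snd _ _ ≫ subInc O),
    ObjectProperty.homMk j, ObjectProperty.homMk (pullback.fst _ _),
    repWith_comp (repWith_baseChange sq hj) hi, hj, ?_, hmem, ?_, (isFiniteMor_iff_repWith _).2 hfin'⟩
  · apply ObjectProperty.hom_ext
    show pullback.fst _ _ ≫ j = (pullback.snd _ _ ≫ subInc O) ≫ f.hom
    rw [Category.assoc, pullback.condition]
  · intro x hx
    obtain ⟨z, rfl⟩ : x ∈ Set.range (Points.map (subInc O)) := by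
      rw [range_subInc]
      exact Set.mem_biUnion hx (hxB x)
    obtain ⟨y', hy'⟩ := hmem
    obtain ⟨w, -, hw⟩ := exists_point_of_isPullback sq y' z (by rw [hy', Points.map_comp]; exact hx.symm)
    exact ⟨w, by show Points.map (pullback.snd _ _ ≫ subInc O) w = _; rw [Points.map_comp, hw]⟩

end Groth.Agent.SpQS
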