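import Groth.Agent.SpQS.Basic
import Groth.Agent.SpQS.GoodPt
import Groth.Agent.AlgSpLib.QCompact

/-!
# Points finite over closed points of the base give finite morphisms
-/

universe u

open CategoryTheory CategoryTheory.Limits AlgebraicGeometry Opposite IsLocalRing

set_option backward.isDefEq.respectTransparency false

namespace Groth.Agent.SpQS

open _root_.AlgSp Groth.Agent.AlgSpLib

variable {S : Scheme.{u}}

theorem repWith_finite_of_finite_base {X : Sp S} (hX : IsAlgSpace X) (hd : IsDecent X) {k : Type u} [Field k]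
    {str : Spec (CommRingCat.of k) ⟶ S} [IsFinite str] (p : (yon S).obj (Over.mk str) ⟶ X) :
    RepWith @IsFinite p ∧ (Mono str → RepWith @IsClosedImmersion p) := by
  have hrep : Representable p := fun {T} ξ => by
    obtain ⟨V, v₁, v₂, sqV⟩ := exists_pullback hX.diag p ξ
    exact ⟨V, v₂, (yon S).map v₁, sqV⟩
  obtain ⟨U, π, ι, O, hπ, hπs, hO, -, hcov⟩ := exists_affine_chart_family hX
  obtain ⟨P, pP, qP, sqP⟩ := exists_pullback hX.diag p π
  have := isLocallySurjective_of_atlas hπ hπs
  have hfin : IsFinite qP.left := by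
    refine IsZariskiLocalAtTarget.of_iSup_eq_top O (eq_top_iff.2 fun z _ => TopologicalSpace.Opens.mem_iSup.2 (hcov z))
      fun i => ?_
    let Z : Over S := Over.mk ((O i).ι ≫ U.hom)
    let inc : Z ⟶ U := Over.homMk (O i).ι rfl
    have : IsAffine Z.left := (hO i : IsAffine (O i).toScheme)
    let Pi : Over S := Over.mk ((qP.left ⁻¹ᵁ O i).ι ≫ P.hom)
    let iP : Pi ⟶ P := Over.homMk (qP.left ⁻¹ᵁ O i).ι rfl
    let qi : Pi ⟶ Z := Over.homMk (qP.left ∣_ O i) (by
      show (qP.left ∣_ O i) ≫ (O i).ι ≫ U.hom = (qP.left ⁻¹ᵁ O i).ι ≫ P.hom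
      rw [morphismRestrict_ι_assoc, Over.w qP])
    have hZe : RepWith @Etale ((yon S).map inc ≫ π) :=
      repWith_comp ((repWith_yon_iff inc).2 (show Etale (O i).ι from inferInstance)) hπ
    have sqI : IsPullback ((yon S).map qi) ((yon S).map (iP ≫ pP)) ((yon S).map inc ≫ π) p := by
      rw [Functor.map_comp]
      exact (isPullback_yon_iff.2 (isPullback_morphismRestrict qP.left (O i))).paste_vert sqP.flip
    let c' : Pi.left ⟶ Spec (CommRingCat.of k) := (iP ≫ pP).left
    have : Etale c' := (repWith_yon_iff (iP ≫ pP)).1 (repWith_baseChange sqI hZe)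
    have : CompactSpace Pi.left := ValLib.compactSpace_fibre hX hd p sqI
    have : LocallyQuasiFinite c' := UnivInjMor.lqf_of_unramified c'
    have : QuasiCompact c' := HasAffineProperty.iff_of_isAffine.mpr ‹CompactSpace Pi.left›
    have : IsFinite c' := IsFinite.of_locallyQuasiFinite c'
    have : IsFinite (qi.left ≫ Z.hom) := by
      rw [show qi.left ≫ Z.hom = c' ≫ str from (Over.w qi).trans (Over.w (iP ≫ pP)).symm]
      infer_instance
    have : IsSeparated Z.hom := by
      have : IsSeparated (Z.hom ≫ terminal.from S) := inferInstance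
      exact IsSeparated.of_comp Z.hom (terminal.from S)
    exact MorphismProperty.of_postcomp (W := @IsFinite) (W' := @IsSeparated) qi.left Z.hom ‹_› ‹_›
  have hfp : RepWith @IsFinite p := repWith_of_isLocallySurjective (P := @IsFinite) hrep sqP
    ((repWith_yon_iff qP).2 hfin)
  refine ⟨hfp, fun hm => ⟨hrep, fun A B ξ fst snd sq => ?_⟩⟩
  have : Mono (Over.homMk str (by simp) : Over.mk str ⟶ Over.mk (𝟙 S)) := mono_of_left _
  have he : p ≫ baseStr X = (yon S).map (Over.homMk str (by simp) : Over.mk str ⟶ Over.mk (𝟙 S)) :=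
    isTerminalBase.hom_ext _ _
  have : Mono p := by
    have : Mono (p ≫ baseStr X) := by rw [he]; infer_instance
    exact mono_of_mono p (baseStr X)
  have : Mono ((yon S).map snd) := sq.mono_snd_of_mono
  have : Mono snd := (yon S).mono_of_mono_map ‹_›
  exact (IsClosedImmersion.iff_isFinite_and_mono snd.left).2 ⟨hfp.2 ξ fst snd sq, Over.mono_left_of_mono snd⟩

end Groth.Agent.SpQS
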