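import Groth.Agent.SpQS.MonoPt
import Groth.Agent.SpQS.MonoField
import Groth.Prelude.Def_AlgSpDec

/-!
# Elementary etale neighbourhoods form a cofiltered category
-/

universe u

open CategoryTheory CategoryTheory.Limits AlgebraicGeometry Opposite IsLocalRing

set_option backward.isDefEq.respectTransparency false

namespace Groth.Agent.SpQS

open _root_.AlgSp Groth.Agent.AlgSpLib

variable {S : Scheme.{u}}

theorem isIso_of_fieldPts_section {K L : Type u} [Field K] [Field L] (φ : Spec (CommRingCat.of K) ⟶ Spec (CommRingCat.of L))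
    (ψ : Spec (CommRingCat.of L) ⟶ Spec (CommRingCat.of K)) (h : φ ≫ ψ = 𝟙 _) : IsIso ψ := by
  obtain ⟨f, rfl⟩ := Spec.map_surjective φ
  obtain ⟨g, rfl⟩ := Spec.map_surjective ψ
  rw [← Spec.map_comp, ← Spec.map_id, Spec.map_inj] at h
  have hf : Function.Surjective f.hom := fun k => ⟨g.hom k, congr($(congrArg CommRingCat.Hom.hom h) k)⟩
  have : IsIso f := (ConcreteCategory.isIso_iff_bijective f).2 ⟨f.hom.injective, hf⟩
  have : g = inv f := IsIso.eq_inv_of_inv_hom_id h
  rw [this]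
  infer_instance

/-- maps from field spectra factor through the residue field -/
theorem exists_factor_resPt {U : Over S} {K : Type u} [Field K] {str : Spec (CommRingCat.of K) ⟶ S}
    (g : Over.mk str ⟶ U) {v : U.left} (h : g.left (closedPoint K) = v) :
    ∃ φ : Over.mk str ⟶ resPt U v, φ ≫ resInc U v = g := by
  subst h
  let g' : Spec (CommRingCat.of K) ⟶ U.left := g.left
  have h1 : Spec.map ((Scheme.SpecToEquivOfField K U.left) g').2 ≫
      U.left.fromSpecResidueField ((Scheme.SpecToEquivOfField K U.left) g').1 = g' :=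
    (Scheme.SpecToEquivOfField K U.left).left_inv g'
  refine ⟨Over.homMk (Spec.map ((Scheme.SpecToEquivOfField K U.left) g').2) ?_, Over.OverMorphism.ext h1⟩
  show Spec.map _ ≫ U.left.fromSpecResidueField (g' (closedPoint K)) ≫ U.hom = str
  exact (Category.assoc _ _ _).symm.trans ((congrArg (· ≫ U.hom) h1).trans (Over.w g))

theorem elem_toHom {F : Sp S} {U : Over S} (a : (yon S).obj U ⟶ F) (u : U.left) :
    (FieldPt.ofPt a u).toHom = (yon S).map (resInc U u) ≫ a := FieldPt.toHom_ofPt a u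

theorem elem_cofiltered_dominate {X : Sp S} (hX : IsAlgSpace X) (x : Points X) {U₁ U₂ : Over S}
    {a₁ : (yon S).obj U₁ ⟶ X} {a₂ : (yon S).obj U₂ ⟶ X} {u₁ : U₁.left} {u₂ : U₂.left}
    (h₁ : IsElemEtaleNbhd a₁ u₁ x) (h₂ : IsElemEtaleNbhd a₂ u₂ x) :
    ∃ (U : Over S) (a : (yon S).obj U ⟶ X) (v : U.left) (g₁ : U ⟶ U₁) (g₂ : U ⟶ U₂),
      IsElemEtaleNbhd a v x ∧ (yon S).map g₁ ≫ a₁ = a ∧ (yon S).map g₂ ≫ a₂ = a ∧
        g₁.left v = u₁ ∧ g₂.left v = u₂ := by
  obtain ⟨R, t, s, sq⟩ := exists_pullback hX.diag a₁ a₂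
  obtain ⟨P, p, q, ι, sqP, -, hr⟩ := exists_point_product sq u₁ u₂
  have hm₁ := h₁.mono
  have hm₂ := h₂.mono
  rw [elem_toHom] at hm₁ hm₂
  obtain ⟨r, hr₁, hr₂⟩ := (ofPt_eq_iff sq u₁ u₂).1 (h₁.ofPt_eq.trans h₂.ofPt_eq.symm)
  obtain ⟨z, -⟩ : r ∈ Set.range ι := by rw [hr]; exact ⟨hr₁, hr₂⟩
  have : Mono ((yon S).map p) := sqP.mono_fst_of_mono
  have : IsIso ((yon S).map p) := isIso_of_mono_to_field (U₁.left.fromSpecResidueField u₁ ≫ U₁.hom)
    (IsAlgSpace.yon_obj P) ((yon S).map p) (Points.ofScheme P z)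
  obtain ⟨m, hm⟩ := exists_map_eq (sq.lift ((yon S).map (resInc U₁ u₁))
    (inv ((yon S).map p) ≫ (yon S).map q ≫ (yon S).map (resInc U₂ u₂)) (by
      rw [Category.assoc, Category.assoc, ← sqP.w, IsIso.inv_hom_id_assoc]))
  have hmt : m ≫ t = resInc U₁ u₁ := (yon S).map_injective (by rw [Functor.map_comp, hm, sq.lift_fst])
  let v := m.left (closedPoint (U₁.left.residueField u₁))
  have ht : t.left v = u₁ := by
    show t.left (m.left _) = u₁
    rw [← Scheme.Hom.comp_apply, ← Over.comp_left, hmt]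
    exact Scheme.fromSpecResidueField_apply u₁ _
  obtain ⟨φ, hφ⟩ := exists_factor_resPt m (v := v) rfl
  obtain ⟨ψ, hψ⟩ := exists_factor_resPt (resInc R v ≫ t) (v := u₁) (by
    rw [Over.comp_left, Scheme.Hom.comp_apply]
    exact (congrArg t.left (Scheme.fromSpecResidueField_apply v _)).trans ht)
  have : IsPreimmersion (resInc U₁ u₁).left := inferInstanceAs (IsPreimmersion (U₁.left.fromSpecResidueField u₁))
  have hid : φ ≫ ψ = 𝟙 _ := by
    have : Mono (resInc U₁ u₁) := mono_of_left _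
    rw [← cancel_mono (resInc U₁ u₁), Category.assoc, hψ, reassoc_of% hφ, hmt, Category.id_comp]
  have hiso : IsIso ψ.left :=
    isIso_of_fieldPts_section (K := U₁.left.residueField u₁) (L := R.left.residueField v) φ.left ψ.left
      (congrArg (fun g => g.left) hid)
  have : Mono ψ := mono_of_left ψ
  have : Mono ((yon S).map ψ) := inferInstance
  refine ⟨R, (yon S).map t ≫ a₁, v, t, s,
    ⟨repWith_comp ((repWith_yon_iff t).2 ((repWith_yon_iff t).1 (repWith_baseChange sq.flip h₂.etale))) h₁.etale,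
      by rw [ofPt_comp, ht, h₁.ofPt_eq], ?_⟩, rfl, sq.w.symm, ht, ?_⟩
  · rw [elem_toHom, ← Functor.map_comp_assoc, ← hψ, Functor.map_comp, Category.assoc]
    exact mono_comp _ _
  · show s.left (m.left _) = u₂
    obtain ⟨l, hl⟩ := exists_map_eq (inv ((yon S).map p) ≫ (yon S).map q)
    have : m ≫ s = l ≫ resInc U₂ u₂ :=
      (yon S).map_injective (by rw [Functor.map_comp, hm, sq.lift_snd, Functor.map_comp, hl, Category.assoc])
    rw [← Scheme.Hom.comp_apply, ← Over.comp_left, this, Over.comp_left, Scheme.Hom.comp_apply]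
    exact Scheme.fromSpecResidueField_apply u₂ _

theorem elem_cofiltered_equalize {X : Sp S} (hX : IsAlgSpace X) (x : Points X) {U₁ U₂ : Over S}
    {a₁ : (yon S).obj U₁ ⟶ X} {a₂ : (yon S).obj U₂ ⟶ X} {u₁ : U₁.left} {u₂ : U₂.left} (b c : U₁ ⟶ U₂)
    (h₁ : IsElemEtaleNbhd a₁ u₁ x) (h₂ : IsElemEtaleNbhd a₂ u₂ x)
    (hb : (yon S).map b ≫ a₂ = a₁) (hc : (yon S).map c ≫ a₂ = a₁) (hbu : b.left u₁ = u₂) (hcu : c.left u₁ = u₂) :
    ∃ (U : Over S) (a : (yon S).obj U ⟶ X) (v : U.left) (h : U ⟶ U₁), IsElemEtaleNbhd a v x ∧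
      (yon S).map h ≫ a₁ = a ∧ h.left v = u₁ ∧ h ≫ b = h ≫ c := by
  obtain ⟨R, t, s, sq⟩ := exists_pullback hX.diag a₂ a₂
  have hm₁ := h₁.mono
  have hm₂ := h₂.mono
  rw [elem_toHom] at hm₁ hm₂
  have hse : Etale s.left := (repWith_yon_iff s).1 (repWith_baseChange sq h₂.etale)
  obtain ⟨δ, hδ⟩ := exists_map_eq (sq.lift (𝟙 _) (𝟙 _) rfl)
  have hδt : δ ≫ t = 𝟙 _ := (yon S).map_injective (by rw [Functor.map_comp, hδ, sq.lift_fst, CategoryTheory.Functor.map_id])
  have hδs : δ ≫ s = 𝟙 _ := (yon S).map_injective (by rw [Functor.map_comp, hδ, sq.lift_snd, CategoryTheory.Functor.map_id])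
  have : Etale δ.left := by
    have h' : Etale (δ.left ≫ s.left) := by rw [← Over.comp_left, hδs]; exact (inferInstance : Etale (𝟙 U₂.left))
    exact MorphismProperty.of_postcomp (W := @Etale) (W' := @Etale) δ.left s.left hse h'
  have : Mono δ.left := by
    have : IsSplitMono δ.left := IsSplitMono.mk' ⟨s.left, congrArg (fun g => g.left) hδs⟩
    infer_instance
  have : IsOpenImmersion δ.left := IsOpenImmersion.of_flat_of_mono δ.left
  obtain ⟨l, hl⟩ := exists_map_eq (sq.lift ((yon S).map b) ((yon S).map c) (hb.trans hc.symm))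
  have hlt : l ≫ t = b := (yon S).map_injective (by rw [Functor.map_comp, hl, sq.lift_fst])
  have hls : l ≫ s = c := (yon S).map_injective (by rw [Functor.map_comp, hl, sq.lift_snd])
  obtain ⟨φb, hφb⟩ := exists_factor_resPt (resInc U₁ u₁ ≫ b) (v := u₂) (by
    rw [Over.comp_left, Scheme.Hom.comp_apply]
    exact (congrArg b.left (Scheme.fromSpecResidueField_apply u₁ _)).trans hbu)
  obtain ⟨φc, hφc⟩ := exists_factor_resPt (resInc U₁ u₁ ≫ c) (v := u₂) (by
    rw [Over.comp_left, Scheme.Hom.comp_apply]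
    exact (congrArg c.left (Scheme.fromSpecResidueField_apply u₁ _)).trans hcu)
  have hbc : φb = φc := (yon S).map_injective ((cancel_mono ((yon S).map (resInc U₂ u₂) ≫ a₂)).1 (by
    rw [← Functor.map_comp_assoc, ← Functor.map_comp_assoc, hφb, hφc, Functor.map_comp, Functor.map_comp,
      Category.assoc, Category.assoc, hb, hc]))
  have hil : resInc U₁ u₁ ≫ l = φb ≫ resInc U₂ u₂ ≫ δ := (yon S).map_injective (sq.hom_ext
    (by rw [← Functor.map_comp, ← Functor.map_comp, Category.assoc, Category.assoc, Category.assoc, hlt, hδt,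
      Category.comp_id, hφb])
    (by rw [← Functor.map_comp, ← Functor.map_comp, Category.assoc, Category.assoc, Category.assoc, hls, hδs,
      Category.comp_id, hbc, hφc]))
  have hmem : l.left u₁ ∈ Set.range δ.left := by
    refine ⟨(φb ≫ resInc U₂ u₂).left (closedPoint (U₁.left.residueField u₁)), ?_⟩
    rw [← Scheme.Hom.comp_apply, ← Over.comp_left, Category.assoc, ← hil, Over.comp_left, Scheme.Hom.comp_apply]
    exact congrArg l.left (Scheme.fromSpecResidueField_apply u₁ _)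
  obtain ⟨w, hw⟩ := hmem
  obtain ⟨v, -, hv⟩ := Scheme.Pullback.exists_preimage_pullback (f := δ.left) (g := l.left) w u₁ hw
  let E : Over S := Over.mk (pullback.snd δ.left l.left ≫ U₁.hom)
  let h : E ⟶ U₁ := Over.homMk (pullback.snd δ.left l.left) rfl
  let k : E ⟶ U₂ := Over.homMk (pullback.fst δ.left l.left) (by
    show pullback.fst δ.left l.left ≫ U₂.hom = pullback.snd δ.left l.left ≫ U₁.hom
    rw [← Over.w δ, ← Over.w l, pullback.condition_assoc])
  have hk : k ≫ δ = h ≫ l := Over.OverMorphism.ext pullback.condition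
  have hbc' : h ≫ b = h ≫ c := by
    rw [← hlt, ← hls, ← Category.assoc, ← Category.assoc, ← hk, Category.assoc, Category.assoc, hδt, hδs]
  have : IsOpenImmersion h.left := inferInstanceAs (IsOpenImmersion (pullback.snd δ.left l.left))
  obtain ⟨ψ, hψ⟩ := exists_factor_resPt (resInc E v ≫ h) (v := u₁) (by
    rw [Over.comp_left, Scheme.Hom.comp_apply]
    exact (congrArg h.left (Scheme.fromSpecResidueField_apply v _)).trans hv)
  have : IsPreimmersion (resInc E v).left := inferInstanceAs (IsPreimmersion (E.left.fromSpecResidueField v))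
  have : Mono (resInc E v ≫ h).left := inferInstanceAs (Mono ((resInc E v).left ≫ h.left))
  have : Mono (resInc E v ≫ h) := mono_of_left _
  have : Mono (ψ ≫ resInc U₁ u₁) := by rw [hψ]; infer_instance
  have : Mono ψ := mono_of_mono ψ (resInc U₁ u₁)
  have : Mono ((yon S).map ψ) := inferInstance
  refine ⟨E, (yon S).map h ≫ a₁, v, h, ⟨repWith_comp ((repWith_yon_iff h).2 (inferInstance : Etale h.left)) h₁.etale,
    by rw [ofPt_comp, show h.left v = u₁ from hv, h₁.ofPt_eq], ?_⟩, rfl, hv, hbc'⟩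
  rw [elem_toHom, ← Functor.map_comp_assoc, ← hψ, Functor.map_comp, Category.assoc]
  exact mono_comp _ _

end Groth.Agent.SpQS
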