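import Groth.Agent.SpQS.ConfStrat
import Groth.Agent.SpQS.ElemNbhd
import Groth.Agent.SpQS.GoodPt

/-!
# Affine elementary etale neighbourhoods with one point over a point of a decent space
-/

universe u

open CategoryTheory CategoryTheory.Limits AlgebraicGeometry Opposite IsLocalRing

set_option backward.isDefEq.respectTransparency false

namespace Groth.Agent.SpQS

open _root_.AlgSp Groth.Agent.AlgSpLib

variable {S : Scheme.{u}}

/-- a quasi-compact monomorphic field point lifts uniquely to some separated etale chart -/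
theorem exists_chart_lifting_point {X : Sp S} (hX : IsAlgSpace X) (p : FieldPt X)
    (hq : RepWith @QuasiCompact p.toHom) : ∃ (V : Over S) (a : (yon S).obj V ⟶ X) (d : p.pt ⟶ V),
      RepWith @Etale a ∧ (yon S).map d ≫ a = p.toHom ∧
      ∀ v : V.left, Points.ofPt a v = Points.mk p → ∃ t, d.left t = v := by
  obtain ⟨W, π, w, hW, hπ, hw, -⟩ := exists_affine_chart_at hX (Points.mk p)
  classical
  obtain ⟨N, hN⟩ := exists_bound_pts hπ p hq
  let c := fun n => (exists_conf hX hπ n).some
  have h0 : Points.mk p ∈ (c 0).pts := by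
    obtain ⟨l, hl⟩ := (c 0).desc (fun _ => 𝟙 W) (fun _ => rfl) (fun i j h => absurd (Fin.ext (by omega)) h)
    refine ⟨l.left w, ?_⟩
    rw [← ofPt_comp, ← Category.assoc, ← Functor.map_comp, hl, CategoryTheory.Functor.map_id, Category.id_comp]
    exact hw
  obtain ⟨n, hn, hn'⟩ : ∃ n, Points.mk p ∈ (c n).pts ∧ Points.mk p ∉ (c (n + 1)).pts := by
    by_contra h
    push Not at h
    have hall : ∀ n, Points.mk p ∈ (c n).pts := fun n => Nat.rec h0 (fun m hm => h m hm) n
    exact hN (c N) (hall N)
  obtain ⟨V, f', -, -, hfe, -, hiso⟩ := exists_stratum_cover hX hπ (c n) (c (n + 1))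
  obtain ⟨i, hi⟩ := exists_subInc_lift (W := (c n).pts) p.toHom (fun t => by
    rw [Points.ofPt_toHom p t]
    exact hn)
  have hiso' := hiso _ _ i (fun z hz => by
    obtain ⟨t, rfl⟩ := (Points.schemeEquiv p.pt).surjective z
    have e : Points.map (subInc (c n).pts) (Points.map i (Points.ofScheme p.pt t)) = Points.mk p := by
      rw [← Points.map_comp, hi, ← Points.ofPt_eq_map_ofScheme]
      exact Points.ofPt_toHom p t
    have hz' : Points.map (subInc (c n).pts) (Points.map i (Points.ofScheme p.pt t)) ∈ (c (n + 1)).pts := hz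
    exact hn' (e ▸ hz')) (pullback.fst i f') (pullback.snd i f') (IsPullback.of_hasPullback i f')
  obtain ⟨d, hd⟩ := exists_map_eq (inv (pullback.fst i f') ≫ pullback.snd i f')
  refine ⟨V, f' ≫ subInc (c n).pts, d, ?_, ?_, fun v hv => ?_⟩
  · exact repWith_comp hfe (repWith_mono (P := @IsOpenImmersion) (Q := @Etale)
      (fun _ _ g hg => have : IsOpenImmersion g := hg; inferInstance) (repWith_subInc ((c n).isOpen_pts hπ)))
  · rw [hd, Category.assoc, ← reassoc_of% (IsPullback.of_hasPullback i f').w, IsIso.inv_hom_id_assoc, hi]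
  · obtain ⟨K, α, β, k, e, hα, -⟩ := exists_of_ofPt_eq (hv.trans (Points.ofPt_toHom p (closedPoint p.K)).symm)
    have e' : (yon S).map β ≫ i = (yon S).map α ≫ f' := by
      rw [← cancel_mono (subInc (c n).pts), Category.assoc, Category.assoc, hi]
      exact e.symm
    let L := (IsPullback.of_hasPullback i f').lift _ _ e'
    have hL₁ : L ≫ pullback.fst i f' = (yon S).map β := (IsPullback.of_hasPullback i f').lift_fst _ _ _
    have hL₂ : L ≫ pullback.snd i f' = (yon S).map α := (IsPullback.of_hasPullback i f').lift_snd _ _ _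
    have hαβ : α = β ≫ d := (yon S).map_injective (by
      rw [Functor.map_comp, hd, ← hL₁, Category.assoc, IsIso.hom_inv_id_assoc, hL₂])
    exact ⟨β.left k, by rw [← hα, hαβ]; rfl⟩

/-- decent spaces have affine elementary etale neighbourhoods with a single point over the given point -/
theorem exists_affine_elem_single {X : Sp S} (hX : IsAlgSpace X) (hd : IsDecent X) (x : Points X) :
    ∃ (U : Over S) (a : (yon S).obj U ⟶ X) (u : U.left), IsAffine U.left ∧
      IsElemEtaleNbhd a u x ∧ Points.ofPt a ⁻¹' {x} = {u} := by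
  obtain ⟨p, rfl, hm, hq⟩ := hd x
  obtain ⟨V, a, d, ha, hda, huniq⟩ := exists_chart_lifting_point hX p hq
  obtain ⟨A, hA, hvA, -⟩ :=
    exists_isAffineOpen_mem_and_subset (U := (⊤ : V.left.Opens)) (x := d.left (closedPoint p.K)) trivial
  let U : Over S := Over.mk (A.ι ≫ V.hom)
  let j : U ⟶ V := Over.homMk A.ι rfl
  have hsub : ∀ t t' : ↥p.pt.left, t = t' := fun t t' => Subsingleton.elim (α := PrimeSpectrum p.K) t t'
  let d' : p.pt ⟶ U := Over.homMk (IsOpenImmersion.lift A.ι d.left (by
      rintro _ ⟨t, rfl⟩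
      rw [hsub t (closedPoint p.K)]
      exact ⟨⟨_, hvA⟩, rfl⟩)) (by
      show IsOpenImmersion.lift A.ι d.left _ ≫ A.ι ≫ V.hom = p.pt.hom
      rw [IsOpenImmersion.lift_fac_assoc]
      exact Over.w d)
  have hd' : (yon S).map d' ≫ (yon S).map j ≫ a = p.toHom := by
    rw [← Category.assoc, ← Functor.map_comp, show d' ≫ j = d from Over.OverMorphism.ext (IsOpenImmersion.lift_fac _ _ _),
      hda]
  let u : U.left := d'.left (closedPoint p.K)
  have hu : Points.ofPt ((yon S).map j ≫ a) u = Points.mk p := by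
    rw [← ofPt_comp, hd', Points.ofPt_toHom]
  refine ⟨U, (yon S).map j ≫ a, u, (hA : IsAffine A.toScheme),
    ⟨repWith_comp ((repWith_yon_iff j).2 (inferInstanceAs (Etale A.ι))) ha, hu, ?_⟩, ?_⟩
  · obtain ⟨φ, hφ⟩ := exists_factor_resPt (str := p.str) d' (v := u) rfl
    rw [elem_toHom]
    have e : (yon S).map φ ≫ (yon S).map (resInc U u) ≫ (yon S).map j ≫ a = p.toHom := by
      rw [← Category.assoc, ← Functor.map_comp, hφ, hd']
    have : Mono ((yon S).map φ ≫ (yon S).map (resInc U u) ≫ (yon S).map j ≫ a) := by rw [e]; exact hm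
    have : Mono ((yon S).map φ) := mono_of_mono _ ((yon S).map (resInc U u) ≫ (yon S).map j ≫ a)
    have : IsIso ((yon S).map φ) := isIso_of_mono_to_field (U.left.fromSpecResidueField u ≫ U.hom)
      (IsAlgSpace.yon_obj p.pt) ((yon S).map φ) (Points.ofScheme p.pt (closedPoint p.K))
    rw [← IsIso.inv_hom_id_assoc ((yon S).map φ) ((yon S).map (resInc U u) ≫ (yon S).map j ≫ a), e]
    exact @mono_comp _ _ _ _ _ _ inferInstance _ hm
  · refine Set.eq_singleton_iff_unique_mem.2 ⟨hu, fun u' hu' => ?_⟩
    have hu'' : Points.ofPt a (j.left u') = Points.mk p := (ofPt_comp _ _ _).symm.trans hu'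
    obtain ⟨t, ht⟩ := huniq _ hu''
    apply A.ι.isOpenEmbedding.injective
    show j.left u' = A.ι (d'.left (closedPoint p.K))
    rw [← ht, hsub t (closedPoint p.K)]
    have e : d' ≫ j = d := Over.OverMorphism.ext (IsOpenImmersion.lift_fac _ _ _)
    exact (congrArg (fun g : p.pt ⟶ V => g.left (closedPoint p.K)) e).symm

end Groth.Agent.SpQS
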