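import Groth.Agent.SpQS.QFAt
import Groth.Agent.SpQS.DimZero

/-!
# Quasi-finiteness over points of codimension zero
-/

universe u

open CategoryTheory CategoryTheory.Limits AlgebraicGeometry Opposite IsLocalRing Topology

set_option backward.isDefEq.respectTransparency false

namespace Groth.Agent.SpQS

open _root_.AlgSp Groth.Agent.AlgSpLib

variable {S : Scheme.{u}}

/-- codimension zero read in any chart -/
theorem isMaxPt_of_hasAt {X : Sp S} (hX : IsAlgSpace X) {x : Points X}
    (h : HasAt (fun U u => ringKrullDim ↥(U.presheaf.stalk u) = 0) X x) {U : Over S} {a : (yon S).obj U ⟶ X}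
    (ha : RepWith @Etale a) {u : U.left} (hu : Points.ofPt a u = x) : IsMaxPt u := by
  obtain ⟨U', a', u', ha', hu', h0⟩ := h
  rw [stalk_dim_eq_genHt] at h0
  rw [← stalk_dim_zero_iff, stalk_dim_eq_genHt, genHt_eq_of_ofPt_eq hX ha ha' (hu.trans hu'.symm)]
  exact h0

theorem qf_of_isMaxPt_fibre {U V : Scheme.{u}} (h : U ⟶ V) [LocallyOfFiniteType h] (u : U)
    (hmax : ∀ u', h u' = h u → IsMaxPt u') : h.QuasiFiniteAt u := by
  rw [Scheme.Hom.quasiFiniteAt_iff_isOpen_singleton_asFiber]
  have : LocallyOfFiniteType (h.fiberToSpecResidueField (h u)) :=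
    inferInstanceAs (LocallyOfFiniteType (pullback.snd h (V.fromSpecResidueField (h u))))
  have : DiscreteTopology ↥(h.fiber (h u)) :=
    discreteTopology_of_closed_points (h.fiberToSpecResidueField (h u)) fun w => by
      refine closure_subset_iff_isClosed.1 fun w' hw' => ?_
      have hs : w ⤳ w' := specializes_iff_mem_closure.2 hw'
      have hmem : ∀ z, h (h.fiberι (h u) z) = h u := fun z => by
        have : h.fiberι (h u) z ∈ h ⁻¹' {h u} := h.range_fiberι (h u) ▸ ⟨z, rfl⟩
        exact this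
      exact ((h.fiberι (h u)).isEmbedding.injective
        (hmax _ (hmem w') _ (hs.map (h.fiberι (h u)).continuous))).symm
  exact isOpen_discrete _

theorem codim_zero_iff_qf {X Y : Sp S} (hX : IsAlgSpace X) (hY : IsAlgSpace Y) (f : X ⟶ Y)
    (hf : LocP @LocallyOfFiniteType f) {y : Points Y}
    (hy : HasAt (fun U u => ringKrullDim ↥(U.presheaf.stalk u) = 0) Y y) :
    ((∀ x, Points.map f x = y → HasAt (fun U u => ringKrullDim ↥(U.presheaf.stalk u) = 0) X x) ↔
      (∀ x, Points.map f x = y → QFAtPt f x)) ∧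
    ((∀ x, Points.map f x = y → HasAt (fun U u => ringKrullDim ↥(U.presheaf.stalk u) = 0) X x → QFAtPt f x) →
      ∀ x, Points.map f x = y → HasAt (fun U u => ringKrullDim ↥(U.presheaf.stalk u) = 0) X x) := by
  obtain ⟨U, V, a, b, h, ha, has, hb, comm⟩ := exists_chart_atlas hX hY f
  have : LocallyOfFiniteType h.left := hf a b h ha hb comm
  have hb' : ∀ {u x}, Points.ofPt a u = x → Points.map f x = Points.ofPt b (h.left u) := by
    rintro u _ rfl
    rw [Points.map_ofPt, comm, ofPt_comp]
  have hmem : ∀ {x}, Points.map f x = y → ∀ {u}, Points.ofPt a u = x → IsMaxPt (h.left u) :=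
    fun hxy _ hu => isMaxPt_of_hasAt hY hy hb ((hb' hu).symm.trans hxy)
  have hcod : ∀ {x u}, Points.ofPt a u = x → IsMaxPt u →
      HasAt (fun U u => ringKrullDim ↥(U.presheaf.stalk u) = 0) X x :=
    fun hu hm => ⟨U, a, _, ha, hu, (stalk_dim_zero_iff _).2 hm⟩
  refine ⟨⟨fun h1 x hxy => ?_, fun h2 x hxy => ?_⟩, fun h3 x hxy => ?_⟩
  · obtain ⟨u, hu⟩ := ofPt_surjective has x
    refine qfAtPt_of_chart hX hY f hf ha hb comm hu (qf_of_isMaxPt_fibre h.left u fun u' hu' => ?_)
    refine isMaxPt_of_hasAt hX (h1 _ ?_) ha rfl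
    rw [hb' rfl, hu', ← hb' hu, hxy]
  · obtain ⟨u, hu⟩ := ofPt_surjective has x
    refine hcod hu fun u' hu' => ?_
    obtain ⟨O, hO, huO, hiso⟩ := (quasiFiniteAt_iff_open _ _).1 (h2 x hxy U V a b h u ha hb comm hu)
    exact hiso u' (hu'.mem_open hO huO) (hmem hxy hu _ (hu'.map h.left.continuous))
  · obtain ⟨u, hu⟩ := ofPt_surjective has x
    obtain ⟨η, hη, hηmax⟩ := exists_isMaxPt_specializes u
    refine hcod hu ?_
    have he : h.left η = h.left u := hmem hxy hu _ (hη.map h.left.continuous)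
    have hq : h.left.QuasiFiniteAt η := h3 (Points.ofPt a η) (by rw [hb' rfl, he, ← hb' hu, hxy])
      (hcod rfl hηmax) U V a b h η ha hb comm rfl
    obtain ⟨w, hw⟩ : u ∈ Set.range (h.left.fiberι (h.left η)) := by
      rw [h.left.range_fiberι]; exact he.symm
    have hs : h.left.asFiber η ⤳ w := by
      rw [← (h.left.fiberι (h.left η)).isEmbedding.isInducing.specializes_iff, hw, h.left.fiberι_asFiber]
      exact hη
    have hweq : w = h.left.asFiber η := hs.mem_closed hq.isClopen_singleton_asFiber.1 rfl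
    rw [← hw, hweq, h.left.fiberι_asFiber]
    exact hηmax

end Groth.Agent.SpQS
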