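import Groth.Agent.SpQS.FiniteMax
import Groth.Agent.SpQS.CodimQF
import Groth.Agent.SpQS.KerGrpd
import Groth.Agent.AlgSpLib.FppfBase
import Groth.Agent.AlgSpLib.FpqcProps
import Groth.Agent.AlgSpLib.QCompact
import Groth.Agent.FpqcDescent.Props
import Groth.Prelude.Def_AlgSp4

/-!
# Finiteness over a neighbourhood of a point of codimension zero
-/

universe u

open CategoryTheory CategoryTheory.Limits AlgebraicGeometry Opposite IsLocalRing Topology

set_option backward.isDefEq.respectTransparency false

namespace Groth.Agent.SpQS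

open _root_.AlgSp Groth.Agent.AlgSpLib

/-- finite etale covers with finite relation give finite morphisms -/
theorem isFinite_of_finite_cover {W M V : Scheme.{u}} (e : W ⟶ M) [Etale e] [Surjective e] (g : M ⟶ V)
    [LocallyOfFiniteType g] [IsFinite (e ≫ g)] [IsFinite (pullback.fst e e ≫ e ≫ g)] : IsFinite g := by
  have : IsSeparated g := by
    let m := pullback.map e e (e ≫ g) (e ≫ g) (𝟙 _) (𝟙 _) g (by simp) (by simp)
    have : IsFinite (m ≫ pullback.fst (e ≫ g) (e ≫ g) ≫ e ≫ g) := by
      rw [show m ≫ pullback.fst (e ≫ g) (e ≫ g) ≫ e ≫ g = pullback.fst e e ≫ e ≫ g by simp [m]]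
      infer_instance
    have : IsFinite m := IsFinite.of_comp m (pullback.fst (e ≫ g) (e ≫ g) ≫ e ≫ g)
    let E' := pullback.map (e ≫ g) (e ≫ g) g g e e (𝟙 _) (by simp) (by simp)
    have : UniversallyOpen e := inferInstance
    have hE : UniversallyOpen E' :=
      MorphismProperty.pullback_map (P := @UniversallyOpen) inferInstance inferInstance rfl rfl
    have hEs : Surjective E' := MorphismProperty.pullback_map (P := @Surjective) inferInstance inferInstance rfl rfl
    have hpre : E' ⁻¹' Set.range (pullback.diagonal g) = Set.range m := by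
      ext z
      constructor
      · rintro ⟨x, hx⟩
        obtain ⟨w, hw, -⟩ := Scheme.Pullback.exists_preimage_pullback (f := E') (g := pullback.diagonal g) z x hx.symm
        let l : pullback E' (pullback.diagonal g) ⟶ pullback e e :=
          pullback.lift (pullback.fst E' (pullback.diagonal g) ≫ pullback.fst _ _)
            (pullback.fst E' (pullback.diagonal g) ≫ pullback.snd _ _) (by
              have h1 := congrArg (fun k => k ≫ pullback.fst g g) (pullback.condition (f := E') (g := pullback.diagonal g))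
              have h2 := congrArg (fun k => k ≫ pullback.snd g g) (pullback.condition (f := E') (g := pullback.diagonal g))
              simp [E'] at h1 h2
              simp only [Category.assoc]
              rw [h1, h2])
        have hl : l ≫ m = pullback.fst E' (pullback.diagonal g) := by
          apply pullback.hom_ext <;> simp [l, m]
        exact ⟨l w, by rw [← Scheme.Hom.comp_apply, hl, hw]⟩
      · rintro ⟨w, rfl⟩
        refine ⟨e (pullback.fst e e w), ?_⟩
        rw [← Scheme.Hom.comp_apply, ← Scheme.Hom.comp_apply, ← Scheme.Hom.comp_apply]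
        refine congrArg (fun k : pullback e e ⟶ pullback g g => k w) ?_
        apply pullback.hom_ext <;> simp [m, E', pullback.condition]
    refine ⟨IsClosedImmersion.of_isPreimmersion _ ?_⟩
    rw [← ((E'.isOpenMap).isQuotientMap E'.continuous E'.surjective).isClosed_preimage, hpre]
    exact m.isClosedMap.isClosed_range
  have : UniversallyClosed g := UniversallyClosed.of_comp_surjective e g
  have : QuasiCompact g := inferInstance
  have : IsProper g := {}
  have : LocallyQuasiFinite g := LimDesc.locallyQuasiFinite_of_forall_quasiFiniteAt _ fun z => by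
    obtain ⟨r, rfl⟩ := e.surjective z
    exact qf_descend e g (Scheme.Hom.quasiFiniteAt _ r)
  exact IsFinite.of_isProper_of_locallyQuasiFinite g

variable {S : Scheme.{u}}

theorem isFinite_pullback_of_restrict {W V V' : Scheme.{u}} (h : W ⟶ V) (j : V' ⟶ V) {O : V.Opens}
    (hO : IsFinite (h ∣_ O)) (hr : Set.range j ⊆ (O : Set V)) : IsFinite (pullback.snd h j) := by
  let i := IsOpenImmersion.lift O.ι j (by rwa [Scheme.Opens.range_ι])
  have sq : IsPullback (pullback.fst h j) (pullback.snd h j) h (i ≫ O.ι) := by
    rw [IsOpenImmersion.lift_fac]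
    exact IsPullback.of_hasPullback h j
  have sqO := (isPullback_morphismRestrict h O).flip
  let l := sqO.lift (pullback.fst h j) (pullback.snd h j ≫ i) (by rw [Category.assoc]; exact sq.w)
  have sql : IsPullback l (pullback.snd h j) (h ∣_ O) i :=
    IsPullback.of_right (by rw [show l ≫ (h ⁻¹ᵁ O).ι = pullback.fst h j from sqO.lift_fst _ _ _]; exact sq)
      (sqO.lift_snd _ _ _) sqO
  exact MorphismProperty.of_isPullback sql hO

/-- quasi-finite over a point of codimension zero implies finite over a neighbourhood -/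
theorem exists_finite_nhd {X Y : Sp S} (hX : IsAlgSpace X) (hY : IsAlgSpace Y) (f : X ⟶ Y)
    (hf : LocP @LocallyOfFiniteType f) (hqc : IsQuasiCompactMor f) (hqs : IsQuasiSeparatedMor f) {y : Points Y}
    (hy : HasAt (fun U u => ringKrullDim ↥(U.presheaf.stalk u) = 0) Y y)
    (hqf : ∀ x, Points.map f x = y → QFAtPt f x) :
    ∃ (Y' : Sp S) (j : Y' ⟶ Y), IsAlgSpace Y' ∧ RepWith @IsOpenImmersion j ∧ y ∈ Set.range (Points.map j) ∧
      RepWith @IsFinite (pullback.fst j f) := by
  obtain ⟨V, b, v, hV, hb, hv, -⟩ := exists_affine_chart_at hY y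
  have hvmax : IsMaxPt v := isMaxPt_of_hasAt hY hy hb hv
  -- the base change to the chart, with an affine chart and a quasi-compact relation
  have sqP := IsPullback.of_hasPullback f b
  have hP : IsAlgSpace (pullback f b) := isAlgSpace_of_isPullback_space hY hX (IsAlgSpace.yon_obj V) sqP
  have : CompactSpace (Points (pullback f b)) :=
    compactSpace_of_isQuasiCompactSp (hqc (IsAlgSpace.yon_obj V) (isQuasiCompactSp_yon V) b _ _ sqP)
  obtain ⟨W, c, hW, hc, hcs⟩ := exists_affine_chart_of_compact hP
  obtain ⟨h, hh⟩ := exists_map_eq (c ≫ pullback.snd f b)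
  have hl : LocP @LocallyOfFiniteType (pullback.snd f b) :=
    locP_baseChange etST_lft hX hY hP (IsAlgSpace.yon_obj V) sqP hf
  have : LocallyOfFiniteType h.left := hl c (𝟙 _) h hc repWith_id' (by rw [Category.comp_id, hh])
  have haX : RepWith @Etale (c ≫ pullback.fst f b) := repWith_comp hc (repWith_baseChange sqP.flip hb)
  have comm : (c ≫ pullback.fst f b) ≫ f = (yon S).map h ≫ b := by
    rw [Category.assoc, sqP.w, ← Category.assoc, hh]
  have hqW : ∀ w, h.left w = v → h.left.QuasiFiniteAt w := fun w hw =>
    hqf (Points.ofPt (c ≫ pullback.fst f b) w) (by rw [Points.map_ofPt, comm, ofPt_comp, hw, hv])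
      W V _ b h w haX hb comm rfl
  obtain ⟨R, t, s, sqR⟩ := exists_pullback hP.diag c c
  have hts : t ≫ h = s ≫ h := (yon S).map_injective (by
    rw [Functor.map_comp, Functor.map_comp, hh, reassoc_of% sqR.w])
  obtain ⟨T, a₁, a₂, sqT⟩ := exists_pullback (IsAlgSpace.yon_obj V).diag ((yon S).map h) ((yon S).map h)
  have : IsAffine T.left := IsAffine.of_isIso (isPullback_yon_iff.1 sqT).isoPullback.hom
  let ξ : (yon S).obj T ⟶ pullback (pullback.snd f b) (pullback.snd f b) :=
    pullback.lift ((yon S).map a₁ ≫ c) ((yon S).map a₂ ≫ c) (by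
      rw [Category.assoc, Category.assoc, ← hh]; exact sqT.w)
  obtain ⟨d, hd⟩ := exists_map_eq (sqT.lift ((yon S).map t) ((yon S).map s) (by
    rw [← Functor.map_comp, ← Functor.map_comp, hts]))
  have hd₁ : (yon S).map d ≫ (yon S).map a₁ = (yon S).map t := by rw [hd, sqT.lift_fst]
  have hd₂ : (yon S).map d ≫ (yon S).map a₂ = (yon S).map s := by rw [hd, sqT.lift_snd]
  have sqD : IsPullback ((yon S).map t ≫ c) ((yon S).map d) (pullback.diagonal (pullback.snd f b)) ξ := by
    refine isPullback_of_points ?_ fun U a e he => ?_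
    · apply pullback.hom_ext
      · simp only [Category.assoc, pullback.diagonal_fst, Category.comp_id, ξ, pullback.lift_fst]
        rw [reassoc_of% hd₁]
      · simp only [Category.assoc, pullback.diagonal_snd, Category.comp_id, ξ, pullback.lift_snd]
        rw [reassoc_of% hd₂, sqR.w]
    · have h1 := congrArg (fun k => k ≫ pullback.fst _ _) he
      have h2 := congrArg (fun k => k ≫ pullback.snd _ _) he
      simp [ξ] at h1 h2
      refine ⟨sqR.lift (e ≫ (yon S).map a₁) (e ≫ (yon S).map a₂) (by
        rw [Category.assoc, Category.assoc, ← h1, ← h2]), ⟨?_, ?_⟩, fun k hk => ?_⟩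
      · rw [sqR.lift_fst_assoc, Category.assoc, h1]
      · apply sqT.hom_ext
        · rw [Category.assoc, hd₁, sqR.lift_fst]
        · rw [Category.assoc, hd₂, sqR.lift_snd]
      · apply sqR.hom_ext
        · rw [sqR.lift_fst, ← hk.2, Category.assoc, hd₁]
        · rw [sqR.lift_snd, ← hk.2, Category.assoc, hd₂]
  have : QuasiCompact d.left := (repWith_yon_iff d).1 (repWith_baseChange sqD
    (isQuasiSeparatedMor_baseChange sqP hqs))
  have : Mono d.left := (repWith_yon_iff (P := MorphismProperty.monomorphisms Scheme.{u}) d).1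
    (repWith_baseChange sqD (repWith_diagonal_props hP _).1)
  have : CompactSpace R.left := QuasiCompact.compactSpace_of_compactSpace d.left
  have : CompactSpace (Points ((yon S).obj R)) := compactSpace_of_isQuasiCompactSp (isQuasiCompactSp_yon R)
  obtain ⟨R₀, e₀, hR₀, he₀, he₀s⟩ := exists_affine_chart_of_compact (IsAlgSpace.yon_obj R)
  obtain ⟨e₁, rfl⟩ := exists_map_eq e₀
  have : Etale e₁.left := (repWith_yon_iff e₁).1 he₀
  have : Surjective e₁.left := (repWith_yon_iff e₁).1 he₀s
  have : Etale t.left := (repWith_yon_iff t).1 (repWith_baseChange sqR.flip hc)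
  have : LocallyQuasiFinite t.left := UnivInjMor.lqf_of_unramified _
  have hdt : d.left ≫ a₁.left ≫ h.left = t.left ≫ h.left := by
    rw [← Category.assoc, ← Over.comp_left, (yon S).map_injective (by rw [Functor.map_comp, hd₁] :
      (yon S).map (d ≫ a₁) = (yon S).map t)]
  have : IsSeparated (t.left ≫ h.left) := by rw [← hdt]; infer_instance
  obtain ⟨O₁, hvO₁, hO₁⟩ := exists_isFinite_restrict (𝟙 W.left) h.left v hvmax hqW
  obtain ⟨O₂, hvO₂, hO₂⟩ := exists_isFinite_restrict e₁.left (t.left ≫ h.left) v hvmax fun r hr =>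
    qf_precomp t.left h.left (hqW _ hr)
  obtain ⟨A, hA, hvA, hAO⟩ := exists_isAffineOpen_mem_and_subset (U := O₁ ⊓ O₂) (x := v) ⟨hvO₁, hvO₂⟩
  let V' : Over S := Over.mk (A.ι ≫ V.hom)
  have : IsAffine V'.left := hA
  let jV : V' ⟶ V := Over.homMk A.ι rfl
  have hr₁ : Set.range jV.left ⊆ (O₁ : Set V.left) := by
    rw [show Set.range jV.left = (A : Set V.left) from A.range_ι]; exact fun z hz => (hAO hz).1
  have hr₂ : Set.range jV.left ⊆ (O₂ : Set V.left) := by
    rw [show Set.range jV.left = (A : Set V.left) from A.range_ι]; exact fun z hz => (hAO hz).2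
  -- restrict everything over the smaller chart
  obtain ⟨W', w, h', sqW⟩ := exists_pullback (IsAlgSpace.yon_obj V).diag ((yon S).map h) ((yon S).map jV)
  obtain ⟨R', r, g', sqR'⟩ := exists_pullback (IsAlgSpace.yon_obj V).diag ((yon S).map (t ≫ h)) ((yon S).map jV)
  have hW' : IsFinite h'.left := by
    rw [← (isPullback_yon_iff.1 sqW).isoPullback_hom_snd, MorphismProperty.cancel_left_of_respectsIso @IsFinite]
    exact isFinite_pullback_of_restrict _ _ hO₁ hr₁
  have hR' : IsFinite g'.left := by
    rw [← (isPullback_yon_iff.1 sqR').isoPullback_hom_snd, MorphismProperty.cancel_left_of_respectsIso @IsFinite]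
    exact isFinite_pullback_of_restrict _ _ hO₂ hr₂
  have : IsAffine W'.left := isAffine_of_isAffineHom h'.left
  let b' := (yon S).map jV ≫ b
  have hb' : RepWith @Etale b' :=
    repWith_comp ((repWith_yon_iff jV).2 (inferInstanceAs (Etale A.ι))) hb
  have sqP' := IsPullback.of_hasPullback f b'
  have hP' : IsAlgSpace (pullback f b') := isAlgSpace_of_isPullback_space hY hX (IsAlgSpace.yon_obj V') sqP'
  let i : pullback f b' ⟶ pullback f b :=
    pullback.lift (pullback.fst f b') (pullback.snd f b' ≫ (yon S).map jV) (by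
      rw [Category.assoc, pullback.condition])
  have sqi : IsPullback i (pullback.snd f b') (pullback.snd f b) ((yon S).map jV) :=
    IsPullback.of_right (by rw [pullback.lift_fst]; exact sqP') (pullback.lift_snd _ _ _) sqP
  let c' : (yon S).obj W' ⟶ pullback f b' := sqi.lift ((yon S).map w ≫ c) ((yon S).map h') (by
    rw [Category.assoc, ← hh, sqW.w])
  have hci : c' ≫ i = (yon S).map w ≫ c := sqi.lift_fst _ _ _
  have hcs' : c' ≫ pullback.snd f b' = (yon S).map h' := sqi.lift_snd _ _ _
  have sqc : IsPullback ((yon S).map w) c' c i :=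
    IsPullback.of_bot (by rw [hcs', ← hh]; exact sqW) hci.symm sqi
  have hce : RepWith @Etale c' := repWith_baseChange sqc hc
  have hces : RepWith @Surjective c' := repWith_baseChange sqc hcs
  have hth : (yon S).map (t ≫ h) = (yon S).map s ≫ (yon S).map h := by rw [hts, Functor.map_comp]
  obtain ⟨t', ht'⟩ := exists_map_eq (sqW.lift ((yon S).map r ≫ (yon S).map t) ((yon S).map g') (by
    rw [Category.assoc, ← sqR'.w, Functor.map_comp]))
  obtain ⟨s', hs'⟩ := exists_map_eq (sqW.lift ((yon S).map r ≫ (yon S).map s) ((yon S).map g') (by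
    rw [Category.assoc, ← hth, sqR'.w]))
  have ht₁ : (yon S).map t' ≫ (yon S).map w = (yon S).map r ≫ (yon S).map t := by rw [ht', sqW.lift_fst]
  have ht₂ : (yon S).map t' ≫ (yon S).map h' = (yon S).map g' := by rw [ht', sqW.lift_snd]
  have hs₁ : (yon S).map s' ≫ (yon S).map w = (yon S).map r ≫ (yon S).map s := by rw [hs', sqW.lift_fst]
  have hs₂ : (yon S).map s' ≫ (yon S).map h' = (yon S).map g' := by rw [hs', sqW.lift_snd]
  have sqc' : IsPullback ((yon S).map t') ((yon S).map s') c' c' := by
    refine isPullback_of_points ?_ fun U α β he => ?_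
    · apply sqi.hom_ext
      · simp only [Category.assoc, hci, reassoc_of% ht₁, reassoc_of% hs₁, sqR.w]
      · simp only [Category.assoc, hcs', ht₂, hs₂]
    · have h1 : (α ≫ (yon S).map w) ≫ c = (β ≫ (yon S).map w) ≫ c := by
        rw [Category.assoc, Category.assoc, ← hci, reassoc_of% he]
      have h2 : α ≫ (yon S).map h' = β ≫ (yon S).map h' := by rw [← hcs', reassoc_of% he]
      refine ⟨sqR'.lift (sqR.lift (α ≫ (yon S).map w) (β ≫ (yon S).map w) h1) (α ≫ (yon S).map h') (by
        rw [Functor.map_comp, sqR.lift_fst_assoc, Category.assoc, Category.assoc, sqW.w]), ⟨?_, ?_⟩,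
        fun k hk => ?_⟩
      · apply sqW.hom_ext
        · rw [Category.assoc, ht₁, sqR'.lift_fst_assoc, sqR.lift_fst]
        · rw [Category.assoc, ht₂, sqR'.lift_snd]
      · apply sqW.hom_ext
        · rw [Category.assoc, hs₁, sqR'.lift_fst_assoc, sqR.lift_snd]
        · rw [Category.assoc, hs₂, sqR'.lift_snd, h2]
      · apply sqR'.hom_ext
        · rw [sqR'.lift_fst]
          apply sqR.hom_ext
          · rw [sqR.lift_fst, Category.assoc, ← ht₁, ← hk.1, Category.assoc]
          · rw [sqR.lift_snd, Category.assoc, ← hs₁, ← hk.2, Category.assoc]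
        · rw [sqR'.lift_snd, ← hk.1, Category.assoc, ht₂]
  have hs₂' : s'.left ≫ h'.left = g'.left := by
    rw [← Over.comp_left, (yon S).map_injective (by rw [Functor.map_comp, hs₂] : (yon S).map (s' ≫ h') = (yon S).map g')]
  have : IsFinite (s'.left ≫ h'.left) := hs₂' ▸ hR'
  have : IsFinite s'.left := IsFinite.of_comp s'.left h'.left
  obtain ⟨M, m, hm, hmr⟩ := exists_scheme_quotient hP' hce sqc' fun u =>
    ⟨⊤, isAffineOpen_top _, fun _ _ => trivial⟩
  have : IsIso m := by
    have : Mono m := mono_of_repWith_immersion (repWith_mono (P := @IsOpenImmersion) (Q := @IsImmersion)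
      (fun _ _ g hg => have : IsOpenImmersion g := hg; inferInstance) hm)
    obtain ⟨σ, hσ⟩ := (exists_factor_iff (IsAlgSpace.yon_obj M) hP' m hm (𝟙 _)).2 (by
      rw [hmr]; intro x _; exact ofPt_surjective hces x)
    have : IsSplitEpi m := ⟨⟨σ, hσ⟩⟩
    exact isIso_of_mono_of_isSplitEpi m
  obtain ⟨g, hg⟩ := exists_map_eq (m ≫ pullback.snd f b')
  obtain ⟨e, he⟩ := exists_map_eq (c' ≫ inv m)
  have : Etale e.left := (repWith_yon_iff e).1 (he ▸ repWith_comp hce (repWith_of_isIso _))
  have : Surjective e.left := (repWith_yon_iff e).1 (he ▸ repWith_comp hces (repWith_of_isIso _))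
  have : LocallyOfFiniteType g.left := locP_baseChange etST_lft hX hY hP' (IsAlgSpace.yon_obj V') sqP' hf
    m (𝟙 _) g (repWith_of_isIso m) repWith_id' (by rw [Category.comp_id, hg])
  have heg : e ≫ g = h' := (yon S).map_injective (by
    rw [Functor.map_comp, he, hg, Category.assoc, IsIso.inv_hom_id_assoc, hcs'])
  have : IsFinite (e.left ≫ g.left) := by rw [← Over.comp_left, heg]; exact hW'
  have sqe : IsPullback t'.left s'.left e.left e.left := isPullback_yon_iff.1 (by
    rw [he]
    refine isPullback_of_points ?_ fun U α β he' => ?_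
    · simp only [reassoc_of% sqc'.w]
    · have hαβ : α ≫ c' = β ≫ c' := (cancel_mono (inv m)).1 (by simpa using he')
      exact ⟨sqc'.lift α β hαβ, ⟨sqc'.lift_fst _ _ _, sqc'.lift_snd _ _ _⟩, fun k hk =>
        sqc'.hom_ext (by rw [hk.1, sqc'.lift_fst]) (by rw [hk.2, sqc'.lift_snd])⟩)
  have : IsFinite (pullback.fst e.left e.left ≫ e.left ≫ g.left) := by
    rw [← MorphismProperty.cancel_left_of_respectsIso @IsFinite sqe.isoPullback.hom, sqe.isoPullback_hom_fst_assoc,
      ← Over.comp_left, ← Over.comp_left, heg,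
      (yon S).map_injective (by rw [Functor.map_comp, ht₂] : (yon S).map (t' ≫ h') = (yon S).map g')]
    exact hR'
  have : IsFinite g.left := isFinite_of_finite_cover e.left g.left
  have hfin : RepWith @IsFinite (pullback.snd f b') := by
    rw [show pullback.snd f b' = inv m ≫ (yon S).map g by rw [hg, IsIso.inv_hom_id_assoc],
      show inv m = (asIso m).symm.hom from rfl, repWith_iso_comp_iff]
    exact (repWith_yon_iff g).2 ‹_›
  -- descend to the image in the space
  have hopen : IsOpen (Set.range (Points.ofPt b')) :=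
    (isOpenMap_ofPt (repWith_universallyOpen_of_etale hb')).isOpen_range
  obtain ⟨l, hl'⟩ := exists_factor_subInc (W := Set.range (Points.ofPt b')) b' fun z => by
    obtain ⟨z, rfl⟩ := (Points.schemeEquiv V').surjective z
    exact ⟨z, Points.ofPt_eq_map_ofScheme b' z⟩
  have hY' := isAlgSpace_subSheaf hY hopen
  have hle : RepWith @Etale l := repWith_of_comp_mono (m := subInc _) (by rw [hl']; exact hb')
  refine ⟨_, subInc (Set.range (Points.ofPt b')), hY', repWith_subInc hopen, ?_, ?_⟩
  · refine ⟨Points.ofPt l (⟨v, hvA⟩ : ↥A), ?_⟩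
    rw [Points.map_ofPt, hl', ofPt_comp]
    exact hv
  · have hls : IsSurjectiveMor l := fun z => by
      obtain ⟨u, hu⟩ := map_subInc_mem z
      refine ⟨Points.ofScheme V' u, injective_points_of_mono (subInc _) ?_⟩
      rw [← hu, ← Points.map_comp, hl', Points.ofPt_eq_map_ofScheme]
    have hcov : IsFppfCover (fun _ : PUnit.{u + 1} => (yon S).obj V') (fun _ => l) :=
      ⟨fun _ => ⟨(locP_iff_repWith etST_flat hY' hle.1).2 (repWith_mono (fun _ _ r hr => by
          have : Etale r := hr
          infer_instance) hle),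
        (locP_iff_repWith etST_lfp hY' hle.1).2 (repWith_mono (fun _ _ r hr => by
          have : Etale r := hr
          infer_instance) hle)⟩, fun z => ⟨PUnit.unit, hls z⟩⟩
    let q : pullback f b' ⟶ pullback (subInc (Set.range (Points.ofPt b'))) f :=
      pullback.lift (pullback.snd f b' ≫ l) (pullback.fst f b') (by rw [Category.assoc, hl', pullback.condition])
    refine repWith_of_fppfCover @IsFinite (fun _ _ r hr => by have : IsFinite r := hr; exact indQA_of_isAffineHom r)
      hY' (fun _ => IsAlgSpace.yon_obj V') hcov _ (fun _ => pullback f b') (fun _ => pullback.snd f b') (fun _ => q)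
      (fun _ => ?_) fun _ => hfin
    exact IsPullback.of_right (by rw [pullback.lift_snd, hl']; exact sqP'.flip.flip)
      (pullback.lift_fst _ _ _) (IsPullback.of_hasPullback _ f).flip

end Groth.Agent.SpQS
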