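import Groth.Agent.SpQS.FiniteNhd
import Groth.Agent.SpQS.FinitePts
import Groth.Agent.AlgSpLib.Graph

/-!
# Finiteness over a dense open
-/

universe u

open CategoryTheory CategoryTheory.Limits AlgebraicGeometry Opposite IsLocalRing Topology

set_option backward.isDefEq.respectTransparency false

namespace Groth.Agent.SpQS

open _root_.AlgSp Groth.Agent.AlgSpLib

variable {S : Scheme.{u}}

/-- a space with a finite chart and finite relation over an affine scheme is finite over it -/
theorem repWith_finite_of_chart {P : Sp S} (hP : IsAlgSpace P) {V : Over S} [IsAffine V.left] (q : P ⟶ (yon S).obj V)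
    (hq : LocP @LocallyOfFiniteType q) {W R : Over S} {c : (yon S).obj W ⟶ P} (hc : RepWith @Etale c)
    (hcs : RepWith @Surjective c) {h : W ⟶ V} (hh : c ≫ q = (yon S).map h) {t s : R ⟶ W}
    (sq : IsPullback ((yon S).map t) ((yon S).map s) c c) [IsFinite h.left] [IsFinite (t.left ≫ h.left)] :
    RepWith @IsFinite q := by
  have : IsAffine W.left := isAffine_of_isAffineHom h.left
  have hts : t ≫ h = s ≫ h := (yon S).map_injective (by
    rw [Functor.map_comp, Functor.map_comp, ← hh, reassoc_of% sq.w])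
  have : IsFinite (s.left ≫ h.left) := by
    rw [show s.left ≫ h.left = t.left ≫ h.left from (congrArg (fun k => k.left) hts).symm]
    infer_instance
  have : IsFinite s.left := IsFinite.of_comp s.left h.left
  obtain ⟨M, m, hm, hmr⟩ := exists_scheme_quotient hP hc sq fun u =>
    ⟨⊤, isAffineOpen_top _, fun _ _ => trivial⟩
  have : IsIso m := by
    have : Mono m := mono_of_repWith_immersion (repWith_mono (P := @IsOpenImmersion) (Q := @IsImmersion)
      (fun _ _ g hg => have : IsOpenImmersion g := hg; inferInstance) hm)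
    obtain ⟨σ, hσ⟩ := (exists_factor_iff (IsAlgSpace.yon_obj M) hP m hm (𝟙 _)).2 (by
      rw [hmr]; intro x _; exact ofPt_surjective hcs x)
    have : IsSplitEpi m := ⟨⟨σ, hσ⟩⟩
    exact isIso_of_mono_of_isSplitEpi m
  obtain ⟨g, hg⟩ := exists_map_eq (m ≫ q)
  obtain ⟨e, he⟩ := exists_map_eq (c ≫ inv m)
  have : Etale e.left := (repWith_yon_iff e).1 (he ▸ repWith_comp hc (repWith_of_isIso _))
  have : Surjective e.left := (repWith_yon_iff e).1 (he ▸ repWith_comp hcs (repWith_of_isIso _))
  have : LocallyOfFiniteType g.left := hq m (𝟙 _) g (repWith_of_isIso m) repWith_id' (by rw [Category.comp_id, hg])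
  have heg : e ≫ g = h := (yon S).map_injective (by
    rw [Functor.map_comp, he, hg, Category.assoc, IsIso.inv_hom_id_assoc, hh])
  have : IsFinite (e.left ≫ g.left) := by rw [← Over.comp_left, heg]; infer_instance
  have sqe : IsPullback t.left s.left e.left e.left := isPullback_yon_iff.1 (by
    rw [he]
    refine isPullback_of_points ?_ fun U α β he' => ?_
    · simp only [reassoc_of% sq.w]
    · have hαβ : α ≫ c = β ≫ c := (cancel_mono (inv m)).1 (by simpa using he')
      exact ⟨sq.lift α β hαβ, ⟨sq.lift_fst _ _ _, sq.lift_snd _ _ _⟩, fun k hk =>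
        sq.hom_ext (by rw [hk.1, sq.lift_fst]) (by rw [hk.2, sq.lift_snd])⟩)
  have : IsFinite (pullback.fst e.left e.left ≫ e.left ≫ g.left) := by
    rw [← MorphismProperty.cancel_left_of_respectsIso @IsFinite sqe.isoPullback.hom, sqe.isoPullback_hom_fst_assoc,
      ← Over.comp_left, ← Over.comp_left, heg]
    infer_instance
  have : IsFinite g.left := isFinite_of_finite_cover e.left g.left
  show RepWith @IsFinite q
  rw [show q = inv m ≫ (yon S).map g by rw [hg, IsIso.inv_hom_id_assoc],
    show inv m = (asIso m).symm.hom from rfl, repWith_iso_comp_iff]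
  exact (repWith_yon_iff g).2 ‹_›

/-- finitely many points of a scheme lie in an open with an affine etale cover -/
theorem exists_affine_etale_through (U : Over S) {F : Set U.left} (hF : F.Finite) :
    ∃ (U₁ : U.left.Opens) (W : Over S) (e : W ⟶ Over.mk (U₁.ι ≫ U.hom)),
      IsAffine W.left ∧ Etale e.left ∧ Surjective e.left ∧ F ⊆ (U₁ : Set U.left) := by
  have hex : ∀ x : U.left, ∃ A : U.left.Opens, IsAffineOpen A ∧ x ∈ A := fun x => by
    obtain ⟨A, hA, hxA, -⟩ := exists_isAffineOpen_mem_and_subset (U := (⊤ : U.left.Opens)) (x := x) trivial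
    exact ⟨A, hA, hxA⟩
  choose A hA hxA using hex
  have hc : IsCompact ((⨆ x ∈ F, A x : U.left.Opens) : Set U.left) := by
    simp only [TopologicalSpace.Opens.coe_iSup]
    exact hF.isCompact_biUnion fun x _ => (hA x).isCompact
  let U₁o : Over S := Over.mk ((⨆ x ∈ F, A x : U.left.Opens).ι ≫ U.hom)
  have : CompactSpace U₁o.left := isCompact_iff_compactSpace.1 hc
  have : CompactSpace (Points ((yon S).obj U₁o)) := compactSpace_of_isQuasiCompactSp (isQuasiCompactSp_yon U₁o)
  obtain ⟨W, e₀, hW, he, hes⟩ := exists_affine_chart_of_compact (IsAlgSpace.yon_obj U₁o)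
  obtain ⟨e, rfl⟩ := exists_map_eq e₀
  exact ⟨_, W, e, hW, (repWith_yon_iff e).1 he, (repWith_yon_iff e).1 hes,
    fun x hx => (le_iSup₂ (f := fun x (_ : x ∈ F) => A x) x hx) (hxA x)⟩

theorem isMaxPt_open {U : Scheme.{u}} (O : U.Opens) {z : ↥O.toScheme} (hz : IsMaxPt z) : IsMaxPt (O.ι z) :=
  fun y hy => by
    have hyO : y ∈ O := hy.mem_open O.2 z.2
    exact congrArg Subtype.val (hz ⟨y, hyO⟩ (O.ι.isOpenEmbedding.isInducing.specializes_iff.1 hy))

theorem isMaxPt_of_openImmersion {U V : Scheme.{u}} (j : U ⟶ V) [IsOpenImmersion j] {z : U} (hz : IsMaxPt z) :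
    IsMaxPt (j z) := fun y hy => by
  obtain ⟨y', rfl⟩ := hy.mem_open j.isOpenEmbedding.isOpen_range ⟨z, rfl⟩
  exact congrArg j (hz y' (j.isOpenEmbedding.isInducing.specializes_iff.1 hy))

theorem isMaxPt_of_etale {U V : Scheme.{u}} (e : U ⟶ V) [Etale e] {z : U} (hz : IsMaxPt z) : IsMaxPt (e z) :=
  fun y hy => by
    obtain ⟨y', hy', rfl⟩ := Flat.generalizingMap e hy
    exact congrArg e (hz y' hy')

/-- near a point of codimension zero of a decent target, finiteness after restricting to an etale chart -/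
theorem exists_finite_piece {X Y : Sp S} (hX : IsAlgSpace X) (hY : IsAlgSpace Y) (f : X ⟶ Y)
    (hf : LocP @LocallyOfFiniteType f) (hd : IsDecent Y)
    (hX0 : {x : Points X | HasAt (fun U u => ringKrullDim ↥(U.presheaf.stalk u) = 0) X x}.Finite)
    (hY0 : {y : Points Y | HasAt (fun U u => ringKrullDim ↥(U.presheaf.stalk u) = 0) Y y}.Finite)
    (hpre : ∀ x : Points X, HasAt (fun U u => ringKrullDim ↥(U.presheaf.stalk u) = 0) X x ↔
      HasAt (fun U u => ringKrullDim ↥(U.presheaf.stalk u) = 0) Y (Points.map f x))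
    (hqs : IsQuasiCompactMor f ∨ IsSeparatedMor f) {y : Points Y}
    (hy : HasAt (fun U u => ringKrullDim ↥(U.presheaf.stalk u) = 0) Y y) :
    ∃ (V' : Over S) (b' : (yon S).obj V' ⟶ Y), RepWith @Etale b' ∧ y ∈ Set.range (Points.ofPt b') ∧
      RepWith @IsFinite (pullback.snd f b') := by
  have hqf : ∀ x, Points.map f x = y → QFAtPt f x :=
    (codim_zero_iff_qf hX hY f hf hy).1.1 fun x hx => (hpre x).2 (hx ▸ hy)
  -- an affine chart with a single maximal point
  obtain ⟨V₀, b₀, v₀, hV₀, hb₀, hv₀, -⟩ := exists_affine_chart_at hY y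
  have hM : {z : V₀.left | IsMaxPt z}.Finite := by
    refine ((hY0.biUnion fun y' _ =>
      (goodAt_of_isDecent hY hd y').finite hY (hU := hV₀) hb₀)).subset fun z hz => Set.mem_biUnion
        (x := Points.ofPt b₀ z) ⟨V₀, b₀, z, hb₀, rfl, (stalk_dim_zero_iff z).2 hz⟩ rfl
  have hC : IsClosed (⋃ m ∈ {z : V₀.left | IsMaxPt z} \ {v₀}, closure ({m} : Set V₀.left)) :=
    hM.sdiff.isClosed_biUnion fun _ _ => isClosed_closure
  have hv₀max : IsMaxPt v₀ := isMaxPt_of_hasAt hY hy hb₀ hv₀
  obtain ⟨A₀, hA₀, hvA₀, hA₀C⟩ := exists_isAffineOpen_mem_and_subset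
    (U := (⟨_, hC.isOpen_compl⟩ : V₀.left.Opens)) (x := v₀) (fun h => by
      obtain ⟨m, hm, hmv⟩ := Set.mem_iUnion₂.1 h
      exact hm.2 (hv₀max m (specializes_iff_mem_closure.2 hmv)))
  let V : Over S := Over.mk (A₀.ι ≫ V₀.hom)
  let j₀ : V ⟶ V₀ := Over.homMk A₀.ι rfl
  let b := (yon S).map j₀ ≫ b₀
  let v : V.left := ⟨v₀, hvA₀⟩
  have hVaff : IsAffine V.left := hA₀
  have hb : RepWith @Etale b := repWith_comp ((repWith_yon_iff j₀).2 (inferInstanceAs (Etale A₀.ι))) hb₀
  have hv : Points.ofPt b v = y := by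
    show Points.ofPt ((yon S).map j₀ ≫ b₀) v = y
    rw [ofPt_comp]; exact hv₀
  have hVmax : ∀ z : V.left, IsMaxPt z → z = v := fun z hz => by
    by_contra hne
    have hz' : IsMaxPt (A₀.ι z) := isMaxPt_open A₀ hz
    exact hA₀C z.2 (Set.mem_biUnion (x := A₀.ι z) ⟨hz', fun h => hne (Subtype.ext h)⟩ (subset_closure rfl))
  -- the base change
  have sqP := IsPullback.of_hasPullback f b
  have hP : IsAlgSpace (pullback f b) := isAlgSpace_of_isPullback_space hY hX (IsAlgSpace.yon_obj V) sqP
  have hl : LocP @LocallyOfFiniteType (pullback.snd f b) :=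
    locP_baseChange etST_lft hX hY hP (IsAlgSpace.yon_obj V) sqP hf
  have hgen : ∀ (U : Over S) (a : (yon S).obj U ⟶ pullback f b) (h : U ⟶ V), RepWith @Etale a →
      a ≫ pullback.snd f b = (yon S).map h → ∀ η : U.left, IsMaxPt η → h.left η = v := by
    intro U a h ha hah η hη
    refine hVmax _ ?_
    have haX : RepWith @Etale (a ≫ pullback.fst f b) := repWith_comp ha (repWith_baseChange sqP.flip hb)
    have hx := (hpre _).1 ⟨U, a ≫ pullback.fst f b, η, haX, rfl, (stalk_dim_zero_iff η).2 hη⟩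
    have e : Points.map f (Points.ofPt (a ≫ pullback.fst f b) η) = Points.ofPt b (h.left η) := by
      rw [Points.map_ofPt, Category.assoc, sqP.w, reassoc_of% hah]
      exact ofPt_comp _ _ _
    exact isMaxPt_of_hasAt hY hx hb e.symm
  obtain ⟨W, c, hW, hc, hsurj⟩ : ∃ (W : Over S) (c : (yon S).obj W ⟶ pullback f b), IsAffine W.left ∧
      RepWith @Etale c ∧ (RepWith @Surjective c ∨ (IsSeparatedMor (pullback.snd f b) ∧
        ∀ z, Points.map (pullback.snd f b) z = Points.ofScheme V v → z ∈ Set.range (Points.ofPt c))) := by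
    rcases hqs with hqc | hsep
    · have : CompactSpace (Points (pullback f b)) :=
        compactSpace_of_isQuasiCompactSp (hqc (IsAlgSpace.yon_obj V) (isQuasiCompactSp_yon V) b _ _ sqP)
      obtain ⟨W, c, hW, hc, hcs⟩ := exists_affine_chart_of_compact hP
      exact ⟨W, c, hW, hc, Or.inl hcs⟩
    · obtain ⟨r, hr, hm, -⟩ := hd y
      have hr' : Points.mk r = Points.map b (Points.ofScheme V v) := by
        rw [hr, ← Points.ofPt_eq_map_ofScheme, hv]
      have hbq : HasAtMor (fun U _ h u => ∃ W : U.Opens, u ∈ W ∧ LocallyQuasiFinite (W.ι ≫ h) ∧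
          LocallyOfFiniteType (W.ι ≫ h)) b (Points.ofScheme V v) :=
        ⟨V, V, 𝟙 _, b, 𝟙 _, v, repWith_id', hb, by simp,
          by rw [Points.ofPt_eq_map_ofScheme, Points.map_id], ⊤, trivial,
          UnivInjMor.lqf_of_unramified _, inferInstanceAs (LocallyOfFiniteType (Scheme.Opens.ι ⊤ ≫ 𝟙 V.left))⟩
      have hF : {z | Points.map (pullback.snd f b) z = Points.ofScheme V v}.Finite := by
        have hx : {x : Points X | Points.map f x = y}.Finite :=
          hX0.subset fun x hx => (hpre x).2 ((show Points.map f x = y from hx) ▸ hy)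
        refine (hx.biUnion fun x (hx : Points.map f x = y) =>
          finite_points_over_pair hY sqP (x := x) (z := Points.ofScheme V v)
            (by rw [hx, ← hr', hr]) hr' hbq).subset fun z hz => Set.mem_biUnion (x := Points.map (pullback.fst f b) z)
          ?_ ⟨rfl, hz⟩
        show Points.map f (Points.map (pullback.fst f b) z) = y
        rw [← Points.map_comp, sqP.w, Points.map_comp, hz, ← Points.ofPt_eq_map_ofScheme, hv]
      obtain ⟨U, π, hπ, hπs⟩ := hP.atlas
      choose u hu using ofPt_surjective hπs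
      obtain ⟨U₁, W, e, hW, _, _, hFU⟩ := exists_affine_etale_through U (hF.image u)
      let i : Over.mk (U₁.ι ≫ U.hom) ⟶ U := Over.homMk U₁.ι rfl
      refine ⟨W, (yon S).map (e ≫ i) ≫ π, hW, ?_, Or.inr ⟨isSeparatedMor_baseChange sqP hsep, fun z hz => ?_⟩⟩
      · have : Etale (e ≫ i).left := by rw [Over.comp_left]; exact inferInstanceAs (Etale (e.left ≫ U₁.ι))
        exact repWith_comp ((repWith_yon_iff _).2 this) hπ
      · obtain ⟨w, hw⟩ := e.left.surjective ⟨u z, hFU ⟨z, hz, rfl⟩⟩
        refine ⟨w, ?_⟩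
        rw [ofPt_comp, Over.comp_left, Scheme.Hom.comp_apply, hw]
        exact hu z
  obtain ⟨h, hh⟩ := exists_map_eq (c ≫ pullback.snd f b)
  have : LocallyOfFiniteType h.left := hl c (𝟙 _) h hc repWith_id' (by rw [Category.comp_id, hh])
  have hqW : ∀ w, h.left w = v → h.left.QuasiFiniteAt w := fun w hw => by
    have haX : RepWith @Etale (c ≫ pullback.fst f b) := repWith_comp hc (repWith_baseChange sqP.flip hb)
    have comm : (c ≫ pullback.fst f b) ≫ f = (yon S).map h ≫ b := by
      rw [Category.assoc, sqP.w, ← Category.assoc, hh]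
    exact hqf (Points.ofPt (c ≫ pullback.fst f b) w) (by rw [Points.map_ofPt, comm, ofPt_comp, hw, hv])
      W V _ b h w haX hb comm rfl
  -- the relation
  obtain ⟨R, t, s, sqR⟩ := exists_pullback hP.diag c c
  have hts : t ≫ h = s ≫ h := (yon S).map_injective (by
    rw [Functor.map_comp, Functor.map_comp, hh, reassoc_of% sqR.w])
  obtain ⟨T, a₁, a₂, sqT⟩ := exists_pullback (IsAlgSpace.yon_obj V).diag ((yon S).map h) ((yon S).map h)
  have : IsAffine T.left := IsAffine.of_isIso (isPullback_yon_iff.1 sqT).isoPullback.hom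
  obtain ⟨d, hd'⟩ := exists_map_eq (sqT.lift ((yon S).map t) ((yon S).map s) (by
    rw [← Functor.map_comp, ← Functor.map_comp, hts]))
  have hd₁ : (yon S).map d ≫ (yon S).map a₁ = (yon S).map t := by rw [hd', sqT.lift_fst]
  have hd₂ : (yon S).map d ≫ (yon S).map a₂ = (yon S).map s := by rw [hd', sqT.lift_snd]
  have : Mono ((yon S).map d) := mono_of_points _ fun U α β he => by
    refine sqR.hom_ext ?_ ?_
    · rw [← hd₁, reassoc_of% he]
    · rw [← hd₂, reassoc_of% he]
  have hdm : Mono d := (yon S).mono_of_mono_map ‹_›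
  have : Mono d.left := inferInstance
  have : Etale t.left := (repWith_yon_iff t).1 (repWith_baseChange sqR.flip hc)
  have : LocallyQuasiFinite t.left := UnivInjMor.lqf_of_unramified _
  have hdt : d.left ≫ a₁.left ≫ h.left = t.left ≫ h.left := by
    rw [← Category.assoc, ← Over.comp_left, (yon S).map_injective (by rw [Functor.map_comp, hd₁] :
      (yon S).map (d ≫ a₁) = (yon S).map t)]
  have : IsSeparated (t.left ≫ h.left) := by rw [← hdt]; infer_instance
  have sqT' := isPullback_yon_iff.1 sqT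
  have : LocallyOfFiniteType a₁.left := MorphismProperty.of_isPullback sqT'.flip ‹LocallyOfFiniteType h.left›
  have hTfin : ((a₁.left ≫ h.left) ⁻¹' {v}).Finite := finite_preimage_of_qf _ v fun z hz => by
    rw [Scheme.Hom.comp_apply] at hz
    have hz2 : h.left (a₂.left z) = v := by
      rw [← hz, ← Scheme.Hom.comp_apply, ← Scheme.Hom.comp_apply, sqT'.w]
    show ((a₁.left ≫ h.left).stalkMap z).hom.QuasiFinite
    rw [Scheme.Hom.stalkMap_comp, CommRingCat.hom_comp]
    exact (LimDesc.quasiFiniteAt_of_isPullback sqT'.flip (hqW _ hz2)).comp (hqW _ hz)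
  have hdinj : Function.Injective d.left := fun r r' hr => (Points.schemeEquiv R).injective
    (injective_points_of_mono ((yon S).map d) (by
      show Points.map _ (Points.ofScheme R r) = Points.map _ (Points.ofScheme R r')
      rw [← Points.ofPt_eq_map_ofScheme, ← Points.ofPt_eq_map_ofScheme, ofScheme_map, ofScheme_map, hr]))
  have hRfin : {r : R.left | h.left (t.left r) = v}.Finite := by
    refine Set.Finite.of_finite_image (f := d.left) (hTfin.subset ?_) hdinj.injOn
    rintro _ ⟨r, hr, rfl⟩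
    rw [Set.mem_preimage, ← Scheme.Hom.comp_apply, hdt, Scheme.Hom.comp_apply]
    exact hr
  obtain ⟨U₁, R₀, e₁, hR₀, _, _, hRU⟩ := exists_affine_etale_through R hRfin
  -- shrink the chart
  obtain ⟨O₁, hvO₁, hO₁⟩ := exists_isFinite_restrict (𝟙 W.left) h.left v (isMaxPt_of_hasAt hY hy hb hv) hqW
  have : IsSeparated (U₁.ι ≫ t.left ≫ h.left) := inferInstance
  obtain ⟨O₂, hvO₂, hO₂⟩ := exists_isFinite_restrict (W := U₁.toScheme) e₁.left (U₁.ι ≫ t.left ≫ h.left) v
    (isMaxPt_of_hasAt hY hy hb hv) fun r hr =>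
    qf_precomp U₁.ι (t.left ≫ h.left) (qf_precomp t.left h.left (hqW _ hr))
  obtain ⟨A, hA, hvA, hAO⟩ := exists_isAffineOpen_mem_and_subset (U := O₁ ⊓ O₂) (x := v) ⟨hvO₁, hvO₂⟩
  let V' : Over S := Over.mk (A.ι ≫ V.hom)
  have : IsAffine V'.left := hA
  let jV : V' ⟶ V := Over.homMk A.ι rfl
  have : IsOpenImmersion jV.left := inferInstanceAs (IsOpenImmersion A.ι)
  have hr₁ : Set.range jV.left ⊆ (O₁ : Set V.left) := by
    rw [show Set.range jV.left = (A : Set V.left) from A.range_ι]; exact fun z hz => (hAO hz).1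
  have hr₂ : Set.range jV.left ⊆ (O₂ : Set V.left) := by
    rw [show Set.range jV.left = (A : Set V.left) from A.range_ι]; exact fun z hz => (hAO hz).2
  obtain ⟨W', w, h', sqW⟩ := exists_pullback (IsAlgSpace.yon_obj V).diag ((yon S).map h) ((yon S).map jV)
  obtain ⟨R', r, g', sqR'⟩ := exists_pullback (IsAlgSpace.yon_obj V).diag ((yon S).map (t ≫ h)) ((yon S).map jV)
  have hW' : IsFinite h'.left := by
    rw [← (isPullback_yon_iff.1 sqW).isoPullback_hom_snd, MorphismProperty.cancel_left_of_respectsIso @IsFinite]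
    exact isFinite_pullback_of_restrict _ _ hO₁ hr₁
  have hR' : IsFinite g'.left := by
    rw [← (isPullback_yon_iff.1 sqR').isoPullback_hom_snd, MorphismProperty.cancel_left_of_respectsIso @IsFinite,
      Over.comp_left]
    have hfin := isFinite_pullback_of_restrict _ _ hO₂ hr₂
    let m := pullback.map (U₁.ι ≫ t.left ≫ h.left) jV.left (t.left ≫ h.left) jV.left U₁.ι (𝟙 _) (𝟙 _)
      (by simp) (by simp)
    have hm : m ≫ pullback.snd _ _ = pullback.snd (U₁.ι ≫ t.left ≫ h.left) jV.left := by
      simp [m]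
    have : IsFinite (m ≫ pullback.snd (t.left ≫ h.left) jV.left) := hm ▸ hfin
    have : IsFinite m := IsFinite.of_comp m (pullback.snd (t.left ≫ h.left) jV.left)
    have : IsOpenImmersion m := by show IsOpenImmersion (pullback.map _ _ _ _ _ _ _ _ _); infer_instance
    have : Surjective m := ⟨fun z => by
      obtain ⟨η, hη, hηmax⟩ := exists_isMaxPt_specializes z
      have h1 : IsMaxPt (t.left (pullback.fst (t.left ≫ h.left) jV.left η)) :=
        isMaxPt_of_etale t.left (isMaxPt_of_openImmersion _ hηmax)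
      have h2 : pullback.fst (t.left ≫ h.left) jV.left η ∈ U₁ := hRU (hgen W c h hc hh.symm _ h1)
      have h3 : η ∈ Set.range m := by
        obtain ⟨k, hk, -⟩ := Scheme.Pullback.exists_preimage_pullback (f := U₁.ι ≫ t.left ≫ h.left) (g := jV.left)
          ⟨_, h2⟩ (pullback.snd (t.left ≫ h.left) jV.left η) (by
            rw [Scheme.Hom.comp_apply]
            show (t.left ≫ h.left) (pullback.fst (t.left ≫ h.left) jV.left η) = _
            rw [← Scheme.Hom.comp_apply, ← Scheme.Hom.comp_apply, pullback.condition])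
        refine ⟨k, (pullback.fst (t.left ≫ h.left) jV.left).isOpenEmbedding.injective ?_⟩
        rw [← Scheme.Hom.comp_apply, show m ≫ pullback.fst _ _ = pullback.fst _ _ ≫ U₁.ι by simp [m],
          Scheme.Hom.comp_apply, hk]
        rfl
      exact hη.mem_closed m.isClosedMap.isClosed_range h3⟩
    have : IsIso m := (isIso_iff_isOpenImmersion_and_surjective _).mpr ⟨inferInstance, inferInstance⟩
    rwa [← MorphismProperty.cancel_left_of_respectsIso @IsFinite m, hm]
  -- the chart of the restriction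
  let b' := (yon S).map jV ≫ b
  have hb' : RepWith @Etale b' :=
    repWith_comp ((repWith_yon_iff jV).2 (inferInstanceAs (Etale A.ι))) hb
  have sqP' := IsPullback.of_hasPullback f b'
  have hP' : IsAlgSpace (pullback f b') := isAlgSpace_of_isPullback_space hY hX (IsAlgSpace.yon_obj V') sqP'
  let i : pullback f b' ⟶ pullback f b :=
    pullback.lift (pullback.fst f b') (pullback.snd f b' ≫ (yon S).map jV) (by
      rw [Category.assoc, pullback.condition])
  have sqi : IsPullback i (pullback.snd f b') (pullback.snd f b) ((yon S).map jV) :=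
    IsPullback.of_right (by rw [pullback.lift_fst]; exact sqP') (pullback.lift_snd _ _ _) sqP
  let c' : (yon S).obj W' ⟶ pullback f b' := sqi.lift ((yon S).map w ≫ c) ((yon S).map h') (by
    rw [Category.assoc, ← hh, sqW.w])
  have hci : c' ≫ i = (yon S).map w ≫ c := sqi.lift_fst _ _ _
  have hcs' : c' ≫ pullback.snd f b' = (yon S).map h' := sqi.lift_snd _ _ _
  have sqc : IsPullback ((yon S).map w) c' c i :=
    IsPullback.of_bot (by rw [hcs', ← hh]; exact sqW) hci.symm sqi
  have hce : RepWith @Etale c' := repWith_baseChange sqc hc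
  have hl' : LocP @LocallyOfFiniteType (pullback.snd f b') :=
    locP_baseChange etST_lft hX hY hP' (IsAlgSpace.yon_obj V') sqP' hf
  have hces : RepWith @Surjective c' := by
    rcases hsurj with hcs | ⟨hsep, hmem⟩
    · exact repWith_baseChange sqc hcs
    have hsep' : IsSeparatedMor (pullback.snd f b') := isSeparatedMor_baseChange sqi hsep
    have hfinc : RepWith @IsFinite c' := repWith_of_comp c' _ _ hcs' ((repWith_yon_iff h').2 hW')
      (repWith_mono (fun _ _ k hk => by have : IsClosedImmersion k := hk; infer_instance) hsep')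
    refine repWith_surjective_of_isSurjectiveMor hce.1 fun z => ?_
    obtain ⟨U, a, u, -, ha, hu, -⟩ := exists_affine_chart_at hP' z
    obtain ⟨W₂, p₁, p₂, sq₂⟩ := exists_pullback hP'.diag c' a
    have : IsFinite p₂.left := (repWith_yon_iff p₂).1 (repWith_baseChange sq₂ hfinc)
    obtain ⟨η, hη, hηmax⟩ := exists_isMaxPt_specializes u
    obtain ⟨hu', hhu'⟩ := exists_map_eq (a ≫ pullback.snd f b')
    have hai : RepWith @Etale (a ≫ i) := repWith_comp ha (repWith_mono
      (fun _ _ k hk => by have : IsOpenImmersion k := hk; exact (inferInstance : Etale k))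
      (repWith_baseChange sqi.flip ((repWith_yon_iff (P := @IsOpenImmersion) jV).2 ‹_›)))
    have hη' : Points.map i (Points.ofPt a η) ∈ Set.range (Points.ofPt c) := by
      refine hmem _ ?_
      rw [Points.map_ofPt, Points.map_ofPt, Category.assoc, sqi.w, ← Category.assoc, ← hhu', ← Functor.map_comp,
        ofScheme_map]
      exact congrArg _ (hgen U (a ≫ i) (hu' ≫ jV) hai (by
        rw [Category.assoc, sqi.w, ← Category.assoc, ← hhu', Functor.map_comp]) η hηmax)
    obtain ⟨w₀, hw₀⟩ := hη'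
    obtain ⟨p₀, -, hp₀⟩ := exists_point_of_isPullback sqc (Points.ofScheme W w₀) (Points.ofPt a η)
      (by rw [← Points.ofPt_eq_map_ofScheme, hw₀])
    obtain ⟨w₁, rfl⟩ := (Points.schemeEquiv W').surjective p₀
    have hmemη : η ∈ Set.range p₂.left := by
      obtain ⟨q, -, hq⟩ := (ofPt_eq_iff sq₂ w₁ η).1 ((Points.ofPt_eq_map_ofScheme c' w₁).trans hp₀)
      exact ⟨q, hq⟩
    obtain ⟨q, hq⟩ := hη.mem_closed p₂.left.isClosedMap.isClosed_range hmemη
    refine ⟨Points.ofScheme W' (p₁.left q), ?_⟩
    rw [← Points.ofPt_eq_map_ofScheme, ← hu]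
    exact (ofPt_eq_iff sq₂ _ _).2 ⟨q, rfl, hq⟩
  have hth : (yon S).map (t ≫ h) = (yon S).map s ≫ (yon S).map h := by rw [hts, Functor.map_comp]
  obtain ⟨t', ht'⟩ := exists_map_eq (sqW.lift ((yon S).map r ≫ (yon S).map t) ((yon S).map g') (by
    rw [Category.assoc, ← sqR'.w, Functor.map_comp]))
  obtain ⟨s', hs'⟩ := exists_map_eq (sqW.lift ((yon S).map r ≫ (yon S).map s) ((yon S).map g') (by
    rw [Category.assoc, ← hth, sqR'.w]))
  have ht₁ : (yon S).map t' ≫ (yon S).map w = (yon S).map r ≫ (yon S).map t := by rw [ht', sqW.lift_fst]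
  have ht₂ : (yon S).map t' ≫ (yon S).map h' = (yon S).map g' := by rw [ht', sqW.lift_snd]
  have hs₁ : (yon S).map s' ≫ (yon S).map w = (yon S).map r ≫ (yon S).map s := by rw [hs', sqW.lift_fst]
  have hs₂ : (yon S).map s' ≫ (yon S).map h' = (yon S).map g' := by rw [hs', sqW.lift_snd]
  have sqc' : IsPullback ((yon S).map t') ((yon S).map s') c' c' := by
    refine isPullback_of_points ?_ fun U α β he => ?_
    · apply sqi.hom_ext
      · simp only [Category.assoc, hci, reassoc_of% ht₁, reassoc_of% hs₁, sqR.w]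
      · simp only [Category.assoc, hcs', ht₂, hs₂]
    · have h1 : (α ≫ (yon S).map w) ≫ c = (β ≫ (yon S).map w) ≫ c := by
        rw [Category.assoc, Category.assoc, ← hci, reassoc_of% he]
      have h2 : α ≫ (yon S).map h' = β ≫ (yon S).map h' := by rw [← hcs', reassoc_of% he]
      refine ⟨sqR'.lift (sqR.lift (α ≫ (yon S).map w) (β ≫ (yon S).map w) h1) (α ≫ (yon S).map h') (by
        rw [Functor.map_comp, sqR.lift_fst_assoc, Category.assoc, Category.assoc, sqW.w]), ⟨?_, ?_⟩,
        fun k hk => ?_⟩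
      · apply sqW.hom_ext
        · rw [Category.assoc, ht₁, sqR'.lift_fst_assoc, sqR.lift_fst]
        · rw [Category.assoc, ht₂, sqR'.lift_snd]
      · apply sqW.hom_ext
        · rw [Category.assoc, hs₁, sqR'.lift_fst_assoc, sqR.lift_snd]
        · rw [Category.assoc, hs₂, sqR'.lift_snd, h2]
      · apply sqR'.hom_ext
        · rw [sqR'.lift_fst]
          apply sqR.hom_ext
          · rw [sqR.lift_fst, Category.assoc, ← ht₁, ← hk.1, Category.assoc]
          · rw [sqR.lift_snd, Category.assoc, ← hs₁, ← hk.2, Category.assoc]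
        · rw [sqR'.lift_snd, ← hk.1, Category.assoc, ht₂]
  have hth' : t'.left ≫ h'.left = g'.left := by
    rw [← Over.comp_left, (yon S).map_injective (by rw [Functor.map_comp, ht₂] : (yon S).map (t' ≫ h') = (yon S).map g')]
  have : IsFinite (t'.left ≫ h'.left) := hth' ▸ hR'
  refine ⟨V', b', hb', ⟨(⟨v, hvA⟩ : ↥A), ?_⟩, repWith_finite_of_chart hP' _ hl' hce hces hcs' sqc'⟩
  show Points.ofPt ((yon S).map jV ≫ b) _ = y
  rw [ofPt_comp]
  exact hv

/-- a morphism with finitely many points of codimension zero is finite over a dense open -/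
theorem exists_dense_finite {X Y : Sp S} (hX : IsAlgSpace X) (hY : IsAlgSpace Y) (f : X ⟶ Y)
    (hf : LocP @LocallyOfFiniteType f) (hd : IsDecent Y)
    (hX0 : {x : Points X | HasAt (fun U u => ringKrullDim ↥(U.presheaf.stalk u) = 0) X x}.Finite)
    (hY0 : {y : Points Y | HasAt (fun U u => ringKrullDim ↥(U.presheaf.stalk u) = 0) Y y}.Finite)
    (hpre : ∀ x : Points X, HasAt (fun U u => ringKrullDim ↥(U.presheaf.stalk u) = 0) X x ↔
      HasAt (fun U u => ringKrullDim ↥(U.presheaf.stalk u) = 0) Y (Points.map f x))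
    (hqs : IsQuasiCompactMor f ∨ IsSeparatedMor f) :
    ∃ (Y' : Sp S) (j : Y' ⟶ Y), IsAlgSpace Y' ∧ RepWith @IsOpenImmersion j ∧ Dense (Set.range (Points.map j)) ∧
      RepWith @IsFinite (pullback.fst j f) := by
  choose V' b' hb' hmem hfin using fun y : {y // HasAt (fun U u => ringKrullDim ↥(U.presheaf.stalk u) = 0) Y y} =>
    exists_finite_piece hX hY f hf hd hX0 hY0 hpre hqs y.2
  have : Finite {y // HasAt (fun U u => ringKrullDim ↥(U.presheaf.stalk u) = 0) Y y} := hY0.to_subtype
  obtain ⟨n, ⟨e⟩⟩ := Finite.exists_equiv_fin {y // HasAt (fun U u => ringKrullDim ↥(U.presheaf.stalk u) = 0) Y y}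
  let κ : ULift.{u} (Fin n) → {y // HasAt (fun U u => ringKrullDim ↥(U.presheaf.stalk u) = 0) Y y} :=
    fun k => e.symm k.down
  let O : Set (Points Y) := ⋃ k, Set.range (Points.ofPt (b' (κ k)))
  have hO : IsOpen O := isOpen_iUnion fun k =>
    (isOpenMap_ofPt (repWith_universallyOpen_of_etale (hb' (κ k)))).isOpen_range
  have hmemO : ∀ y, HasAt (fun U u => ringKrullDim ↥(U.presheaf.stalk u) = 0) Y y → y ∈ O := fun y hy =>
    Set.mem_iUnion.2 ⟨⟨e ⟨y, hy⟩⟩, by simp only [κ]; rw [e.symm_apply_apply]; exact hmem ⟨y, hy⟩⟩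
  choose l hl using fun k => exists_factor_subInc (W := O) (b' (κ k)) fun z => by
    obtain ⟨z, rfl⟩ := (Points.schemeEquiv (V' (κ k))).surjective z
    exact Set.mem_iUnion.2 ⟨k, z, Points.ofPt_eq_map_ofScheme (b' (κ k)) z⟩
  have hY' := isAlgSpace_subSheaf hY hO
  have hle : ∀ k, RepWith @Etale (l k) := fun k =>
    repWith_of_comp_mono (m := subInc _) (by rw [hl]; exact hb' (κ k))
  refine ⟨_, subInc O, hY', repWith_subInc hO, ?_, ?_⟩
  · intro y
    obtain ⟨U, a, u, -, ha, rfl, -⟩ := exists_affine_chart_at hY y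
    obtain ⟨η, hη, hηmax⟩ := exists_isMaxPt_specializes u
    obtain ⟨k, z, hz⟩ := Set.mem_iUnion.1 (hmemO _ ⟨U, a, η, ha, rfl, (stalk_dim_zero_iff η).2 hηmax⟩)
    refine closure_mono ?_ ((hη.map (Points.continuous_ofPt a)).mem_closure)
    rw [Set.singleton_subset_iff]
    exact ⟨Points.ofPt (l k) z, by rw [Points.map_ofPt, hl]; exact hz⟩
  · have hcov : IsFppfCover (fun k => (yon S).obj (V' (κ k))) l :=
      ⟨fun k => ⟨(locP_iff_repWith etST_flat hY' (hle k).1).2 (repWith_mono (fun _ _ r hr => by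
          have : Etale r := hr
          infer_instance) (hle k)),
        (locP_iff_repWith etST_lfp hY' (hle k).1).2 (repWith_mono (fun _ _ r hr => by
          have : Etale r := hr
          infer_instance) (hle k))⟩, fun z => by
        obtain ⟨k, u, hu⟩ := Set.mem_iUnion.1 (map_subInc_mem z)
        refine ⟨k, Points.ofScheme (V' (κ k)) u, injective_points_of_mono (subInc _) ?_⟩
        rw [← hu, ← Points.map_comp, hl, Points.ofPt_eq_map_ofScheme]⟩
    refine repWith_of_fppfCover @IsFinite (fun _ _ r hr => by have : IsFinite r := hr; exact indQA_of_isAffineHom r)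
      hY' (fun _ => IsAlgSpace.yon_obj _) hcov _ (fun k => pullback f (b' (κ k))) (fun k => pullback.snd f (b' (κ k)))
      (fun k => pullback.lift (pullback.snd f (b' (κ k)) ≫ l k) (pullback.fst f (b' (κ k)))
        (by rw [Category.assoc, hl, pullback.condition]))
      (fun k => ?_) fun k => hfin (κ k)
    exact IsPullback.of_right (by rw [pullback.lift_snd, hl]; exact IsPullback.of_hasPullback f (b' (κ k)))
      (pullback.lift_fst _ _ _) (IsPullback.of_hasPullback (subInc O) f).flip

end Groth.Agent.SpQS
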