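import Groth.Agent.SpQS.UnivBddFlat
import Groth.Agent.SpQS.Sober
import Groth.Agent.SpQS.GoodPt

/-!
# Universally bounded fibres for maps into algebraic spaces
-/

universe u

open CategoryTheory CategoryTheory.Limits AlgebraicGeometry Opposite IsLocalRing

set_option backward.isDefEq.respectTransparency false

namespace Groth.Agent.SpQS

open _root_.AlgSp Groth.Agent.AlgSpLib

variable {S : Scheme.{u}}

/-- bounded fibres pass to base changes -/
theorem degFibresLE_baseChange {X Y : Sp S} {p : Y ⟶ X} {U V : Over S} {g : (yon S).obj U ⟶ X} {n : ℕ}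
    (hg : W4dec.DegFibresLE n g) {fst : (yon S).obj V ⟶ (yon S).obj U} {snd : (yon S).obj V ⟶ Y}
    (h : IsPullback fst snd g p) : W4dec.DegFibresLE n snd := by
  intro q T c a sq
  exact hg (q.map p) T c (a ≫ fst) (by
    rw [FieldPt.toHom_map]
    exact (sq.flip.paste_horiz h).flip)

/-- the fibre on the closed point of a field valued point -/
theorem degFibresLE_iff_bddAt {F : Sp S} {W : Over S} {w : (yon S).obj W ⟶ F} {n : ℕ} :
    W4dec.DegFibresLE n w ↔ ∀ (q : FieldPt F) (T : Over S) (c : T ⟶ q.pt) (snd : (yon S).obj T ⟶ (yon S).obj W),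
      IsPullback ((yon S).map c) snd q.toHom w → BddAt n c.left (closedPoint q.K) :=
  ⟨fun h _ _ _ _ sq => bddAt_of_degFibresLE h sq.flip _,
    fun h => degFibresLE_of fun q T c snd sq _ => h q T c snd sq⟩

/-- composition with a morphism of schemes -/
theorem degFibresLE_comp {X : Sp S} (hA : IsAlgSpace X) {U V : Over S} {f : V ⟶ U} {g : (yon S).obj U ⟶ X}
    {m n : ℕ} (hf : W4dec.DegFibresLE m ((yon S).map f)) (hg : W4dec.DegFibresLE n g) :
    W4dec.DegFibresLE (m * n) ((yon S).map f ≫ g) := by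
  intro q T c snd sq
  obtain ⟨T₁, c₁, a₁, sq₁⟩ := exists_pullback hA.diag q.toHom g
  obtain ⟨h₁, h₂⟩ := hg q T₁ c₁ _ sq₁
  have hw : (yon S).map c ≫ q.toHom = (snd ≫ (yon S).map f) ≫ g := by rw [Category.assoc]; exact sq.w
  obtain ⟨l, hl⟩ := exists_map_eq (sq₁.lift _ _ hw)
  have hlc : l ≫ c₁ = c := (yon S).map_injective (by rw [Functor.map_comp, hl, sq₁.lift_fst])
  have hla : (yon S).map l ≫ (yon S).map a₁ = snd ≫ (yon S).map f := by rw [hl, sq₁.lift_snd]
  have sqT : IsPullback snd ((yon S).map l) ((yon S).map f) ((yon S).map a₁) := by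
    refine IsPullback.of_bot ?_ hla.symm sq₁.flip
    rw [← Functor.map_comp, hlc]
    exact sq.flip
  let q₁ : T₁.left ⟶ Spec (CommRingCat.of q.K) := c₁.left
  have : IsFinite q₁ := h₁
  obtain ⟨h₃, h₄⟩ := bdd_comp q₁ l.left (fun t => bddAt_of_degFibresLE hf sqT t)
  have e : c.left = l.left ≫ q₁ := (congrArg (fun k => k.left) hlc).symm
  refine ⟨e ▸ h₃, fun s => ?_⟩
  have hs : (l.left ≫ q₁).finrank s ≤ m * n := by
    rw [Subsingleton.elim (α := PrimeSpectrum q.K) s (closedPoint q.K)]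
    exact h₄.trans (Nat.mul_le_mul_left m (h₂ _))
  rw [e]
  exact hs

/-- bounded fibres detected after a base change covering the image -/
theorem degFibresLE_of_baseChange {X Y : Sp S} (hA : IsAlgSpace X) {g : Y ⟶ X} {U V : Over S} {n : ℕ}
    {f : (yon S).obj U ⟶ X} {fst : (yon S).obj V ⟶ (yon S).obj U} {f' : (yon S).obj V ⟶ Y}
    (h : IsPullback fst f' f g) (him : Set.range (Points.ofPt f) ⊆ Set.range (Points.map g))
    (hf' : W4dec.DegFibresLE n f') : W4dec.DegFibresLE n f := by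
  refine degFibresLE_of fun q T c snd sq hT => ?_
  obtain ⟨snd, rfl⟩ := exists_map_eq snd
  obtain ⟨z⟩ := hT
  obtain ⟨y, hy⟩ := him ⟨snd.left z, rfl⟩
  obtain ⟨T', η, t', rfl⟩ := exists_ofPt y
  rw [Points.map_ofPt, ← ofPt_comp, ← sq.w, ofPt_comp] at hy
  obtain ⟨P, a, b, sqP⟩ := exists_pullback hA.diag f (η ≫ g)
  obtain ⟨l, hl⟩ := exists_map_eq (h.lift ((yon S).map a) ((yon S).map b ≫ η) (by rw [sqP.w, Category.assoc]))
  have sqP' : IsPullback ((yon S).map l) ((yon S).map b) f' η :=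
    IsPullback.of_right (by rw [hl, h.lift_fst]; exact sqP) (by rw [hl, h.lift_snd]) h
  have := bddAt_of_ofPt_eq n sqP sq.flip hy (bddAt_of_degFibresLE hf' sqP' t')
  rwa [Subsingleton.elim (α := PrimeSpectrum q.K) (c.left z) (closedPoint q.K)] at this

/-- bounded fibres descend along flat surjections of the source -/
theorem degFibresLE_of_flat_surjective {X : Sp S} (hA : IsAlgSpace X) {U V : Over S} (f : U ⟶ V) [Surjective f.left]
    [Flat f.left] {h : (yon S).obj V ⟶ X} {n : ℕ} (hg : W4dec.DegFibresLE n ((yon S).map f ≫ h)) :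
    W4dec.DegFibresLE n h := by
  refine degFibresLE_iff_bddAt.2 fun q T c a sq => ?_
  obtain ⟨a, rfl⟩ := exists_map_eq a
  let T' : Over S := Over.mk (pullback.snd f.left a.left ≫ T.hom)
  let u : T' ⟶ U := Over.homMk (pullback.fst f.left a.left) (by
    show pullback.fst f.left a.left ≫ U.hom = pullback.snd f.left a.left ≫ T.hom
    rw [← Over.w f, pullback.condition_assoc, Over.w a])
  let v : T' ⟶ T := Over.homMk (pullback.snd f.left a.left) rfl
  have sq₁ : IsPullback u.left v.left f.left a.left := IsPullback.of_hasPullback _ _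
  have sq₂ : IsPullback ((yon S).map (v ≫ c)) ((yon S).map u) q.toHom ((yon S).map f ≫ h) := by
    rw [Functor.map_comp]
    exact ((isPullback_yon_iff.2 sq₁).paste_vert sq.flip).flip
  obtain ⟨h₁, h₂⟩ := hg q T' (v ≫ c) _ sq₂
  let c' : T.left ⟶ Spec (CommRingCat.of q.K) := c.left
  have : Flat v.left := inferInstanceAs (Flat (pullback.snd f.left a.left))
  have : Surjective v.left := inferInstanceAs (Surjective (pullback.snd f.left a.left))
  obtain ⟨h₃, h₄⟩ := bdd_of_flat_family c' (ι := PUnit.{u + 1}) (fun _ => v.left)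
    (fun t => ⟨PUnit.unit, v.left.surjective t⟩) (fun _ => n) (fun _ => ⟨h₁, h₂ _⟩)
  exact (bddAt_fieldPt sq).2 ⟨h₃, h₄.trans (by simp)⟩

/-- the number of points in a fibre -/
theorem encard_fibre_le {X : Sp S} (hA : IsAlgSpace X) {U : Over S} {φ : (yon S).obj U ⟶ X} {n : ℕ}
    (hn : W4dec.DegFibresLE n φ) (x : Points X) : (Points.ofPt φ ⁻¹' {x}).encard ≤ n := by
  obtain ⟨q, rfl⟩ := Points.mk_surjective x
  obtain ⟨T, c, a, sq⟩ := exists_pullback hA.diag q.toHom φ
  obtain ⟨h₁, h₂⟩ := hn q T c _ sq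
  let c' : T.left ⟶ Spec (CommRingCat.of q.K) := c.left
  have : IsFinite c' := h₁
  obtain ⟨hfin, hcard⟩ := natCard_le_finrank c'
  have hsub : Points.ofPt φ ⁻¹' {Points.mk q} ⊆ a.left '' Set.univ := fun u hu => by
    have hu' : Points.ofPt φ u = Points.ofPt q.toHom (closedPoint q.K) := (Points.ofPt_toHom q (closedPoint q.K)).symm ▸ hu
    obtain ⟨w, hw, -⟩ := (ofPt_eq_iff sq.flip u _).1 hu'
    exact ⟨w, trivial, hw⟩
  refine (Set.encard_le_encard hsub).trans ((Set.encard_image_le _ _).trans ?_)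
  rw [Set.encard_univ, ENat.card_eq_coe_natCard T.left]
  exact_mod_cast hcard.trans (h₂ _)

/-- bounded fibres for an affine etale chart from a covering family of bounded charts -/
theorem exists_degFibresLE_of_cover {X : Sp S} (hA : IsAlgSpace X) {ι : Type u} {U : ι → Over S}
    {φ : ∀ i, (yon S).obj (U i) ⟶ X} (hφ : ∀ i, RepWith @Etale (φ i))
    (hsurj : ∀ x : Points X, ∃ (i : ι) (v : ↥(U i).left), Points.ofPt (φ i) v = x)
    (hb : ∀ i, W4dec.HasUnivBddFibres (φ i)) {V : Over S} [IsAffine V.left] (ψ : (yon S).obj V ⟶ X)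
    (hψ : RepWith @Etale ψ) : W4dec.HasUnivBddFibres ψ := by
  choose i u hu using fun v : V.left => hsurj (Points.ofPt ψ v)
  choose n hn using hb
  choose R a b sqR using fun v : V.left => exists_pullback hA.diag (φ (i v)) ψ
  choose r hr₁ hr₂ using fun v : V.left => (ofPt_eq_iff (sqR v) (u v) v).1 (hu v)
  choose O hO hrO using fun v : V.left => exists_isAffineOpen_mem_and_subset (U := ⊤) (x := u v) trivial
  choose A hA' hrA hAO using fun v : V.left => exists_isAffineOpen_mem_and_subset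
    (U := (a v).left ⁻¹ᵁ O v) (x := r v) (show (a v).left (r v) ∈ O v from (hr₁ v) ▸ (hrO v).1)
  have he : ∀ v, Etale (b v).left := fun v =>
    (repWith_yon_iff _).1 (repWith_baseChange (sqR v) (hφ (i v)))
  have hea : ∀ v, Etale (a v).left := fun v =>
    (repWith_yon_iff _).1 (repWith_baseChange (sqR v).flip hψ)
  let g : ∀ v, (A v).toScheme ⟶ (O v).toScheme := fun v => (a v).left.resLE (O v) (A v) (hAO v)
  have hbd : ∀ v, ∃ M, ∀ y, BddAt M (g v) y := fun v => by
    have : IsAffine (A v).toScheme := hA' v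
    have : IsAffine (O v).toScheme := hO v
    have : Etale (g v) := by
      have := hea v
      dsimp [g]; infer_instance
    have : LocallyQuasiFinite (g v) := UnivInjMor.lqf_of_unramified _
    exact exists_bddAt_of_affine (g v)
  choose M hM using hbd
  let Im : V.left → Set V.left := fun v => (b v).left '' (A v : Set (R v).left)
  obtain ⟨t, ht⟩ := isCompact_univ.elim_finite_subcover Im
    (fun v => (b v).left.isOpenMap _ (A v).2) (fun v _ => Set.mem_iUnion.2 ⟨v, r v, hrA v, hr₂ v⟩)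
  refine ⟨∑ v : t, M v.1 * n (i v.1), degFibresLE_iff_bddAt.2 fun q T c s sq => ?_⟩
  obtain ⟨s, rfl⟩ := exists_map_eq s
  have key : ∀ v : V.left, ∃ (Z : Scheme.{u}) (z : Z ⟶ T.left), Flat z ∧
      (∀ x : T.left, s.left x ∈ Im v → ∃ w, z w = x) ∧
      IsFinite (z ≫ (c.left : T.left ⟶ Spec (CommRingCat.of q.K))) ∧
        (z ≫ (c.left : T.left ⟶ Spec (CommRingCat.of q.K))).finrank (closedPoint q.K) ≤ M v * n (i v) := by
    intro v
    let j : Over.mk ((A v).ι ≫ (R v).hom) ⟶ R v := Over.homMk (A v).ι rfl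
    let Z : Over S := Over.mk (pullback.snd ((A v).ι ≫ (b v).left) s.left ≫ T.hom)
    let zA : Z ⟶ Over.mk ((A v).ι ≫ (R v).hom) :=
      Over.homMk (pullback.fst ((A v).ι ≫ (b v).left) s.left) (by
      show pullback.fst ((A v).ι ≫ (b v).left) s.left ≫ (A v).ι ≫ (R v).hom = pullback.snd ((A v).ι ≫ (b v).left) s.left ≫ T.hom
      rw [← Over.w (b v), ← Over.w s, ← Category.assoc (A v).ι, pullback.condition_assoc])
    let zT : Z ⟶ T := Over.homMk (pullback.snd ((A v).ι ≫ (b v).left) s.left) rfl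
    have sqZ : IsPullback zA.left zT.left ((A v).ι ≫ (b v).left) s.left := IsPullback.of_hasPullback _ _
    -- the fibre of the covering chart
    obtain ⟨F, cF, aF, sqF⟩ := exists_pullback hA.diag q.toHom (φ (i v))
    have hFfin := hn (i v) q F cF _ sqF
    let F₀ : F.left.Opens := aF.left ⁻¹ᵁ O v
    let cF' : F.left ⟶ Spec (CommRingCat.of q.K) := cF.left
    have : IsFinite cF' := hFfin.1
    have hdisc := discrete_of_isFinite cF'
    have hF₀c : IsClosedImmersion F₀.ι := isClosedImmersion_ι_of_isClosed F₀ (isClosed_discrete _)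
    have hbF₀ : IsFinite (F₀.ι ≫ cF') ∧ (F₀.ι ≫ cF').finrank (closedPoint q.K) ≤ n (i v) :=
      ⟨inferInstance, (finrank_closed_le F₀.ι cF').1.trans (hFfin.2 _)⟩
    have hw : (yon S).map (zT ≫ c) ≫ q.toHom = (yon S).map (zA ≫ j ≫ a v) ≫ φ (i v) := by
      have e2 : zT ≫ s = zA ≫ j ≫ b v := Over.OverMorphism.ext (sqZ.w.symm.trans (by rfl))
      rw [Functor.map_comp, Category.assoc, sq.w, ← Category.assoc, ← Functor.map_comp, e2, Functor.map_comp,
        Functor.map_comp, Category.assoc, Category.assoc, ← (sqR v).w, Functor.map_comp, Functor.map_comp,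
        Category.assoc, Category.assoc]
    obtain ⟨l, hl⟩ := exists_map_eq (sqF.lift _ _ hw)
    have hlc : l ≫ cF = zT ≫ c := (yon S).map_injective (by rw [Functor.map_comp, hl, sqF.lift_fst])
    have hla : l ≫ aF = zA ≫ j ≫ a v := (yon S).map_injective (by rw [Functor.map_comp, hl, sqF.lift_snd])
    have hla' : l.left ≫ aF.left = zA.left ≫ (A v).ι ≫ (a v).left := congrArg (fun k => k.left) hla
    have hr : Set.range l.left ⊆ Set.range F₀.ι := by
      rw [Scheme.Opens.range_ι]
      rintro _ ⟨z, rfl⟩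
      show aF.left (l.left z) ∈ O v
      rw [← Scheme.Hom.comp_apply, hla']
      exact hAO v (zA.left z).2
    let l₀ : Z.left ⟶ F₀.toScheme := IsOpenImmersion.lift F₀.ι l.left hr
    have hl₀ : l₀ ≫ F₀.ι = l.left := IsOpenImmersion.lift_fac _ _ _
    -- the square over the open of the covering chart
    let a₀ : F₀.toScheme ⟶ (O v).toScheme := aF.left.resLE (O v) F₀ le_rfl
    have sq₀ : IsPullback zA.left l₀ (g v) a₀ := by
      have sqZ' : IsPullback ((yon S).map zA) ((yon S).map zT) ((yon S).map (j ≫ b v)) ((yon S).map s) :=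
        isPullback_yon_iff.2 sqZ
      have h₁ : IsPullback ((yon S).map zA) ((yon S).map (zT ≫ c)) ((yon S).map (j ≫ a v) ≫ φ (i v)) q.toHom := by
        have := sqZ'.paste_vert sq.flip
        rw [← Functor.map_comp] at this
        convert this using 1
        rw [Functor.map_comp, Functor.map_comp, Category.assoc, Category.assoc, (sqR v).w]
      have h₂ : IsPullback ((yon S).map zA) ((yon S).map l) ((yon S).map (j ≫ a v)) ((yon S).map aF) := by
        refine IsPullback.of_bot ?_ ?_ sqF.flip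
        · rw [← Functor.map_comp, hlc]; exact h₁
        · rw [← Functor.map_comp, ← Functor.map_comp, hla]
      have h₃ : IsPullback zA.left l.left ((A v).ι ≫ (a v).left) aF.left := isPullback_yon_iff.1 h₂
      refine isPullback_of_comp_mono (O v).ι ?_
      rw [show g v ≫ (O v).ι = (A v).ι ≫ (a v).left from Scheme.Hom.resLE_comp_ι _ _,
        show a₀ ≫ (O v).ι = F₀.ι ≫ aF.left from Scheme.Hom.resLE_comp_ι _ _]
      have hw₀ : zA.left ≫ (A v).ι ≫ (a v).left = l₀ ≫ F₀.ι ≫ aF.left := by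
        rw [h₃.w, reassoc_of% hl₀]
      refine ⟨⟨hw₀⟩, ⟨PullbackCone.IsLimit.mk hw₀
        (fun c => h₃.lift c.fst (c.snd ≫ F₀.ι) (by rw [c.condition, Category.assoc]))
        (fun c => h₃.lift_fst _ _ _)
        (fun c => by rw [← cancel_mono F₀.ι, Category.assoc, hl₀, h₃.lift_snd])
        (fun c m h₁' h₂' => h₃.hom_ext (by rw [h₁', h₃.lift_fst]) (by
          rw [h₃.lift_snd, ← hl₀, ← Category.assoc, h₂']))⟩⟩
    have : IsFinite (F₀.ι ≫ cF') := hbF₀.1
    obtain ⟨h₅, h₆⟩ := bdd_comp (F₀.ι ≫ cF') l₀ (fun y => (bddAt_baseChange (M v) (g v) sq₀ y).2 (hM v _))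
    have e3 : l₀ ≫ F₀.ι ≫ cF' = zT.left ≫ (c.left : T.left ⟶ Spec (CommRingCat.of q.K)) := by
      rw [← Category.assoc, hl₀]
      exact congrArg (fun k => k.left) hlc
    refine ⟨Z.left, zT.left, ?_, fun x hx => ?_, e3 ▸ h₅, e3 ▸ h₆.trans (Nat.mul_le_mul_left _ hbF₀.2)⟩
    · have := he v
      exact inferInstanceAs (Flat (pullback.snd ((A v).ι ≫ (b v).left) s.left))
    · obtain ⟨y, hy, hy'⟩ := hx
      obtain ⟨w, -, hw'⟩ := Scheme.Pullback.exists_preimage_pullback (f := (A v).ι ≫ (b v).left) (g := s.left) ⟨y, hy⟩ x hy'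
      exact ⟨w, hw'⟩
  choose Z z hzf hzs hzb using key
  have : ∀ v : t, Flat (z v.1) := fun v => hzf v.1
  exact (bddAt_fieldPt sq).2 (bdd_of_flat_family (c.left : T.left ⟶ Spec (CommRingCat.of q.K))
    (fun v : t => z v.1) (fun x => by
      obtain ⟨v, hv, hx⟩ := Set.mem_iUnion₂.1 (ht (Set.mem_univ (s.left x)))
      exact ⟨⟨v, hv⟩, hzs v x hx⟩) (fun v : t => M v.1 * n (i v.1)) (fun v => ⟨(hzb v.1).1, (hzb v.1).2⟩))

end Groth.Agent.SpQS
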