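import Groth.Agent.SpQS.DegStrat
import Groth.Agent.AlgSpLib.Points
import Groth.Agent.AlgSpLib.Space
import Groth.Prelude.Def_AlgSpDec
import Groth.Prelude.Def_W4decUnivBdd

/-!
# The fibre degree as a function on points of an algebraic space
-/

universe u

open CategoryTheory CategoryTheory.Limits AlgebraicGeometry Opposite IsLocalRing

set_option backward.isDefEq.respectTransparency false

namespace Groth.Agent.SpQS

open _root_.AlgSp Groth.Agent.AlgSpLib

variable {S : Scheme.{u}} {X : Sp S}

/-- bounded fibres bound the degree on every base change -/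
theorem finFib_of_degFibresLE {W : Over S} {w : (yon S).obj W ⟶ X} {n : ℕ} (hb : W4dec.DegFibresLE n w)
    {T P : Over S} {ξ : (yon S).obj T ⟶ X} {a : P ⟶ W} {c : P ⟶ T}
    (sq : IsPullback ((yon S).map a) ((yon S).map c) w ξ) :
    FinFib c.left ∧ ∀ t, fdeg c.left t ≤ n := by
  have key : ∀ t : T.left, IsFinite (pullback.snd c.left (T.left.fromSpecResidueField t)) ∧
      fdeg c.left t ≤ n := by
    intro t
    let j : (FieldPt.ofPt ξ t).pt ⟶ T := Over.homMk (T.left.fromSpecResidueField t) rfl
    let P' : Over S :=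
      Over.mk (pullback.snd c.left (T.left.fromSpecResidueField t) ≫ (FieldPt.ofPt ξ t).pt.hom)
    let s' : P' ⟶ (FieldPt.ofPt ξ t).pt := Over.homMk (pullback.snd c.left (T.left.fromSpecResidueField t)) rfl
    let f' : P' ⟶ P := Over.homMk (pullback.fst c.left (T.left.fromSpecResidueField t)) (by
      show pullback.fst c.left (T.left.fromSpecResidueField t) ≫ P.hom = _
      rw [← Over.w c, pullback.condition_assoc]
      rfl)
    have sq₁ : IsPullback ((yon S).map f') ((yon S).map s') ((yon S).map c) ((yon S).map j) :=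
      isPullback_yon_iff.2 (IsPullback.of_hasPullback _ _)
    have sq₂ : IsPullback ((yon S).map s') ((yon S).map f' ≫ (yon S).map a) (FieldPt.ofPt ξ t).toHom w := by
      rw [FieldPt.toHom_ofPt]
      exact (sq₁.paste_horiz sq).flip
    obtain ⟨h₁, h₂⟩ := hb (FieldPt.ofPt ξ t) P' s' _ sq₂
    exact ⟨h₁, h₂ (closedPoint (T.left.residueField t))⟩
  exact ⟨fun t => (key t).1, fun t => (key t).2⟩

/-- the fibre degree depends only on the point of the space -/
theorem fdeg_eq_of_ofPt_eq {F : Sp S} {w : F ⟶ X} {T P T' P' : Over S} {ξ : (yon S).obj T ⟶ X}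
    {a : (yon S).obj P ⟶ F} {c : P ⟶ T} (sq : IsPullback a ((yon S).map c) w ξ)
    {ξ' : (yon S).obj T' ⟶ X} {a' : (yon S).obj P' ⟶ F} {c' : P' ⟶ T'}
    (sq' : IsPullback a' ((yon S).map c') w ξ') [Flat c.left] [Flat c'.left]
    (hf : FinFib c.left) (hf' : FinFib c'.left) {t : T.left} {t' : T'.left}
    (h : Points.ofPt ξ t = Points.ofPt ξ' t') : fdeg c.left t = fdeg c'.left t' := by
  obtain ⟨K, α, β, k, e, rfl, rfl⟩ := exists_of_ofPt_eq h
  let P'' : Over S := Over.mk (pullback.snd c.left α.left ≫ K.hom)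
  let u : P'' ⟶ P := Over.homMk (pullback.fst c.left α.left) (by
    show pullback.fst c.left α.left ≫ P.hom = pullback.snd c.left α.left ≫ K.hom
    rw [← Over.w c, pullback.condition_assoc, Over.w α])
  let v : P'' ⟶ K := Over.homMk (pullback.snd c.left α.left) rfl
  have sq₁ : IsPullback u.left v.left c.left α.left := IsPullback.of_hasPullback _ _
  have sqK : IsPullback ((yon S).map u ≫ a) ((yon S).map v) w ((yon S).map β ≫ ξ') :=
    e ▸ (isPullback_yon_iff.2 sq₁).paste_horiz sq
  have hk : ((yon S).map u ≫ a) ≫ w = ((yon S).map v ≫ (yon S).map β) ≫ ξ' := by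
    rw [Category.assoc ((yon S).map v), sqK.w]
  obtain ⟨l, hl⟩ := exists_map_eq (sq'.lift _ _ hk)
  have hlc : l ≫ c' = v ≫ β := (yon S).map_injective (by
    rw [Functor.map_comp, Functor.map_comp, hl, sq'.lift_snd])
  have sq₂ : IsPullback ((yon S).map l) ((yon S).map v) ((yon S).map c') ((yon S).map β) :=
    IsPullback.of_right (by rw [hl, sq'.lift_fst]; exact sqK)
      (by rw [← Functor.map_comp, hlc, Functor.map_comp]) sq'
  exact (fdeg_baseChange hf sq₁ k).symm.trans (fdeg_baseChange hf' (isPullback_yon_iff.1 sq₂) k)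

end Groth.Agent.SpQS
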