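import Groth.Agent.SpQS.BiratBC
import Groth.Agent.AlgStLib.TrivAut
import Groth.Agent.EtInvariance.Extend
import Groth.Agent.SchImg.LimPoints
import Groth.Agent.SpQS.TrdegQF
import Groth.Agent.UnivInjMor.MonoUnram

/-!
# Birational morphisms: the fibre over the local ring at a generic point
-/

set_option autoImplicit false
universe u

open CategoryTheory CategoryTheory.Limits AlgebraicGeometry Opposite IsLocalRing Topology

set_option backward.isDefEq.respectTransparency false

namespace Groth.Agent.SpQS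

open _root_.AlgSp Groth.Agent.AlgSpLib

/-- a field point which is integral over an affine scheme is closed in the source -/
theorem eq_of_specializes_of_integral {W L M : Scheme.{u}} (h : W ⟶ L) [IsAffine L] (k : M ⟶ W)
    (m : M) [IsIntegralHom (M.fromSpecResidueField m ≫ k ≫ h)] {z : W} (hz : k m ⤳ z) : k m = z := by
  obtain ⟨_, ⟨O', hO', rfl⟩, hzO', -⟩ := W.isBasis_affineOpens.exists_subset_of_mem_open (Set.mem_univ z) isOpen_univ
  let O : W.Opens := O'
  have hO : IsAffineOpen O := hO'
  have hzO : z ∈ O := hzO'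
  have hkO : k m ∈ O := hz.mem_open O.2 hzO
  let s : Spec (M.residueField m) ⟶ O.toScheme := IsOpenImmersion.lift O.ι (M.fromSpecResidueField m ≫ k) (by
    rintro _ ⟨y, rfl⟩
    rw [Scheme.Opens.range_ι, Scheme.Hom.comp_apply, Scheme.fromSpecResidueField_apply]
    exact hkO)
  haveI : IsAffine O.toScheme := hO
  haveI : IsIntegralHom (s ≫ O.ι ≫ h) := by
    rw [← Category.assoc, IsOpenImmersion.lift_fac, Category.assoc]
    infer_instance
  haveI : IsIntegralHom s := IsIntegralHom.of_comp s (O.ι ≫ h)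
  have hc : IsClosed (Set.range s) := s.isClosedMap.isClosed_range
  have hs : s (closedPoint (M.residueField m)) = ⟨k m, hkO⟩ := Subtype.ext (by
    show O.ι (s _) = _
    rw [← Scheme.Hom.comp_apply, IsOpenImmersion.lift_fac, Scheme.Hom.comp_apply, Scheme.fromSpecResidueField_apply])
  have hz' : (⟨k m, hkO⟩ : O.toScheme) ⤳ ⟨z, hzO⟩ := O.ι.isOpenEmbedding.toIsEmbedding.toIsInducing.specializes_iff.1 hz
  obtain ⟨y, hy⟩ := hz'.mem_closed hc ⟨_, hs⟩
  rw [Subsingleton.elim (α := PrimeSpectrum (M.residueField m)) y (closedPoint _), hs] at hy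
  exact congrArg Subtype.val hy

theorem isIntegralHom_point {L T M : Scheme.{u}} [Subsingleton L] (g : T ⟶ L) (m₂ : M ⟶ T) [Etale m₂] (m : M)
    [IsIso (g.stalkMap (m₂ m))] : IsIntegralHom (M.fromSpecResidueField m ≫ m₂ ≫ g) := by
  rw [← Scheme.Hom.SpecMap_residueFieldMap_fromSpecResidueField_assoc,
    ← Scheme.Hom.SpecMap_residueFieldMap_fromSpecResidueField]
  haveI : LocallyQuasiFinite m₂ := UnivInjMor.lqf_of_unramified m₂
  haveI : IsFinite (Spec.map (m₂.residueFieldMap m)) :=
    (IsFinite.SpecMap_iff _).2 (finite_residueFieldMap m₂ (m₂.quasiFiniteAt m))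
  haveI : IsIso (g.residueFieldMap (m₂ m)) :=
    (ConcreteCategory.isIso_iff_bijective _).2 (bijective_residueFieldMap_of_isIso g (m₂ m))
  haveI : IsClosedImmersion (L.fromSpecResidueField (g (m₂ m))) :=
    IsClosedImmersion.of_isPreimmersion _ (by
      rw [Scheme.range_fromSpecResidueField, show ({g (m₂ m)} : Set L) = Set.univ from
        Set.eq_univ_of_forall fun y => Subsingleton.elim _ _]
      exact isClosed_univ)
  infer_instance

variable {S : Scheme.{u}}

theorem isIso_fibre_generic {X Y : AlgSp.Space S} (f : X ⟶ Y) (hX : IsDecent X.obj) (hY : IsDecent Y.obj)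
    (hf : W4stk3decentspacesp2.IsBirational f.hom) {V : Over S} (b : (yon S).obj V ⟶ Y.obj)
    (hb : RepWith @IsOpenImmersion b) (v : V.left) (hv : Points.ofPt b v ∈ genericPoints (Points Y.obj))
    {P : Sp S} (fst : P ⟶ X.obj) (snd : P ⟶ (yon S).obj (Over.mk (V.left.fromSpecStalk v ≫ V.hom)))
    (hP : IsPullback fst snd f.hom ((yon S).map (Over.homMk (V.left.fromSpecStalk v) rfl) ≫ b)) : IsIso snd := by
  have hgX := goodAt_of_isDecent X.property hX
  have hgY := goodAt_of_isDecent Y.property hY
  let L : Over S := Over.mk (V.left.fromSpecStalk v ≫ V.hom)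
  let i : L ⟶ V := Over.homMk (V.left.fromSpecStalk v) rfl
  let ξ : (yon S).obj L ⟶ Y.obj := (yon S).map i ≫ b
  haveI : IsAffine L.left := inferInstanceAs (IsAffine (Spec _))
  have hbet : RepWith @Etale b := repWith_mono (fun _ _ r hr => by
    have : IsOpenImmersion r := hr
    infer_instance) hb
  have hη : IsMaxPt (Points.ofPt b v) := (genericPoints_iff Y.property hY _).1 hv
  have hvmax : IsMaxPt v := (isMaxPt_ofPt_iff Y.property hgY hbet v).1 hη
  have hiv : ∀ l : L.left, i.left l = v := fun l => by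
    refine hvmax _ ?_
    have := Scheme.range_fromSpecStalk (X := V.left) (x := v)
    exact this.le ⟨l, rfl⟩
  haveI : Subsingleton L.left := ⟨fun l l' =>
    (V.left.fromSpecStalk v).isEmbedding.injective ((hiv l).trans (hiv l').symm)⟩
  let l₀ : L.left := closedPoint (V.left.presheaf.stalk v)
  have hξl : ∀ l : L.left, Points.ofPt ξ l = Points.ofPt b v := fun l => by rw [ofPt_comp, hiv]
  obtain ⟨x, hx, hxy⟩ := hf.bijOn.surjOn hv
  obtain ⟨U₀, V₀, a, b₀, g, u₀, hae, hbe, comm, hau, hiso⟩ := hf.stalkIso x hx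
  haveI : IsIso (g.left.stalkMap u₀) := hiso
  -- `L` lands in `V₀`
  obtain ⟨R, r, q, sqR⟩ := exists_pullback Y.property.diag b₀ ξ
  have hgu : Points.ofPt b₀ (g.left u₀) = Points.ofPt b v := by
    rw [← hxy, ← hau, Points.map_ofPt, comm, ofPt_comp]
  haveI : IsIso ((yon S).map q) := by
    refine AlgStLib.isIso_of_openImmersion_surjective _ (repWith_baseChange sqR hbe) fun p => ?_
    obtain ⟨l, rfl⟩ := (Points.schemeEquiv L).surjective p
    obtain ⟨w, -, hw⟩ := (ofPt_eq_iff sqR (g.left u₀) l).1 (by rw [hgu, hξl])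
    exact ⟨Points.ofScheme R w, by
      show Points.map _ (Points.ofPt (𝟙 _) w) = _
      rw [Points.map_ofPt, Category.id_comp, ofScheme_map, hw]
      rfl⟩
  obtain ⟨ℓ, hℓ⟩ := exists_map_eq (inv ((yon S).map q) ≫ (yon S).map r)
  have hℓb : (yon S).map ℓ ≫ b₀ = ξ := by rw [hℓ, Category.assoc, sqR.w, IsIso.inv_hom_id_assoc]
  have hℓl : ∀ l : L.left, ℓ.left l = g.left u₀ := fun l => by
    haveI : Mono b₀ := mono_of_repWith_immersion (repWith_mono (P := @IsOpenImmersion) (Q := @IsImmersion)
      (fun _ _ g hg => have : IsOpenImmersion g := hg; inferInstance) hbe)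
    refine SchImg.injective_ofPt_of_mono b₀ ?_
    rw [← ofPt_comp, hℓb, hξl, hgu]
  obtain ⟨T, t, g', sqT⟩ := exists_pullback (IsAlgSpace.yon_obj V₀).diag ((yon S).map g) ((yon S).map ℓ)
  obtain ⟨ω, hωt, -, hωiso, hωu⟩ := exists_unique_stalkIso (isPullback_yon_iff.1 sqT) u₀ l₀ (hℓl l₀)
  let c : (yon S).obj T ⟶ P := hP.lift ((yon S).map t ≫ a) ((yon S).map g') (by
    show ((yon S).map t ≫ a) ≫ f.hom = (yon S).map g' ≫ ξ
    rw [Category.assoc, comm, reassoc_of% sqT.w, hℓb])
  have sqC : IsPullback ((yon S).map t) c a fst := by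
    refine IsPullback.of_bot (v₁₁ := c) (v₂₁ := snd) ?_ (hP.lift_fst _ _ _).symm hP
    rw [hP.lift_snd, comm]
    haveI : Mono b₀ := mono_of_repWith_immersion (repWith_mono (P := @IsOpenImmersion) (Q := @IsImmersion)
      (fun _ _ g hg => have : IsOpenImmersion g := hg; inferInstance) hbe)
    have sqℓ : IsPullback ((yon S).map ℓ) (𝟙 _) b₀ ξ :=
      IsPullback.of_vert_isIso_mono ⟨by rw [Category.id_comp, hℓb]⟩
    simpa using sqT.paste_vert sqℓ
  have hce : RepWith @IsOpenImmersion c := repWith_baseChange sqC hae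
  have hofPta : Function.Injective (Points.ofPt a) := fun z z' h => by
    haveI : Mono a := mono_of_repWith_immersion (repWith_mono (P := @IsOpenImmersion) (Q := @IsImmersion)
      (fun _ _ g hg => have : IsOpenImmersion g := hg; inferInstance) hae)
    exact SchImg.injective_ofPt_of_mono a h
  have htu : ∀ ω' : T.left, t.left ω' = u₀ → ω' = ω := fun ω' h => hωu ω' h (Subsingleton.elim _ _)
  have hPa : IsAlgSpace P := isAlgSpace_of_isPullback_space Y.property X.property (IsAlgSpace.yon_obj L) hP
  -- all points of the fibre are the generic point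
  have hfib : ∀ p : Points P, Points.map fst p = x := by
    intro p
    obtain ⟨l, hl⟩ := (Points.schemeEquiv L).surjective (Points.map snd p)
    have hpy : Points.map f.hom (Points.map fst p) = Points.ofPt b v := by
      rw [← Points.map_comp, hP.w, Points.map_comp, ← hl]
      show Points.map ξ (Points.ofPt (𝟙 _) l) = _
      rw [Points.map_ofPt, Category.id_comp, hξl]
    obtain ⟨U, e, u', hU, he, hu', -⟩ := exists_affine_chart_at X.property (Points.map fst p)
    haveI := hU
    obtain ⟨u'', hsp, hmax⟩ := exists_isMaxPt_specializes u'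
    have hx'' : Points.ofPt e u'' = x := by
      refine hf.bijOn.injOn ((genericPoints_iff X.property hX _).2 ((isMaxPt_ofPt_iff X.property hgX he _).2 hmax)) hx ?_
      rw [hxy]
      refine hη _ ?_
      rw [← hpy, ← hu']
      exact (hsp.map (Points.continuous_ofPt e)).map (Points.continuous_map f.hom)
    obtain ⟨W, k, h, sqW⟩ := exists_pullback Y.property.diag (e ≫ f.hom) ξ
    obtain ⟨d, hd⟩ : ∃ d : (yon S).obj W ⟶ P, d = hP.lift ((yon S).map k ≫ e) ((yon S).map h) (by
      rw [Category.assoc]; exact sqW.w) := ⟨_, rfl⟩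
    have sqD : IsPullback ((yon S).map k) d e fst := by
      refine IsPullback.of_bot (v₁₁ := d) (v₂₁ := snd) ?_ (by rw [hd]; exact (hP.lift_fst _ _ _).symm) hP
      rw [hd, hP.lift_snd]
      exact sqW
    obtain ⟨w'', hw''k, -⟩ := (ofPt_eq_iff sqW u'' l₀).1 (by
      rw [← Points.map_ofPt, hx'', hxy, hξl])
    obtain ⟨w', hw'k, -⟩ := (ofPt_eq_iff sqW u' l).1 (by
      rw [← Points.map_ofPt, hu', hpy, hξl])
    haveI hki : IsPreimmersion k.left := by
      obtain ⟨R₂, r₂, q₂, sqR₂⟩ := exists_pullback Y.property.diag (e ≫ f.hom) b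
      haveI : IsOpenImmersion r₂.left := (repWith_yon_iff r₂).1 (repWith_baseChange sqR₂.flip hb)
      obtain ⟨k', hk'⟩ := exists_map_eq (sqR₂.lift ((yon S).map k) ((yon S).map (h ≫ i)) (by
        rw [sqW.w, Functor.map_comp, Category.assoc]))
      have e1 : k' ≫ r₂ = k := (yon S).map_injective (by rw [Functor.map_comp, hk', sqR₂.lift_fst])
      have e2 : k' ≫ q₂ = h ≫ i := (yon S).map_injective (by rw [Functor.map_comp, hk', sqR₂.lift_snd])
      have sq' : IsPullback ((yon S).map k') ((yon S).map h) ((yon S).map q₂) ((yon S).map i) := by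
        refine IsPullback.of_right ?_ (by rw [← Functor.map_comp, e2, Functor.map_comp]) sqR₂
        rw [← Functor.map_comp, e1]
        exact sqW
      haveI : IsPreimmersion i.left := inferInstanceAs (IsPreimmersion (V.left.fromSpecStalk v))
      haveI : IsPreimmersion k'.left := MorphismProperty.of_isPullback (P := @IsPreimmersion) (isPullback_yon_iff.1 sq').flip ‹_›
      rw [← e1, Over.comp_left]
      infer_instance
    have hspW : w'' ⤳ w' := k.left.isEmbedding.toIsInducing.specializes_iff.1 (by rw [hw''k, hw'k]; exact hsp)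
    obtain ⟨M, m₁, m₂, sqM⟩ := exists_pullback hPa.diag d c
    have hde : RepWith @Etale d := repWith_baseChange sqD he
    haveI : Etale m₂.left := (repWith_yon_iff m₂).1 (repWith_baseChange sqM hde)
    haveI : IsOpenImmersion m₁.left := (repWith_yon_iff m₁).1 (repWith_baseChange sqM.flip hce)
    obtain ⟨ω', hω'⟩ : ∃ ω' : T.left, Points.ofPt c ω' = Points.ofPt d w'' := by
      obtain ⟨z, -, hz⟩ := exists_point_of_isPullback sqC (Points.ofScheme U₀ u₀) (Points.ofPt d w'') (by
        show Points.map a (Points.ofPt (𝟙 _) u₀) = _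
        rw [Points.map_ofPt, Category.id_comp, Points.map_ofPt, ← sqD.w, ofPt_comp, hw''k, hx'', hau])
      obtain ⟨ω', rfl⟩ := (Points.schemeEquiv T).surjective z
      refine ⟨ω', ?_⟩
      rw [← hz]
      show _ = Points.map c (Points.ofPt (𝟙 _) ω')
      rw [Points.map_ofPt, Category.id_comp]
    obtain ⟨m, hm₁, hm₂⟩ := (ofPt_eq_iff sqM w'' ω').1 hω'.symm
    have hgh : m₁ ≫ h = m₂ ≫ g' := (yon S).map_injective (by
      have := congrArg (· ≫ snd) sqM.w
      simp only [Category.assoc] at this
      rw [hd, hP.lift_snd, hP.lift_snd] at this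
      rw [Functor.map_comp, Functor.map_comp]
      exact this)
    have htω' : t.left ω' = u₀ := hofPta (by
      rw [← ofPt_comp, sqC.w, ← Points.map_ofPt, hω', Points.map_ofPt, ← sqD.w, ofPt_comp, hw''k, hx'', hau])
    haveI : IsIso (g'.left.stalkMap (m₂.left m)) := by
      rw [hm₂, htu ω' htω']
      exact hωiso
    haveI : IsIntegralHom (M.left.fromSpecResidueField m ≫ m₁.left ≫ h.left) := by
      rw [← Over.comp_left, hgh, Over.comp_left]
      exact isIntegralHom_point g'.left m₂.left m
    have := eq_of_specializes_of_integral h.left m₁.left m (hm₁.symm ▸ hspW)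
    rw [← hu', show u' = u'' by rw [← hw'k, ← this, hm₁, hw''k], hx'']
  haveI : IsIso c := by
    refine EtInvariance.isIso_of_openImm_surjective (IsAlgSpace.yon_obj T) hPa c hce fun p => ?_
    obtain ⟨z, -, hz⟩ := exists_point_of_isPullback sqC (Points.ofScheme U₀ u₀) p (by
      rw [hfib, ← hau]
      show Points.map a (Points.ofPt (𝟙 _) u₀) = _
      rw [Points.map_ofPt, Category.id_comp])
    exact ⟨z, hz⟩
  haveI : Subsingleton T.left := ⟨fun ω₁ ω₂ => by
    have h1 : ∀ ω' : T.left, t.left ω' = u₀ := fun ω' => hofPta (by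
      rw [← ofPt_comp, sqC.w, ← Points.map_ofPt, hfib, hau])
    rw [htu ω₁ (h1 ω₁), htu ω₂ (h1 ω₂)]⟩
  haveI : IsOpenImmersion g'.left := by
    haveI : ∀ y, IsIso (g'.left.stalkMap y) := fun y => by
      rw [Subsingleton.elim y ω]; exact hωiso
    refine IsOpenImmersion.of_isIso_stalkMap g'.left
      (Topology.IsOpenEmbedding.of_continuous_injective_isOpenMap g'.left.continuous
        (fun y y' _ => Subsingleton.elim _ _) fun O hO => ?_)
    rcases O.eq_empty_or_nonempty with rfl | ⟨y, hy⟩
    · simp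
    · rw [show g'.left '' O = Set.univ from Set.eq_univ_of_forall fun l => ⟨y, hy, Subsingleton.elim _ _⟩]
      exact isOpen_univ
  haveI : Surjective g'.left := ⟨fun l => ⟨ω, Subsingleton.elim _ _⟩⟩
  haveI : IsIso g'.left := isIso_of_isOpenImmersion_of_opensRange_eq_top g'.left
    (TopologicalSpace.Opens.ext (Set.range_eq_univ.2 g'.left.surjective))
  haveI : IsIso ((Over.forget S).map g') := ‹IsIso g'.left›
  haveI : IsIso g' := isIso_of_reflects_iso g' (Over.forget S)
  have : snd = inv c ≫ (yon S).map g' := by rw [IsIso.eq_inv_comp]; exact hP.lift_snd _ _ _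
  rw [this]
  infer_instance

end Groth.Agent.SpQS
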