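import Groth.Agent.SpQS.BiratDense
import Groth.Agent.AlgSpLib.DiagProp
import Groth.Agent.AlgSpLib.Criteria
import Groth.Agent.AlgSpLib.QCompact
import Groth.Agent.FpqcDescent.Immersion
import Groth.Agent.SpQS.MonoDiscrete

/-!
# A birational morphism, quasi-compact or separated, is an isomorphism over a dense open
-/

set_option autoImplicit false
universe u

open CategoryTheory CategoryTheory.Limits AlgebraicGeometry Opposite IsLocalRing Topology

set_option backward.isDefEq.respectTransparency false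

namespace Groth.Agent.SpQS

open _root_.AlgSp Groth.Agent.AlgSpLib

variable {S : Scheme.{u}}

theorem exists_open_avoid {A V : Scheme.{u}} (h : A ⟶ V) [QuasiCompact h] (Z : Set A) (hZ : IsClosed Z) {w : V}
    (hw : IsMaxPt w) (hne : ∀ z ∈ Z, h z ≠ w) : ∃ O : V.Opens, w ∈ O ∧ ∀ z ∈ Z, h z ∉ O := by
  let J := Scheme.IdealSheafData.vanishingIdeal (⟨Z, hZ⟩ : TopologicalSpace.Closeds A)
  have hr : Set.range J.subschemeι = Z := by
    rw [Scheme.IdealSheafData.range_subschemeι, Scheme.IdealSheafData.coe_support_vanishingIdeal]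
    rfl
  refine ⟨⟨(closure (Set.range (J.subschemeι ≫ h)))ᶜ, isClosed_closure.isOpen_compl⟩, ?_, fun z hz hzO => ?_⟩
  · intro hcl
    obtain ⟨y, hy⟩ := FpqcDescent.exists_specializes_of_mem_closure (J.subschemeι ≫ h) hcl
    exact hne (J.subschemeι y) (hr.le ⟨y, rfl⟩) ((Scheme.Hom.comp_apply _ _ _).symm.trans (hw _ hy))
  · obtain ⟨y, rfl⟩ := hr.ge hz
    exact hzO (subset_closure ⟨y, Scheme.Hom.comp_apply _ _ _⟩)

theorem map_yon_ofScheme {A B : Over S} (i : A ⟶ B) (v : A.left) :
    Points.map ((yon S).map i) (Points.ofScheme A v) = Points.ofScheme B (i.left v) := by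
  show Points.map _ (Points.ofPt (𝟙 _) v) = _
  rw [Points.map_ofPt, Category.id_comp, ofScheme_map]

/-- over a maximal point of the target, the points of the base change are maximal -/
theorem isMaxPt_fst_of_snd {X Y : AlgSp.Space S} (f : X ⟶ Y) (hX : IsDecent X.obj) (hY : IsDecent Y.obj)
    (hf : W4stk3decentspacesp2.IsBirational f.hom) {V : Over S} (b : (yon S).obj V ⟶ Y.obj)
    (hb : RepWith @IsOpenImmersion b) {P : Sp S} {p₁ : P ⟶ X.obj} {p₂ : P ⟶ (yon S).obj V}
    (sqP : IsPullback p₁ p₂ f.hom b) {w : V.left} (hw : IsMaxPt (Points.ofPt b w)) {p : Points P}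
    (hp : Points.map p₂ p = Points.ofScheme V w) : IsMaxPt (Points.map p₁ p) := by
  have h3 : IsMaxPt w :=
    (isMaxPt_ofPt_iff Y.property (goodAt_of_isDecent Y.property hY) (repWith_etale_of_openImm hb) w).1 hw
  obtain ⟨F, q₁, q₂, sqF⟩ : ∃ (F : Sp S) (q₁ : F ⟶ X.obj) (q₂ : _), IsPullback q₁ q₂ f.hom
      ((yon S).map (Over.homMk (V.left.fromSpecStalk w) rfl :
        (Over.mk (V.left.fromSpecStalk w ≫ V.hom) : Over S) ⟶ V) ≫ b) :=
    ⟨_, _, _, IsPullback.of_hasPullback _ _⟩
  haveI := isIso_fibre_generic f hX hY hf b hb w ((genericPoints_iff Y.property hY _).2 hw) q₁ q₂ sqF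
  obtain ⟨x, hx, hxy⟩ := hf.bijOn.surjOn ((genericPoints_iff Y.property hY _).2 hw)
  have hx' := (genericPoints_iff X.property hX x).1 hx
  have hv : Points.map f.hom (Points.map p₁ p) = Points.ofPt b w := by
    rw [← Points.map_comp, sqP.w, Points.map_comp, hp]
    show Points.map b (Points.ofPt (𝟙 _) w) = _
    rw [Points.map_ofPt, Category.id_comp]
  haveI : Subsingleton (Spec (V.left.presheaf.stalk w) : Scheme.{u}) := ⟨fun l l' => by
    have hl : ∀ l, V.left.fromSpecStalk w l = w := fun l =>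
      h3 _ ((Scheme.range_fromSpecStalk (X := V.left) (x := w)).le ⟨l, rfl⟩)
    exact (V.left.fromSpecStalk w).isEmbedding.injective ((hl l).trans (hl l').symm)⟩
  obtain ⟨l₀, hl₀'⟩ : ∃ l₀ : (Over.mk (V.left.fromSpecStalk w ≫ V.hom) : Over S).left,
      V.left.fromSpecStalk w l₀ = w := ⟨closedPoint (V.left.presheaf.stalk w), Scheme.fromSpecStalk_closedPoint⟩
  have hl₀ : Points.map ((yon S).map (Over.homMk (V.left.fromSpecStalk w) rfl :
      (Over.mk (V.left.fromSpecStalk w ≫ V.hom) : Over S) ⟶ V) ≫ b) (Points.ofScheme _ l₀) = Points.ofPt b w := by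
    show Points.map _ (Points.ofPt (𝟙 _) l₀) = _
    rw [Points.map_ofPt, Category.id_comp, ofPt_comp]
    exact congrArg _ hl₀'
  obtain ⟨r₁, hr₁, hr₁'⟩ := exists_point_of_isPullback sqF _ _ (hv.trans hl₀.symm)
  obtain ⟨r₂, hr₂, hr₂'⟩ := exists_point_of_isPullback sqF x _ (hxy.trans hl₀.symm)
  have hinj := injective_points_of_mono q₂ (hr₁'.trans hr₂'.symm)
  rw [← hr₁, hinj, hr₂]
  exact hx'

/-- quasi-compactness: an open subset containing a fibre over a maximal point contains a tube -/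
theorem exists_open_tube {X Y : Sp S} (hY : IsAlgSpace Y) (f : X ⟶ Y) (hqc : IsQuasiCompactMor f) {V : Over S}
    {b : (yon S).obj V ⟶ Y} {P : Sp S} (hPa : IsAlgSpace P) {p₁ : P ⟶ X} {p₂ : P ⟶ (yon S).obj V}
    (sqP : IsPullback p₁ p₂ f b) {C : Set (Points P)} (hC : IsOpen C) {w : V.left} (hw : IsMaxPt w)
    (hfib : ∀ p, Points.map p₂ p = Points.ofScheme V w → p ∈ C) :
    ∃ O : V.left.Opens, w ∈ O ∧ ∀ p : Points P, ∀ v ∈ O, Points.map p₂ p = Points.ofScheme V v → p ∈ C := by
  obtain ⟨W, i, hWa, hi, w₁, hw₁⟩ : ∃ (W : Over S) (i : W ⟶ V), IsAffine W.left ∧ IsOpenImmersion i.left ∧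
      ∃ w₁ : W.left, i.left w₁ = w := by
    obtain ⟨_, ⟨O₀, hO₀, rfl⟩, hwO₀, -⟩ :=
      V.left.isBasis_affineOpens.exists_subset_of_mem_open (Set.mem_univ w) isOpen_univ
    exact ⟨Over.mk (Scheme.Opens.ι O₀ ≫ V.hom), Over.homMk (Scheme.Opens.ι O₀) rfl, hO₀,
      inferInstanceAs (IsOpenImmersion (Scheme.Opens.ι O₀)), ⟨w, hwO₀⟩, rfl⟩
  subst hw₁
  obtain ⟨Q, q₁, q₂, sqQ⟩ : ∃ (Q : Sp S) (q₁ : Q ⟶ P) (q₂ : _), IsPullback q₁ q₂ p₂ ((yon S).map i) :=
    ⟨_, _, _, IsPullback.of_hasPullback _ _⟩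
  have hQ := isAlgSpace_of_isPullback_space (IsAlgSpace.yon_obj V) hPa (IsAlgSpace.yon_obj W) sqQ
  have hQc := hqc (IsAlgSpace.yon_obj W) ⟨W, 𝟙 _, repWith_id @Etale W, repWith_id @Surjective W, inferInstance⟩
    _ _ _ (sqQ.paste_horiz sqP)
  haveI : CompactSpace (Points Q) := compactSpace_of_isQuasiCompactSp hQc
  obtain ⟨A, π, hA, hπ, hπs⟩ := exists_affine_chart_of_compact hQ
  obtain ⟨h, hh⟩ := exists_map_eq (π ≫ q₂)
  haveI : QuasiCompact h.left := quasiCompact_of_compactSpace h.left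
  have hqv : ∀ z : A.left, Points.map p₂ (Points.ofPt (π ≫ q₁) z) =
      Points.ofScheme V (i.left (h.left z)) := fun z => by
    rw [Points.map_ofPt, Category.assoc, sqQ.w, ← Category.assoc, ← hh, ← Functor.map_comp, ofScheme_map,
      Over.comp_left, Scheme.Hom.comp_apply]
  have hZA : IsClosed (Points.ofPt (π ≫ q₁) ⁻¹' Cᶜ) := hC.isClosed_compl.preimage (Points.continuous_ofPt _)
  obtain ⟨O, hwO, hO⟩ := exists_open_avoid h.left _ hZA (w := w₁)
    (fun y hy => i.left.isEmbedding.injective (hw _ (hy.map i.left.continuous)))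
    (fun z hz e => hz (hfib _ ((hqv z).trans (congrArg _ (congrArg _ e)))))
  refine ⟨i.left ''ᵁ O, ⟨w₁, hwO, rfl⟩, fun p v hv hp => ?_⟩
  obtain ⟨v₁, hv₁, rfl⟩ := hv
  obtain ⟨r, hr₁, hr₂⟩ := exists_point_of_isPullback sqQ p (Points.ofScheme W v₁)
    (hp.trans (map_yon_ofScheme i v₁).symm)
  obtain ⟨z, rfl⟩ := ofPt_surjective hπs r
  rw [Points.map_ofPt] at hr₁ hr₂
  by_contra hnot
  refine hO z (by show Points.ofPt (π ≫ q₁) z ∈ Cᶜ; rw [hr₁]; exact hnot) ?_
  rw [← hh, ofScheme_map] at hr₂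
  rwa [(Points.schemeEquiv _).injective hr₂]

theorem exists_iso_over_dense {X Y : AlgSp.Space S} (f : X ⟶ Y) (hX : IsDecent X.obj) (hY : IsDecent Y.obj)
    (hXf : (irreducibleComponents (Points X.obj)).Finite)
    (hYf : (irreducibleComponents (Points Y.obj)).Finite)
    (hf : W4stk3decentspacesp2.IsBirational f.hom) (h₁ : IsQuasiCompactMor f.hom ∨ IsSeparatedMor f.hom)
    (h₂ : (LocP @LocallyOfFiniteType f.hom ∧ EtaleLocally (fun T => IsReduced T) Y.obj) ∨
      LocP @LocallyOfFinitePresentation f.hom) :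
    ∃ (V : Over S) (b : (yon S).obj V ⟶ Y.obj), RepWith @IsOpenImmersion b ∧
      Dense (Set.range (Points.ofPt b)) ∧
        ∀ ⦃P : Sp S⦄ (fst : P ⟶ X.obj) (snd : P ⟶ (yon S).obj V), IsPullback fst snd f.hom b → IsIso snd := by
  obtain ⟨U, V, a, b, g, ha, hb, hamax, hbmax, comm, hg⟩ := exists_dense_iso f hX hY hXf hYf hf h₂
  haveI : IsIso ((Over.forget S).map g) := hg
  haveI : IsIso g := isIso_of_reflects_iso g (Over.forget S)
  obtain ⟨P, p₁, p₂, sqP⟩ : ∃ (P : Sp S) (p₁ : P ⟶ X.obj) (p₂ : P ⟶ (yon S).obj V), IsPullback p₁ p₂ f.hom b :=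
    ⟨_, _, _, IsPullback.of_hasPullback f.hom b⟩
  obtain ⟨hPa⟩ : Nonempty (IsAlgSpace P) :=
    ⟨isAlgSpace_of_isPullback_space Y.property X.property (IsAlgSpace.yon_obj V) sqP⟩
  let c : (yon S).obj U ⟶ P := sqP.lift a ((yon S).map g) comm
  have hfst : RepWith @IsOpenImmersion p₁ := repWith_baseChange sqP.flip hb
  haveI : Mono p₁ := mono_of_openImm hfst
  haveI : Mono a := mono_of_openImm ha
  have hc : RepWith @IsOpenImmersion c :=
    repWith_of_comp_mono (m := p₁) (by rw [sqP.lift_fst]; exact ha)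
  haveI : Mono c := mono_of_openImm hc
  -- it suffices to shrink `V` to an open avoiding the image of the complement
  suffices H : ∃ O : V.left.Opens, (∀ y, IsMaxPt y → ∃ v ∈ O, Points.ofPt b v = y) ∧
      ∀ p : Points P, ∀ v ∈ O, Points.map p₂ p = Points.ofScheme V v →
        p ∈ Set.range (Points.map c) by
    obtain ⟨O, hOmax, hO⟩ := H
    let V' : Over S := Over.mk (O.ι ≫ V.hom)
    let i : V' ⟶ V := Over.homMk O.ι rfl
    have hi : RepWith @IsOpenImmersion ((yon S).map i) :=
      (repWith_yon_iff i).2 (inferInstanceAs (IsOpenImmersion O.ι))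
    refine ⟨V', (yon S).map i ≫ b, repWith_comp hi hb, dense_of_max Y.property hY fun y hy => ?_, ?_⟩
    · obtain ⟨v, hv, rfl⟩ := hOmax y hy
      exact ⟨(⟨v, hv⟩ : O.toScheme), by rw [ofPt_comp]; rfl⟩
    intro P' fst snd sq
    let d : P' ⟶ P := sqP.lift fst (snd ≫ (yon S).map i) (by rw [Category.assoc]; exact sq.w)
    have sqd : IsPullback d snd p₂ ((yon S).map i) :=
      IsPullback.of_right (by rw [sqP.lift_fst]; exact sq) (sqP.lift_snd _ _ _) sqP
    have hP'a : IsAlgSpace P' := isAlgSpace_of_isPullback_space (IsAlgSpace.yon_obj V) hPa (IsAlgSpace.yon_obj V') sqd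
    -- `U' ≅ V'` maps isomorphically onto `P'`
    obtain ⟨e, he⟩ : ∃ e : (yon S).obj V' ⟶ P', e = sq.lift ((yon S).map (i ≫ inv g) ≫ a) (𝟙 _) (by
      rw [Category.assoc, comm, ← Category.assoc, ← Functor.map_comp, Category.assoc, IsIso.inv_hom_id,
        Category.comp_id, Category.id_comp]) := ⟨_, rfl⟩
    have hes : e ≫ snd = 𝟙 _ := by rw [he, sq.lift_snd]
    have hed : e ≫ d = (yon S).map (i ≫ inv g) ≫ c := by
      apply sqP.hom_ext
      · rw [Category.assoc, sqP.lift_fst, he, sq.lift_fst, Category.assoc, sqP.lift_fst]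
      · rw [Category.assoc, sqP.lift_snd, reassoc_of% hes, Category.assoc, sqP.lift_snd, ← Functor.map_comp,
          Category.assoc, IsIso.inv_hom_id, Category.comp_id]
    have hde : RepWith @IsOpenImmersion d := repWith_baseChange sqd.flip hi
    haveI : Mono d := mono_of_openImm hde
    haveI : IsOpenImmersion (i ≫ inv g).left := by
      haveI : IsIso ((Over.forget S).map (inv g)) := inferInstance
      haveI : IsIso (inv g).left := ‹IsIso ((Over.forget S).map (inv g))›
      rw [Over.comp_left]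
      haveI : IsOpenImmersion i.left := inferInstanceAs (IsOpenImmersion O.ι)
      infer_instance
    have heo : RepWith @IsOpenImmersion e := repWith_of_comp_mono (m := d) (by
      rw [hed]
      exact repWith_comp ((repWith_yon_iff _).2 ‹IsOpenImmersion (i ≫ inv g).left›) hc)
    haveI : IsIso e := EtInvariance.isIso_of_openImm_surjective (IsAlgSpace.yon_obj V') hP'a e heo fun p => by
      obtain ⟨v', hv'⟩ := (Points.schemeEquiv V').surjective (Points.map snd p)
      have h1 : Points.map p₂ (Points.map d p) = Points.ofScheme V (i.left v') := by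
        rw [← Points.map_comp, sqd.w, Points.map_comp, ← hv']
        show Points.map _ (Points.ofPt (𝟙 _) v') = _
        rw [Points.map_ofPt, Category.id_comp, ofScheme_map]
      obtain ⟨u, hu⟩ := hO (Points.map d p) (i.left v') v'.2 h1
      refine ⟨Points.ofScheme V' v', injective_points_of_mono d ?_⟩
      rw [← Points.map_comp, hed, ← hu, Points.map_comp]
      refine congrArg _ ?_
      obtain ⟨u, rfl⟩ := (Points.schemeEquiv U).surjective u
      have h2 : g.left u = i.left v' := (Points.schemeEquiv V).injective (by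
        have := congrArg (Points.map p₂) hu
        rw [h1, ← Points.map_comp, sqP.lift_snd] at this
        rw [show (Points.schemeEquiv V) (g.left u) = Points.map ((yon S).map g) (Points.ofPt (𝟙 _) u) by
          rw [Points.map_ofPt, Category.id_comp, ofScheme_map]; rfl]
        exact this)
      show Points.map _ (Points.ofPt (𝟙 _) v') = Points.ofScheme U u
      rw [Points.map_ofPt, Category.id_comp, ofScheme_map, Over.comp_left, Scheme.Hom.comp_apply, ← h2,
        ← Scheme.Hom.comp_apply, ← Over.comp_left, IsIso.hom_inv_id]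
      rfl
    have : snd = inv e := (IsIso.eq_inv_of_hom_inv_id hes)
    rw [this]
    infer_instance
  -- maximal points of `P` lie in `U`
  have hPmax : ∀ p : Points P, IsMaxPt (Points.map p₁ p) → p ∈ Set.range (Points.map c) := by
    intro p hp
    obtain ⟨u, hu⟩ := hamax _ hp
    refine ⟨Points.ofScheme U u, injective_points_of_mono p₁ ?_⟩
    rw [← Points.map_comp, sqP.lift_fst, ← hu]
    show Points.map a (Points.ofPt (𝟙 _) u) = _
    rw [Points.map_ofPt, Category.id_comp]
  have hCo : IsOpen (Set.range (Points.map c)) :=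
    (exists_iso_subSheaf_of_mono (IsAlgSpace.yon_obj U) hPa c
      (isEtaleMor_of_repWith' (repWith_etale_of_openImm hc))).1
  rcases h₁ with hqc | hsep
  · -- near each maximal point
    have key : ∀ w : V.left, IsMaxPt (Points.ofPt b w) → ∃ O : V.left.Opens, w ∈ O ∧
        ∀ p : Points P, ∀ v ∈ O, Points.map p₂ p = Points.ofScheme V v → p ∈ Set.range (Points.map c) :=
      fun w hw => exists_open_tube Y.property f.hom hqc hPa sqP hCo
        ((isMaxPt_ofPt_iff Y.property (goodAt_of_isDecent Y.property hY) (repWith_etale_of_openImm hb) w).1 hw)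
        (fun p hp => hPmax p (isMaxPt_fst_of_snd f hX hY hf b hb sqP hw hp))
    choose O hwO hO using key
    refine ⟨⨆ (w) (hw : IsMaxPt (Points.ofPt b w)), O w hw, fun y hy => ?_, fun p v hv hp => ?_⟩
    · obtain ⟨w, rfl⟩ := hbmax y hy
      exact ⟨w, TopologicalSpace.Opens.mem_iSup.2 ⟨w, TopologicalSpace.Opens.mem_iSup.2 ⟨hy, hwO w hy⟩⟩, rfl⟩
    · obtain ⟨w, hv'⟩ := TopologicalSpace.Opens.mem_iSup.1 hv
      obtain ⟨hw, hv''⟩ := TopologicalSpace.Opens.mem_iSup.1 hv'
      exact hO w hw p v hv'' hp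
  · -- `U` is open and closed in `P`
    refine ⟨⊤, fun y hy => ?_, fun p v _ _ => ?_⟩
    · obtain ⟨v, rfl⟩ := hbmax y hy
      exact ⟨v, trivial, rfl⟩
    let t : P ⟶ (yon S).obj U := p₂ ≫ inv ((yon S).map g)
    have hct : c ≫ t = 𝟙 _ := by rw [← Category.assoc, sqP.lift_snd, IsIso.hom_inv_id]
    have hsnd : IsSeparatedMor p₂ := isSeparatedMor_baseChange sqP hsep
    have ht : IsSeparatedMor t :=
      isSeparatedMor_comp hsnd (UnivInjMor.isSeparatedMor_of_mono (inv ((yon S).map g)))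
    have hcc : RepWith @IsClosedImmersion c := repWith_section hct ht
    by_contra hp
    have hclosed : IsClosed (Set.range (Points.map c)) := by
      rw [← Set.image_univ]
      exact (isProperMor_of_closedImmersion (IsAlgSpace.yon_obj U) hPa hcc).2.2 hPa (𝟙 _) (𝟙 _) c
        (IsPullback.id_horiz _) _ isClosed_univ
    have het : LocP @Etale p₁ :=
      (isEtaleMor_iff_locP X.property).1 (isEtaleMor_of_repWith' (repWith_etale_of_openImm hfst))
    have hopen : IsOpen (Points.map p₁ '' (Set.range (Points.map c))ᶜ) :=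
      isOpenMap_map_of_flat_lfp hPa X.property p₁
        (AlgStLib.locP_mono (Q := @Flat) (fun _ _ g hg => have : Etale g := hg; inferInstance) p₁ het)
        (AlgStLib.locP_mono (Q := @LocallyOfFinitePresentation) (fun _ _ g hg => have : Etale g := hg; inferInstance) p₁ het) _
        hclosed.isOpen_compl
    obtain ⟨x, ⟨p', hp', rfl⟩, hx⟩ := maxPts_open X.property hX hopen ⟨_, p, hp, rfl⟩
    exact hp' (hPmax p' hx)

end Groth.Agent.SpQS
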