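import Groth.Agent.SpQS.MonoDiscrete
import Groth.Agent.SpQS.MonoField
import Groth.Agent.ThickProp.Scheme
import Groth.Agent.UnivInjMor.MonoUnram

/-!
# Monomorphisms into discrete locally Noetherian schemes are locally of finite type
-/

universe u

open CategoryTheory CategoryTheory.Limits AlgebraicGeometry Opposite IsLocalRing

set_option backward.isDefEq.respectTransparency false

namespace Groth.Agent.SpQS

open _root_.AlgSp Groth.Agent.AlgSpLib

theorem isIso_of_mono_spec_field {K : Type u} [Field K] {P : Scheme.{u}} (f : P ⟶ Spec (CommRingCat.of K)) [Mono f]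
    (p : P) : IsIso f := by
  let S := Spec (CommRingCat.of K)
  let fO : Over.mk f ⟶ Over.mk (𝟙 S) := Over.homMk f (Category.comp_id f)
  have : Mono fO.left := ‹Mono f›
  have : Mono fO := Over.mono_of_mono_left fO
  have : Mono ((yon S).map fO) := inferInstance
  have : IsIso ((yon S).map fO) := isIso_of_mono_to_field (𝟙 S) (IsAlgSpace.yon_obj _) ((yon S).map fO)
    (Points.ofScheme (Over.mk f) p)
  have : IsIso fO := isIso_of_reflects_iso fO (yon S)
  exact inferInstanceAs (IsIso ((Over.forget S).map fO))

theorem lft_of_mono_discrete {W V : Scheme.{u}} (f : W ⟶ V) [Mono f] [DiscreteTopology V]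
    [IsLocallyNoetherian V] : LocallyOfFiniteType f := by
  let O : V → V.Opens := fun v => ⟨{v}, isOpen_discrete _⟩
  refine IsZariskiLocalAtTarget.of_openCover (P := @LocallyOfFiniteType)
    (V.openCoverOfIsOpenCover O (.mk (top_le_iff.1 fun v _ => TopologicalSpace.Opens.mem_iSup.2 ⟨v, rfl⟩))) fun v => ?_
  show LocallyOfFiniteType (pullback.snd f (O v).ι)
  have haff : IsAffineOpen (O v) := by
    obtain ⟨_, ⟨A, hA, rfl⟩, hvA, hAO⟩ := V.isBasis_affineOpens.exists_subset_of_mem_open
      (show v ∈ (O v : Set V) from rfl) (O v).2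
    rwa [show O v = A from TopologicalSpace.Opens.ext (Set.Subset.antisymm (fun w hw => by
      rw [show w = v from hw]; exact hvA) hAO)]
  let T : Scheme.{u} := (O v).toScheme
  have : IsAffine T := haff
  have : Subsingleton T := ⟨fun a b => Subtype.ext ((show a.1 = v from a.2).trans (show b.1 = v from b.2).symm)⟩
  have : IsNoetherianRing Γ(T, ⊤) :=
    IsLocallyNoetherian.component_noetherian (⟨⊤, isAffineOpen_top T⟩ : T.affineOpens)
  let t : T := ⟨v, rfl⟩
  let r := T.fromSpecResidueField t
  have : IsClosedImmersion r := IsClosedImmersion.of_isPreimmersion _ (isClosed_discrete _)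
  have : Surjective r := ⟨fun a => ⟨closedPoint _, Subsingleton.elim _ _⟩⟩
  have hn : IsNilpotent r.ker := by
    obtain ⟨n, hn⟩ := (Ideal.FG.isNilpotent_iff_le_nilradical (IsNoetherian.noetherian _)).2
      (fun a ha => NilAffine.isNilpotent_of_mem_ker r ⟨⊤, isAffineOpen_top T⟩ ha)
    refine ⟨n, Scheme.IdealSheafData.ext_of_isAffine ?_⟩
    rw [Scheme.IdealSheafData.ideal_pow, Pi.pow_apply, hn]
    rfl
  let f' := pullback.snd f (O v).ι
  have : Mono f' := inferInstance
  have : LocallyOfFiniteType (pullback.snd f' r) := by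
    rcases isEmpty_or_nonempty ↥(pullback f' r) with h | ⟨⟨p⟩⟩
    · infer_instance
    · have : IsIso (pullback.snd f' r) := isIso_of_mono_spec_field (K := T.residueField t) _ p
      infer_instance
  exact ThickProp.locallyOfFiniteType_of_finiteOrder (IsPullback.of_hasPullback f' r) hn

theorem locP_lqf_mono {k : Type u} [Field k] {X Y : Space (Spec (CommRingCat.of k))} (f : X ⟶ Y)
    [Mono f.hom] (q : Y.obj ⟶ (yon (Spec (CommRingCat.of k))).obj (Over.mk (𝟙 _)))
    (hq : LocP (@LocallyQuasiFinite ⊓ @LocallyOfFiniteType : MorphismProperty Scheme.{u}) q) :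
    LocP (@LocallyQuasiFinite ⊓ @LocallyOfFiniteType : MorphismProperty Scheme.{u}) (f.hom ≫ q) := by
  let S := Spec (CommRingCat.of k)
  obtain ⟨V, b, hbe, hbs⟩ := Y.property.atlas
  obtain ⟨g, hg⟩ := exists_map_eq (b ≫ q)
  obtain ⟨hgq, hgl⟩ : LocallyQuasiFinite g.left ∧ LocallyOfFiniteType g.left :=
    hq b (𝟙 _) g hbe repWith_id' (by rw [Category.comp_id]; exact hg.symm)
  have : DiscreteTopology V.left := by
    have hd := g.left.isDiscrete_preimage_singleton (closedPoint k : ↥(Over.mk (𝟙 S)).left)
    rw [show g.left ⁻¹' {(closedPoint k : ↥(Over.mk (𝟙 S)).left)} = Set.univ from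
      Set.eq_univ_of_forall fun z => Subsingleton.elim (α := PrimeSpectrum k) _ _,
      isDiscrete_iff_discreteTopology] at hd
    exact (Homeomorph.Set.univ V.left).discreteTopology
  have : IsLocallyNoetherian (Over.mk (𝟙 S)).left := inferInstanceAs (IsLocallyNoetherian S)
  have : IsLocallyNoetherian V.left := LocallyOfFiniteType.isLocallyNoetherian g.left
  have sq := IsPullback.of_hasPullback f.hom b
  have hP := isAlgSpace_of_isPullback_space Y.property X.property (IsAlgSpace.yon_obj V) sq
  obtain ⟨W, ⟨e⟩⟩ := exists_iso_yon_of_mono_discrete hP (pullback.snd f.hom b)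
  obtain ⟨h, hh⟩ := exists_map_eq (e.inv ≫ pullback.snd f.hom b)
  have : Mono ((yon S).map h) := by rw [hh]; infer_instance
  have : Mono h := (yon S).mono_of_mono_map this
  have : Mono h.left := Over.mono_left_of_mono h
  have : LocallyOfFiniteType h.left := lft_of_mono_discrete h.left
  have : LocallyQuasiFinite h.left := UnivInjMor.lqf_of_unramified h.left
  refine locP_of_comp_surjective etST_lqf X.property
    ((repWith_iso_comp_iff e.inv _).2 (repWith_baseChange sq.flip hbe))
    ((repWith_iso_comp_iff e.inv _).2 (repWith_baseChange sq.flip hbs)) ?_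
  have e' : (e.inv ≫ pullback.fst f.hom b) ≫ f.hom ≫ q = (yon S).map (h ≫ g) := by
    rw [Functor.map_comp, hh, hg]
    simp [pullback.condition_assoc]
  rw [e']
  exact (locP_iff_repWith etST_lqf (IsAlgSpace.yon_obj _) (Functor.relativelyRepresentable.map _ _)).2
    ((repWith_yon_iff _).2 ⟨inferInstanceAs (LocallyQuasiFinite (h.left ≫ g.left)),
      inferInstanceAs (LocallyOfFiniteType (h.left ≫ g.left))⟩)

end Groth.Agent.SpQS
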