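import Groth.Agent.GsectLib.Normal
import Groth.Agent.SpQS.MonoLqf
import Groth.Agent.AlgSpLib.FpqcLocP
import Groth.Agent.AlgSpLib.FpqcProps
import Groth.Prelude.Def_W4stk3decentspacesp2Birat

/-!
# Integral birational morphisms onto normal spaces
-/

set_option autoImplicit false
universe u

open CategoryTheory CategoryTheory.Limits AlgebraicGeometry Opposite IsLocalRing Topology

set_option backward.isDefEq.respectTransparency false

namespace Groth.Agent.SpQS

open _root_.AlgSp Groth.Agent.AlgSpLib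

theorem bijective_of_normal {A B : Type u} [CommRing A] [CommRing B] [Algebra A B] [Algebra.IsIntegral A B]
    [IsReduced B]
    (hA : ∀ (m : Ideal A) [m.IsMaximal], IsDomain (Localization.AtPrime m) ∧
      IsIntegrallyClosed (Localization.AtPrime m))
    (hmin : ∀ q ∈ minimalPrimes B, q.comap (algebraMap A B) ∈ minimalPrimes A)
    (huniq : ∀ p ∈ minimalPrimes A, ∃ (q : Ideal B) (_ : q.IsPrime), q.comap (algebraMap A B) = p ∧
      (∀ q' : Ideal B, q'.IsPrime → q'.comap (algebraMap A B) = p → q' = q) ∧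
      ∀ b : B, ∃ c d : A, d ∉ p ∧ algebraMap A B d * b - algebraMap A B c ∈ q) :
    Function.Bijective (algebraMap A B) := by
  have hAred : IsReduced A := by
    refine ⟨fun a ha => ?_⟩
    by_contra h0
    have hne : (⊥ : Ideal A).colon (Ideal.span {a} : Ideal A) ≠ ⊤ := fun h => h0 (by
      have : (1 : A) ∈ (⊥ : Ideal A).colon (Ideal.span {a} : Ideal A) := h ▸ Submodule.mem_top
      simpa using Submodule.mem_colon.1 this a (Ideal.mem_span_singleton_self a))
    obtain ⟨m, hm, hle⟩ := Ideal.exists_le_maximal _ hne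
    haveI := (hA m).1
    obtain ⟨t, ht⟩ := (IsLocalization.map_eq_zero_iff m.primeCompl (Localization.AtPrime m) a).1
      (ha.map (algebraMap A (Localization.AtPrime m))).eq_zero
    refine t.2 (hle ?_)
    refine Submodule.mem_colon.2 fun y hy => ?_
    obtain ⟨z, rfl⟩ := Ideal.mem_span_singleton'.1 hy
    show (t : A) • (z * a) ∈ (⊥ : Ideal A)
    rw [smul_eq_mul, mul_left_comm, ht, mul_zero]
    exact zero_mem _
  have hinj : Function.Injective (algebraMap A B) := by
    refine (injective_iff_map_eq_zero _).2 fun a ha => ?_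
    have : a ∈ nilradical A := by
      rw [nilradical_eq_sInf]
      refine Ideal.mem_sInf.2 fun {J} hJ => ?_
      haveI : J.IsPrime := hJ
      obtain ⟨p, hp, hpJ⟩ := Ideal.exists_minimalPrimes_le (bot_le : (⊥ : Ideal A) ≤ J)
      refine hpJ ?_
      obtain ⟨q, hq, rfl, -⟩ := huniq p hp
      rw [Ideal.mem_comap, ha]
      exact zero_mem _
    rwa [nilradical_eq_zero, Ideal.zero_eq_bot, Ideal.mem_bot] at this
  refine ⟨hinj, fun b => ?_⟩
  let I : Ideal A :=
    { carrier := {a | algebraMap A B a * b ∈ (algebraMap A B).range}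
      add_mem' := fun {x y} hx hy => by
        show algebraMap A B (x + y) * b ∈ (algebraMap A B).range
        rw [map_add, add_mul]; exact add_mem hx hy
      zero_mem' := by
        show algebraMap A B 0 * b ∈ (algebraMap A B).range
        rw [map_zero, zero_mul]; exact zero_mem _
      smul_mem' := fun c x hx => by
        show algebraMap A B (c * x) * b ∈ (algebraMap A B).range
        rw [map_mul, mul_assoc]; exact mul_mem ⟨c, rfl⟩ hx }
  suffices h : I = ⊤ by
    have : (1 : A) ∈ I := h ▸ Submodule.mem_top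
    change algebraMap A B 1 * b ∈ (algebraMap A B).range at this
    rwa [map_one, one_mul] at this
  by_contra hI
  obtain ⟨m, hm, hle⟩ := Ideal.exists_le_maximal I hI
  obtain ⟨hdom, hic⟩ := hA m
  let p : Ideal A := RingHom.ker (algebraMap A (Localization.AtPrime m))
  haveI hp : p.IsPrime := RingHom.ker_isPrime _
  have hpmem : ∀ a, a ∈ p ↔ ∃ t : m.primeCompl, (t : A) * a = 0 := fun a =>
    IsLocalization.map_eq_zero_iff m.primeCompl (Localization.AtPrime m) a
  have hle_p : ∀ p' : Ideal A, p'.IsPrime → p' ≤ m → p ≤ p' := fun p' hp' hp'm a ha => by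
    obtain ⟨t, ht⟩ := (hpmem a).1 ha
    exact (hp'.mem_or_mem (ht ▸ zero_mem _)).resolve_left fun h => t.2 (hp'm h)
  have hpm : p ≤ m := hle_p m inferInstance le_rfl
  have hpmin : p ∈ minimalPrimes A := by
    obtain ⟨p₀, hp₀, hp₀le⟩ := Ideal.exists_minimalPrimes_le (bot_le : (⊥ : Ideal A) ≤ p)
    rwa [← le_antisymm hp₀le (hle_p p₀ hp₀.1.1 (hp₀le.trans hpm))]
  obtain ⟨q, hq, hqp, hqu, hqb⟩ := huniq p hpmin
  -- elements of `q` die near `m`
  let M : Submonoid B := m.primeCompl.map (algebraMap A B).toMonoidHom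
  have hdie : ∀ z ∈ q, ∃ t : A, t ∉ m ∧ algebraMap A B t * z = 0 := by
    intro z hz
    have : IsNilpotent (algebraMap B (Localization M) z) := by
      rw [← mem_nilradical, nilradical, Ideal.radical_eq_sInf]
      refine Ideal.mem_sInf.2 fun {Q} hQ => ?_
      haveI := hQ.2
      obtain ⟨hQp, hQd⟩ := (IsLocalization.isPrime_iff_isPrime_disjoint M (Localization M) Q).1 hQ.2
      obtain ⟨q₀, hq₀, hq₀le⟩ := Ideal.exists_minimalPrimes_le (bot_le : (⊥ : Ideal B) ≤ Q.comap (algebraMap B (Localization M)))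
      have hq₀m : q₀.comap (algebraMap A B) ≤ m := fun a ha => by
        by_contra h
        exact Set.disjoint_left.1 hQd (Submonoid.mem_map.2 ⟨a, h, rfl⟩) (hq₀le ha)
      have e : q₀.comap (algebraMap A B) = p := by
        have hmin0 := hmin q₀ hq₀
        exact le_antisymm (hmin0.2 ⟨hp, bot_le⟩ (hle_p _ hmin0.1.1 hq₀m)) (hle_p _ hmin0.1.1 hq₀m)
      exact hq₀le ((hqu q₀ hq₀.1.1 e).symm ▸ hz)
    obtain ⟨n, hn⟩ := this
    rw [← map_pow] at hn
    obtain ⟨⟨_, t, ht, rfl⟩, hs⟩ := (IsLocalization.map_eq_zero_iff M (Localization M) _).1 hn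
    refine ⟨t, ht, IsNilpotent.eq_zero ⟨n + 1, ?_⟩⟩
    calc (algebraMap A B t * z) ^ (n + 1) = algebraMap A B t ^ n * z * (algebraMap A B t * z ^ n) := by ring
      _ = 0 := by rw [show algebraMap A B t * z ^ n = 0 from hs, mul_zero]
  obtain ⟨c, d, hd, hcd⟩ := hqb b
  obtain ⟨s, hs, hscd⟩ := hdie _ hcd
  obtain ⟨P, hP, hPb⟩ := Algebra.IsIntegral.isIntegral (R := A) b
  have h1 : algebraMap A B (s * c) = algebraMap A B (s * d) * b := by
    rw [mul_sub, sub_eq_zero] at hscd
    rw [map_mul, map_mul, mul_assoc, hscd]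
  have hroot : (P.scaleRoots (s * d)).eval (s * c) = 0 := by
    refine hinj ?_
    rw [map_zero, ← Polynomial.eval₂_at_apply, h1, Polynomial.scaleRoots_eval₂_mul, hPb, mul_zero]
  have hsd : algebraMap A (Localization.AtPrime m) (s * d) ≠ 0 := fun h => by
    rcases hp.mem_or_mem (show s * d ∈ p from h) with h | h
    · exact hs (hpm h)
    · exact hd h
  obtain ⟨w, hw⟩ := GsectLib.exists_div_of_root (R := Localization.AtPrime m)
    (algebraMap A (Localization.AtPrime m)) hP hroot hsd
  obtain ⟨a, t, rfl⟩ := IsLocalization.exists_mk'_eq m.primeCompl w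
  have hz : algebraMap A (Localization.AtPrime m) (t * (s * c) - a * (s * d)) = 0 := by
    rw [map_sub, map_mul _ (t : A), hw, ← mul_assoc, IsLocalization.mk'_spec', ← map_mul, sub_self]
  obtain ⟨t₁, ht₁⟩ := (hpmem _).1 hz
  let z : B := algebraMap A B t₁ * (algebraMap A B t * b - algebraMap A B a)
  have hzk : algebraMap A B (s * d) * z = 0 := by
    have := congrArg (algebraMap A B) ht₁
    rw [map_zero, map_mul, map_sub, map_mul _ (t : A), map_mul _ a, h1] at this
    rw [← this]
    ring
  have hzq : z ∈ q := (hq.mem_or_mem (hzk ▸ zero_mem q)).resolve_left fun h => by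
    rcases hp.mem_or_mem (show s * d ∈ p from hqp ▸ h) with h | h
    · exact hs (hpm h)
    · exact hd h
  obtain ⟨t₂, ht₂, hz2⟩ := hdie z hzq
  refine hm.isPrime.mul_notMem ht₂ (hm.isPrime.mul_notMem t₁.2 t.2) (hle ?_)
  show algebraMap A B (t₂ * (t₁ * t)) * b ∈ (algebraMap A B).range
  refine ⟨t₂ * (t₁ * a), ?_⟩
  rw [← sub_eq_zero, ← neg_eq_zero, ← hz2]
  simp only [map_mul, z]
  ring

theorem bijective_residueFieldMap_of_isIso {U V : Scheme.{u}} (g : U ⟶ V) (x : U) [IsIso (g.stalkMap x)] :
    Function.Bijective (g.residueFieldMap x).hom := by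
  refine ⟨(g.residueFieldMap x).hom.injective, fun r => ?_⟩
  obtain ⟨s, rfl⟩ := U.residue_surjective x r
  obtain ⟨t, rfl⟩ := (ConcreteCategory.bijective_of_isIso (g.stalkMap x)).2 s
  exact ⟨V.residue (g x) t, ConcreteCategory.congr_hom (Scheme.residue_residueFieldMap g x) t⟩

theorem exists_factor_residue {U : Scheme.{u}} {K : Type u} [Field K] (m : Spec (CommRingCat.of K) ⟶ U) (x : U)
    (h : m (closedPoint K) = x) : ∃ χ, χ ≫ U.fromSpecResidueField x = m := by
  subst h
  exact ⟨_, Scheme.descResidueField_stalkClosedPointTo_fromSpecResidueField K U m⟩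

theorem eq_of_specializes_of_isIntegralHom {W V : Scheme.{u}} (f : W ⟶ V) [IsIntegralHom f] [IsAffine V]
    [IsAffine W] {z z' : W} (h : z' ⤳ z) (e : f z' = f z) : z' = z := by
  let hW := isAffineOpen_top W
  let hV := isAffineOpen_top V
  let φ := f.appTop.hom
  have hint : φ.IsIntegral := ((HasAffineProperty.iff_of_isAffine (P := @IsIntegralHom)).1 inferInstance).2
  have hc : ∀ x : W, (hW.primeIdealOf ⟨x, trivial⟩).asIdeal.comap φ = (hV.primeIdealOf ⟨f x, trivial⟩).asIdeal :=
    fun x => by
      have := IsAffineOpen.comap_primeIdealOf_appLE ⊤ hV ⊤ hW (f := f) (x := x) le_top trivial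
      rw [← this, show f.appLE ⊤ ⊤ le_top = f.appTop from Scheme.Hom.appLE_eq_app f]
      rfl
  have hle : hW.primeIdealOf ⟨z', trivial⟩ ≤ hW.primeIdealOf ⟨z, trivial⟩ :=
    (PrimeSpectrum.le_iff_specializes _ _).2 (hW.fromSpec.isEmbedding.toIsInducing.specializes_iff.1 (by
      rw [hW.fromSpec_primeIdealOf, hW.fromSpec_primeIdealOf]; exact h))
  have hz : ∀ x : W, hW.fromSpec (hW.primeIdealOf ⟨x, trivial⟩) = x := fun x => hW.fromSpec_primeIdealOf _
  suffices he : hW.primeIdealOf ⟨z', trivial⟩ = hW.primeIdealOf ⟨z, trivial⟩ by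
    rw [← hz z', he, hz]
  letI := φ.toAlgebra
  haveI : Algebra.IsIntegral Γ(V, ⊤) Γ(W, ⊤) := ⟨hint⟩
  by_contra hne
  have := Ideal.IsIntegral.comap_lt_comap (R := Γ(V, ⊤)) (lt_of_le_of_ne hle fun h => hne (PrimeSpectrum.ext h))
  rw [RingHom.algebraMap_toAlgebra, hc, hc, e] at this
  exact lt_irrefl _ this

theorem isIso_of_integral_normal {W V : Scheme.{u}} (f : W ⟶ V) [IsAffine V] [IsAffine W] [IsIntegralHom f]
    [IsReduced W] (hV : ∀ v : V, IsDomain (V.presheaf.stalk v) ∧ IsIntegrallyClosed (V.presheaf.stalk v))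
    (hdown : ∀ z : W, IsMaxPt z → IsMaxPt (f z))
    (key : ∀ v : V, IsMaxPt v → ∃ z : W, f z = v ∧ (∀ z', f z' = v → z' = z) ∧
      Function.Bijective (f.residueFieldMap z).hom) : IsIso f := by
  let hW := isAffineOpen_top W
  let hA := isAffineOpen_top V
  let φ := f.appTop.hom
  have hint : φ.IsIntegral := ((HasAffineProperty.iff_of_isAffine (P := @IsIntegralHom)).1 inferInstance).2
  letI := φ.toAlgebra
  haveI : Algebra.IsIntegral Γ(V, ⊤) Γ(W, ⊤) := ⟨hint⟩
  let P : W → PrimeSpectrum Γ(W, ⊤) := fun z => hW.primeIdealOf ⟨z, trivial⟩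
  let Q : V → PrimeSpectrum Γ(V, ⊤) := fun v => hA.primeIdealOf ⟨v, trivial⟩
  have hc : ∀ x : W, (P x).asIdeal.comap φ = (Q (f x)).asIdeal := fun x => by
    have := IsAffineOpen.comap_primeIdealOf_appLE ⊤ hA ⊤ hW (f := f) (x := x) le_top trivial
    show _ = (hA.primeIdealOf ⟨f x, trivial⟩).asIdeal
    rw [← this, show f.appLE ⊤ ⊤ le_top = f.appTop from Scheme.Hom.appLE_eq_app f]
    rfl
  have surjP : ∀ q : PrimeSpectrum Γ(W, ⊤), P (hW.fromSpec q) = q := fun q =>
    hW.fromSpec.isEmbedding.injective (hW.fromSpec_primeIdealOf _)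
  have surjQ : ∀ q : PrimeSpectrum Γ(V, ⊤), Q (hA.fromSpec q) = q := fun q =>
    hA.fromSpec.isEmbedding.injective (hA.fromSpec_primeIdealOf _)
  have specP : ∀ z z' : W, z' ⤳ z ↔ P z' ≤ P z := fun z z' => by
    rw [PrimeSpectrum.le_iff_specializes, ← hW.fromSpec.isEmbedding.toIsInducing.specializes_iff,
      hW.fromSpec_primeIdealOf, hW.fromSpec_primeIdealOf]
  have specQ : ∀ z z' : V, z' ⤳ z ↔ Q z' ≤ Q z := fun z z' => by
    rw [PrimeSpectrum.le_iff_specializes, ← hA.fromSpec.isEmbedding.toIsInducing.specializes_iff,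
      hA.fromSpec_primeIdealOf, hA.fromSpec_primeIdealOf]
  have fP : ∀ z : W, hW.fromSpec (P z) = z := fun z => hW.fromSpec_primeIdealOf _
  have fQ : ∀ z : V, hA.fromSpec (Q z) = z := fun z => hA.fromSpec_primeIdealOf _
  have hmaxP : ∀ q : PrimeSpectrum Γ(W, ⊤), q.asIdeal ∈ minimalPrimes Γ(W, ⊤) → IsMaxPt (hW.fromSpec q) := by
    intro q hq y hy
    rw [specP, surjP] at hy
    rw [← fP y]
    exact congrArg hW.fromSpec (PrimeSpectrum.ext (le_antisymm hy (hq.2 ⟨(P y).2, bot_le⟩ hy)))
  have hmaxQ : ∀ v : V, (Q v).asIdeal ∈ minimalPrimes Γ(V, ⊤) ↔ IsMaxPt v := by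
    intro v
    constructor
    · intro hv y hy
      rw [specQ] at hy
      rw [← fQ y, ← fQ v]
      exact congrArg hA.fromSpec (PrimeSpectrum.ext (le_antisymm hy (hv.2 ⟨(Q y).2, bot_le⟩ hy)))
    · intro hv
      refine ⟨⟨(Q v).2, bot_le⟩, fun J hJ hle => ?_⟩
      have h1 : hA.fromSpec ⟨J, hJ.1⟩ = v := hv _ (by rw [specQ, surjQ]; exact hle)
      show (Q v).asIdeal ≤ J
      exact le_of_eq (congrArg PrimeSpectrum.asIdeal (show Q v = ⟨J, hJ.1⟩ by rw [← h1, surjQ]))
  have hbij : Function.Bijective φ := by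
    refine bijective_of_normal (A := Γ(V, ⊤)) (B := Γ(W, ⊤)) (fun m hm => ?_) (fun q hq => ?_) fun p hp => ?_
    · let v := hA.fromSpec ⟨m, hm.isPrime⟩
      letI := TopCat.Presheaf.algebra_section_stalk V.presheaf (⟨v, trivial⟩ : (⊤ : V.Opens))
      haveI := hA.isLocalization_stalk ⟨v, trivial⟩
      have e : (Q v).asIdeal = m := congrArg PrimeSpectrum.asIdeal (surjQ ⟨m, hm.isPrime⟩)
      haveI : IsLocalization.AtPrime (V.presheaf.stalk v) m := by
        show IsLocalization m.primeCompl (V.presheaf.stalk v)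
        have : (Q v).asIdeal.primeCompl = m.primeCompl := SetLike.ext fun a => by
          show a ∉ (Q v).asIdeal ↔ a ∉ m
          rw [e]
        rw [← this]
        infer_instance
      let ε := IsLocalization.algEquiv m.primeCompl (Localization.AtPrime m) (V.presheaf.stalk v)
      obtain ⟨h1, h2⟩ := hV v
      exact ⟨ε.toMulEquiv.isDomain _, IsIntegrallyClosed.of_equiv (R := V.presheaf.stalk v) ε.toRingEquiv.symm⟩
    · have h := hdown _ (hmaxP ⟨q, hq.1.1⟩ hq)
      rw [← hmaxQ, ← hc, surjP] at h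
      exact h
    · have hv : IsMaxPt (hA.fromSpec ⟨p, hp.1.1⟩) := (hmaxQ _).1 (by rw [surjQ]; exact hp)
      obtain ⟨z, hz, hzu, hzb⟩ := key _ hv
      have hQz : (Q (f z)).asIdeal = p := by rw [hz, surjQ]
      refine ⟨(P z).asIdeal, (P z).2, (hc z).trans hQz, fun q' hq' he => ?_, fun b => ?_⟩
      · have h1 : f (hW.fromSpec ⟨q', hq'⟩) = hA.fromSpec ⟨p, hp.1.1⟩ := by
          rw [← fQ (f (hW.fromSpec ⟨q', hq'⟩))]
          refine congrArg hA.fromSpec (PrimeSpectrum.ext ?_)
          show (Q (f (hW.fromSpec ⟨q', hq'⟩))).asIdeal = p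
          rw [← hc, surjP]
          exact he
        rw [← hzu _ h1, surjP]
      · letI := TopCat.Presheaf.algebra_section_stalk V.presheaf (⟨f z, trivial⟩ : (⊤ : V.Opens))
        letI := TopCat.Presheaf.algebra_section_stalk W.presheaf (⟨z, trivial⟩ : (⊤ : W.Opens))
        haveI := hA.isLocalization_stalk ⟨f z, trivial⟩
        haveI := hW.isLocalization_stalk ⟨z, trivial⟩
        let γW := W.presheaf.germ ⊤ z trivial
        let γV := V.presheaf.germ ⊤ (f z) trivial
        obtain ⟨e, he⟩ := hzb.2 (W.residue z (γW b))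
        obtain ⟨t, rfl⟩ := V.residue_surjective (f z) e
        obtain ⟨⟨c, d⟩, hcd⟩ := IsLocalization.surj (Q (f z)).asIdeal.primeCompl t
        refine ⟨c, d, fun h => d.2 (hQz.symm ▸ h), ?_⟩
        have hcd' : t * γV (d : Γ(V, ⊤)) = γV c := hcd
        have he' : W.residue z (f.stalkMap z t) = W.residue z (γW b) := by
          rw [← he]
          exact (ConcreteCategory.congr_hom (Scheme.residue_residueFieldMap f z) t).symm
        have hnat : ∀ a : Γ(V, ⊤), γW (φ a) = f.stalkMap z (γV a) := fun a =>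
          (Scheme.Hom.germ_stalkMap_apply f ⊤ z trivial a).symm
        refine (IsLocalization.AtPrime.to_map_mem_maximal_iff (W.presheaf.stalk z) (P z).asIdeal _).1 ?_
        rw [← IsLocalRing.residue_eq_zero_iff]
        show W.residue z (γW (φ (d : Γ(V, ⊤)) * b - φ c)) = 0
        rw [map_sub, map_mul, map_sub, map_mul, ← he', hnat, hnat, ← hcd', map_mul, map_mul]
        ring
  show MorphismProperty.isomorphisms Scheme.{u} f
  rw [HasAffineProperty.iff_of_isAffine (P := MorphismProperty.isomorphisms Scheme.{u})]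
  exact ⟨inferInstance, (ConcreteCategory.isIso_iff_bijective f.appTop).2 hbij⟩

variable {S : Scheme.{u}}

theorem genericPoints_iff {X : Sp S} (hX : IsAlgSpace X) (hd : IsDecent X) (x : Points X) :
    x ∈ genericPoints (Points X) ↔ IsMaxPt x := by
  obtain ⟨_, _⟩ := t0_sober_of_decent hX hd
  rw [← component_generic_iff]
  exact ⟨fun h => ⟨_, h, rfl⟩, fun ⟨T, hT, hx⟩ => by
    show closure {x} ∈ irreducibleComponents (Points X)
    rwa [show closure {x} = T from hx]⟩

theorem isIso_of_affine_etale {X Y : Sp S} (hX : IsAlgSpace X) (hY : IsAlgSpace Y) (f : X ⟶ Y)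
    (h : ∀ (V : Over S) (b : (yon S).obj V ⟶ Y), IsAffine V.left → RepWith @Etale b → IsIso (pullback.snd f b)) :
    IsIso f := by
  obtain ⟨ι, Z, g, hZ, hg, hcov⟩ := exists_affine_cover hY
  exact (isLocalOnBase_isomorphisms (fun i => (yon S).obj (Z i)) g hY (fun i => IsAlgSpace.yon_obj _) hcov f hX
    (fun i => pullback f (g i)) (fun i => pullback.snd f (g i)) (fun i => pullback.fst f (g i))
    (fun i => isAlgSpace_of_isPullback_space hY hX (IsAlgSpace.yon_obj _) (IsPullback.of_hasPullback f (g i)))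
    fun i => IsPullback.of_hasPullback f (g i)).2 fun i => h _ _ (hZ i) (hg i)

theorem isIso_of_birational_integral {X Y : AlgSp.Space S} (f : X ⟶ Y)
    (hX : IsDecent X.obj) (hY : IsDecent Y.obj) (hi : IsIntegralMor f.hom)
    (hf : W4stk3decentspacesp2.IsBirational f.hom)
    (hYn : EtaleLocally (fun T => ∀ t : ↥T, IsDomain ↥(T.presheaf.stalk t) ∧
      IsIntegrallyClosed ↥(T.presheaf.stalk t)) Y.obj)
    (hXr : EtaleLocally (fun T => IsReduced T) X.obj) : IsIso f.hom := by
  refine isIso_of_affine_etale X.property Y.property f.hom fun V b hV hb => ?_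
  obtain ⟨hfr, hfi⟩ := (isIntegralMor_iff_repWith f.hom).1 hi
  obtain ⟨W, fst, w, sqW⟩ := exists_isPullback_of_representable hfr b
  suffices IsIso w by
    rw [← (IsPullback.of_hasPullback f.hom b).isoIsPullback_hom_snd _ _ sqW]
    infer_instance
  haveI : IsIntegralHom w.left := hfi b fst w sqW
  haveI : IsAffine W.left := isAffine_of_isAffineHom w.left
  have hfst : RepWith @Etale fst := repWith_baseChange sqW.flip hb
  haveI : IsReduced W.left := StalkPoint.isReduced_chart X.property hXr (EtOver.mk fst hfst)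
  have hgX := goodAt_of_isDecent X.property hX
  have hgY := goodAt_of_isDecent Y.property hY
  have hcomm : ∀ z : W.left, Points.map f.hom (Points.ofPt fst z) = Points.ofPt b (w.left z) := fun z => by
    rw [Points.map_ofPt, sqW.w, ofPt_comp]
  -- maximal points map to maximal points
  have hdown : ∀ z : W.left, IsMaxPt z → IsMaxPt (w.left z) := fun z hz => by
    refine (isMaxPt_ofPt_iff Y.property hgY hb _).1 ?_
    rw [← hcomm]
    exact (genericPoints_iff Y.property hY _).1 (hf.bijOn.mapsTo
      ((genericPoints_iff X.property hX _).2 ((isMaxPt_ofPt_iff X.property hgX hfst z).2 hz)))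
  have hup : ∀ z : W.left, IsMaxPt (w.left z) → IsMaxPt z := fun z hz z' hz' => by
    have e : w.left z' = w.left z := hz _ (hz'.map w.left.continuous)
    exact eq_of_specializes_of_isIntegralHom w.left hz' e
  have key : ∀ v : V.left, IsMaxPt v → ∃ z : W.left, w.left z = v ∧ (∀ z', w.left z' = v → z' = z) ∧
      Function.Bijective (w.left.residueFieldMap z).hom := by
    intro v hv
    have hy : Points.ofPt b v ∈ genericPoints (Points Y.obj) :=
      (genericPoints_iff Y.property hY _).2 ((isMaxPt_ofPt_iff Y.property hgY hb v).2 hv)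
    obtain ⟨x, hx, hxy⟩ := hf.bijOn.surjOn hy
    obtain ⟨U₀, V₀, a, b₀, g, u₀, hae, hbe, comm, hau, hiso⟩ := hf.stalkIso x hx
    have hover : ∀ z, w.left z = v → Points.ofPt fst z = x := fun z hz => by
      refine hf.bijOn.injOn ((genericPoints_iff X.property hX _).2
        ((isMaxPt_ofPt_iff X.property hgX hfst z).2 (hup z (hz.symm ▸ hv)))) hx ?_
      rw [hcomm, hz, hxy]
    obtain ⟨R, r, q, sqR⟩ := exists_pullback Y.property.diag b₀ b
    obtain ⟨T, t, j, sqT⟩ := exists_pullback X.property.diag a fst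
    haveI : IsOpenImmersion q.left := (repWith_yon_iff q).1 (repWith_baseChange sqR hbe)
    obtain ⟨v', hv'r, hv'q⟩ := (ofPt_eq_iff sqR (g.left u₀) v).1 (by
      rw [← hxy, ← hau, Points.map_ofPt, comm, ofPt_comp])
    haveI : IsIso (g.left.stalkMap u₀) := hiso
    have hbij := bijective_residueFieldMap_of_isIso g.left u₀
    haveI : IsIso (g.left.residueFieldMap u₀) := (ConcreteCategory.isIso_iff_bijective _).2 hbij
    let cU := U₀.left.fromSpecResidueField u₀
    have hcg : cU ≫ g.left = Spec.map (g.left.residueFieldMap u₀) ≫ V₀.left.fromSpecResidueField (g.left u₀) :=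
      (Scheme.Hom.SpecMap_residueFieldMap_fromSpecResidueField _ _).symm
    haveI hmono : Mono (cU ≫ g.left) := by rw [hcg]; infer_instance
    -- the point of `W`
    let L : Over S := Over.mk (R.left.fromSpecResidueField v' ≫ R.hom)
    let l : L ⟶ R := Over.homMk (R.left.fromSpecResidueField v') rfl
    obtain ⟨χ, hχ⟩ := exists_factor_residue (K := R.left.residueField v')
      (R.left.fromSpecResidueField v' ≫ r.left) (g.left u₀) ((Scheme.Hom.comp_apply _ _ _).trans ((congrArg r.left (Scheme.fromSpecResidueField_apply _ _)).trans hv'r))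
    have key0 : χ ≫ inv (Spec.map (g.left.residueFieldMap u₀)) ≫ cU ≫ g.left =
        R.left.fromSpecResidueField v' ≫ r.left := by rw [hcg, IsIso.inv_hom_id_assoc, hχ]
    let l₁ : L ⟶ U₀ := Over.homMk (χ ≫ inv (Spec.map (g.left.residueFieldMap u₀)) ≫ cU) (by
      show (χ ≫ inv (Spec.map (g.left.residueFieldMap u₀)) ≫ cU) ≫ U₀.hom = R.left.fromSpecResidueField v' ≫ R.hom
      rw [← Over.w g, ← Over.w r, ← Category.assoc (R.left.fromSpecResidueField v'), ← key0]
      simp only [Category.assoc])
    have hl₁ : l₁ ≫ g = l ≫ r := by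
      ext
      show (χ ≫ inv (Spec.map (g.left.residueFieldMap u₀)) ≫ cU) ≫ g.left = R.left.fromSpecResidueField v' ≫ r.left
      rw [Category.assoc, Category.assoc, hcg, IsIso.inv_hom_id_assoc, hχ]
    obtain ⟨sc, hsc⟩ := exists_map_eq (sqW.lift ((yon S).map l₁ ≫ a) ((yon S).map (l ≫ q)) (by
      rw [Category.assoc, comm, ← Category.assoc, ← Functor.map_comp, hl₁, Functor.map_comp, Category.assoc,
        sqR.w, ← Category.assoc, ← Functor.map_comp]))
    have hscw : sc ≫ w = l ≫ q := (yon S).map_injective (by rw [Functor.map_comp, hsc, sqW.lift_snd])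
    have hscf : (yon S).map sc ≫ fst = (yon S).map l₁ ≫ a := by rw [hsc, sqW.lift_fst]
    let z₀ : W.left := sc.left (closedPoint (R.left.residueField v'))
    have hz₀ : w.left z₀ = v := by
      show (sc.left ≫ w.left) _ = v
      rw [← Over.comp_left, hscw]
      show q.left (R.left.fromSpecResidueField v' _) = v
      rw [Scheme.fromSpecResidueField_apply, hv'q]
    have main : ∀ z, w.left z = v → ∃ π : Spec (W.left.residueField z) ⟶ Spec (R.left.residueField v'),
        π ≫ sc.left = W.left.fromSpecResidueField z := by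
      intro z hz
      obtain ⟨z₁, hz₁t, hz₁j⟩ := (ofPt_eq_iff sqT u₀ z).1 (by rw [hau, hover z hz])
      haveI : IsOpenImmersion j.left := (repWith_yon_iff j).1 (repWith_baseChange sqT hae)
      obtain ⟨n, hn⟩ := exists_map_eq (sqR.lift ((yon S).map (t ≫ g)) ((yon S).map (j ≫ w)) (by
        rw [Functor.map_comp, Category.assoc, ← comm, reassoc_of% sqT.w, sqW.w, Functor.map_comp, Category.assoc]))
      have hnr : n ≫ r = t ≫ g := (yon S).map_injective (by rw [Functor.map_comp, hn, sqR.lift_fst])
      have hnq : n ≫ q = j ≫ w := (yon S).map_injective (by rw [Functor.map_comp, hn, sqR.lift_snd])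
      have hnz : n.left z₁ = v' := q.left.isOpenEmbedding.injective (by
        rw [hv'q, ← Scheme.Hom.comp_apply, ← Over.comp_left, hnq, Over.comp_left, Scheme.Hom.comp_apply, hz₁j, hz])
      obtain ⟨k₀, hk₀⟩ : ∃ k₀ : Spec (W.left.residueField z) ⟶ T.left, k₀ ≫ j.left = W.left.fromSpecResidueField z :=
        ⟨IsOpenImmersion.lift j.left _ (by
          rw [Scheme.range_fromSpecResidueField, Set.singleton_subset_iff]
          exact ⟨z₁, hz₁j⟩), IsOpenImmersion.lift_fac _ _ _⟩
      have hk₀p : k₀ (closedPoint (W.left.residueField z)) = z₁ := j.left.isOpenEmbedding.injective (by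
        rw [← Scheme.Hom.comp_apply, hk₀, Scheme.fromSpecResidueField_apply, hz₁j])
      obtain ⟨π, hπ⟩ := exists_factor_residue (K := W.left.residueField z) (k₀ ≫ n.left) v' ((Scheme.Hom.comp_apply _ _ _).trans ((congrArg n.left hk₀p).trans hnz))
      refine ⟨π, ?_⟩
      obtain ⟨χ', hχ'⟩ := exists_factor_residue (K := W.left.residueField z) (k₀ ≫ t.left) u₀ ((Scheme.Hom.comp_apply _ _ _).trans ((congrArg t.left hk₀p).trans hz₁t))
      have e1 : χ' = π ≫ χ ≫ inv (Spec.map (g.left.residueFieldMap u₀)) := by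
        rw [← cancel_mono (cU ≫ g.left), ← Category.assoc, hχ', Category.assoc,
          show t.left ≫ g.left = n.left ≫ r.left by rw [← Over.comp_left, ← hnr, Over.comp_left],
          ← Category.assoc k₀, ← hπ, Category.assoc, ← key0]
        simp only [Category.assoc]
      let K : Over S := Over.mk (W.left.fromSpecResidueField z ≫ W.hom)
      let kz : K ⟶ W := Over.homMk (W.left.fromSpecResidueField z) rfl
      let kπ : K ⟶ L := Over.homMk π (by
        show π ≫ R.left.fromSpecResidueField v' ≫ R.hom = W.left.fromSpecResidueField z ≫ W.hom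
        rw [← Category.assoc, hπ, ← hk₀, Category.assoc, Category.assoc, Over.w n, Over.w j])
      let kT : K ⟶ T := Over.homMk k₀ (by
        show k₀ ≫ T.hom = W.left.fromSpecResidueField z ≫ W.hom
        rw [← hk₀, Category.assoc, Over.w j])
      have hkj : kT ≫ j = kz := Over.OverMorphism.ext hk₀
      have hkt : kT ≫ t = kπ ≫ l₁ := Over.OverMorphism.ext (by
        show k₀ ≫ t.left = π ≫ χ ≫ inv (Spec.map (g.left.residueFieldMap u₀)) ≫ cU
        rw [← hχ', e1]
        simp only [Category.assoc]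
        rfl)
      have e2 : kπ ≫ sc = kz := by
        refine (yon S).map_injective (sqW.hom_ext ?_ ?_)
        · rw [Functor.map_comp, Category.assoc, hscf, ← Category.assoc, ← Functor.map_comp, ← hkt, ← hkj,
            Functor.map_comp, Functor.map_comp, Category.assoc, sqT.w, Category.assoc]
        · rw [← Functor.map_comp, ← Functor.map_comp, Category.assoc, hscw, ← hkj]
          refine congrArg (yon S).map (Over.OverMorphism.ext ?_)
          show π ≫ R.left.fromSpecResidueField v' ≫ q.left = (k₀ ≫ j.left) ≫ w.left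
          rw [← Category.assoc, hπ, Category.assoc, ← Over.comp_left, hnq, Over.comp_left, Category.assoc]
      exact congrArg CommaMorphism.left e2
    refine ⟨z₀, hz₀, fun z hz => ?_, ?_⟩
    · obtain ⟨π, hπ⟩ := main z hz
      rw [← Scheme.fromSpecResidueField_apply z (closedPoint (W.left.residueField z)), ← hπ, Scheme.Hom.comp_apply]
      exact congrArg sc.left (Subsingleton.elim (α := PrimeSpectrum (R.left.residueField v')) _ _)
    · obtain ⟨π, hπ⟩ := main z₀ hz₀
      haveI : Mono π := by
        have : Mono (π ≫ sc.left) := by rw [hπ]; infer_instance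
        exact mono_of_mono π sc.left
      haveI : IsIso π := isIso_of_mono_spec_field (K := R.left.residueField v') π (closedPoint _)
      haveI : IsIso (Spec.map (q.left.residueFieldMap v')) := inferInstance
      have e : Spec.map (w.left.residueFieldMap z₀) ≫ V.left.fromSpecResidueField (w.left z₀) =
          (π ≫ Spec.map (q.left.residueFieldMap v') ≫ Spec.map (V.left.residueFieldCongr (by rw [hv'q, hz₀])).hom) ≫
            V.left.fromSpecResidueField (w.left z₀) := by
        rw [Scheme.Hom.SpecMap_residueFieldMap_fromSpecResidueField, ← hπ, Category.assoc, ← Over.comp_left, hscw,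
          Category.assoc, Category.assoc, Scheme.residueFieldCongr_fromSpecResidueField,
          Scheme.Hom.SpecMap_residueFieldMap_fromSpecResidueField]
        rfl
      rw [cancel_mono] at e
      haveI : IsIso (Spec.map (w.left.residueFieldMap z₀)) := by rw [e]; infer_instance
      haveI : IsIso (w.left.residueFieldMap z₀) := by
        obtain ⟨ψ, hψ⟩ := Spec.map_surjective (inv (Spec.map (w.left.residueFieldMap z₀)))
        refine ⟨ψ, Spec.map_injective ?_, Spec.map_injective ?_⟩ <;> simp [hψ]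
      exact ConcreteCategory.bijective_of_isIso (w.left.residueFieldMap z₀)
  haveI : IsIso w.left := isIso_of_integral_normal w.left
    (fun v => GsectLib.normal_chart Y.property hYn hb v) hdown key
  haveI : IsIso ((Over.forget S).map w) := ‹IsIso w.left›
  haveI : IsIso w := isIso_of_reflects_iso w (Over.forget S)
  infer_instance

end Groth.Agent.SpQS
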