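import Groth.Agent.SpQS.QFAt
import Groth.Agent.SpQS.CodimQF
import Groth.Agent.SpQS.DimDecent
import Groth.Agent.SpQS.TrdegQF
import Groth.Agent.SpRelDim.FiniteDense
import Groth.Agent.AlgSpLib.NoethPts
import Groth.Agent.AlgSpLib.ProperRange
import Groth.Agent.AlgSpLib.Subspace
import Groth.Agent.S1608
import Groth.Agent.NagataNorm.Basic

/-!
# Quasi-finiteness over points of codimension at most one; finiteness over neighbourhoods
-/

universe u

open CategoryTheory CategoryTheory.Limits AlgebraicGeometry Opposite IsLocalRing Topology TopologicalSpace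

set_option backward.isDefEq.respectTransparency false

namespace Groth.Agent.SpQS

open _root_.AlgSp Groth.Agent.AlgSpLib

theorem qf_over_codim_one {X Y : Scheme.{u}} (f : X ⟶ Y) [LocallyOfFiniteType f]
    (y : Y) [IsNoetherianRing (Y.presheaf.stalk y)] (hy : ringKrullDim (Y.presheaf.stalk y) ≤ 1)
    (hgen : ∀ η : X, IsMaxPt η → f η ⤳ y → f.QuasiFiniteAt η)
    (x : X) (hx : f.base x = y) : f.QuasiFiniteAt x := by
  subst hx
  have key : ∀ a b : X, f a = f x → f b = f x → a ⤳ b → a = b := by
    intro a b ha hb hab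
    obtain ⟨η, hη⟩ := QuasiSober.sober (isIrreducible_irreducibleComponent (x := a))
      (isClosed_irreducibleComponent (x := a))
    have hηa : η ⤳ a := hη.specializes mem_irreducibleComponent
    have hq := hgen η (fun w hw => ?_) (ha ▸ hηa.map f.continuous)
    swap
    · have h1 : irreducibleComponent a ⊆ closure {w} := by
        rw [← hη.def]
        exact closure_minimal (Set.singleton_subset_iff.2 (specializes_iff_mem_closure.1 hw)) isClosed_closure
      have h2 : closure {w} ⊆ irreducibleComponent a :=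
        (irreducibleComponent_mem_irreducibleComponents a).2 isIrreducible_singleton.closure h1
      have h3 : IsGenericPoint w (irreducibleComponent a) := le_antisymm h2 h1
      exact (h3.eq hη)
    obtain ⟨V, hV, hbV, -⟩ := exists_isAffineOpen_mem_and_subset (x := f b) (U := (⊤ : Y.Opens)) trivial
    obtain ⟨U, hU, hbU, hUV⟩ := exists_isAffineOpen_mem_and_subset (x := b) (U := f ⁻¹ᵁ V) hbV
    have haU := hab.mem_open U.2 hbU
    have hηU := hηa.mem_open U.2 haU
    algebraize [(f.appLE V U hUV).hom]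
    haveI : Algebra.FiniteType Γ(Y, V) Γ(X, U) := f.finiteType_appLE hV hU hUV
    let q := fun (z : X) (hz : z ∈ U) => hU.primeIdealOf ⟨z, hz⟩
    have hle : ∀ (z w : X) (hz : z ∈ U) (hw : w ∈ U), z ⤳ w → (q z hz).asIdeal ≤ (q w hw).asIdeal := by
      intro z w hz hw h
      refine (PrimeSpectrum.le_iff_specializes _ _).2 ?_
      rw [← hU.fromSpec.isOpenEmbedding.isInducing.specializes_iff]
      show hU.fromSpec (q z hz) ⤳ hU.fromSpec (q w hw)
      rw [hU.fromSpec_primeIdealOf, hU.fromSpec_primeIdealOf]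
      exact h
    have hcomap : ∀ (z : X) (hz : z ∈ U), (q z hz).asIdeal.comap (algebraMap Γ(Y, V) Γ(X, U)) =
        (hV.primeIdealOf ⟨f z, hUV hz⟩).asIdeal := fun z hz =>
      congrArg PrimeSpectrum.asIdeal (IsAffineOpen.comap_primeIdealOf_appLE V hV U hU hUV hz)
    let p := (hV.primeIdealOf ⟨f b, hbV⟩).asIdeal
    letI := (Y.presheaf.germ V (f b) hbV).hom.toAlgebra
    haveI := hV.isLocalization_stalk ⟨f b, hbV⟩
    let e := (IsLocalization.algEquiv p.primeCompl (Y.presheaf.stalk (f b)) (Localization.AtPrime p)).toRingEquiv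
    have hstalk : ∀ z : Y, z = f x → IsNoetherianRing (Y.presheaf.stalk z) ∧
        ringKrullDim (Y.presheaf.stalk z) ≤ 1 := fun z hz => by subst hz; exact ⟨inferInstance, hy⟩
    obtain ⟨hN, hD⟩ := hstalk (f b) hb
    haveI : IsNoetherianRing (Localization.AtPrime p) := isNoetherianRing_of_ringEquiv _ e
    haveI : Algebra.QuasiFiniteAt Γ(Y, V) (q η hηU).asIdeal :=
      hq.quasiFiniteAt hU hV hUV hηU
    have h1 : (q a haU).asIdeal.comap (algebraMap Γ(Y, V) Γ(X, U)) = p := by
      rw [hcomap a haU]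
      exact congrArg (fun z => (hV.primeIdealOf z).asIdeal) (Subtype.ext (ha.trans hb.symm))
    by_cases hηb : f η = f b
    · -- the generic point is isolated in its fibre
      have hclopen := hq.isClopen_singleton_asFiber
      have himg : IsClosed ({(⟨η, rfl⟩ : f ⁻¹' {f η})} : Set (f ⁻¹' {f η})) := by
        have h := (f.fiberHomeo (f η)).isClosedMap _ hclopen.1
        rwa [Set.image_singleton, show f.fiberHomeo (f η) (f.asFiber η) = ⟨η, rfl⟩ from
          (f.fiberHomeo (f η)).apply_symm_apply _] at h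
      have hclosed : ∀ c : X, η ⤳ c → f c = f η → c = η := fun c hc hfc => by
        have h' : (⟨η, rfl⟩ : f ⁻¹' {f η}) ⤳ ⟨c, hfc⟩ := (subtype_specializes_iff _ _).2 hc
        exact congrArg Subtype.val (show (⟨c, hfc⟩ : f ⁻¹' {f η}) ∈ ({⟨η, rfl⟩} : Set (f ⁻¹' {f η})) from Specializes.mem_closed h' himg (Set.mem_singleton _))
      rw [hclosed a hηa (ha.trans (hb.symm.trans hηb.symm)), hclosed b (hηa.trans hab) hηb.symm]
    have h0 : (q η hηU).asIdeal.comap (algebraMap Γ(Y, V) Γ(X, U)) ≠ p := fun h => hηb (by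
      rw [hcomap η hηU] at h
      have h' := congrArg (fun P : PrimeSpectrum Γ(Y, V) => hV.fromSpec P) (PrimeSpectrum.ext h :
        hV.primeIdealOf ⟨f η, hUV hηU⟩ = hV.primeIdealOf ⟨f b, hbV⟩)
      simpa only [hV.fromSpec_primeIdealOf] using h')
    have hpe := Groth.Agent.S1608.eq_of_le p (by rw [← ringKrullDim_eq_of_ringEquiv e]; exact hD)
      (q η hηU).asIdeal (q a haU).asIdeal (q b hbU).asIdeal (hle _ _ hηU haU hηa) (hle _ _ haU hbU hab) h1 (hcomap b hbU) h0
    have := congrArg (fun P : PrimeSpectrum Γ(X, U) => hU.fromSpec P) (PrimeSpectrum.ext hpe :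
      q a haU = q b hbU)
    simp only [q, hU.fromSpec_primeIdealOf] at this
    exact this
  -- the point is isolated in its fibre
  rw [f.quasiFiniteAt_iff_isOpen_singleton_asFiber]
  haveI : LocallyOfFiniteType (f.fiberToSpecResidueField (f x)) :=
    MorphismProperty.pullback_snd _ _ inferInstance
  haveI : IsLocallyNoetherian (f.fiber (f x)) :=
    LocallyOfFiniteType.isLocallyNoetherian (f.fiberToSpecResidueField (f x))
  have hrel : ∀ z w : f.fiber (f x), z ⤳ w → z = w := by
    intro z w h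
    refine (f.fiberι (f x)).isEmbedding.injective (key _ _ ?_ ?_ (h.map (f.fiberι (f x)).continuous))
    · exact (f.range_fiberι (f x)).le ⟨z, rfl⟩
    · exact (f.range_fiberι (f x)).le ⟨w, rfl⟩
  let z := f.asFiber x
  obtain ⟨U, hU, hzU, -⟩ := exists_isAffineOpen_mem_and_subset (x := z) (U := (⊤ : (f.fiber (f x)).Opens)) trivial
  haveI : IsNoetherianRing Γ(f.fiber (f x), U) := IsLocallyNoetherian.component_noetherian ⟨U, hU⟩
  haveI : NoetherianSpace (U : Set (f.fiber (f x))) := noetherianSpace_of_isAffineOpen U hU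
  haveI : QuasiSober (U : Set (f.fiber (f x))) := U.2.isOpenEmbedding_subtypeVal.quasiSober
  have hsing : ∀ C ∈ irreducibleComponents (U : Set (f.fiber (f x))), C.Subsingleton := by
    intro C hC
    obtain ⟨g, hg⟩ := QuasiSober.sober hC.1 (isClosed_of_mem_irreducibleComponents C hC)
    intro c hc d hd
    exact Subtype.ext ((hrel _ _ ((hg.specializes hc).map continuous_subtype_val)).symm.trans
      (hrel _ _ ((hg.specializes hd).map continuous_subtype_val)))
  have hfin : Finite (U : Set (f.fiber (f x))) := by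
    refine Set.finite_univ_iff.1 ?_
    rw [← sUnion_irreducibleComponents]
    exact NoetherianSpace.finite_irreducibleComponents.sUnion fun C hC => (hsing C hC).finite
  haveI : T1Space (U : Set (f.fiber (f x))) := ⟨fun c => by
    rw [← closure_eq_iff_isClosed]
    refine Set.Subset.antisymm (fun d hd => ?_) subset_closure
    exact Subtype.ext (hrel _ _ ((specializes_iff_mem_closure.2 hd).map continuous_subtype_val)).symm⟩
  have ho := U.2.isOpenMap_subtype_val _ (isOpen_discrete ({⟨z, hzU⟩} : Set (U : Set (f.fiber (f x)))))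
  rwa [Set.image_singleton] at ho

theorem closed_in_fibre {U V : Scheme.{u}} (f : U ⟶ V) [LocallyOfFiniteType f] (η : U)
    (h0 : Dual3.resTrdeg f η = 0) : ∀ c : U, η ⤳ c → f c = f η → c = η := by
  intro c hc hfc
  unfold Dual3.resTrdeg at h0
  let := (f.residueFieldMap η).hom.toAlgebra
  have : Algebra.EssFiniteType (V.residueField (f η)) (U.residueField η) :=
    NagataNorm.residueFieldMap_essFiniteType f η
  have : Algebra.IsAlgebraic (V.residueField (f η)) (U.residueField η) := trdeg_eq_zero_iff.1 h0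
  have : Module.Finite (V.residueField (f η)) (U.residueField η) := Algebra.finite_of_essFiniteType_of_isAlgebraic
  have h1 : LocallyOfFiniteType (Spec.map (f.residueFieldMap η)) := by
    rw [HasRingHomProperty.Spec_iff (P := @LocallyOfFiniteType)]
    exact (inferInstance : Algebra.FiniteType (V.residueField (f η)) (U.residueField η))
  have : LocallyOfFiniteType (f.asFiberHom η ≫ f.fiberToSpecResidueField (f η)) := by
    rwa [Scheme.Hom.asFiberHom_fiberToSpecResidueField]
  have : LocallyOfFiniteType (f.asFiberHom η) := locallyOfFiniteType_of_comp _ (f.fiberToSpecResidueField (f η))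
  have hcl : IsClosed ({f.asFiber η} : Set (f.fiber (f η))) := by
    simpa using (f.asFiberHom η).closePoints_subset_preimage_closedPoints
      (IsLocalRing.isClosed_singleton_closedPoint _)
  have h2 := (f.fiberHomeo (f η)).isClosedMap _ hcl
  rw [Set.image_singleton, show f.fiberHomeo (f η) (f.asFiber η) = ⟨η, rfl⟩ from
    (f.fiberHomeo (f η)).apply_symm_apply _] at h2
  exact congrArg Subtype.val (show (⟨c, hfc⟩ : f ⁻¹' {f η}) ∈ ({⟨η, rfl⟩} : Set (f ⁻¹' {f η})) from
    Specializes.mem_closed ((subtype_specializes_iff _ _).2 hc) h2 (Set.mem_singleton _))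


variable {S : Scheme.{u}}

theorem qfAtPt_over_codim_one {X Y : Sp S} (hX : IsAlgSpace X) (hY : IsAlgSpace Y) (f : X ⟶ Y)
    (hf : LocP @LocallyOfFiniteType f) (hN : IsLocNoethSp Y) {y : Points Y}
    (hy : HasAt (fun U u => ringKrullDim ↥(U.presheaf.stalk u) ≤ 1) Y y)
    (h : ∀ x, HasAt (fun U u => ringKrullDim ↥(U.presheaf.stalk u) = 0) X x → Points.map f x ⤳ y → QFAtPt f x)
    {x : Points X} (hx : Points.map f x = y) : QFAtPt f x := by
  obtain ⟨U, V, a, b, k, ha, has, hb, comm⟩ := exists_chart_atlas hX hY f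
  obtain ⟨u, hu⟩ := ofPt_surjective has x
  have : LocallyOfFiniteType k.left := hf a b k ha hb comm
  have := isLocallyNoetherian_chart hY hN hb
  have hv : ∀ w : U.left, Points.map f (Points.ofPt a w) = Points.ofPt b (k.left w) := fun w => by
    rw [Points.map_ofPt, comm, ofPt_comp]
  have hd : ringKrullDim (V.left.presheaf.stalk (k.left u)) ≤ 1 := by
    obtain ⟨V', b', v', hb', hv', hle⟩ := hy
    rw [stalk_dim_eq_genHt] at hle ⊢
    rwa [genHt_eq_of_ofPt_eq hY hb hb' (by rw [← hv, hu, hx, hv'])]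
  refine qfAtPt_of_chart hX hY f hf ha hb comm hu
    (qf_over_codim_one k.left (k.left u) hd (fun η hη hs => ?_) u rfl)
  refine h (Points.ofPt a η) ⟨U, a, η, ha, rfl, (stalk_dim_zero_iff η).2 hη⟩ ?_ U V a b k η ha hb comm rfl
  rw [hv, ← hx, ← hu, hv]
  exact hs.map (Points.continuous_ofPt b)

theorem qf_of_isMaxPt_trdeg {U V : Scheme.{u}} (f : U ⟶ V) [LocallyOfFiniteType f] [IsLocallyNoetherian V]
    (η : U) (hη : IsMaxPt η) (h0 : Dual3.resTrdeg f η = 0) : f.QuasiFiniteAt η := by
  have := LocallyOfFiniteType.isLocallyNoetherian f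
  have hcl : ∀ c : U, η ⤳ c → f c = f η → c = η := closed_in_fibre f η h0
  obtain ⟨W, hW, hηW, -⟩ := exists_isAffineOpen_mem_and_subset (x := η) (U := (⊤ : U.Opens)) trivial
  rw [quasiFiniteAt_iff_open]
  haveI : IsNoetherianRing Γ(U, W) := IsLocallyNoetherian.component_noetherian ⟨W, hW⟩
  haveI : NoetherianSpace (W : Set U) := noetherianSpace_of_isAffineOpen W hW
  let C : Set (W : Set U) := ⋃₀ {Z ∈ irreducibleComponents (W : Set U) | (⟨η, hηW⟩ : (W : Set U)) ∉ Z}
  have hC : IsClosed C := by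
    show IsClosed (⋃₀ _)
    rw [Set.sUnion_eq_biUnion]
    exact Set.Finite.isClosed_biUnion (NoetherianSpace.finite_irreducibleComponents.subset (Set.sep_subset _ _))
      fun Z hZ => isClosed_of_mem_irreducibleComponents _ hZ.1
  refine ⟨Subtype.val '' Cᶜ, W.2.isOpenEmbedding_subtypeVal.isOpenMap _ hC.isOpen_compl,
    ⟨⟨η, hηW⟩, fun ⟨Z, hZ, hm⟩ => hZ.2 hm, rfl⟩, ?_⟩
  rintro _ ⟨w, hw, rfl⟩ hfw
  have hmem : (⟨η, hηW⟩ : (W : Set U)) ∈ irreducibleComponent w := by
    by_contra hn
    exact hw ⟨_, ⟨irreducibleComponent_mem_irreducibleComponents w, hn⟩, mem_irreducibleComponent⟩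
  haveI : QuasiSober (W : Set U) := W.2.isOpenEmbedding_subtypeVal.quasiSober
  obtain ⟨g, hg⟩ := QuasiSober.sober (isIrreducible_irreducibleComponent (x := w))
    (isClosed_irreducibleComponent (x := w))
  have h1 : g.1 = η := hη _ ((hg.specializes hmem).map continuous_subtype_val)
  exact hcl _ (h1 ▸ (hg.specializes mem_irreducibleComponent).map continuous_subtype_val) hfw

theorem isMaxPt_mem_of_dense {U : Scheme.{u}} [IsLocallyNoetherian U] {η : U} (hη : IsMaxPt η) {O : Set U}
    (hO : IsOpen O) (hd : Dense O) : η ∈ O := by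
  obtain ⟨W, hW, hηW, -⟩ := exists_isAffineOpen_mem_and_subset (x := η) (U := (⊤ : U.Opens)) trivial
  haveI : IsNoetherianRing Γ(U, W) := IsLocallyNoetherian.component_noetherian ⟨W, hW⟩
  haveI : NoetherianSpace (W : Set U) := noetherianSpace_of_isAffineOpen W hW
  haveI : QuasiSober (W : Set U) := W.2.isOpenEmbedding_subtypeVal.quasiSober
  let C : Set (W : Set U) := ⋃₀ {Z ∈ irreducibleComponents (W : Set U) | (⟨η, hηW⟩ : (W : Set U)) ∉ Z}
  have hC : IsClosed C := by
    show IsClosed (⋃₀ _)
    rw [Set.sUnion_eq_biUnion]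
    exact Set.Finite.isClosed_biUnion (NoetherianSpace.finite_irreducibleComponents.subset (Set.sep_subset _ _))
      fun Z hZ => isClosed_of_mem_irreducibleComponents _ hZ.1
  obtain ⟨_, hwO, ⟨w, hw, rfl⟩⟩ := hd.exists_mem_open (W.2.isOpenEmbedding_subtypeVal.isOpenMap _ hC.isOpen_compl)
    ⟨η, ⟨η, hηW⟩, fun ⟨Z, hZ, hm⟩ => hZ.2 hm, rfl⟩
  have hmem : (⟨η, hηW⟩ : (W : Set U)) ∈ irreducibleComponent w := by
    by_contra hn
    exact hw ⟨_, ⟨irreducibleComponent_mem_irreducibleComponents w, hn⟩, mem_irreducibleComponent⟩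
  obtain ⟨g, hg⟩ := QuasiSober.sober (isIrreducible_irreducibleComponent (x := w))
    (isClosed_irreducibleComponent (x := w))
  have h1 : g.1 = η := hη _ ((hg.specializes hmem).map continuous_subtype_val)
  exact (h1 ▸ (hg.specializes mem_irreducibleComponent).map continuous_subtype_val : η ⤳ w.1).mem_open hO hwO

/-- dense quasi-finite locus contains the points of codimension zero -/
theorem qfAtPt_codimZero_of_dense {X Y : Sp S} (hX : IsAlgSpace X) (hY : IsAlgSpace Y) (f : X ⟶ Y)
    (hf : LocP @LocallyOfFiniteType f) (hN : IsLocNoethSp Y) (hd : Dense {x : Points X | QFAtPt f x})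
    {x : Points X} (hx : HasAt (fun U u => ringKrullDim ↥(U.presheaf.stalk u) = 0) X x) : QFAtPt f x := by
  obtain ⟨U, V, a, b, k, ha, has, hb, comm⟩ := exists_chart_atlas hX hY f
  obtain ⟨u, hu⟩ := ofPt_surjective has x
  have : LocallyOfFiniteType k.left := hf a b k ha hb comm
  have := isLocallyNoetherian_chart hY hN hb
  have := LocallyOfFiniteType.isLocallyNoetherian k.left
  have h1 : u ∈ Points.ofPt a ⁻¹' {x : Points X | QFAtPt f x} :=
    isMaxPt_mem_of_dense (isMaxPt_of_hasAt hX hx ha hu)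
      ((isOpen_qfAtPt hX hY f hf).preimage (Points.continuous_ofPt a))
      (hd.preimage (isOpenMap_ofPt (repWith_universallyOpen_of_etale ha)))
  exact hu ▸ h1

theorem qfAtPt_codimZero_of_trdeg {X Y : Sp S} (hX : IsAlgSpace X) (hY : IsAlgSpace Y) (f : X ⟶ Y)
    (hf : LocP @LocallyOfFiniteType f) (hN : IsLocNoethSp Y)
    {x : Points X} (hx : HasAt (fun U u => ringKrullDim ↥(U.presheaf.stalk u) = 0) X x)
    (ht : HasAtMor (fun _ _ h u => Dual3.resTrdeg h u = 0) f x) : QFAtPt f x := by
  obtain ⟨U, V, a, b, k, u, ha, hb, comm, hu, h0⟩ := ht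
  have : LocallyOfFiniteType k.left := hf a b k ha hb comm
  have := isLocallyNoetherian_chart hY hN hb
  exact qfAtPt_of_chart hX hY f hf ha hb comm hu
    (qf_of_isMaxPt_trdeg k.left u (isMaxPt_of_hasAt hX hx ha hu) h0)

/-- a proper morphism quasi-finite along a fibre is finite over a neighbourhood -/
theorem exists_finite_nhd_of_proper {X Y : Sp S} (hX : IsAlgSpace X) (hY : IsAlgSpace Y) (f : X ⟶ Y)
    (hf : IsProperMor f) (y : Points Y) (hq : ∀ x, Points.map f x = y → QFAtPt f x) :
    ∃ (Y' : Sp S) (_ : IsAlgSpace Y') (j : Y' ⟶ Y), RepWith @IsOpenImmersion j ∧ y ∈ Set.range (Points.map j) ∧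
      ∀ (P : Sp S) (fst : P ⟶ Y') (snd : P ⟶ X), IsPullback fst snd j f → IsFiniteMor fst := by
  have hlft : LocP @LocallyOfFiniteType f := hf.2.1.1
  let O : Set (Points Y) := (Points.map f '' {x | QFAtPt f x}ᶜ)ᶜ
  have hO : IsOpen O := (hf.2.2 hY (𝟙 Y) (𝟙 X) f (IsPullback.id_horiz f) _
    (isOpen_qfAtPt hX hY f hlft).isClosed_compl).isOpen_compl
  have hY' := isAlgSpace_subSheaf hY hO
  refine ⟨_, hY', subInc O, repWith_subInc hO, by
    rw [range_subInc]; exact fun ⟨x, hx, e⟩ => hx (hq x e), fun P fst snd sq => ?_⟩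
  have hP := isAlgSpace_of_isPullback_space hY hY' hX sq
  have hp : IsProperMor fst := isProperMor_baseChange hX hY hY' hP sq.flip hf
  have hsnd : RepWith @IsOpenImmersion snd := repWith_baseChange sq (repWith_subInc hO)
  have hl := hp.2.1.1
  haveI := isZariskiLocalAtSource_of_listed
    (@LocallyQuasiFinite ⊓ @LocallyOfFiniteType : MorphismProperty Scheme.{u})
    (Or.inr (Or.inr (Or.inr (Or.inr (Or.inr (Or.inl fun _ _ g => Iff.rfl))))))
  refine SpRelDim.isFiniteMor_of_lqf_proper hP hY' fst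
    ((locP_iff_forall_hasAtMor etST_lqf hP hY' fst).2 fun p => (hasAtMor_nhd_iff hP hY' fst hl p).2 ?_) hp
  have hx : QFAtPt f (Points.map snd p) := by
    by_contra hn
    have h1 : Points.map (subInc O) (Points.map fst p) ∈ O := map_subInc_mem _
    rw [← Points.map_comp, sq.w, Points.map_comp] at h1
    exact h1 ⟨_, hn, rfl⟩
  intro U V a b h u ha hb comm hu
  have het : ∀ {A B : Sp S} (r : A ⟶ B), RepWith @IsOpenImmersion r → RepWith @Etale r := fun r hr =>
    repWith_mono (P := @IsOpenImmersion) (Q := @Etale)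
      (fun _ _ g hg => have : IsOpenImmersion g := hg; inferInstance) hr
  refine hx U V (a ≫ snd) (b ≫ subInc O) h u (repWith_comp ha (het _ hsnd))
    (repWith_comp hb (het _ (repWith_subInc hO))) ?_ ?_
  · rw [Category.assoc, ← sq.w, ← Category.assoc, comm, Category.assoc]
  · rw [← Points.map_ofPt, hu]

end Groth.Agent.SpQS
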