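import Groth.Agent.SpQS.DegRank

/-!
# The degree function of a separated flat quasi-finite morphism
-/

universe u

open CategoryTheory CategoryTheory.Limits AlgebraicGeometry IsLocalRing Opposite TopologicalSpace

set_option backward.isDefEq.respectTransparency false

namespace Groth.Agent.SpQS

variable {X S : Scheme.{u}} (f : X ⟶ S)

theorem finFib_of_qc [LocallyQuasiFinite f] [QuasiCompact f] : FinFib f := fun _ =>
  IsFinite.of_locallyQuasiFinite _

theorem finFib_of_gRank_le [LocallyQuasiFinite f] {n : ℕ}
    (h : ∀ (K : Type u) [Field K] (g : Spec (CommRingCat.of K) ⟶ S),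
      gRank (pullback.snd f g) ≤ (n : Cardinal.{u})) : FinFib f := by
  intro y
  let q := pullback.snd f (S.fromSpecResidueField y)
  haveI := discreteTopology_of_lqf (K := S.residueField y) q
  haveI := finite_of_gRank_le (K := S.residueField y) q (h (S.residueField y) (S.fromSpecResidueField y))
  exact isFinite_of_finite (K := S.residueField y) q

theorem gRank_eq_fdeg {f : X ⟶ S} (hf : FinFib f) {K : Type u} [Field K] (g : Spec (CommRingCat.of K) ⟶ S) :
    gRank (pullback.snd f g) = (fdeg f (g (closedPoint K)) : Cardinal.{u}) := by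
  obtain ⟨h1, h2⟩ := fdeg_eq f hf g _ _ (IsPullback.of_hasPullback f g)
  rw [gRank_eq_finrank, h2]

theorem isClosed_fdeg_le [Flat f] [LocallyOfFinitePresentation f] [IsSeparated f] [LocallyQuasiFinite f]
    (hf : FinFib f) (r : ℕ) : IsClosed {s : S | fdeg f s ≤ r} := by
  have : {s : S | fdeg f s ≤ r} = {s : S | r + 1 ≤ fdeg f s}ᶜ := by
    ext s
    simp
  rw [this]
  exact (isOpen_le_fdeg f hf (r + 1)).isClosed_compl

theorem finLocFreeOfDeg_baseChange_iff [Flat f] [LocallyOfFinitePresentation f] [IsSeparated f]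
    [LocallyQuasiFinite f] (hf : FinFib f) {T : Scheme.{u}} (g : T ⟶ S) (r : ℕ) :
    Mor2.IsFinLocFreeOfDeg r (pullback.snd f g) ↔ ∀ t : T, fdeg f (g t) = r := by
  rw [finLocFreeOfDeg_iff _ (hf.baseChange (IsPullback.of_hasPullback f g)) r]
  exact forall_congr' fun t => by rw [fdeg_baseChange hf (IsPullback.of_hasPullback f g) t]

end Groth.Agent.SpQS
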