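import Groth.Agent.SpQS.DegLocus
import Groth.Agent.QFStratum.Alg
import Groth.Agent.AlgSpLib.FiniteCofan
import Mathlib.Topology.Spectral.ConstructibleTopology

/-!
# The fibre degree is constructible
-/

universe u

open CategoryTheory CategoryTheory.Limits AlgebraicGeometry IsLocalRing Opposite TopologicalSpace
open scoped TensorProduct

set_option backward.isDefEq.respectTransparency false

namespace Groth.Agent.SpQS

open Polynomial in
/-- a quasi-finite algebra of finite type is finite over a stratum through any prime -/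
theorem exists_finite_stratum {A B : Type u} [CommRing A] [CommRing B] [Algebra A B]
    [Algebra.QuasiFinite A B] [Algebra.FiniteType A B] (p : Ideal A) [p.IsPrime] :
    ∃ (f : A) (I : Ideal A), f ∉ p ∧ I.FG ∧ I ≤ p ∧
      ∀ (R : Type u) [CommRing R] [Algebra A R], IsUnit (algebraMap A R f) →
        (∀ a ∈ I, algebraMap A R a = 0) → Module.Finite R (R ⊗[A] B) := by
  classical
  obtain ⟨gens, hgens⟩ := (Algebra.FiniteType.out : (⊤ : Subalgebra A B).FG)
  choose Q hQl hQ using fun x : B => QFStratum.exists_poly p x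
  have hspan : ∀ x : B, ∃ T : Finset A, (T : Set A) ⊆ p ∧
      aeval x (Q x) ∈ (Ideal.span (T : Set A)).map (algebraMap A B) := by
    intro x
    have h := hQ x
    rw [Ideal.map] at h
    obtain ⟨T', hT', hmem⟩ := Submodule.mem_span_finite_of_mem_span h
    obtain ⟨T, hT, rfl⟩ := Finset.subset_set_image_iff.mp hT'
    refine ⟨T, hT, ?_⟩
    rw [Ideal.map_span, ← Finset.coe_image]
    exact hmem
  choose T hTp hT using hspan
  refine ⟨∏ x ∈ gens, (Q x).leadingCoeff, Ideal.span ((gens.biUnion T : Finset A) : Set A),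
    fun h => ?_, ⟨_, rfl⟩, Ideal.span_le.mpr fun a ha => ?_, fun R _ _ hu hI => ?_⟩
  · obtain ⟨x, _, hx⟩ := Ideal.IsPrime.prod_mem_iff.mp h
    exact hQl x hx
  · obtain ⟨x, _, hx⟩ := Finset.mem_biUnion.mp ha
    exact hTp x hx
  let φ : B →ₐ[A] R ⊗[A] B := Algebra.TensorProduct.includeRight
  have htop : Algebra.adjoin R (φ '' (gens : Set B)) = ⊤ := by
    rw [eq_top_iff]
    rintro z -
    induction z using TensorProduct.induction_on with
    | zero => exact zero_mem _
    | add x y hx hy => exact add_mem hx hy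
    | tmul r b =>
      rw [show r ⊗ₜ[A] b = r • ((1 : R) ⊗ₜ[A] b) by rw [TensorProduct.smul_tmul', smul_eq_mul, mul_one]]
      refine Subalgebra.smul_mem _ ?_ r
      have : φ.range ≤ (Algebra.adjoin R (φ '' (gens : Set B))).restrictScalars A := by
        rw [← Algebra.map_top, ← hgens, AlgHom.map_adjoin, Algebra.adjoin_le_iff]
        exact Algebra.subset_adjoin
      exact this ⟨b, rfl⟩
  refine ⟨?_⟩
  rw [← Algebra.top_toSubmodule, ← htop]
  refine fg_adjoin_of_finite (gens.finite_toSet.image _) ?_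
  rintro _ ⟨x, hx, rfl⟩
  rcases subsingleton_or_nontrivial R with hR | hR
  · exact ⟨1, monic_one, (Module.subsingleton R (R ⊗[A] B)).elim _ _⟩
  have hlead : IsUnit (algebraMap A R (Q x).leadingCoeff) :=
    isUnit_of_dvd_unit (map_dvd _ (Finset.dvd_prod_of_mem (fun y => (Q y).leadingCoeff) hx)) hu
  refine ⟨C (↑hlead.unit⁻¹ : R) * (Q x).map (algebraMap A R), ?_, ?_⟩
  · show Monic _
    rw [Monic, leadingCoeff_mul', leadingCoeff_C, leadingCoeff_map_of_leadingCoeff_ne_zero _ hlead.ne_zero,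
      IsUnit.val_inv_mul]
    rw [leadingCoeff_C, leadingCoeff_map_of_leadingCoeff_ne_zero _ hlead.ne_zero, IsUnit.val_inv_mul]
    exact one_ne_zero
  · rw [← aeval_def, map_mul]
    suffices h : aeval (φ x) ((Q x).map (algebraMap A R)) = 0 by rw [h, mul_zero]
    rw [aeval_map_algebraMap, aeval_algHom_apply]
    have hle : (Ideal.span (T x : Set A)).map (algebraMap A B) ≤ RingHom.ker φ.toRingHom := by
      rw [Ideal.map_le_iff_le_comap, Ideal.span_le]
      intro a ha
      show φ (algebraMap A B a) = 0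
      rw [φ.commutes, IsScalarTower.algebraMap_apply A R (R ⊗[A] B),
        hI a (Ideal.subset_span (Finset.mem_biUnion.mpr ⟨x, hx, ha⟩)), map_zero]
    exact hle (hT x)

theorem isFinite_pullback_snd (A R B : Type u) [CommRing A] [CommRing R] [CommRing B] [Algebra A R]
    [Algebra A B] (h : Module.Finite R (R ⊗[A] B)) :
    IsFinite (pullback.snd (Spec.map (CommRingCat.ofHom (algebraMap A B)))
      (Spec.map (CommRingCat.ofHom (algebraMap A R)))) := by
  rw [← MorphismProperty.cancel_left_of_respectsIso @IsFinite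
      ((pullbackSymmetry (Spec.map (CommRingCat.ofHom (algebraMap A R)))
        (Spec.map (CommRingCat.ofHom (algebraMap A B)))).hom),
    pullbackSymmetry_hom_comp_snd,
    ← MorphismProperty.cancel_left_of_respectsIso @IsFinite (pullbackSpecIso A R B).inv,
    pullbackSpecIso_inv_fst, IsFinite.SpecMap_iff]
  exact RingHom.finite_algebraMap.mpr h

variable {X S : Scheme.{u}} (f : X ⟶ S)

/-- the fibre degree is constant on a constructible set through each point -/
theorem exists_constructible_fdeg [Flat f] [LocallyOfFinitePresentation f] [IsSeparated f]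
    [LocallyQuasiFinite f] [QuasiCompact f] {U : S.Opens} (hU : IsAffineOpen U) (p : PrimeSpectrum Γ(S, U)) :
    ∃ C : Set (PrimeSpectrum Γ(S, U)), Topology.IsConstructible C ∧ p ∈ C ∧
      ∀ q ∈ C, fdeg f (hU.fromSpec q) = fdeg f (hU.fromSpec p) := by
  classical
  have hc : IsCompact ((f ⁻¹ᵁ U : X.Opens) : Set X) := f.isCompact_preimage hU.isCompact
  obtain ⟨t, ht⟩ := hc.elim_finite_subcover
    (fun V : {V : X.affineOpens // V.1 ≤ f ⁻¹ᵁ U} => (V.1.1 : Set X)) (fun V => V.1.1.isOpen)
    (fun x hx => by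
      obtain ⟨V, hV, hxV, hVU⟩ := exists_isAffineOpen_mem_and_subset (x := x) (U := f ⁻¹ᵁ U) hx
      exact Set.mem_iUnion.mpr ⟨⟨⟨V, hV⟩, hVU⟩, hxV⟩)
  letI : ∀ V : {V : X.affineOpens // V.1 ≤ f ⁻¹ᵁ U}, Algebra Γ(S, U) Γ(X, V.1.1) := fun V =>
    (f.appLE U V.1.1 V.2).hom.toAlgebra
  have hstr : ∀ V : {V : X.affineOpens // V.1 ≤ f ⁻¹ᵁ U}, ∃ (a : Γ(S, U)) (I : Ideal Γ(S, U)), a ∉ p.asIdeal ∧
      I.FG ∧ I ≤ p.asIdeal ∧ ∀ (R : Type u) [CommRing R] [Algebra Γ(S, U) R],
      IsUnit (algebraMap Γ(S, U) R a) → (∀ b ∈ I, algebraMap Γ(S, U) R b = 0) →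
        Module.Finite R (R ⊗[Γ(S, U)] Γ(X, V.1.1)) := fun V => by
    haveI : Algebra.QuasiFinite Γ(S, U) Γ(X, V.1.1) := LocallyQuasiFinite.quasiFinite_appLE hU V.1.2 V.2
    haveI : Algebra.FinitePresentation Γ(S, U) Γ(X, V.1.1) := f.finitePresentation_appLE hU V.1.2 V.2
    exact exists_finite_stratum p.asIdeal
  choose a I ha hI hIp hfin using hstr
  let b : Γ(S, U) := ∏ V ∈ t, a V
  let J : Ideal Γ(S, U) := t.sup I
  let R : Type u := Localization.Away (Ideal.Quotient.mk J b)
  let ρ : Γ(S, U) →+* R := algebraMap Γ(S, U) R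
  have hρ : ρ = (algebraMap (Γ(S, U) ⧸ J) R).comp (Ideal.Quotient.mk J) :=
    IsScalarTower.algebraMap_eq Γ(S, U) (Γ(S, U) ⧸ J) R
  have hfinR : ∀ V ∈ t, Module.Finite R (R ⊗[Γ(S, U)] Γ(X, V.1.1)) := fun V hV =>
    hfin V R (isUnit_of_dvd_unit (map_dvd _ (Finset.dvd_prod_of_mem a hV))
        (by rw [IsScalarTower.algebraMap_apply Γ(S, U) (Γ(S, U) ⧸ J) R]
            exact IsLocalization.Away.algebraMap_isUnit _))
      fun c hc => by
        rw [IsScalarTower.algebraMap_apply Γ(S, U) (Γ(S, U) ⧸ J) R, Ideal.Quotient.algebraMap_eq,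
          Ideal.Quotient.eq_zero_iff_mem.mpr ((Finset.le_sup (f := I) hV) hc), map_zero]
  let T := Spec (CommRingCat.of R)
  let c : T ⟶ S := Spec.map (CommRingCat.ofHom ρ) ≫ hU.fromSpec
  let q := pullback.snd f c
  let Pc := fun V : {V // V ∈ t} => pullback (Spec.map (f.appLE U V.1.1.1 V.1.2)) (Spec.map (CommRingCat.ofHom ρ))
  let hh : ∀ V, Pc V ⟶ pullback f c := fun V =>
    pullback.lift (pullback.fst _ _ ≫ V.1.1.2.fromSpec) (pullback.snd _ _) (by
      rw [Category.assoc, ← IsAffineOpen.SpecMap_appLE_fromSpec f hU V.1.1.2 V.1.2, pullback.condition_assoc])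
  haveI : ∀ V : {V // V ∈ t}, IsFinite (hh V ≫ q) := fun V => by
    rw [show hh V ≫ q = pullback.snd _ _ from pullback.lift_snd _ _ _]
    exact isFinite_pullback_snd Γ(S, U) R Γ(X, V.1.1.1) (hfinR V.1 V.2)
  haveI : Surjective (Sigma.desc hh) := ⟨fun z => by
    have hz : pullback.fst f c z ∈ f ⁻¹ᵁ U := by
      show f (pullback.fst f c z) ∈ (U : Set S)
      rw [← Scheme.Hom.comp_apply, pullback.condition, Scheme.Hom.comp_apply, ← hU.range_fromSpec]
      exact Set.mem_range_self _
    obtain ⟨V, hV, hzV⟩ := Set.mem_iUnion₂.mp (ht hz)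
    let k := (pullback f c).fromSpecResidueField z
    have hk : Set.range (k ≫ pullback.fst f c) ⊆ Set.range V.1.2.fromSpec := by
      rintro _ ⟨w, rfl⟩
      rw [IsAffineOpen.range_fromSpec, Scheme.Hom.comp_apply, Scheme.fromSpecResidueField_apply]
      exact hzV
    let k₁ := IsOpenImmersion.lift V.1.2.fromSpec (k ≫ pullback.fst f c) hk
    have hk₁ : k₁ ≫ Spec.map (f.appLE U V.1.1 V.2) =
        (k ≫ q) ≫ Spec.map (CommRingCat.ofHom ρ) := by
      rw [← cancel_mono hU.fromSpec]
      simp only [Category.assoc, k₁, q]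
      rw [IsAffineOpen.SpecMap_appLE_fromSpec f hU V.1.2 V.2, IsOpenImmersion.lift_fac_assoc, Category.assoc,
        pullback.condition]
    let k₂ : Spec ((pullback f c).residueField z) ⟶ Pc ⟨V, hV⟩ := pullback.lift k₁ (k ≫ q) hk₁
    have hk₂ : k₂ ≫ hh ⟨V, hV⟩ = k := by
      apply pullback.hom_ext
      · simp [k₂, hh, k₁]
      · simp [k₂, hh, q]
    refine ⟨Sigma.ι Pc ⟨V, hV⟩ (k₂ (closedPoint _)), ?_⟩
    rw [← Scheme.Hom.comp_apply, Sigma.ι_desc, ← Scheme.Hom.comp_apply, hk₂]
    exact Scheme.fromSpecResidueField_apply _ _⟩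
  haveI : UniversallyClosed q := by
    haveI : IsFinite (Sigma.desc hh ≫ q) := by
      rw [show Sigma.desc hh ≫ q = Sigma.desc (fun V => hh V ≫ q) from Sigma.hom_ext _ _ fun V => by simp]
      haveI : ∀ V : {V // V ∈ t}, IsAffine (Pc V) := fun V => isAffine_of_isAffineHom (hh V ≫ q)
      exact AlgSpLib.isFinite_sigmaDesc_of_isAffine _ fun V => inferInstance
    exact UniversallyClosed.of_comp_surjective (Sigma.desc hh) q
  haveI : LocallyQuasiFinite q := inferInstance
  haveI : IsProper q := ⟨⟩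
  haveI : IsFinite q := IsFinite.of_isProper_of_locallyQuasiFinite q
  have hf := finFib_of_qc f
  have hdeg : ∀ y : T, fdeg f (c y) = q.finrank y := fun y => by
    rw [← fdeg_of_isFinite, fdeg_baseChange hf (IsPullback.of_hasPullback f c)]
  have hp : p ∈ Set.range (PrimeSpectrum.comap ρ) := by
    have hpJ : J ≤ p.asIdeal := Finset.sup_le fun V _ => hIp V
    have hb : b ∉ p.asIdeal := fun h => by
      obtain ⟨V, _, hV⟩ := Ideal.IsPrime.prod_mem_iff.mp h
      exact ha V hV
    let p' : PrimeSpectrum (Γ(S, U) ⧸ J) := ⟨p.asIdeal.map (Ideal.Quotient.mk J),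
      Ideal.map_isPrime_of_surjective Ideal.Quotient.mk_surjective (by rwa [Ideal.mk_ker])⟩
    have hp' : p'.asIdeal.comap (Ideal.Quotient.mk J) = p.asIdeal := by
      rw [Ideal.comap_map_of_surjective' _ Ideal.Quotient.mk_surjective, Ideal.mk_ker, sup_eq_left]
      exact hpJ
    have : p' ∈ Set.range (PrimeSpectrum.comap (algebraMap (Γ(S, U) ⧸ J) R)) := by
      rw [PrimeSpectrum.localization_away_comap_range R (Ideal.Quotient.mk J b)]
      intro h
      apply hb
      rw [← hp']
      exact h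
    obtain ⟨r, hr⟩ := this
    exact ⟨r, by rw [hρ, PrimeSpectrum.comap_comp_apply, hr]; exact PrimeSpectrum.ext hp'⟩
  obtain ⟨r₀, hr₀⟩ := hp
  have hopen : IsOpen {y : T | q.finrank y = q.finrank r₀} := q.isLocallyConstant_finrank {q.finrank r₀}
  obtain ⟨_, ⟨e, rfl⟩, hr₀e, he⟩ :=
    PrimeSpectrum.isTopologicalBasis_basic_opens.exists_subset_of_mem_open (show r₀ ∈ {y : T | q.finrank y = q.finrank r₀} from rfl) hopen
  refine ⟨Set.range (PrimeSpectrum.comap ((algebraMap R (Localization.Away e)).comp ρ)),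
    PrimeSpectrum.isConstructible_range_comap ?_, ?_, ?_⟩
  · have hJfg : J.FG := by
      induction t using Finset.induction_on with
      | empty => rw [show J = ⊥ from Finset.sup_empty]; exact Submodule.fg_bot
      | insert V t' hV ih => exact Submodule.fg_finset_sup _ _ fun V _ => hI V
    rw [hρ]
    refine RingHom.FinitePresentation.comp ?_ (RingHom.FinitePresentation.comp ?_
      (RingHom.FinitePresentation.of_surjective (Ideal.Quotient.mk J) Ideal.Quotient.mk_surjective
        (by rw [Ideal.mk_ker]; exact hJfg)))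
    · exact RingHom.finitePresentation_algebraMap.mpr (IsLocalization.Away.finitePresentation e)
    · exact RingHom.finitePresentation_algebraMap.mpr (IsLocalization.Away.finitePresentation (Ideal.Quotient.mk J b))
  · obtain ⟨r₁, hr₁⟩ : r₀ ∈ Set.range (PrimeSpectrum.comap (algebraMap R (Localization.Away e))) := by
      rw [PrimeSpectrum.localization_away_comap_range (Localization.Away e) e]; exact hr₀e
    exact ⟨r₁, by rw [PrimeSpectrum.comap_comp_apply, hr₁, hr₀]⟩
  · rintro _ ⟨r₁, rfl⟩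
    have h1 : PrimeSpectrum.comap (algebraMap R (Localization.Away e)) r₁ ∈
        {y : T | q.finrank y = q.finrank r₀} :=
      he ((PrimeSpectrum.localization_away_comap_range (Localization.Away e) e).le (Set.mem_range_self r₁))
    rw [← hr₀, PrimeSpectrum.comap_comp_apply]
    exact ((hdeg _).trans h1).trans (hdeg r₀).symm

end Groth.Agent.SpQS
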