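import Groth.Agent.SpQS.UnivBddFlat
import Groth.Agent.SpQS.FieldImm
import Groth.Agent.UnivInjMor.MonoUnram
import Groth.Prelude.Def_W4stkschemesremainderFib

/-!
# The degree bound of fibres in the language of `BddFib`
-/

universe u

open CategoryTheory CategoryTheory.Limits AlgebraicGeometry IsLocalRing

set_option backward.isDefEq.respectTransparency false

namespace Groth.Agent.SpQS

variable {X Y : Scheme.{u}}

theorem finiteOfDegLE_iff {K : Type u} [Field K] {T : Scheme.{u}} (p : T ⟶ Spec (CommRingCat.of K)) (n : ℕ) :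
    BddFib.FiniteOfDegLE (CommRingCat.of K) p n ↔ IsFinite p ∧ p.finrank (closedPoint K) ≤ n := by
  let φ : CommRingCat.of K ⟶ Γ(T, ⊤) := (Scheme.ΓSpecIso _).inv ≫ p.appTop
  have hφ : ∀ [IsAffine T], Spec.map φ = T.isoSpec.inv ≫ p := by
    intro _
    rw [← Scheme.isoSpec_inv_naturality]
    simp [φ, Scheme.isoSpec_Spec_inv]
  constructor
  · rintro ⟨hA, hfin, hn⟩
    have hq : IsFinite p := by
      rw [← MorphismProperty.cancel_left_of_respectsIso @IsFinite T.isoSpec.inv, ← hφ]
      exact (IsFinite.SpecMap_iff _).2 hfin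
    exact ⟨hq, (finrank_eq_of_field p φ hφ).2.le.trans hn⟩
  · rintro ⟨hq, hn⟩
    have : IsAffine T := isAffine_of_isAffineHom p
    obtain ⟨h₁, h₂⟩ := finrank_eq_of_field p φ hφ
    exact ⟨inferInstance, h₁, h₂.ge.trans hn⟩

theorem fibreDegLE_iff (f : X ⟶ Y) (n : ℕ) : BddFib.FibreDegLE f n ↔ ∀ y, BddAt n f y :=
  forall_congr' fun y => finiteOfDegLE_iff (K := Y.residueField y) (f.fiberToSpecResidueField y) n

theorem bddAt_of_isEmpty (f : X ⟶ Y) (y : Y) [IsEmpty ↥(pullback f (Y.fromSpecResidueField y))] (n : ℕ) :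
    BddAt n f y := by
  let p : pullback f (Y.fromSpecResidueField y) ⟶ Spec (CommRingCat.of (Y.residueField y)) :=
    pullback.snd f (Y.fromSpecResidueField y)
  have hp : IsFinite p := inferInstance
  refine ⟨hp, le_of_eq_of_le ?_ (Nat.zero_le n)⟩
  by_contra hne
  have hs : Surjective p := Scheme.Hom.one_le_finrank_iff_surjective p |>.1 fun s =>
    (Subsingleton.elim (α := PrimeSpectrum (Y.residueField y)) s (closedPoint _)) ▸ Nat.pos_of_ne_zero hne
  obtain ⟨z, -⟩ := hs.surj (closedPoint (Y.residueField y))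
  exact IsEmpty.false z

/-- quasi-compact source gives bounded fibres -/
theorem exists_bddAt_of_compact (f : X ⟶ Y) [LocallyQuasiFinite f] [LocallyOfFiniteType f] [CompactSpace X] :
    ∃ N, ∀ y, BddAt N f y := by
  choose O hO hxO using fun x : X => exists_isAffineOpen_mem_and_subset (U := ⊤) (x := f x) trivial
  choose A hA hxA hAO using fun x : X => exists_isAffineOpen_mem_and_subset (U := f ⁻¹ᵁ O x) (x := x) (hxO x).1
  obtain ⟨t, ht⟩ := isCompact_univ.elim_finite_subcover (fun x => (A x : Set X)) (fun x => (A x).2)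
    (fun x _ => Set.mem_iUnion.2 ⟨x, hxA x⟩)
  let g : ∀ x, (A x).toScheme ⟶ (O x).toScheme := fun x => f.resLE (O x) (A x) (hAO x)
  have hbd : ∀ x, ∃ M, ∀ y, BddAt M (g x) y := fun x => by
    have : IsAffine (A x).toScheme := hA x
    have : IsAffine (O x).toScheme := hO x
    have hg : g x ≫ (O x).ι = (A x).ι ≫ f := Scheme.Hom.resLE_comp_ι _ _
    have : LocallyOfFiniteType (g x ≫ (O x).ι) := hg ▸ inferInstance
    have : LocallyQuasiFinite (g x ≫ (O x).ι) := hg ▸ inferInstance
    have : LocallyOfFiniteType (g x) := locallyOfFiniteType_of_comp _ (O x).ι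
    have : LocallyQuasiFinite (g x) := LocallyQuasiFinite.of_comp _ (O x).ι
    exact exists_bddAt_of_affine (g x)
  choose M hM using hbd
  refine ⟨∑ x : t, M x.1, fun y => ?_⟩
  have hpiece : ∀ x, BddAt (M x) ((A x).ι ≫ f) y := fun x => by
    have hg : g x ≫ (O x).ι = (A x).ι ≫ f := Scheme.Hom.resLE_comp_ι _ _
    by_cases hy : y ∈ O x
    · have sq : IsPullback (𝟙 _) (g x) (g x ≫ (O x).ι) (O x).ι := by
        refine ⟨⟨by simp⟩, ⟨PullbackCone.IsLimit.mk (by simp) (fun c => c.fst) (fun c => Category.comp_id _)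
          (fun c => ?_) (fun c m h₁ _ => (Category.comp_id m).symm.trans h₁)⟩⟩
        rw [← cancel_mono (O x).ι, Category.assoc, c.condition]
      rw [← hg]
      exact (bddAt_baseChange (M x) _ sq ⟨y, hy⟩).1 (hM x _)
    · have : IsEmpty ↥(pullback ((A x).ι ≫ f) (Y.fromSpecResidueField y)) := ⟨fun z => by
        have h1 : ((A x).ι ≫ f) (pullback.fst _ (Y.fromSpecResidueField y) z) =
            (Y.fromSpecResidueField y) (pullback.snd ((A x).ι ≫ f) (Y.fromSpecResidueField y) z) := by
          rw [← Scheme.Hom.comp_apply, pullback.condition, Scheme.Hom.comp_apply]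
        rw [Scheme.fromSpecResidueField_apply] at h1
        exact hy (h1 ▸ hAO x (pullback.fst _ (Y.fromSpecResidueField y) z).2)⟩
      exact bddAt_of_isEmpty _ y _
  let r : ∀ x : t, pullback ((A x.1).ι ≫ f) (Y.fromSpecResidueField y) ⟶ pullback f (Y.fromSpecResidueField y) :=
    fun x => pullback.map _ _ _ _ (A x.1).ι (𝟙 _) (𝟙 _) (by simp) (by simp)
  have hr : ∀ x, r x ≫ pullback.snd f (Y.fromSpecResidueField y) = pullback.snd _ _ := fun x => by simp [r]
  have sqr : ∀ x, IsPullback (pullback.fst ((A x.1).ι ≫ f) (Y.fromSpecResidueField y)) (r x) (A x.1).ι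
      (pullback.fst f (Y.fromSpecResidueField y)) := fun x =>
    IsPullback.of_bot (by rw [hr]; exact IsPullback.of_hasPullback _ _) (by simp [r])
      (IsPullback.of_hasPullback f (Y.fromSpecResidueField y))
  have : ∀ x, Flat (r x) := fun x => MorphismProperty.of_isPullback (sqr x) (inferInstanceAs (Flat (A x.1).ι))
  refine bdd_of_flat_family (K := Y.residueField y) (pullback.snd f (Y.fromSpecResidueField y)) r (fun z => ?_)
    (fun x : t => M x.1) (fun x => ?_)
  · obtain ⟨x, hx, hz⟩ := Set.mem_iUnion₂.1 (ht (Set.mem_univ (pullback.fst f (Y.fromSpecResidueField y) z)))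
    obtain ⟨w, -, hw⟩ := Scheme.exists_preimage_of_isPullback (sqr ⟨x, hx⟩) ⟨_, hz⟩ z rfl
    exact ⟨⟨x, hx⟩, w, hw⟩
  · rw [hr]
    exact hpiece x.1

/-- flat surjective precomposition -/
theorem bddAt_of_flat_surjective {Z : Scheme.{u}} (f : X ⟶ Y) (h : Y ⟶ Z) [Flat f] [Surjective f] (n : ℕ) (z : Z)
    (hg : BddAt n (f ≫ h) z) : BddAt n h z := by
  let r := pullback.map (f ≫ h) (Z.fromSpecResidueField z) h (Z.fromSpecResidueField z) f (𝟙 _) (𝟙 _) (by simp) (by simp)
  have hr : r ≫ pullback.snd h (Z.fromSpecResidueField z) = pullback.snd _ _ := by simp [r]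
  have sqr : IsPullback (pullback.fst (f ≫ h) (Z.fromSpecResidueField z)) r f
      (pullback.fst h (Z.fromSpecResidueField z)) :=
    IsPullback.of_bot (by rw [hr]; exact IsPullback.of_hasPullback _ _) (by simp [r])
      (IsPullback.of_hasPullback h (Z.fromSpecResidueField z))
  have : Flat r := MorphismProperty.of_isPullback sqr ‹_›
  have hs : Surjective r := MorphismProperty.of_isPullback sqr ‹_›
  obtain ⟨h₁, h₂⟩ := bdd_of_flat_family (K := Z.residueField z) (pullback.snd h (Z.fromSpecResidueField z))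
    (ι := PUnit.{u + 1}) (fun _ => r) (fun t => ⟨PUnit.unit, r.surjective t⟩) (fun _ => n)
    (fun _ => by rw [hr]; exact hg)
  exact ⟨h₁, h₂.trans (by simp)⟩

/-- for etale morphisms it is enough to count points -/
theorem bddAt_of_natCard_le (f : X ⟶ Y) [Etale f] (n : ℕ)
    (h : ∀ (k : Type u) [Field k] (g : Spec (CommRingCat.of k) ⟶ Y),
      Finite ↥(pullback f g) ∧ Nat.card ↥(pullback f g) ≤ n) (y : Y) : BddAt n f y := by
  let Ω := AlgebraicClosure (Y.residueField y)
  let g : Spec (CommRingCat.of Ω) ⟶ Y :=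
    Spec.map (CommRingCat.ofHom (algebraMap (Y.residueField y) Ω)) ≫ Y.fromSpecResidueField y
  have hgy : g (closedPoint Ω) = y := (Scheme.Hom.comp_apply _ _ _).trans (Y.fromSpecResidueField_apply y _)
  rw [← hgy]
  refine (bddAt_iff n f g _ _ (IsPullback.of_hasPullback f g)).2 ?_
  obtain ⟨hfin, hcard⟩ := h Ω g
  let q : pullback f g ⟶ Spec (CommRingCat.of Ω) := pullback.snd f g
  have : Etale q := inferInstanceAs (Etale (pullback.snd f g))
  have : LocallyQuasiFinite q := UnivInjMor.lqf_of_unramified _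
  have : CompactSpace ↥(pullback f g) := Finite.compactSpace
  have : QuasiCompact q := HasAffineProperty.iff_of_isAffine.mpr ‹_›
  have hqf : IsFinite q := IsFinite.of_locallyQuasiFinite q
  refine ⟨hqf, le_trans ?_ hcard⟩
  have : IsAffine (pullback f g) := isAffine_of_isAffineHom q
  obtain ⟨φ, hφ⟩ := Spec.map_surjective ((pullback f g).isoSpec.inv ≫ q)
  obtain ⟨hfinA, he⟩ := finrank_eq_of_field q φ hφ
  let := φ.hom.toAlgebra
  let A : Type u := Γ(pullback f g, ⊤)
  have hArt : IsArtinianRing Γ(pullback f g, ⊤) := isArtinian_of_tower Ω inferInstance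
  have : IsReduced (pullback f g) := isReduced_of_etale_reduced q
  have : _root_.IsReduced Γ(pullback f g, ⊤) := inferInstance
  show q.finrank (closedPoint Ω) ≤ _
  rw [he, Nat.card_congr (pullback f g).isoSpec.hom.homeomorph.toEquiv]
  show Module.finrank Ω Γ(pullback f g, ⊤) ≤ Nat.card (PrimeSpectrum Γ(pullback f g, ⊤))
  rw [Nat.card_congr IsArtinianRing.primeSpectrumEquivMaximalSpectrum]
  let : Fintype (MaximalSpectrum Γ(pullback f g, ⊤)) := Fintype.ofFinite _
  rw [LinearEquiv.finrank_eq ((IsArtinianRing.equivPi Γ(pullback f g, ⊤)).toLinearEquiv.restrictScalars Ω),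
    Module.finrank_pi_fintype, Nat.card_eq_fintype_card, ← Finset.card_univ, Finset.card_eq_sum_ones]
  refine Finset.sum_le_sum fun I _ => le_of_eq ?_
  let := Ideal.Quotient.field I.asIdeal
  have : Algebra.IsAlgebraic Ω (Γ(pullback f g, ⊤) ⧸ I.asIdeal) := Algebra.IsAlgebraic.of_finite Ω _
  have hbij := IsAlgClosed.algebraMap_bijective_of_isIntegral (k := Ω) (K := Γ(pullback f g, ⊤) ⧸ I.asIdeal)
  exact (LinearEquiv.ofBijective (Algebra.linearMap Ω (Γ(pullback f g, ⊤) ⧸ I.asIdeal)) hbij).finrank_eq.symm.trans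
    (Module.finrank_self Ω)

end Groth.Agent.SpQS
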