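import Groth.Agent.SpQS.SchOpen
import Groth.Agent.EtaleSections.Basic
import Groth.Agent.AlgSpLib.Points
import Groth.Agent.AlgSpLib.Space

/-!
# Configurations of distinct sheets of an affine etale chart
-/

universe u

open CategoryTheory CategoryTheory.Limits AlgebraicGeometry

set_option backward.isDefEq.respectTransparency false

namespace Groth.Agent.SpQS

open _root_.AlgSp Groth.Agent.AlgSpLib

variable {S : Scheme.{u}}

/-- two morphisms agreeing at no field valued point -/
def NeverEq {X Y : Scheme.{u}} (a b : X ⟶ Y) : Prop :=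
  ∀ (K : Type u) [Field K] (k : Spec (CommRingCat.of K) ⟶ X), k ≫ a ≠ k ≫ b

theorem NeverEq.symm {X Y : Scheme.{u}} {a b : X ⟶ Y} (h : NeverEq a b) : NeverEq b a :=
  fun K _ k e => h K k e.symm

theorem NeverEq.comp {T X Y : Scheme.{u}} {a b : X ⟶ Y} (h : NeverEq a b) (f : T ⟶ X) :
    NeverEq (f ≫ a) (f ≫ b) :=
  fun K _ k e => h K (k ≫ f) (by simpa using e)

/-- `p + 1` pairwise distinct sheets of a chart -/
structure Conf {X : Sp S} {W : Over S} (π : (yon S).obj W ⟶ X) (p : ℕ) where
  C : Over S
  pr : Fin (p + 1) → (C ⟶ W)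
  comm : ∀ i, (yon S).map (pr i) ≫ π = (yon S).map (pr 0) ≫ π
  ne : ∀ i j, i ≠ j → NeverEq (pr i).left (pr j).left
  desc : ∀ {T : Over S} (a : Fin (p + 1) → (T ⟶ W)),
    (∀ i, (yon S).map (a i) ≫ π = (yon S).map (a 0) ≫ π) →
      (∀ i j, i ≠ j → NeverEq (a i).left (a j).left) → ∃ l : T ⟶ C, ∀ i, l ≫ pr i = a i
  ext : ∀ {T : Over S} (l l' : T ⟶ C), (∀ i, l ≫ pr i = l' ≫ pr i) → l = l'
  etale : Etale (pr 0).left
  sep : IsSeparated (pr 0).left
  compact : RepWith @QuasiCompact π → CompactSpace ↥C.left

theorem exists_conf {X : Sp S} (hA : IsAlgSpace X) {W : Over S} [IsAffine W.left]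
    {π : (yon S).obj W ⟶ X} (hπ : RepWith @Etale π) : ∀ p, Nonempty (Conf π p)
  | 0 => ⟨{ C := W
            pr := fun _ => 𝟙 W
            comm := fun _ => rfl
            ne := fun i j h => absurd (Fin.ext (by omega)) h
            desc := fun a _ _ => ⟨a 0, fun i => by rw [Category.comp_id, show i = 0 from Fin.ext (by omega)]⟩
            ext := fun l l' h => by simpa using h 0
            etale := inferInstanceAs (Etale (𝟙 W.left))
            sep := inferInstanceAs (IsSeparated (𝟙 W.left))
            compact := fun _ => inferInstance }⟩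
  | p + 1 => by
    obtain ⟨c⟩ := exists_conf hA hπ p
    obtain ⟨R, t, s, sqR⟩ := exists_pullback hA.diag π π
    have : IsSeparated s.left := isSeparated_snd_of_chart sqR
    have : Etale s.left := (repWith_yon_iff s).1 (repWith_baseChange sqR hπ)
    have := c.etale
    have := c.sep
    let Q : Over S := Over.mk (pullback.snd s.left (c.pr 0).left ≫ c.C.hom)
    let v : Q ⟶ c.C := Over.homMk (pullback.snd s.left (c.pr 0).left) rfl
    let u : Q ⟶ R := Over.homMk (pullback.fst s.left (c.pr 0).left) (by
      show pullback.fst s.left (c.pr 0).left ≫ R.hom = pullback.snd s.left (c.pr 0).left ≫ c.C.hom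
      rw [← Over.w s, pullback.condition_assoc, Over.w (c.pr 0)])
    have : Etale v.left := inferInstanceAs (Etale (pullback.snd s.left (c.pr 0).left))
    have : IsSeparated v.left := inferInstanceAs (IsSeparated (pullback.snd s.left (c.pr 0).left))
    have sqQ₀ : IsPullback u.left v.left s.left (c.pr 0).left := IsPullback.of_hasPullback _ _
    have sqQ : IsPullback ((yon S).map (u ≫ t)) ((yon S).map v) π ((yon S).map (c.pr 0) ≫ π) := by
      rw [Functor.map_comp]
      exact (isPullback_yon_iff.2 sqQ₀).paste_horiz sqR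
    have hlift : ∀ i, ∃ d : c.C ⟶ Q, d ≫ u ≫ t = c.pr i ∧ d ≫ v = 𝟙 _ := fun i => by
      have hw : (yon S).map (c.pr i) ≫ π = (yon S).map (𝟙 c.C) ≫ (yon S).map (c.pr 0) ≫ π := by
        rw [c.comm i, CategoryTheory.Functor.map_id, Category.id_comp]
      obtain ⟨d, hd⟩ := exists_map_eq (sqQ.lift _ _ hw)
      exact ⟨d, (yon S).map_injective (by rw [Functor.map_comp, hd, sqQ.lift_fst]),
        (yon S).map_injective (by rw [Functor.map_comp, hd, sqQ.lift_snd])⟩
    choose d hd₁ hd₂ using hlift
    have hsec : ∀ i, (d i).left ≫ v.left = 𝟙 _ := fun i => congrArg (fun k => k.left) (hd₂ i)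
    have hdo : ∀ i, IsOpenImmersion (d i).left := fun i =>
      EtaleSections.isOpenImmersion_section v.left _ (hsec i)
    have hdc : ∀ i, IsClosedImmersion (d i).left := fun i => by
      have : IsClosedImmersion ((d i).left ≫ v.left) := by rw [hsec i]; infer_instance
      exact IsClosedImmersion.of_comp (d i).left v.left
    let O : Q.left.Opens := ⟨(⋃ i, Set.range (d i).left)ᶜ,
      (isClosed_iUnion_of_finite fun i => (d i).left.isClosedEmbedding.isClosed_range).isOpen_compl⟩
    have hO : IsClosed (O : Set Q.left) :=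
      (isOpen_iUnion fun i => (d i).left.isOpenEmbedding.isOpen_range).isClosed_compl
    let C' : Over S := Over.mk (O.ι ≫ Q.hom)
    let j : C' ⟶ Q := Over.homMk O.ι rfl
    let pr' : Fin (p + 2) → (C' ⟶ W) := Fin.snoc (fun i => j ≫ v ≫ c.pr i) (j ≫ u ≫ t)
    have pr'c : ∀ i, pr' (Fin.castSucc i) = j ≫ v ≫ c.pr i := fun i => Fin.snoc_castSucc _ _ i
    have pr'l : pr' (Fin.last (p + 1)) = j ≫ u ≫ t := Fin.snoc_last _ _
    have pr'0 : pr' 0 = j ≫ v ≫ c.pr 0 := pr'c 0
    have hne : ∀ i, NeverEq (j ≫ u ≫ t).left (j ≫ v ≫ c.pr i).left := fun i K _ k e => by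
      let K' : Over S := Over.mk (k ≫ C'.hom)
      let k' : K' ⟶ C' := Over.homMk k rfl
      have e' : k' ≫ j ≫ u ≫ t = k' ≫ j ≫ v ≫ c.pr i := Over.OverMorphism.ext e
      have h : k' ≫ j = k' ≫ j ≫ v ≫ d i := (yon S).map_injective (sqQ.hom_ext
        (by rw [← Functor.map_comp, ← Functor.map_comp, Category.assoc, e', Category.assoc, Category.assoc,
          Category.assoc, hd₁])
        (by rw [← Functor.map_comp, ← Functor.map_comp, Category.assoc, Category.assoc, Category.assoc,
          Category.assoc, hd₂, Category.comp_id]))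
      have h' := congrArg (fun m : K' ⟶ Q => m.left (IsLocalRing.closedPoint K)) h
      exact (k (IsLocalRing.closedPoint K)).2 (Set.mem_iUnion.2 ⟨i, _, h'.symm⟩)
    refine ⟨⟨C', pr', ?_, ?_, ?_, ?_, ?_, ?_, ?_⟩⟩
    · intro i
      refine Fin.lastCases ?_ (fun i => ?_) i
      · rw [pr'l, pr'0, Functor.map_comp, Category.assoc, sqQ.w, Functor.map_comp, Functor.map_comp,
          Category.assoc, Category.assoc]
      · rw [pr'c, pr'0]
        simp only [Functor.map_comp, Category.assoc, c.comm i]
    · intro i i' h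
      induction i using Fin.lastCases with
      | last =>
        induction i' using Fin.lastCases with
        | last => exact absurd rfl h
        | cast i' => rw [pr'l, pr'c]; exact hne i'
      | cast i =>
        induction i' using Fin.lastCases with
        | last => rw [pr'l, pr'c]; exact (hne i).symm
        | cast i' =>
          rw [pr'c, pr'c]
          exact (c.ne i i' fun e => h (congrArg Fin.castSucc e)).comp (j.left ≫ v.left)
    · intro T a ha hane
      obtain ⟨l, hl⟩ := c.desc (fun i => a i.castSucc) (fun i => (ha i.castSucc).trans rfl)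
        (fun i i' h => hane _ _ fun e => h (Fin.castSucc_injective _ e))
      have hw : (yon S).map (a (Fin.last (p + 1))) ≫ π = (yon S).map l ≫ (yon S).map (c.pr 0) ≫ π := by
        rw [← Category.assoc, ← Functor.map_comp, hl, ha]
        rfl
      obtain ⟨m, hm⟩ := exists_map_eq (sqQ.lift _ _ hw)
      have hm₁ : m ≫ u ≫ t = a (Fin.last (p + 1)) :=
        (yon S).map_injective (by rw [Functor.map_comp, hm, sqQ.lift_fst])
      have hm₂ : m ≫ v = l := (yon S).map_injective (by rw [Functor.map_comp, hm, sqQ.lift_snd])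
      have hmem : Set.range m.left ⊆ Set.range O.ι := by
        rw [Scheme.Opens.range_ι]
        rintro _ ⟨x, rfl⟩
        simp only [O, TopologicalSpace.Opens.coe_mk, Set.mem_compl_iff, Set.mem_iUnion, not_exists]
        rintro i ⟨z, hz⟩
        let Z : T.left.Opens := m.left ⁻¹ᵁ (d i).left.opensRange
        have hZ : Set.range (Z.ι ≫ m.left) ⊆ Set.range (d i).left := by
          rintro _ ⟨w, rfl⟩
          exact w.2
        let l' := IsOpenImmersion.lift (d i).left (Z.ι ≫ m.left) hZ
        have hl' : l' ≫ (d i).left = Z.ι ≫ m.left := IsOpenImmersion.lift_fac _ _ _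
        have hm₂' : m.left ≫ v.left = l.left := congrArg (fun k => k.left) hm₂
        have hl'' : l' = Z.ι ≫ l.left := by
          have := congrArg (· ≫ v.left) hl'
          simpa [hsec i, hm₂'] using this
        have e₁ : (d i).left ≫ (u ≫ t).left = (c.pr i).left := congrArg (fun k => k.left) (hd₁ i)
        have e₂ : m.left ≫ (u ≫ t).left = (a (Fin.last (p + 1))).left := congrArg (fun k => k.left) hm₁
        have e₃ : l.left ≫ (c.pr i).left = (a i.castSucc).left := congrArg (fun k => k.left) (hl i)
        have e : Z.ι ≫ (a (Fin.last (p + 1))).left = Z.ι ≫ (a i.castSucc).left := by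
          rw [← e₂, ← Category.assoc, ← hl', Category.assoc, e₁, hl'', Category.assoc, e₃]
        exact hane _ _ (Fin.castSucc_lt_last i).ne' _ (T.left.fromSpecResidueField x) (by
          have hr : Set.range (T.left.fromSpecResidueField x) ⊆ Set.range Z.ι := by
            rw [Scheme.range_fromSpecResidueField, Scheme.Opens.range_ι, Set.singleton_subset_iff]
            exact ⟨z, hz⟩
          rw [← IsOpenImmersion.lift_fac Z.ι _ hr, Category.assoc, Category.assoc, e])
      let m' : T ⟶ C' := Over.homMk (IsOpenImmersion.lift O.ι m.left hmem) (by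
        show IsOpenImmersion.lift O.ι m.left hmem ≫ O.ι ≫ Q.hom = T.hom
        rw [IsOpenImmersion.lift_fac_assoc, Over.w m])
      have hm' : m' ≫ j = m := Over.OverMorphism.ext (IsOpenImmersion.lift_fac _ _ _)
      refine ⟨m', fun i => ?_⟩
      induction i using Fin.lastCases with
      | last => rw [pr'l, reassoc_of% hm', hm₁]
      | cast i => rw [pr'c, reassoc_of% hm', reassoc_of% hm₂, hl]
    · intro T l l' h
      have e₁ : l ≫ j ≫ v = l' ≫ j ≫ v := c.ext _ _ fun i => by
        simpa [pr'c] using h i.castSucc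
      have e₂ : l ≫ j ≫ u ≫ t = l' ≫ j ≫ u ≫ t := by simpa [pr'l] using h (Fin.last (p + 1))
      have : l ≫ j = l' ≫ j := (yon S).map_injective (sqQ.hom_ext
        (by rw [← Functor.map_comp, ← Functor.map_comp, Category.assoc, e₂, Category.assoc])
        (by rw [← Functor.map_comp, ← Functor.map_comp, Category.assoc, e₁, Category.assoc]))
      exact Over.OverMorphism.ext ((cancel_mono O.ι).1 (congrArg (fun k => k.left) this))
    · rw [pr'0]
      exact inferInstanceAs (Etale (O.ι ≫ v.left ≫ (c.pr 0).left))
    · rw [pr'0]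
      exact inferInstanceAs (IsSeparated (O.ι ≫ v.left ≫ (c.pr 0).left))
    · intro hq
      have := c.compact hq
      have : QuasiCompact s.left := (repWith_yon_iff s).1 (repWith_baseChange sqR hq)
      have : QuasiCompact v.left := inferInstanceAs (QuasiCompact (pullback.snd s.left (c.pr 0).left))
      have : CompactSpace ↥Q.left := QuasiCompact.compactSpace_of_compactSpace v.left
      exact isCompact_iff_compactSpace.1 hO.isCompact

end Groth.Agent.SpQS
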