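import Groth.Agent.SpQS.Sober
import Groth.Agent.SpQS.Basic
import Groth.Agent.ConsTop.Maps
import Groth.Agent.AlgSpLib.Subspace
import Groth.Agent.AlgSpLib.PointMisc
import Groth.Agent.SpQS.FiniteNhd
import Groth.Agent.AlgSpLib.QCompact
import Groth.Agent.S10179

/-!
# Constructible sets of points of a quasi-separated space
-/

universe u

open CategoryTheory CategoryTheory.Limits AlgebraicGeometry Opposite Topology

set_option backward.isDefEq.respectTransparency false

namespace Groth.Agent.SpQS

open _root_.AlgSp Groth.Agent.AlgSpLib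

variable {S : Scheme.{u}}

theorem etaleLc_iff_isLocallyConstructible [QuasiSeparatedSpace ↥S] (X : AlgSp.Space S) (hs : IsQuasiSeparatedSp X.obj)
    (E : Set (Points X.obj)) :
    (∀ (U : Over S) (a : (yon S).obj U ⟶ X.obj), RepWith @Etale a → IsLocallyConstructible (Points.ofPt a ⁻¹' E)) ↔
      IsLocallyConstructible E := by
  obtain ⟨hX⟩ : Nonempty (IsAlgSpace X.obj) := ⟨X.property⟩
  have hqc : ∀ (U : Over S) (a : (yon S).obj U ⟶ X.obj), CompactSpace U.left → IsQuasiCompactMor a :=
    fun U a hU => isQuasiCompactMor_of_qc_qs (IsAlgSpace.yon_obj U) hX a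
      (@isQuasiCompactSp_yon _ U hU) hs
  have hpre : ∀ (U : Over S) (a : (yon S).obj U ⟶ X.obj), CompactSpace U.left → ∀ V : Set (Points X.obj),
      IsOpen V → IsCompact V → IsCompact (Points.ofPt a ⁻¹' V) := fun U a hU V hV hVc => by
    rw [show Points.ofPt a ⁻¹' V = Points.schemeHomeo U ⁻¹' (Points.map a ⁻¹' V) from Set.ext fun u => by
      show Points.ofPt a u ∈ V ↔ Points.map a (Points.ofScheme U u) ∈ V
      rw [Points.map_ofPt, Category.id_comp]]
    exact (Points.schemeHomeo U).isCompact_preimage.2 (isCompact_preimage hX (hqc U a hU) V hV hVc)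
  have hch : ∀ x : Points X.obj, ∃ (U : Over S) (a : (yon S).obj U ⟶ X.obj), IsAffine U.left ∧ RepWith @Etale a ∧
      CompactFibres a ∧ x ∈ Set.range (Points.ofPt a) := fun x => by
    obtain ⟨U, a, u, hU, ha, hu, -⟩ := exists_affine_chart_at hX x
    refine ⟨U, a, hU, ha, fun {K} _ str y V p q sqV => ?_, u, hu⟩
    have hK : CompactSpace (Over.mk str).left := inferInstanceAs (CompactSpace ↥(Spec (CommRingCat.of K)))
    have := compactSpace_of_isQuasiCompactSp
      (hqc U a inferInstance (IsAlgSpace.yon_obj _) (isQuasiCompactSp_yon (Over.mk str)) y _ _ sqV)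
    exact (Points.schemeHomeo V).symm.compactSpace
  have : T0Space (Points X.obj) := t0Space_points hX hch
  have : QuasiSober (Points X.obj) := quasiSober_points hX hch
  have : PrespectralSpace (Points X.obj) := PrespectralSpace.of_isTopologicalBasis'
    (b := fun V : {V : Set (Points X.obj) // IsOpen V ∧ IsCompact V} => V.1)
    (TopologicalSpace.isTopologicalBasis_of_isOpen_of_nhds (by rintro _ ⟨V, rfl⟩; exact V.2.1) fun x W hx hW => by
      obtain ⟨V, hV, hVc, hxV, hVW⟩ := S10179.result X x W hW hx
      exact ⟨V, ⟨⟨V, hV, hVc⟩, rfl⟩, hxV, hVW⟩) (fun V => V.2.2)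
  -- a compact open is the image of an affine chart
  have himage : ∀ B : Set (Points X.obj), IsOpen B → IsCompact B → ∃ (U : Over S) (a : (yon S).obj U ⟶ X.obj),
      IsAffine U.left ∧ RepWith @Etale a ∧ B ⊆ Set.range (Points.ofPt a) := fun B hB hBc => by
    have hi := repWith_subInc hB
    obtain ⟨hei, -⟩ := immersion_topology hX (repWith_mono (P := @IsOpenImmersion) (Q := @IsImmersion)
      (fun _ _ g hg => have : IsOpenImmersion g := hg; inferInstance) hi)
    have : CompactSpace (Points (subSheaf B)) := ⟨hei.isCompact_iff.2 (by rwa [Set.image_univ, range_subInc])⟩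
    obtain ⟨W, b, hW, hb, hbs⟩ := exists_affine_chart_of_compact (isAlgSpace_subSheaf hX hB)
    refine ⟨W, b ≫ subInc B, hW, repWith_comp hb (repWith_mono
      (fun {A B} g (hg : IsOpenImmersion g) => (by have := hg; infer_instance : Etale g)) hi), ?_⟩
    intro y hy
    obtain ⟨z, rfl⟩ := (range_subInc B).ge hy
    obtain ⟨w, rfl⟩ := ofPt_surjective hbs z
    exact ⟨w, by rw [Points.map_ofPt]⟩
  have : QuasiSeparatedSpace (Points X.obj) := ⟨fun A B hA hAc hB hBc => by
    obtain ⟨U, a, hU, ha, hAU⟩ := himage A hA hAc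
    rw [show A ∩ B = Points.ofPt a '' (Points.ofPt a ⁻¹' A ∩ Points.ofPt a ⁻¹' B) by
      rw [← Set.preimage_inter, Set.image_preimage_eq_inter_range,
        Set.inter_eq_left.2 ((Set.inter_subset_left).trans hAU)]]
    exact ((hpre U a inferInstance A hA hAc).inter_of_isOpen (hpre U a inferInstance B hB hBc)
      (hA.preimage (Points.continuous_ofPt a)) (hB.preimage (Points.continuous_ofPt a))).image (Points.continuous_ofPt a)⟩
  constructor
  · intro hE
    have main : ∀ F : Set (Points X.obj), (∀ (U : Over S) (a : (yon S).obj U ⟶ X.obj), RepWith @Etale a →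
        IsLocallyConstructible (Points.ofPt a ⁻¹' F)) → IsOpen[constructibleTopology (Points X.obj)] Fᶜ := by
      intro F hF
      obtain ⟨T, hT, hTeq⟩ := PrespectralSpace.isTopologicalBasis.open_eq_sUnion (isOpen_univ (X := Points X.obj))
      have : Fᶜ = ⋃₀ ((fun B => B ∩ Fᶜ) '' T) := by
        rw [Set.sUnion_image, ← Set.iUnion₂_inter, ← Set.sUnion_eq_biUnion, ← hTeq, Set.univ_inter]
      rw [this]
      refine @isOpen_sUnion _ (constructibleTopology _) _ ?_
      rintro _ ⟨B, hBT, rfl⟩
      obtain ⟨hB, hBc⟩ := hT hBT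
      obtain ⟨U, a, hU, ha, hBU⟩ := himage B hB hBc
      have hcont := ConsTop.continuous_cons (Points.ofPt a) (Points.continuous_ofPt a) (hpre U a inferInstance)
      have hc : @IsClosed (Points X.obj) (constructibleTopology _) (Points.ofPt a '' (Points.ofPt a ⁻¹' F)) := by
        have : QuasiSeparatedSpace U.left := inferInstance
        have h2 := (@isOpen_compl_iff _ _ (constructibleTopology U.left)).1
          (ConsTop.isClopen_of_isLocallyConstructible (hF U a ha)).2
        exact @IsCompact.isClosed _ (constructibleTopology _) ConsTop.t2Space_cons _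
          (@IsCompact.image _ _ (constructibleTopology U.left) (constructibleTopology _) _ _
            (@IsCompact.of_isClosed_subset _ (constructibleTopology U.left) Set.univ _
              (ConsTop.isCompact_cons isOpen_univ isCompact_univ) h2 (Set.subset_univ _)) hcont)
      have e : B ∩ Fᶜ = B ∩ (Points.ofPt a '' (Points.ofPt a ⁻¹' F))ᶜ := by
        rw [Set.image_preimage_eq_inter_range]
        ext y
        exact ⟨fun h => ⟨h.1, fun h' => h.2 h'.1⟩, fun h => ⟨h.1, fun h' => h.2 ⟨h', hBU h.1⟩⟩⟩
      show IsOpen[constructibleTopology (Points X.obj)] (B ∩ Fᶜ)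
      rw [e]
      exact @IsOpen.inter _ (constructibleTopology _) _ _ (hBc.isOpen_constructibleTopology_of_isOpen hB)
        ((@isOpen_compl_iff _ _ (constructibleTopology _)).2 hc)
    refine ConsTop.isLocallyConstructible_of_isClopen ?_ (main E hE)
    have := main Eᶜ fun U a ha => by rw [Set.preimage_compl]; exact ConsTop.isLocallyConstructible_compl (hE U a ha)
    rwa [compl_compl] at this
  · intro hE U a ha
    refine IsLocallyConstructible.of_isOpenCover U.left.affineCover.isOpenCover_opensRange fun i => ?_
    let O := (U.left.affineCover.f i).opensRange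
    let UO : Over S := Over.mk (O.ι ≫ U.hom)
    let o : UO ⟶ U := Over.homMk O.ι rfl
    have : IsAffine UO.left := isAffineOpen_opensRange (U.left.affineCover.f i)
    have hcont := ConsTop.continuous_cons (Points.ofPt ((yon S).map o ≫ a)) (Points.continuous_ofPt _)
      (hpre UO _ inferInstance)
    obtain ⟨h1, h2⟩ := ConsTop.isClopen_of_isLocallyConstructible hE
    have h := ConsTop.isLocallyConstructible_of_isClopen (X := UO.left) (@IsOpen.preimage _ _ (constructibleTopology _) (constructibleTopology _) _ hcont _ h1) (@IsOpen.preimage _ _ (constructibleTopology _) (constructibleTopology _) _ hcont _ h2)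
    have e : (Points.ofPt ((yon S).map o ≫ a) ⁻¹' E : Set UO.left) = O.ι ⁻¹' (Points.ofPt a ⁻¹' E) := by
      ext u
      show Points.ofPt _ u ∈ E ↔ Points.ofPt a (o.left u) ∈ E
      rw [ofPt_comp]
    rw [e] at h
    exact h

end Groth.Agent.SpQS
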