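import Groth.Agent.SubDescent.FlatEmb
import Mathlib.AlgebraicGeometry.AlgClosed.Basic
import Mathlib.AlgebraicGeometry.Morphisms.Etale
import Mathlib.AlgebraicGeometry.Morphisms.QuasiFinite
import Groth.Agent.UnivInjMor.MonoUnram
import Mathlib.AlgebraicGeometry.Morphisms.QuasiSeparated

/-!
# Degree of separated etale morphisms and local quasi-compactness
-/

universe u

open CategoryTheory CategoryTheory.Limits AlgebraicGeometry IsLocalRing

set_option backward.isDefEq.respectTransparency false

namespace Groth.Agent.SpQS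

/-- the complement of the diagonal in the self product -/
noncomputable def offDiag {R U : Scheme.{u}} (s : R ⟶ U) : (pullback s s).Opens :=
  ⟨(closure (Set.range (pullback.diagonal s)))ᶜ, isClosed_closure.isOpen_compl⟩

/-- the first projection off the diagonal -/
noncomputable abbrev offDiagFst {R U : Scheme.{u}} (s : R ⟶ U) : (offDiag s).toScheme ⟶ R :=
  (offDiag s).ι ≫ pullback.fst s s

/-- at most `m` geometric points over `u` -/
def DegLE : ℕ → ∀ {R U : Scheme.{u}}, (R ⟶ U) → U → Prop
  | 0, _, _, s, u => ∀ r, s r ≠ u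
  | m + 1, _, _, s, u => ∀ r, s r = u → DegLE m (offDiagFst s) r

theorem DegLE.succ : ∀ {m : ℕ} {R U : Scheme.{u}} {s : R ⟶ U} {u : U}, DegLE m s u → DegLE (m + 1) s u
  | 0, _, _, _, _, h => fun r hr => absurd hr (h r)
  | _ + 1, _, _, _, _, h => fun r hr => DegLE.succ (h r hr)

theorem isOpen_not_degLE : ∀ (m : ℕ) {R U : Scheme.{u}} (s : R ⟶ U) [Etale s], IsOpen {u | ¬ DegLE m s u}
  | 0, _, _, s, _ => by
    have : {u | ¬ DegLE 0 s u} = Set.range s := by
      ext u
      simp [DegLE]
    rw [this]
    exact s.isOpenMap.isOpen_range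
  | m + 1, _, _, s, _ => by
    have : {u | ¬ DegLE (m + 1) s u} = s '' {r | ¬ DegLE m (offDiagFst s) r} := by
      ext u
      show (¬ ∀ r, s r = u → DegLE m (offDiagFst s) r) ↔ _
      simp only [not_forall, exists_prop, Set.mem_image, Set.mem_setOf_eq, and_comm]
    rw [this]
    exact s.isOpenMap _ (isOpen_not_degLE m (offDiagFst s))

/-- few lifts of a geometric point bound the degree -/
theorem degLE_of_lifts : ∀ (m : ℕ) {R U : Scheme.{u}} (s : R ⟶ U) [Etale s] [IsSeparated s] {Ω : Type u}
    [Field Ω] [IsAlgClosed Ω] (g : Spec (CommRingCat.of Ω) ⟶ U),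
    {t : Spec (CommRingCat.of Ω) ⟶ R | t ≫ s = g}.Finite →
      {t : Spec (CommRingCat.of Ω) ⟶ R | t ≫ s = g}.ncard ≤ m → DegLE m s (g (closedPoint Ω)) := by
  intro m
  induction m with
  | zero =>
    intro R U s _ _ Ω _ _ g hfin hcard r hr
    obtain ⟨z, hz, -⟩ := Scheme.Pullback.exists_preimage_pullback (f := s) (g := g) r (closedPoint Ω) hr
    have : Etale (pullback.snd s g) := inferInstance
    have : LocallyQuasiFinite (pullback.snd s g) := UnivInjMor.lqf_of_unramified _
    have hzc : IsClosed ({z} : Set ↥(pullback s g)) := by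
      have hd := (pullback.snd s g).isDiscrete_preimage_singleton (closedPoint Ω)
      rw [show pullback.snd s g ⁻¹' {closedPoint Ω} = Set.univ from
        Set.eq_univ_of_forall fun _ => Subsingleton.elim (α := PrimeSpectrum Ω) _ _] at hd
      have : DiscreteTopology ↥(Set.univ : Set ↥(pullback s g)) := isDiscrete_iff_discreteTopology.1 hd
      have : DiscreteTopology ↥(pullback s g) :=
        (Homeomorph.Set.univ _).symm.isEmbedding.discreteTopology
      exact isClosed_discrete _
    have := (Set.ncard_eq_zero hfin).1 (Nat.le_zero.1 hcard)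
    exact Set.eq_empty_iff_forall_notMem.1 this (pointOfClosedPoint (pullback.snd s g) z hzc ≫ pullback.fst s g) (by
      show (_ ≫ _) ≫ s = g
      rw [Category.assoc, pullback.condition, pointOfClosedPoint_comp_assoc])
  | succ m ih =>
    intro R U s _ _ Ω _ _ g hfin hcard r hr
    obtain ⟨z, hz, -⟩ := Scheme.Pullback.exists_preimage_pullback (f := s) (g := g) r (closedPoint Ω) hr
    have : LocallyQuasiFinite (pullback.snd s g) := UnivInjMor.lqf_of_unramified _
    have hzc : IsClosed ({z} : Set ↥(pullback s g)) := by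
      have hd := (pullback.snd s g).isDiscrete_preimage_singleton (closedPoint Ω)
      rw [show pullback.snd s g ⁻¹' {closedPoint Ω} = Set.univ from
        Set.eq_univ_of_forall fun _ => Subsingleton.elim (α := PrimeSpectrum Ω) _ _] at hd
      have : DiscreteTopology ↥(Set.univ : Set ↥(pullback s g)) := isDiscrete_iff_discreteTopology.1 hd
      have : DiscreteTopology ↥(pullback s g) :=
        (Homeomorph.Set.univ _).symm.isEmbedding.discreteTopology
      exact isClosed_discrete _
    let t := pointOfClosedPoint (pullback.snd s g) z hzc ≫ pullback.fst s g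
    have ht : t ≫ s = g := by
      show (_ ≫ _) ≫ s = g
      rw [Category.assoc, pullback.condition, pointOfClosedPoint_comp_assoc]
    have htr : t (closedPoint Ω) = r := by
      show (pointOfClosedPoint (pullback.snd s g) z hzc ≫ pullback.fst s g) (closedPoint Ω) = r
      rw [Scheme.Hom.comp_apply, pointOfClosedPoint_apply, hz]
    rw [← htr]
    let F := {t' : Spec (CommRingCat.of Ω) ⟶ R | t' ≫ s = g}
    let F' := {t' : Spec (CommRingCat.of Ω) ⟶ (offDiag s).toScheme | t' ≫ offDiagFst s = t}
    let φ : (Spec (CommRingCat.of Ω) ⟶ (offDiag s).toScheme) → (Spec (CommRingCat.of Ω) ⟶ R) :=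
      fun t' => t' ≫ (offDiag s).ι ≫ pullback.snd s s
    have hmap : ∀ t' ∈ F', φ t' ∈ F \ {t} := by
      intro t' ht'
      have ht'' : t' ≫ (offDiag s).ι ≫ pullback.fst s s = t := ht'
      refine ⟨?_, fun e => ?_⟩
      · show (t' ≫ _ ≫ _) ≫ s = g
        rw [Category.assoc, Category.assoc, ← pullback.condition, ← ht, ← ht'', Category.assoc, Category.assoc]
      · have e' : t' ≫ (offDiag s).ι = t ≫ pullback.diagonal s := by
          apply pullback.hom_ext
          · simpa using ht''
          · simpa using e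
        have hm : (offDiag s).ι (t' (closedPoint Ω)) ∈ Set.range (pullback.diagonal s) :=
          ⟨t (closedPoint Ω), by rw [← Scheme.Hom.comp_apply, ← e', Scheme.Hom.comp_apply]⟩
        exact (t' (closedPoint Ω)).2 (subset_closure hm)
    have hinj : Set.InjOn φ F' := fun a ha b hb e => (cancel_mono (offDiag s).ι).1 (by
      apply pullback.hom_ext
      · rw [Category.assoc, Category.assoc]; exact ha.trans hb.symm
      · rw [Category.assoc, Category.assoc]; exact e)
    have hfin' : F'.Finite := ((hfin.sdiff (t := {t})).subset (Set.image_subset_iff.2 hmap)).of_finite_image hinj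
    refine ih (offDiagFst s) t hfin' ?_
    have h1 : F'.ncard ≤ (F \ {t}).ncard := Set.ncard_le_ncard_of_injOn φ hmap hinj hfin.sdiff
    have h2 : (F \ {t}).ncard + 1 = F.ncard := Set.ncard_diff_singleton_add_one ht hfin
    show F'.ncard ≤ m
    have h3 : F.ncard ≤ m + 1 := hcard
    omega

/-- a compact self-base-change bounds the degree -/
theorem exists_degLE {R U : Scheme.{u}} (s : R ⟶ U) [Etale s] [IsSeparated s] {Ω : Type u} [Field Ω]
    [IsAlgClosed Ω] (g : Spec (CommRingCat.of Ω) ⟶ U) [CompactSpace ↥(pullback s g)] :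
    ∃ m, DegLE m s (g (closedPoint Ω)) := by
  have : LocallyQuasiFinite (pullback.snd s g) := UnivInjMor.lqf_of_unramified _
  have : QuasiCompact (pullback.snd s g) := HasAffineProperty.iff_of_isAffine.mpr ‹_›
  have hpts : (Set.univ : Set ↥(pullback s g)).Finite :=
    ((pullback.snd s g).finite_preimage_singleton (closedPoint Ω)).subset fun v _ =>
      Subsingleton.elim (α := PrimeSpectrum Ω) _ _
  let F := {t : Spec (CommRingCat.of Ω) ⟶ R | t ≫ s = g}
  have hF : F.Finite := by
    have hsub : ∀ t ∈ F, t ≫ s = 𝟙 _ ≫ g := fun t ht => ht.trans (Category.id_comp g).symm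
    have : Finite ↥(pullback s g) := Set.finite_univ_iff.1 hpts
    refine Set.finite_coe_iff.1 (Finite.of_injective
      (fun t : F => pullback.lift t.1 (𝟙 _) (hsub t.1 t.2) (closedPoint Ω)) fun a b e => ?_)
    have := ext_of_apply_closedPoint_eq (pullback.snd s g) (pullback.lift_snd a.1 (𝟙 _) (hsub a.1 a.2))
      (pullback.lift_snd b.1 (𝟙 _) (hsub b.1 b.2)) e
    exact Subtype.ext (by simpa using congrArg (fun k => k ≫ pullback.fst s g) this)
  exact ⟨_, degLE_of_lifts _ s g hF le_rfl⟩

/-- over a stratum of constant degree a separated etale morphism is locally quasi-compact -/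
theorem exists_compact_preimage : ∀ (m : ℕ) {R U : Scheme.{u}} (s : R ⟶ U) [Etale s] [IsSeparated s]
    [QuasiSeparatedSpace U] {C : Set U}, IsClosed C → ∀ (W : U.Opens), (∀ v ∈ W, v ∈ C → DegLE m s v) →
      ∀ u ∈ W, u ∈ C → (∀ k, m = k + 1 → ¬ DegLE k s u) →
        ∃ V₀ : U.Opens, u ∈ V₀ ∧ ∀ V : U.Opens, IsCompact (V : Set U) → V ≤ V₀ →
          IsCompact (s ⁻¹' ((V : Set U) ∩ C)) := by
  intro m
  induction m with
  | zero =>
    intro R U s _ _ _ C _ W hW u hu _ _
    refine ⟨W, hu, fun V _ hVW => ?_⟩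
    rw [show s ⁻¹' ((V : Set U) ∩ C) = ∅ from
      Set.eq_empty_of_forall_notMem fun r hr => hW _ (hVW hr.1) hr.2 r rfl]
    exact isCompact_empty
  | succ m ih =>
    intro R U s _ _ _ C hC W hW u hu huC hmax
    obtain ⟨r, hr, hrm⟩ : ∃ r, s r = u ∧ ∀ k, m = k + 1 → ¬ DegLE k (offDiagFst s) r := by
      have h := hmax m rfl
      cases m with
      | zero =>
        obtain ⟨r, hr⟩ : ∃ r, s r = u := by simpa [DegLE] using h
        exact ⟨r, hr, fun k hk => absurd hk (by omega)⟩
      | succ j =>
        obtain ⟨r, hr, hrd⟩ : ∃ r, s r = u ∧ ¬ DegLE j (offDiagFst s) r := by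
          by_contra hno
          push Not at hno
          exact h hno
        exact ⟨r, hr, fun k hk => by cases hk; exact hrd⟩
    have : QuasiSeparated s := inferInstance
    have : QuasiSeparatedSpace R := quasiSeparatedSpace_of_quasiSeparated s
    obtain ⟨W₀, hrW₀, hW₀⟩ := ih (offDiagFst s) (hC.preimage s.continuous) (s ⁻¹ᵁ W)
      (fun r' hr' hr'C => hW (s r') hr' hr'C r' rfl) r (show s r ∈ W from hr ▸ hu)
      (show s r ∈ C from hr ▸ huC) hrm
    obtain ⟨A, hA, hrA, hAW⟩ := exists_isAffineOpen_mem_and_subset hrW₀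
    refine ⟨⟨s '' (A : Set R), s.isOpenMap _ A.2⟩, ⟨r, hrA, hr⟩, fun V hV hVA => ?_⟩
    let B : R.Opens := A ⊓ s ⁻¹ᵁ V
    have hB : IsCompact (B : Set R) := by
      have : CompactSpace A.toScheme := isCompact_iff_compactSpace.1 hA.isCompact
      have h := (A.ι ≫ s).isCompact_preimage hV
      have h' := h.image A.ι.continuous
      rw [Scheme.Hom.coe_preimage, show ((A.ι ≫ s) ⁻¹' (V : Set U)) = A.ι ⁻¹' (s ⁻¹' V) from rfl,
        Set.image_preimage_eq_inter_range, Scheme.Opens.range_ι] at h'
      rw [show (B : Set R) = s ⁻¹' V ∩ (A : Set R) from Set.inter_comm _ _]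
      exact h'
    have hK := hW₀ B hB (fun x hx => hAW hx.1)
    have hset : s ⁻¹' ((V : Set U) ∩ C) = ((B : Set R) ∩ s ⁻¹' C) ∪ ((offDiag s).ι ≫ pullback.snd s s) ''
        (offDiagFst s ⁻¹' ((B : Set R) ∩ s ⁻¹' C)) := by
      have hcl : IsClosed (Set.range (pullback.diagonal s)) := (pullback.diagonal s).isClosedEmbedding.isClosed_range
      ext x
      constructor
      · rintro ⟨hxV, hxC⟩
        obtain ⟨r₁, hr₁, e⟩ := hVA hxV
        obtain ⟨z, hz₁, hz₂⟩ := Scheme.Pullback.exists_preimage_pullback (f := s) (g := s) r₁ x e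
        by_cases hz : z ∈ Set.range (pullback.diagonal s)
        · obtain ⟨d, rfl⟩ := hz
          have e1 : pullback.fst s s (pullback.diagonal s d) = d := by
            rw [← Scheme.Hom.comp_apply, pullback.diagonal_fst]; rfl
          have e2 : pullback.snd s s (pullback.diagonal s d) = d := by
            rw [← Scheme.Hom.comp_apply, pullback.diagonal_snd]; rfl
          rw [e1] at hz₁
          rw [e2] at hz₂
          subst hz₁ hz₂
          exact Or.inl ⟨⟨hr₁, hxV⟩, hxC⟩
        · refine Or.inr ⟨(⟨z, fun h => hz (hcl.closure_eq ▸ h)⟩ : ↥(offDiag s)), ⟨⟨?_, ?_⟩, ?_⟩, hz₂⟩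
          · show pullback.fst s s z ∈ A
            rw [hz₁]; exact hr₁
          · show s (pullback.fst s s z) ∈ V
            rw [hz₁, e]; exact hxV
          · show s (pullback.fst s s z) ∈ C
            rw [hz₁, e]; exact hxC
      · rintro (⟨⟨-, hxV⟩, hxC⟩ | ⟨z, ⟨⟨-, hzV⟩, hzC⟩, rfl⟩)
        · exact ⟨hxV, hxC⟩
        · have e : s (offDiagFst s z) = s (((offDiag s).ι ≫ pullback.snd s s) z) := by
            rw [← Scheme.Hom.comp_apply, ← Scheme.Hom.comp_apply, Category.assoc, Category.assoc, pullback.condition]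
          exact ⟨e ▸ hzV, Set.mem_of_eq_of_mem e.symm hzC⟩
    rw [hset]
    exact (hB.inter_right (hC.preimage s.continuous)).union (hK.image (Scheme.Hom.continuous _))

end Groth.Agent.SpQS
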