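import Groth.Agent.SpQS.Sober
import Groth.Agent.FpqcDescent.Props
import Mathlib.AlgebraicGeometry.Morphisms.Finite

/-!
# Separated quasi-compact etale morphisms of constant degree are finite
-/

universe u

open CategoryTheory CategoryTheory.Limits AlgebraicGeometry IsLocalRing

set_option backward.isDefEq.respectTransparency false

namespace Groth.Agent.SpQS

theorem DegLE.mono {m k : ℕ} (hk : k ≤ m) {R U : Scheme.{u}} {s : R ⟶ U} {u : U} (h : DegLE k s u) :
    DegLE m s u := by
  induction hk with
  | refl => exact h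
  | step _ ih => exact ih.succ

/-- the second projection off the diagonal -/
noncomputable abbrev offDiagSnd {R U : Scheme.{u}} (s : R ⟶ U) : (offDiag s).toScheme ⟶ R :=
  (offDiag s).ι ≫ pullback.snd s s

theorem lifts_subset {R U : Scheme.{u}} (s : R ⟶ U) [Etale s] [IsSeparated s] {Ω : Type u} [Field Ω]
    {g : Spec (CommRingCat.of Ω) ⟶ U} {t : Spec (CommRingCat.of Ω) ⟶ R} (ht : t ≫ s = g) :
    {t' : Spec (CommRingCat.of Ω) ⟶ R | t' ≫ s = g} ⊆
      insert t ((fun x => x ≫ offDiagSnd s) '' {x | x ≫ offDiagFst s = t}) := by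
  intro t' ht'
  let z := pullback.lift t t' (ht.trans ht'.symm)
  by_cases hz : z (closedPoint Ω) ∈ Set.range (pullback.diagonal s)
  · refine Or.inl ?_
    have : Subsingleton ↥(Spec (CommRingCat.of Ω)) := inferInstanceAs (Subsingleton (PrimeSpectrum Ω))
    have hr : Set.range z ⊆ Set.range (pullback.diagonal s) := by
      rintro _ ⟨w, rfl⟩
      rwa [Subsingleton.elim w (closedPoint Ω)]
    have e := IsOpenImmersion.lift_fac (pullback.diagonal s) z hr
    have e1 : IsOpenImmersion.lift (pullback.diagonal s) z hr = t := by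
      have := congrArg (fun k => k ≫ pullback.fst s s) e
      rwa [Category.assoc, pullback.diagonal_fst, Category.comp_id, pullback.lift_fst] at this
    have e2 : IsOpenImmersion.lift (pullback.diagonal s) z hr = t' := by
      have := congrArg (fun k => k ≫ pullback.snd s s) e
      rwa [Category.assoc, pullback.diagonal_snd, Category.comp_id, pullback.lift_snd] at this
    exact e2.symm.trans e1
  · have hcl : IsClosed (Set.range (pullback.diagonal s)) :=
      (pullback.diagonal s).isClosedEmbedding.isClosed_range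
    have hr : Set.range z ⊆ Set.range (offDiag s).ι := by
      rw [Scheme.Opens.range_ι]
      rintro _ ⟨w, rfl⟩
      rw [Subsingleton.elim (α := PrimeSpectrum Ω) w (closedPoint Ω)]
      exact fun h => hz (hcl.closure_eq ▸ h)
    have e := IsOpenImmersion.lift_fac (offDiag s).ι z hr
    refine Or.inr ⟨IsOpenImmersion.lift (offDiag s).ι z hr, ?_, ?_⟩
    · show _ ≫ _ ≫ pullback.fst s s = t
      rw [reassoc_of% e]
      exact pullback.lift_fst _ _ _
    · show _ ≫ _ ≫ pullback.snd s s = t'
      rw [reassoc_of% e]
      exact pullback.lift_snd _ _ _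

/-- a degree bound bounds the lifts of geometric points -/
theorem lifts_le_of_degLE : ∀ (m : ℕ) {R U : Scheme.{u}} (s : R ⟶ U) [Etale s] [IsSeparated s] {Ω : Type u}
    [Field Ω] (g : Spec (CommRingCat.of Ω) ⟶ U), DegLE m s (g (closedPoint Ω)) →
      {t : Spec (CommRingCat.of Ω) ⟶ R | t ≫ s = g}.Finite ∧
        {t : Spec (CommRingCat.of Ω) ⟶ R | t ≫ s = g}.ncard ≤ m := by
  intro m
  induction m with
  | zero =>
    intro R U s _ _ Ω _ g h
    have : {t : Spec (CommRingCat.of Ω) ⟶ R | t ≫ s = g} = ∅ := Set.eq_empty_of_forall_notMem fun t ht =>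
      h (t (closedPoint Ω)) (by rw [← Scheme.Hom.comp_apply, show t ≫ s = g from ht])
    rw [this]
    exact ⟨Set.finite_empty, by simp⟩
  | succ m ih =>
    intro R U s _ _ Ω _ g h
    rcases Set.eq_empty_or_nonempty {t : Spec (CommRingCat.of Ω) ⟶ R | t ≫ s = g} with e | ⟨t, ht⟩
    · rw [e]
      exact ⟨Set.finite_empty, by simp⟩
    obtain ⟨hf, hc⟩ := ih (offDiagFst s) t (h (t (closedPoint Ω)) (by
      rw [← Scheme.Hom.comp_apply, show t ≫ s = g from ht]))
    have hf' := (hf.image (fun x => x ≫ offDiagSnd s)).insert t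
    refine ⟨hf'.subset (lifts_subset s ht), (Set.ncard_le_ncard (lifts_subset s ht) hf').trans
      ((Set.ncard_insert_le _ _).trans ?_)⟩
    exact Nat.succ_le_succ ((Set.ncard_image_le hf).trans hc)

/-- the degree is invariant under base change -/
theorem degLE_iff_of_isPullback {R U P T : Scheme.{u}} {s : R ⟶ U} [Etale s] [IsSeparated s] {fst : P ⟶ R}
    {snd : P ⟶ T} {h : T ⟶ U} (sq : IsPullback fst snd s h) (m : ℕ) (z : T) :
    DegLE m snd z ↔ DegLE m s (h z) := by
  have : Etale snd := MorphismProperty.of_isPullback (P := @Etale) sq ‹_›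
  have : IsSeparated snd := MorphismProperty.of_isPullback (P := @IsSeparated) sq ‹_›
  obtain ⟨Ω, _, _, g, rfl⟩ := exists_geomPoint z
  let F' := {t : Spec (CommRingCat.of Ω) ⟶ P | t ≫ snd = g}
  let F := {t : Spec (CommRingCat.of Ω) ⟶ R | t ≫ s = g ≫ h}
  have himg : (fun t => t ≫ fst) '' F' = F := by
    ext t
    constructor
    · rintro ⟨x, hx, rfl⟩
      show (x ≫ fst) ≫ s = g ≫ h
      rw [Category.assoc, sq.w, reassoc_of% (show x ≫ snd = g from hx)]
    · intro ht
      exact ⟨sq.lift t g ht, sq.lift_snd _ _ _, sq.lift_fst _ _ _⟩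
  have hinj : Set.InjOn (fun t => t ≫ fst) F' := fun a ha b hb e => sq.hom_ext e (ha.trans hb.symm)
  have hn : F.ncard = F'.ncard := by rw [← himg, hinj.ncard_image]
  rw [← Scheme.Hom.comp_apply]
  constructor
  · intro hd
    obtain ⟨hf, hc⟩ := lifts_le_of_degLE m snd g hd
    exact degLE_of_lifts m s (g ≫ h) (by show F.Finite; rw [← himg]; exact hf.image _)
      (show F.ncard ≤ m by rw [hn]; exact hc)
  · intro hd
    obtain ⟨hf, hc⟩ := lifts_le_of_degLE m s (g ≫ h) hd
    exact degLE_of_lifts m snd g (by
      show F'.Finite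
      exact Set.Finite.of_finite_image (by rw [himg]; exact hf) hinj)
      (show F'.ncard ≤ m by rw [← hn]; exact hc)

/-- separated quasi-compact etale morphisms of constant degree are finite -/
theorem isFinite_of_degree : ∀ (m : ℕ) {R U : Scheme.{u}} (s : R ⟶ U) [Etale s] [IsSeparated s] [QuasiCompact s],
    (∀ u, DegLE m s u) → (∀ u k, m = k + 1 → ¬ DegLE k s u) → IsFinite s := by
  intro m
  induction m with
  | zero =>
    intro R U s _ _ _ h _
    have : IsEmpty R := ⟨fun r => h (s r) r rfl⟩
    have : IsClosedImmersion s :=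
      IsClosedImmersion.of_isPreimmersion s (by rw [Set.range_eq_empty]; exact isClosed_empty)
    infer_instance
  | succ m ih =>
    intro R U s _ _ _ h hmin
    have hcl : IsClosed (Set.range (pullback.diagonal s)) :=
      (pullback.diagonal s).isClosedEmbedding.isClosed_range
    have hrange : Set.range (offDiag s).ι = (Set.range (pullback.diagonal s))ᶜ := by
      rw [Scheme.Opens.range_ι]
      show (closure _)ᶜ = _
      rw [hcl.closure_eq]
    have : IsClosedImmersion (offDiag s).ι := IsClosedImmersion.of_isPreimmersion _ (by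
      rw [hrange]
      exact (pullback.diagonal s).isOpenEmbedding.isOpen_range.isClosed_compl)
    have : Etale (offDiagFst s) := inferInstance
    have : IsSeparated (offDiagFst s) := inferInstance
    have : QuasiCompact (offDiagFst s) := inferInstance
    have hfin : IsFinite (offDiagFst s) := ih (offDiagFst s) (fun r => h (s r) r rfl) fun r k hk hd => by
      subst hk
      refine hmin (s r) (k + 1) rfl ?_
      obtain ⟨Ω, _, _, t, ht⟩ := exists_geomPoint r
      obtain ⟨hf, hc⟩ := lifts_le_of_degLE k (offDiagFst s) t (by rw [ht]; exact hd)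
      have hf' := (hf.image (fun x => x ≫ offDiagSnd s)).insert t
      have := degLE_of_lifts (k + 1) s (t ≫ s) (hf'.subset (lifts_subset s rfl))
        ((Set.ncard_le_ncard (lifts_subset s rfl) hf').trans ((Set.ncard_insert_le _ _).trans
          (Nat.succ_le_succ ((Set.ncard_image_le hf).trans hc))))
      rwa [Scheme.Hom.comp_apply, ht] at this
    obtain ⟨hcol⟩ := nonempty_isColimit_binaryCofanMk_of_isCompl (pullback.diagonal s) (offDiag s).ι (by
      rw [isCompl_iff, disjoint_iff, codisjoint_iff, ← TopologicalSpace.Opens.coe_inj,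
        ← TopologicalSpace.Opens.coe_inj]
      simp only [TopologicalSpace.Opens.coe_inf, TopologicalSpace.Opens.coe_sup, Scheme.Hom.coe_opensRange,
        TopologicalSpace.Opens.coe_bot, TopologicalSpace.Opens.coe_top, hrange]
      exact ⟨Set.inter_compl_self _, Set.union_compl_self _⟩)
    let e := (coprodIsCoprod R (offDiag s).toScheme).coconePointUniqueUpToIso hcol
    have he : e.hom ≫ pullback.fst s s = coprod.desc (𝟙 R) (offDiagFst s) := by
      apply coprod.hom_ext
      · rw [coprod.inl_desc, ← Category.assoc]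
        have h1 : coprod.inl ≫ e.hom = pullback.diagonal s :=
          (coprodIsCoprod R _).comp_coconePointUniqueUpToIso_hom hcol ⟨WalkingPair.left⟩
        rw [h1, pullback.diagonal_fst]
      · rw [coprod.inr_desc, ← Category.assoc]
        have h1 : coprod.inr ≫ e.hom = (offDiag s).ι :=
          (coprodIsCoprod R _).comp_coconePointUniqueUpToIso_hom hcol ⟨WalkingPair.right⟩
        rw [h1]
    have hfst : IsFinite (pullback.fst s s) := by
      rw [← MorphismProperty.cancel_left_of_respectsIso (P := @IsFinite) e.hom, he]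
      infer_instance
    have : Surjective s := ⟨fun u => by
      by_contra hno
      push Not at hno
      exact hmin u m rfl (DegLE.mono (Nat.zero_le m) (fun r => hno r))⟩
    exact MorphismProperty.of_isPullback_of_descendsAlong (Q := @Surjective ⊓ @Flat ⊓ @QuasiCompact)
      (IsPullback.of_hasPullback s s) ⟨⟨‹_›, inferInstance⟩, ‹_›⟩ hfst

end Groth.Agent.SpQS
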