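import Groth.Agent.SpQS.QFAt
import Groth.Agent.SpQS.GenPts
import Mathlib.AlgebraicGeometry.ZariskisMainTheorem

/-!
# Finiteness near maximal points with quasi-finite fibre
-/

universe u

open CategoryTheory CategoryTheory.Limits AlgebraicGeometry Opposite IsLocalRing Topology TensorProduct

set_option backward.isDefEq.respectTransparency false

namespace Groth.Agent.SpQS

/-- finite type algebras over zero dimensional local rings with finitely many primes are integral -/
theorem isIntegral_of_local_dim_zero {R T : Type u} [CommRing R] [CommRing T] [Algebra R T] [IsLocalRing R]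
    (hnil : ∀ q : Ideal R, q.IsPrime → q = maximalIdeal R) [Algebra.QuasiFinite R T] :
    Algebra.IsIntegral R T := by
  refine ⟨fun b => ?_⟩
  let P := maximalIdeal R
  let : Field (R ⧸ P) := Ideal.Quotient.field P
  have : Algebra.QuasiFinite (R ⧸ P) ((R ⧸ P) ⊗[R] T) := inferInstance
  have : Module.Finite (R ⧸ P) ((R ⧸ P) ⊗[R] T) := Module.Finite.of_quasiFinite
  obtain ⟨q₀, hq₀, hb⟩ := Algebra.IsIntegral.isIntegral (R := R ⧸ P) ((1 : R ⧸ P) ⊗ₜ[R] b)
  obtain ⟨q, hq, -, hqm⟩ := Polynomial.lifts_and_natDegree_eq_and_monic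
    (Polynomial.map_surjective _ Ideal.Quotient.mk_surjective q₀) hq₀
  have h0 : (1 : R ⧸ P) ⊗ₜ[R] (Polynomial.aeval b q) = 0 := by
    have h := Polynomial.aeval_algHom_apply (Algebra.TensorProduct.includeRight : T →ₐ[R] (R ⧸ P) ⊗[R] T) b q
    rw [Algebra.TensorProduct.includeRight_apply, Algebra.TensorProduct.includeRight_apply] at h
    rw [← h, ← hb, ← hq, ← Polynomial.aeval_def]
    exact (Polynomial.aeval_map_algebraMap (R ⧸ P) _ q).symm
  have hmem : Polynomial.aeval b q ∈ P.map (algebraMap R T) := by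
    let e := Algebra.TensorProduct.quotIdealMapEquivTensorQuot T P
    rw [← Ideal.Quotient.eq_zero_iff_mem]
    refine e.injective ?_
    rw [map_zero, show e (Ideal.Quotient.mk _ (Polynomial.aeval b q)) = Polynomial.aeval b q ⊗ₜ[R] (1 : R ⧸ P) from
      Algebra.TensorProduct.quotIdealMapEquivTensorQuot_mk _ _ _]
    simpa using congrArg (Algebra.TensorProduct.comm R (R ⧸ P) T) h0
  have hle : P.map (algebraMap R T) ≤ nilradical T := by
    rw [Ideal.map_le_iff_le_comap]
    intro r hr
    refine IsNilpotent.map ?_ _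
    rw [← mem_nilradical, nilradical_eq_sInf]
    exact Submodule.mem_sInf.2 fun q hq => (hnil q hq) ▸ hr
  obtain ⟨n, hn⟩ := hle hmem
  exact ⟨q ^ n, hqm.pow n, by rw [← Polynomial.aeval_def, map_pow, hn]⟩

/-- multiples integral over the base, at a minimal prime with finite fibre -/
theorem exists_isIntegral_smul {A B : Type u} [CommRing A] [CommRing B] [Algebra A B] [Algebra.FiniteType A B]
    (P : PrimeSpectrum A) (hmin : ∀ q : PrimeSpectrum A, q ≤ P → q = P)
    (hfin : (PrimeSpectrum.comap (algebraMap A B) ⁻¹' {P}).Finite) (x : B) :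
    ∃ m ∈ P.asIdeal.primeCompl, IsIntegral A (m • x) := by
  let M := P.asIdeal.primeCompl
  let Ap := Localization.AtPrime P.asIdeal
  let Bp := Localization (Algebra.algebraMapSubmonoid B M)
  have : IsLocalization (M.map (algebraMap A B)) Bp :=
    inferInstanceAs (IsLocalization (Algebra.algebraMapSubmonoid B M) Bp)
  have hft : Algebra.FiniteType Ap Bp := RingHom.finiteType_algebraMap.1 (by
    have := RingHom.finiteType_localizationPreserves (algebraMap A B) M Ap Bp
      (RingHom.finiteType_algebraMap.2 inferInstance)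
    convert this using 1
    exact IsLocalization.ringHom_ext M (by rw [IsLocalization.map_comp, ← IsScalarTower.algebraMap_eq,
      ← IsScalarTower.algebraMap_eq]))
  have hmax : ∀ q : Ideal Ap, q.IsPrime → q = maximalIdeal Ap := fun q hq => by
    have h1 : (q.comap (algebraMap A Ap)) ≤ P.asIdeal := by
      refine le_trans (Ideal.comap_mono (IsLocalRing.le_maximalIdeal hq.ne_top)) (le_of_eq ?_)
      exact Localization.AtPrime.comap_maximalIdeal
    have h2 : q.comap (algebraMap A Ap) = P.asIdeal :=
      congrArg PrimeSpectrum.asIdeal (hmin ⟨_, Ideal.comap_isPrime _ _⟩ h1)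
    have h3 := congrArg (Ideal.map (algebraMap A Ap)) h2
    rw [IsLocalization.map_under M] at h3
    rw [h3, Localization.AtPrime.map_eq_maximalIdeal]
  have : Algebra.QuasiFinite Ap Bp := by
    refine Algebra.QuasiFinite.iff_finite_comap_preimage_singleton.2 fun Q => ?_
    refine Set.Finite.of_finite_image (f := PrimeSpectrum.comap (algebraMap B Bp)) (hfin.subset ?_)
      (PrimeSpectrum.localization_comap_injective Bp (Algebra.algebraMapSubmonoid B M)).injOn
    rintro _ ⟨y, hy, rfl⟩
    rw [Set.mem_preimage, Set.mem_singleton_iff, ← PrimeSpectrum.comap_comp_apply, ← IsScalarTower.algebraMap_eq,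
      IsScalarTower.algebraMap_eq A Ap Bp, PrimeSpectrum.comap_comp_apply, Set.mem_singleton_iff.1 hy]
    refine hmin _ ?_
    show Q.asIdeal.comap (algebraMap A Ap) ≤ P.asIdeal
    rw [hmax _ Q.2]
    exact le_of_eq Localization.AtPrime.comap_maximalIdeal
  have := isIntegral_of_local_dim_zero (T := Bp) hmax
  obtain ⟨m, hm⟩ := IsIntegral.exists_multiple_integral_of_isLocalization M (algebraMap B Bp x)
    (Algebra.IsIntegral.isIntegral (R := Ap) _)
  rw [Submonoid.smul_def, ← IsScalarTower.algebraMap_smul B, Algebra.smul_def, ← map_mul] at hm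
  obtain ⟨m', hm', h⟩ := IsLocalization.exists_isIntegral_smul_of_isIntegral_map M hm
  exact ⟨m' * m, M.mul_mem hm' m.2, by rwa [mul_smul, Algebra.smul_def (m : A) x]⟩

/-- a finite type algebra becomes finite near a minimal prime with finite fibre -/
theorem exists_finite_away {A B : Type u} [CommRing A] [CommRing B] [Algebra A B] [Algebra.FiniteType A B]
    (P : PrimeSpectrum A) (hmin : ∀ q : PrimeSpectrum A, q ≤ P → q = P)
    (hfin : (PrimeSpectrum.comap (algebraMap A B) ⁻¹' {P}).Finite) :
    ∃ f ∉ P.asIdeal, (IsLocalization.Away.map (Localization.Away f) (Localization.Away (algebraMap A B f))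
      (algebraMap A B) f).Finite := by
  classical
  obtain ⟨s, hs⟩ := (inferInstance : Algebra.FiniteType A B).out
  choose m hm hint using exists_isIntegral_smul P hmin hfin
  refine ⟨∏ x ∈ s, m x, fun h => ?_, ?_⟩
  · obtain ⟨x, -, hx⟩ := (Ideal.IsPrime.prod_mem_iff (p := P.asIdeal)).1 h
    exact hm x hx
  let f := ∏ x ∈ s, m x
  let Af := Localization.Away f
  let Bf := Localization.Away (algebraMap A B f)
  let φ := IsLocalization.Away.map Af Bf (algebraMap A B) f
  let := φ.toAlgebra
  let : Algebra A Bf := inferInstance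
  have hst : IsScalarTower A Af Bf := IsScalarTower.of_algebraMap_eq fun a => by
    show _ = φ (algebraMap A Af a)
    rw [IsScalarTower.algebraMap_apply A B Bf]
    exact (IsLocalization.map_eq _ a).symm
  have hft : φ.FiniteType := RingHom.localization_away_map_finiteType A B Af Bf (algebraMap A B) f
    (RingHom.finiteType_algebraMap.2 inferInstance)
  refine RingHom.IsIntegral.to_finite (fun y => ?_) hft
  show IsIntegral Af y
  have hB : ∀ b : B, IsIntegral Af (algebraMap B Bf b) := fun b => by
    have hb : b ∈ Algebra.adjoin A (s : Set B) := hs ▸ trivial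
    induction hb using Algebra.adjoin_induction with
    | mem x hx =>
      have hu : IsUnit (algebraMap A Af (m x)) :=
        isUnit_of_dvd_unit (map_dvd _ (Finset.dvd_prod_of_mem m hx)) (IsLocalization.Away.algebraMap_isUnit f)
      have h1 : IsIntegral A (algebraMap B Bf (m x • x)) := (hint x).map (IsScalarTower.toAlgHom A B Bf)
      have h2 := h1.tower_top (A := Af)
      obtain ⟨u, hu'⟩ := hu
      have h3 := h2.smul (↑u⁻¹ : Af)
      rwa [show algebraMap B Bf (m x • x) = (u : Af) • algebraMap B Bf x by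
        rw [hu', IsScalarTower.algebraMap_smul, Algebra.smul_def (m x) x, map_mul,
          ← IsScalarTower.algebraMap_apply, ← Algebra.smul_def],
        ← mul_smul, Units.inv_mul, one_smul] at h3
    | algebraMap a =>
      rw [← IsScalarTower.algebraMap_apply, IsScalarTower.algebraMap_apply A Af Bf]
      exact isIntegral_algebraMap
    | add x y _ _ hx hy => rw [map_add]; exact hx.add hy
    | mul x y _ _ hx hy => rw [map_mul]; exact hx.mul hy
  obtain ⟨⟨b, _, n, rfl⟩, hy⟩ := IsLocalization.surj (Submonoid.powers (algebraMap A B f)) y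
  have hfu : IsUnit (algebraMap A Af f ^ n) := (IsLocalization.Away.algebraMap_isUnit f).pow n
  obtain ⟨u, hu⟩ := hfu
  have h3 := (hB b).smul (↑u⁻¹ : Af)
  have he : algebraMap B Bf b = (u : Af) • y := by
    rw [← hy, hu, ← map_pow (algebraMap A Af), IsScalarTower.algebraMap_smul, Algebra.smul_def,
      IsScalarTower.algebraMap_apply A B Bf, map_pow (algebraMap A B), mul_comm]
  rwa [he, ← mul_smul, Units.inv_mul, one_smul] at h3

theorem finite_preimage_of_qf {W V : Scheme.{u}} (h : W ⟶ V) [LocallyOfFiniteType h] [QuasiCompact h] (v : V)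
    (hq : ∀ w, h w = v → h.QuasiFiniteAt w) : (h ⁻¹' {v}).Finite := by
  have : CompactSpace ↥(h ⁻¹' {v}) := isCompact_iff_compactSpace.1 (h.isCompact_preimage_singleton v)
  have : DiscreteTopology ↥(h ⁻¹' {v}) := discreteTopology_iff_isOpen_singleton.2 fun w => by
    obtain ⟨O, hO, hw, hiso⟩ := (quasiFiniteAt_iff_open h w.1).1 (hq w.1 w.2)
    convert hO.preimage (continuous_subtype_val (p := fun x => x ∈ h ⁻¹' {v})) using 1
    exact Set.Subset.antisymm (Set.singleton_subset_iff.2 hw)
      fun w' hw' => Subtype.ext (hiso w'.1 hw' ((Set.mem_singleton_iff.1 w'.2).trans (Set.mem_singleton_iff.1 w.2).symm))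
  exact Set.finite_coe_iff.1 finite_of_compact_of_discrete

theorem exists_isFinite_restrict_affine {W V : Scheme.{u}} [IsAffine W] [IsAffine V] (h : W ⟶ V)
    [LocallyOfFiniteType h] (v : V) (hv : IsMaxPt v) (hq : ∀ w, h w = v → h.QuasiFiniteAt w) :
    ∃ O : V.Opens, v ∈ O ∧ IsFinite (h ∣_ O) := by
  let A := Γ(V, ⊤)
  let B := Γ(W, ⊤)
  let φ : A ⟶ B := h.appTop
  have hnat : W.isoSpec.hom ≫ Spec.map φ = h ≫ V.isoSpec.hom := Scheme.isoSpec_hom_naturality h
  have : LocallyOfFiniteType (Spec.map φ) := by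
    rw [show Spec.map φ = W.isoSpec.inv ≫ h ≫ V.isoSpec.hom by rw [← hnat, Iso.inv_hom_id_assoc]]
    infer_instance
  have hφ : φ.hom.FiniteType := (HasRingHomProperty.Spec_iff (P := @LocallyOfFiniteType)).1 this
  algebraize [φ.hom]
  let P : PrimeSpectrum A := V.isoSpec.hom v
  have hmin : ∀ q : PrimeSpectrum A, q ≤ P → q = P := fun q hq' => by
    have h1 : V.isoSpec.inv q ⤳ v := by
      have := ((PrimeSpectrum.le_iff_specializes _ _).1 hq').map (V.isoSpec.inv.continuous)
      rwa [show V.isoSpec.inv P = v by rw [← Scheme.Hom.comp_apply, Iso.hom_inv_id]; rfl] at this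
    have h2 := congrArg V.isoSpec.hom (hv _ h1)
    rwa [← Scheme.Hom.comp_apply, Iso.inv_hom_id] at h2
  have hfin : (PrimeSpectrum.comap (algebraMap A B) ⁻¹' {P}).Finite := by
    refine ((finite_preimage_of_qf h v hq).image W.isoSpec.hom).subset fun q hqP => ⟨W.isoSpec.inv q, ?_, ?_⟩
    · refine V.isoSpec.hom.isOpenEmbedding.injective ?_
      rw [← Scheme.Hom.comp_apply, ← hnat, Scheme.Hom.comp_apply]
      refine Eq.trans ?_ (Set.mem_singleton_iff.1 hqP)
      rw [← Scheme.Hom.comp_apply W.isoSpec.inv, Iso.inv_hom_id]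
      rfl
    · rw [← Scheme.Hom.comp_apply, Iso.inv_hom_id]; rfl
  obtain ⟨f, hf, hfinite⟩ := exists_finite_away P hmin hfin
  let Af := Localization.Away f
  let Bf := Localization.Away (algebraMap A B f)
  let ψ : Af →+* Bf := IsLocalization.Away.map Af Bf (algebraMap A B) f
  have : IsLocalization ((Submonoid.powers f).map φ.hom) Bf := by
    rw [Submonoid.map_powers]
    exact inferInstanceAs (IsLocalization.Away (algebraMap A B f) Bf)
  have hpo := CommRingCat.isPushout_of_isLocalization (R := A) (S := B) (Rₘ := Af) (Sₘ := Bf) φ.hom ψ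
    (IsLocalization.map_comp _) (Submonoid.powers f)
  have sq := isPullback_SpecMap_of_isPushout _ _ _ _ hpo
  let g : Spec (CommRingCat.of Af) ⟶ V := Spec.map (CommRingCat.ofHom (algebraMap A Af)) ≫ V.isoSpec.inv
  have : IsOpenImmersion (Spec.map (CommRingCat.ofHom (algebraMap A Af))) := IsOpenImmersion.of_isLocalization f
  have hnat' : W.isoSpec.inv ≫ h = Spec.map φ ≫ V.isoSpec.inv := by
    rw [Iso.inv_comp_eq, reassoc_of% hnat, Iso.hom_inv_id, Category.comp_id]
  have sq' : IsPullback (Spec.map (CommRingCat.ofHom (algebraMap B Bf)) ≫ W.isoSpec.inv) (Spec.map (CommRingCat.ofHom ψ))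
      h g := by
    exact sq.of_iso (Iso.refl _) W.isoSpec.symm (Iso.refl _) V.isoSpec.symm (by simp) (by simp)
      (by simpa using hnat'.symm) (by simp [g])
  refine ⟨g.opensRange, ?_, ?_⟩
  · obtain ⟨q, hq'⟩ : P ∈ Set.range (PrimeSpectrum.comap (algebraMap A Af)) := by
      rw [PrimeSpectrum.localization_away_comap_range Af f]
      exact hf
    refine ⟨q, ?_⟩
    show V.isoSpec.inv (PrimeSpectrum.comap (algebraMap A Af) q) = v
    rw [hq', ← Scheme.Hom.comp_apply, Iso.hom_inv_id]
    rfl
  · rw [MorphismProperty.arrow_mk_iso_iff @IsFinite (morphismRestrictOpensRange h g),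
      ← MorphismProperty.cancel_left_of_respectsIso @IsFinite sq'.isoPullback.hom, sq'.isoPullback_hom_snd,
      IsFinite.SpecMap_iff]
    exact hfinite

/-- near a maximal point with quasi-finite fibre a separated morphism covered by an affine scheme is finite -/
theorem exists_isFinite_restrict {R W V : Scheme.{u}} [IsAffine R] [IsAffine V] (e : R ⟶ W) [Etale e] [Surjective e]
    (h : W ⟶ V) [IsSeparated h] [LocallyOfFiniteType h] (v : V) (hv : IsMaxPt v)
    (hq : ∀ w, h w = v → h.QuasiFiniteAt w) : ∃ O : V.Opens, v ∈ O ∧ IsFinite (h ∣_ O) := by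
  have : LocallyQuasiFinite e := UnivInjMor.lqf_of_unramified _
  obtain ⟨O, hvO, hfin⟩ := exists_isFinite_restrict_affine (e ≫ h) v hv fun r hr => qf_precomp e h (hq _ hr)
  refine ⟨O, hvO, ?_⟩
  have : IsFinite ((e ∣_ (h ⁻¹ᵁ O)) ≫ (h ∣_ O)) := by
    have h' := hfin
    rw [morphismRestrict_comp] at h'
    exact h'
  have : Surjective (e ∣_ (h ⁻¹ᵁ O)) := IsZariskiLocalAtTarget.restrict ‹_› _
  have : Etale (e ∣_ (h ⁻¹ᵁ O)) := IsZariskiLocalAtTarget.restrict ‹_› _
  have : LocallyOfFiniteType (h ∣_ O) := IsZariskiLocalAtTarget.restrict ‹_› _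
  have : IsSeparated (h ∣_ O) := IsZariskiLocalAtTarget.restrict ‹_› _
  have : UniversallyClosed (h ∣_ O) := UniversallyClosed.of_comp_surjective (e ∣_ (h ⁻¹ᵁ O)) _
  have : QuasiCompact (h ∣_ O) := inferInstance
  have : IsProper (h ∣_ O) := {}
  have : LocallyQuasiFinite (h ∣_ O) := LimDesc.locallyQuasiFinite_of_forall_quasiFiniteAt _ fun w => by
    obtain ⟨r, rfl⟩ := (e ∣_ (h ⁻¹ᵁ O)).surjective w
    exact qf_descend _ _ (Scheme.Hom.quasiFiniteAt _ r)
  exact IsFinite.of_isProper_of_locallyQuasiFinite _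

end Groth.Agent.SpQS
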