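import Groth.Agent.SpQS.DegStratSp
import Groth.Agent.AlgSpLib.Subspace

/-!
# Universally bounded fibres
-/

universe u

open CategoryTheory CategoryTheory.Limits AlgebraicGeometry Opposite IsLocalRing

set_option backward.isDefEq.respectTransparency false

namespace Groth.Agent.SpQS

open _root_.AlgSp Groth.Agent.AlgSpLib

variable {X Y : Scheme.{u}}

/-- the fibre over `y` is finite of degree at most `n` -/
def BddAt (n : ℕ) (f : X ⟶ Y) (y : Y) : Prop :=
  IsFinite (pullback.snd f (Y.fromSpecResidueField y)) ∧ fdeg f y ≤ n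

/-- bounded fibres can be tested after any field extension -/
theorem bddAt_iff (n : ℕ) (f : X ⟶ Y) {K : Type u} [Field K] (h : Spec (CommRingCat.of K) ⟶ Y) {P : Scheme.{u}}
    (fst : P ⟶ X) (snd : P ⟶ Spec (CommRingCat.of K)) (sq : IsPullback fst snd f h) :
    BddAt n f (h (closedPoint K)) ↔ IsFinite snd ∧ snd.finrank (closedPoint K) ≤ n := by
  let φ := Scheme.descResidueField (Scheme.stalkClosedPointTo h)
  have e : Spec.map φ ≫ Y.fromSpecResidueField (h (closedPoint K)) = h :=
    Scheme.descResidueField_stalkClosedPointTo_fromSpecResidueField K Y h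
  have sq' := IsPullback.of_hasPullback f (Y.fromSpecResidueField (h (closedPoint K)))
  have sq₂ : IsPullback (sq'.lift fst (snd ≫ Spec.map φ) (by rw [Category.assoc, e, sq.w])) snd
      (pullback.snd f (Y.fromSpecResidueField (h (closedPoint K)))) (Spec.map φ) :=
    IsPullback.of_right (by simpa [e] using sq) (sq'.lift_snd _ _ _) sq'
  have hdeg : IsFinite (pullback.snd f (Y.fromSpecResidueField (h (closedPoint K)))) →
      snd.finrank (closedPoint K) = fdeg f (h (closedPoint K)) := fun _ => by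
    rw [Scheme.Hom.finrank_of_isPullback _ _ _ _ sq₂]
    exact congrArg _ (Subsingleton.elim (α := PrimeSpectrum (Y.residueField _)) _ _)
  constructor
  · rintro ⟨h₁, h₂⟩
    exact ⟨MorphismProperty.of_isPullback sq₂ h₁, (hdeg h₁).le.trans h₂⟩
  · rintro ⟨h₁, h₂⟩
    have : Surjective (Spec.map φ) :=
      ⟨fun z => ⟨closedPoint K, Subsingleton.elim (α := PrimeSpectrum (Y.residueField _)) _ _⟩⟩
    have h₃ : IsFinite (pullback.snd f (Y.fromSpecResidueField (h (closedPoint K)))) :=
      MorphismProperty.of_isPullback_of_descendsAlong (Q := @Surjective ⊓ @Flat ⊓ @QuasiCompact) sq₂.flip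
        ⟨⟨this, inferInstance⟩, inferInstance⟩ h₁
    exact ⟨h₃, (hdeg h₃).ge.trans h₂⟩

theorem bddAt_baseChange (n : ℕ) (f : X ⟶ Y) {P T : Scheme.{u}} {fst : P ⟶ X}
    {snd : P ⟶ T} {g : T ⟶ Y} (sq : IsPullback fst snd f g) (t : T) : BddAt n snd t ↔ BddAt n f (g t) := by
  have h := bddAt_iff n f (T.fromSpecResidueField t ≫ g) _ _
    ((IsPullback.of_hasPullback snd (T.fromSpecResidueField t)).paste_horiz sq)
  rw [Scheme.Hom.comp_apply] at h
  have e : (T.fromSpecResidueField t) (closedPoint (T.residueField t)) = t := T.fromSpecResidueField_apply t _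
  exact Iff.trans (by rfl) (h.symm.trans (iff_of_eq (congrArg (fun z => BddAt n f (g z)) e)))

variable {S : Scheme.{u}} {F : Sp S}

/-- a bound on all pullbacks along points of charts covering the point bounds the fibre -/
theorem bddAt_of_ofPt_eq (n : ℕ) {G : Sp S} {w : G ⟶ F} {T P T' P' : Over S} {ξ : (yon S).obj T ⟶ F}
    {a : (yon S).obj P ⟶ G} {c : P ⟶ T} (sq : IsPullback a ((yon S).map c) w ξ)
    {ξ' : (yon S).obj T' ⟶ F} {a' : (yon S).obj P' ⟶ G} {c' : P' ⟶ T'}
    (sq' : IsPullback a' ((yon S).map c') w ξ') {t : T.left} {t' : T'.left}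
    (h : Points.ofPt ξ t = Points.ofPt ξ' t') : BddAt n c.left t → BddAt n c'.left t' := by
  obtain ⟨K, α, β, k, e, rfl, rfl⟩ := exists_of_ofPt_eq h
  let P'' : Over S := Over.mk (pullback.snd c.left α.left ≫ K.hom)
  let u : P'' ⟶ P := Over.homMk (pullback.fst c.left α.left) (by
    show pullback.fst c.left α.left ≫ P.hom = pullback.snd c.left α.left ≫ K.hom
    rw [← Over.w c, pullback.condition_assoc, Over.w α])
  let v : P'' ⟶ K := Over.homMk (pullback.snd c.left α.left) rfl
  have sq₁ : IsPullback u.left v.left c.left α.left := IsPullback.of_hasPullback _ _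
  have sqK : IsPullback ((yon S).map u ≫ a) ((yon S).map v) w ((yon S).map β ≫ ξ') :=
    e ▸ (isPullback_yon_iff.2 sq₁).paste_horiz sq
  have hk : ((yon S).map u ≫ a) ≫ w = ((yon S).map v ≫ (yon S).map β) ≫ ξ' := by
    rw [Category.assoc ((yon S).map v), sqK.w]
  obtain ⟨l, hl⟩ := exists_map_eq (sq'.lift _ _ hk)
  have hlc : l ≫ c' = v ≫ β := (yon S).map_injective (by
    rw [Functor.map_comp, Functor.map_comp, hl, sq'.lift_snd])
  have sq₂ : IsPullback ((yon S).map l) ((yon S).map v) ((yon S).map c') ((yon S).map β) :=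
    IsPullback.of_right (by rw [hl, sq'.lift_fst]; exact sqK)
      (by rw [← Functor.map_comp, hlc, Functor.map_comp]) sq'
  exact fun hb => (bddAt_baseChange n _ (isPullback_yon_iff.1 sq₂) k).1 ((bddAt_baseChange n _ sq₁ k).2 hb)

/-- bounded fibres seen on one base change -/
theorem bddAt_of_degFibresLE {W : Over S} {w : (yon S).obj W ⟶ F} {n : ℕ} (hb : W4dec.DegFibresLE n w)
    {T P : Over S} {ξ : (yon S).obj T ⟶ F} {a : (yon S).obj P ⟶ (yon S).obj W} {c : P ⟶ T}
    (sq : IsPullback a ((yon S).map c) w ξ) (t : T.left) : BddAt n c.left t := by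
  obtain ⟨a, rfl⟩ := exists_map_eq a
  obtain ⟨h₁, h₂⟩ := finFib_of_degFibresLE hb sq
  exact ⟨h₁ t, h₂ t⟩

/-- the criterion on charts meeting every point over which the fibre is not empty -/
theorem degFibresLE_of {W : Over S} {w : (yon S).obj W ⟶ F} {n : ℕ}
    (h : ∀ (q : FieldPt F) (T : Over S) (c : T ⟶ q.pt) (snd : (yon S).obj T ⟶ (yon S).obj W),
      IsPullback ((yon S).map c) snd q.toHom w → Nonempty T.left → BddAt n c.left (closedPoint q.K)) :
    W4dec.DegFibresLE n w := by
  intro q T c snd sq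
  let c' : T.left ⟶ Spec (CommRingCat.of q.K) := c.left
  suffices hb : IsFinite c' ∧ c'.finrank (closedPoint q.K) ≤ n from
    ⟨hb.1, fun s => (Subsingleton.elim (α := PrimeSpectrum q.K) s (closedPoint q.K)) ▸ hb.2⟩
  by_cases hT : Nonempty T.left
  · exact (bddAt_iff n c' (𝟙 _) (𝟙 _) c' (IsPullback.of_horiz_isIso ⟨by simp⟩)).1 (h q T c snd sq hT)
  · have : IsEmpty T.left := not_nonempty_iff.1 hT
    refine ⟨inferInstance, le_of_eq_of_le ?_ (Nat.zero_le n)⟩
    by_contra hne
    have hs : Surjective c' := Scheme.Hom.one_le_finrank_iff_surjective c' |>.1 fun s =>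
      (Subsingleton.elim (α := PrimeSpectrum q.K) s (closedPoint q.K)) ▸ Nat.pos_of_ne_zero hne
    obtain ⟨z, -⟩ := hs.surj (closedPoint q.K)
    exact hT ⟨z⟩

theorem bddAt_fieldPt {W : Over S} {w : (yon S).obj W ⟶ F} {n : ℕ} {q : FieldPt F} {T : Over S} {c : T ⟶ q.pt}
    {snd : (yon S).obj T ⟶ (yon S).obj W} (_sq : IsPullback ((yon S).map c) snd q.toHom w) :
    BddAt n c.left (closedPoint q.K) ↔
      IsFinite c.left ∧ (c.left : T.left ⟶ Spec (CommRingCat.of q.K)).finrank (closedPoint q.K) ≤ n :=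
  bddAt_iff n (c.left : T.left ⟶ Spec (CommRingCat.of q.K)) (𝟙 _) (𝟙 _) c.left (IsPullback.of_horiz_isIso ⟨by simp⟩)

/-- bounded fibres are bounded by any larger number -/
theorem BddAt.mono {m n : ℕ} {f : X ⟶ Y} {y : Y} (h : BddAt m f y) (hmn : m ≤ n) : BddAt n f y :=
  ⟨h.1, h.2.trans hmn⟩

end Groth.Agent.SpQS
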