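import Groth.Agent.SpQS.UnivBddScheme
import Groth.Agent.AlgSpLib.PureMono

/-!
# Degree bounds descend along flat surjections
-/

universe u

open CategoryTheory CategoryTheory.Limits AlgebraicGeometry IsLocalRing

set_option backward.isDefEq.respectTransparency false

namespace Groth.Agent.SpQS

/-- a scheme covered flatly by finite schemes over a field is finite of bounded degree -/
theorem bdd_of_flat_family {K : Type u} [Field K] {T : Scheme.{u}} (q : T ⟶ Spec (CommRingCat.of K))
    {ι : Type u} [Fintype ι] {Z : ι → Scheme.{u}} (r : ∀ i, Z i ⟶ T) [∀ i, Flat (r i)]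
    (hs : ∀ t, ∃ i z, r i z = t) (N : ι → ℕ)
    (h : ∀ i, IsFinite (r i ≫ q) ∧ (r i ≫ q).finrank (closedPoint K) ≤ N i) :
    IsFinite q ∧ q.finrank (closedPoint K) ≤ ∑ i, N i := by
  have hd : ∀ i, DiscreteTopology (Z i) := fun i => have := (h i).1; discrete_of_isFinite (r i ≫ q)
  have hf : ∀ i, Finite (Z i) := fun i => have := (h i).1; (natCard_le_finrank (r i ≫ q)).1
  have : Finite T := Finite.of_surjective (fun z : Σ i, Z i => r z.1 z.2) fun t => by
    obtain ⟨i, z, hz⟩ := hs t; exact ⟨⟨i, z⟩, hz⟩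
  have : T1Space T := t1Space_iff_specializes_imp_eq.2 fun {a b} hab => by
    obtain ⟨i, z, rfl⟩ := hs b
    obtain ⟨z', hz', e⟩ := Flat.generalizingMap (r i) hab
    rw [← e]
    have := hd i
    rw [hz'.eq]
  have : DiscreteTopology T := Finite.instDiscreteTopology
  have : IsAffine T := isAffine_of_finite_of_discrete T
  have haff : ∀ i, IsAffine (Z i) := fun i => have := (h i).1; isAffine_of_isAffineHom (r i ≫ q)
  let R : (∐ Z) ⟶ T := Sigma.desc r
  have hR : Flat R := (IsZariskiLocalAtSource.iff_of_openCover (P := @Flat) (sigmaOpenCover Z)).2 fun i => by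
    rw [show (sigmaOpenCover Z).f i = Sigma.ι Z i from rfl, Sigma.ι_desc]; infer_instance
  have hRs : Surjective R := ⟨fun t => by
    obtain ⟨i, z, hz⟩ := hs t
    exact ⟨Sigma.ι Z i z, by rw [← Scheme.Hom.comp_apply, Sigma.ι_desc]; exact hz⟩⟩
  have hinjR := AlgSpLib.appTop_injective_of_flat_surjective R
  obtain ⟨φ, hφ⟩ := Spec.map_surjective (T.isoSpec.inv ≫ q)
  let := φ.hom.toAlgebra
  let : ∀ i, Algebra K Γ(Z i, ⊤) := fun i => (φ ≫ (r i).appTop).hom.toAlgebra
  have hZ : ∀ i, Module.Finite K Γ(Z i, ⊤) ∧ (r i ≫ q).finrank (closedPoint K) = Module.finrank K Γ(Z i, ⊤) := fun i => by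
    have := (h i).1
    refine finrank_eq_of_field (r i ≫ q) (φ ≫ (r i).appTop) ?_
    rw [Spec.map_comp, hφ, Scheme.isoSpec_inv_naturality_assoc]
  have : ∀ i, Module.Finite K Γ(Z i, ⊤) := fun i => (hZ i).1
  let L : Γ(T, ⊤) →ₗ[K] ∀ i, Γ(Z i, ⊤) :=
    LinearMap.pi fun i => { (r i).appTop.hom with
      map_smul' := fun c x => by simp [Algebra.smul_def, RingHom.algebraMap_toAlgebra] }
  have hL : Function.Injective L := by
    intro a b e
    apply hinjR
    refine Scheme.OpenCover.ext_elem _ _ (sigmaOpenCover Z) fun i => ?_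
    have he : (r i).appTop a = (r i).appTop b := congrFun e i
    have hri : R.appTop ≫ (Sigma.ι Z i).appTop = (r i).appTop := by
      rw [← Scheme.Hom.comp_appTop, Sigma.ι_desc]
    rw [← hri] at he
    exact he
  have hfinT : Module.Finite K Γ(T, ⊤) := Module.Finite.of_injective L hL
  have : IsFinite (Spec.map φ) := (IsFinite.SpecMap_iff _).2 hfinT
  have hq : IsFinite q := by
    rw [← MorphismProperty.cancel_left_of_respectsIso @IsFinite T.isoSpec.inv, ← hφ]; assumption
  refine ⟨hq, ?_⟩
  rw [(finrank_eq_of_field q φ hφ).2]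
  refine (LinearMap.finrank_le_finrank_of_injective hL).trans ?_
  rw [Module.finrank_pi_fintype]
  exact Finset.sum_le_sum fun i _ => (hZ i).2.ge.trans (h i).2

end Groth.Agent.SpQS
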